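import Cfsg.Agent.Lib.Helper3.Omega
set_option autoImplicit false

namespace Cfsg.Agent.Lib.Helper3

open Module
open scoped ComplexConjugate

section Degree

variable {G : Type*} [Group G] [Fintype G]

theorem card_fiber_mk [DecidableEq (ConjClasses G)] (g : G) :
    (Finset.univ.filter (fun a : G => ConjClasses.mk a = ConjClasses.mk g)).card =
      (Subgroup.centralizer ({g} : Set G)).index := by
  classical
  rw [← card_filter_isConj g]
  congr 1
  ext a
  simp [ConjClasses.mk_eq_mk_iff_isConj]

theorem isIntegral_sum_of_class {F : G → ℂ} (hF : IsClassFunction G F)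
    (h : ∀ g : G, IsIntegral ℤ (((Subgroup.centralizer ({g} : Set G)).index : ℂ) * F g)) :
    IsIntegral ℤ (∑ g : G, F g) := by
  classical
  let H : ConjClasses G → ℂ := fun C =>
    Quotient.liftOn C F (fun a b hab => IsClassFunction.eq_of_isConj hF hab)
  have hH : ∀ g, H (ConjClasses.mk g) = F g := fun g => rfl
  have h1 : ∑ g : G, F g = ∑ g : G, H (ConjClasses.mk g) := rfl
  rw [h1, Finset.sum_comp]
  apply IsIntegral.sum
  intro C _
  obtain ⟨g, rfl⟩ := ConjClasses.mk_surjective C
  rw [card_fiber_mk g, hH, nsmul_eq_mul]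
  exact h g

theorem int_of_isIntegral_ratCast {q : ℚ} (h : IsIntegral ℤ (q : ℂ)) : ∃ z : ℤ, (z : ℚ) = q := by
  have h1 : IsIntegral ℤ q := by
    have hinj : Function.Injective (algebraMap ℚ ℂ) := (algebraMap ℚ ℂ).injective
    exact (isIntegral_algebraMap_iff hinj).mp (by simpa using h)
  obtain ⟨z, hz⟩ := IsIntegrallyClosed.isIntegral_iff.mp h1
  exact ⟨z, by simpa using hz⟩

theorem nat_dvd_of_isIntegral_div {a b : ℕ} (hb : b ≠ 0)
    (h : IsIntegral ℤ ((a : ℂ) / (b : ℂ))) : b ∣ a := by
  have h1 : ((a : ℂ) / (b : ℂ)) = (((a : ℚ) / (b : ℚ) : ℚ) : ℂ) := by push_cast; rfl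
  rw [h1] at h
  obtain ⟨z, hz⟩ := int_of_isIntegral_ratCast h
  have hbq : (b : ℚ) ≠ 0 := by exact_mod_cast hb
  have h2 : (a : ℚ) = z * b := by
    rw [hz]
    field_simp
  have h3 : (a : ℤ) = z * b := by exact_mod_cast h2
  have h4 : (b : ℤ) ∣ (a : ℤ) := ⟨z, by rw [h3, mul_comm]⟩
  exact Int.natCast_dvd_natCast.mp h4


omit [Fintype G] in
theorem isIntegral_character [Finite G] {V : Type*} [AddCommGroup V] [Module ℂ V]
    [FiniteDimensional ℂ V] (ρ : Representation ℂ G V) (g : G) :
    IsIntegral ℤ (ρ.character g) := by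
  classical
  obtain ⟨b, μ, h1, h2⟩ := exists_eigenbasis_rep ρ g
  rw [character_eq_sum_eigen ρ g b μ h1]
  apply IsIntegral.sum
  intro i _
  apply IsIntegral.of_pow (orderOf_pos g)
  rw [h2 i]
  exact isIntegral_one

omit [Fintype G] in
theorem IsCharacter.isIntegral [Finite G] {χ : G → ℂ} (h : IsCharacter G χ) (g : G) :
    IsIntegral ℤ (χ g) := by
  obtain ⟨n, ρ, rfl⟩ := h
  exact isIntegral_character ρ g

theorem sum_character_mul_conj {V : Type*} [AddCommGroup V] [Module ℂ V]
    [FiniteDimensional ℂ V] (ρ : Representation ℂ G V) [hρ : ρ.IsIrreducible] :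
    ∑ g : G, ρ.character g * conj (ρ.character g) = (Nat.card G : ℂ) := by
  have hcard : (Nat.card G : ℂ) ≠ 0 := by exact_mod_cast Nat.card_pos.ne'
  have h1 := classInner_irr (isIrrCharacter_character ρ hρ) (isIrrCharacter_character ρ hρ)
  rw [if_pos rfl] at h1
  unfold classInner at h1
  have h2 := congrArg (fun z => (Nat.card G : ℂ) * z) h1
  simp only [mul_one] at h2
  rw [← mul_assoc, mul_inv_cancel₀ hcard, one_mul] at h2
  exact h2

theorem finrank_dvd_card {V : Type*} [AddCommGroup V] [Module ℂ V]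
    [FiniteDimensional ℂ V] (ρ : Representation ℂ G V) [hρ : ρ.IsIrreducible] :
    Module.finrank ℂ V ∣ Nat.card G := by
  classical
  have hV : Nontrivial V := ((isIrreducible_iff ρ).mp hρ).1
  have hfin0 : Module.finrank ℂ V ≠ 0 := (Module.finrank_pos (R := ℂ) (M := V)).ne'
  have hfin : (Module.finrank ℂ V : ℂ) ≠ 0 := by exact_mod_cast hfin0
  apply nat_dvd_of_isIntegral_div hfin0
  have hcf : IsClassFunction G ρ.character :=
    IsCharacter.isClassFunction (isCharacter_character ρ)
  have hF : IsClassFunction G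
      (fun g => ρ.character g * conj (ρ.character g) / (Module.finrank ℂ V : ℂ)) := by
    intro g x
    simp only [hcf g x]
  have hint := isIntegral_sum_of_class hF (fun g => by
    have h1 := isIntegral_omega ρ g
    have h2 : IsIntegral ℤ (conj (ρ.character g)) := by
      rw [← character_inv ρ g]
      exact isIntegral_character ρ g⁻¹
    have h3 := h1.mul h2
    have heq : ((Subgroup.centralizer ({g} : Set G)).index : ℂ) *
        (ρ.character g * conj (ρ.character g) / (Module.finrank ℂ V : ℂ)) =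
        ((Subgroup.centralizer ({g} : Set G)).index : ℂ) * ρ.character g /
          (Module.finrank ℂ V : ℂ) * conj (ρ.character g) := by ring
    rw [heq]
    exact h3)
  rw [← Finset.sum_div, sum_character_mul_conj ρ] at hint
  exact hint

end Degree

end Cfsg.Agent.Lib.Helper3
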