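import Cfsg.Agent.Lib.Helper3.CharOps
import Cfsg.Agent.Lib.Helper3.Degree
set_option autoImplicit false

namespace Cfsg.Agent.Lib.Helper3

open Module
open scoped ComplexConjugate

section OddPairs

variable {G : Type*} [Group G] [Fintype G]

omit [Fintype G] in
theorem eq_one_of_inv_eq_self_of_odd (hodd : Odd (Nat.card G)) {g : G} (h : g⁻¹ = g) : g = 1 := by
  have h2 : g ^ 2 = 1 := by
    rw [pow_two]
    nth_rewrite 1 [← h]
    exact inv_mul_cancel g
  have h3 : orderOf g ∣ 2 := orderOf_dvd_of_pow_eq_one h2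
  have h4 : orderOf g ∣ Nat.card G := orderOf_dvd_natCard g
  have h5 : orderOf g = 1 := by
    rcases (Nat.dvd_prime Nat.prime_two).mp h3 with h6 | h6
    · exact h6
    · rw [h6] at h4
      exact absurd (even_iff_two_dvd.mpr h4) (Nat.not_even_iff_odd.mpr hodd)
  exact orderOf_eq_one_iff.mp h5

theorem exists_half_sum (hodd : Odd (Nat.card G)) (F : G → ℂ) (hF : ∀ g, F g⁻¹ = F g) :
    ∃ T : Finset G, ∑ g : G, F g = F 1 + 2 * ∑ g ∈ T, F g := by
  classical
  let e := Fintype.equivFin G
  refine ⟨Finset.univ.filter (fun g => e g < e g⁻¹), ?_⟩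
  have hsplit : ∀ g : G, F g = (if e g < e g⁻¹ then F g else 0) +
      (if e g⁻¹ < e g then F g else 0) + (if g = 1 then F g else 0) := by
    intro g
    rcases lt_trichotomy (e g) (e g⁻¹) with h | h | h
    · have hg : g ≠ 1 := by
        rintro rfl
        simp at h
      rw [if_pos h, if_neg (not_lt.mpr h.le), if_neg hg]
      simp
    · have hg : g = 1 := eq_one_of_inv_eq_self_of_odd hodd (e.injective h).symm
      rw [if_neg (by rw [h]; exact lt_irrefl _), if_neg (by rw [h]; exact lt_irrefl _), if_pos hg]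
      simp
    · have hg : g ≠ 1 := by
        rintro rfl
        simp at h
      rw [if_neg (not_lt.mpr h.le), if_pos h, if_neg hg]
      simp
  rw [Finset.sum_congr rfl (fun g _ => hsplit g), Finset.sum_add_distrib, Finset.sum_add_distrib]
  have h2 : ∑ g : G, (if e g⁻¹ < e g then F g else 0) =
      ∑ g : G, (if e g < e g⁻¹ then F g else 0) := by
    rw [← Equiv.sum_comp (Equiv.inv G)]
    apply Finset.sum_congr rfl
    intro g _
    simp only [Equiv.inv_apply, inv_inv, hF]
  rw [h2, Finset.sum_ite_eq' Finset.univ (1 : G), if_pos (Finset.mem_univ _), ← Finset.sum_filter]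
  ring

end OddPairs

section Linear

theorem isIrreducible_of_finrank_eq_one {k G V : Type*} [Field k] [Monoid G] [AddCommGroup V]
    [Module k V] (ρ : Representation k G V) (h : Module.finrank k V = 1) : ρ.IsIrreducible := by
  rw [isIrreducible_iff]
  have hfd : FiniteDimensional k V := Module.finite_of_finrank_eq_succ h
  refine ⟨Module.nontrivial_of_finrank_pos (R := k) (by omega), ?_⟩
  intro S _
  have h1 : Module.finrank k S ≤ 1 := h ▸ Submodule.finrank_le S
  rcases Nat.le_one_iff_eq_zero_or_eq_one.mp h1 with h2 | h2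
  · left
    exact Submodule.finrank_eq_zero.mp h2
  · right
    exact Submodule.eq_top_of_finrank_eq (h2.trans h.symm)

theorem isIrrCharacter_one {G : Type*} [Group G] : IsIrrCharacter G (fun _ => (1 : ℂ)) := by
  have h : (fun _ : G => (1 : ℂ)) = (Representation.trivial ℂ G ℂ).character := by
    funext g
    simp [Representation.character]
  rw [h]
  exact isIrrCharacter_character _ (isIrreducible_of_finrank_eq_one _ (Module.finrank_self ℂ))

end Linear

section OddReal

variable {G : Type*} [Group G] [Fintype G]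

theorem IsIrrCharacter.apply_one_dvd_card {χ : G → ℂ} (hχ : IsIrrCharacter G χ) :
    ∃ n : ℕ, χ 1 = (n : ℂ) ∧ n ∣ Nat.card G ∧ n ≠ 0 := by
  obtain ⟨n, ρ, hρ, rfl⟩ := hχ
  have hV : Nontrivial (Fin n → ℂ) := ((isIrreducible_iff ρ).mp hρ).1
  refine ⟨Module.finrank ℂ (Fin n → ℂ), Representation.char_one ρ, ?_, ?_⟩
  · exact finrank_dvd_card ρ
  · exact (Module.finrank_pos (R := ℂ) (M := Fin n → ℂ)).ne'

theorem eq_one_of_real_of_odd (hodd : Odd (Nat.card G)) {χ : G → ℂ} (hχ : IsIrrCharacter G χ)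
    (hreal : ∀ g : G, (χ g).im = 0) : χ = fun _ => 1 := by
  classical
  by_contra hne
  have hcard : (Nat.card G : ℂ) ≠ 0 := by exact_mod_cast Nat.card_pos.ne'
  have h0 := classInner_irr hχ (isIrrCharacter_one (G := G))
  rw [if_neg hne] at h0
  unfold classInner at h0
  have hsum : ∑ g : G, χ g = 0 := by
    rcases mul_eq_zero.mp h0 with h | h
    · exact absurd (inv_eq_zero.mp h) hcard
    · simpa using h
  have hF : ∀ g : G, χ g⁻¹ = χ g := by
    intro g
    rw [IsCharacter.inv (IsIrrCharacter.isCharacter hχ) g]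
    exact Complex.conj_eq_iff_im.mpr (hreal g)
  obtain ⟨T, hT⟩ := exists_half_sum hodd χ hF
  rw [hsum] at hT
  obtain ⟨n, hn1, hn2, hn3⟩ := IsIrrCharacter.apply_one_dvd_card hχ
  have hint : IsIntegral ℤ ((n : ℂ) / ((2 : ℕ) : ℂ)) := by
    have h1 : (n : ℂ) / ((2 : ℕ) : ℂ) = -∑ g ∈ T, χ g := by
      rw [← hn1]
      push_cast
      linear_combination (-(1 / 2 : ℂ)) * hT
    rw [h1]
    apply IsIntegral.neg
    apply IsIntegral.sum
    intro g _
    exact IsCharacter.isIntegral (IsIrrCharacter.isCharacter hχ) g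
  have h2 : 2 ∣ n := nat_dvd_of_isIntegral_div (by norm_num) hint
  have h3 : 2 ∣ Nat.card G := h2.trans hn2
  exact absurd (even_iff_two_dvd.mpr h3) (Nat.not_even_iff_odd.mpr hodd)

end OddReal

section Involution

theorem exists_half_sum_involution {X : Type*} [Fintype X] (ι : X → X) (hι : ∀ x, ι (ι x) = x)
    (x₀ : X) (hfix : ∀ x, ι x = x ↔ x = x₀) :
    ∃ T : Finset X, ∀ F : X → ℕ, (∀ x, F (ι x) = F x) →
      ∑ x : X, F x = F x₀ + 2 * ∑ x ∈ T, F x := by
  classical
  let e := Fintype.equivFin X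
  let ιe : X ≃ X := ⟨ι, ι, hι, hι⟩
  refine ⟨Finset.univ.filter (fun x => e x < e (ι x)), ?_⟩
  intro F hF
  have hsplit : ∀ x : X, F x = (if e x < e (ι x) then F x else 0) +
      (if e (ι x) < e x then F x else 0) + (if x = x₀ then F x else 0) := by
    intro x
    rcases lt_trichotomy (e x) (e (ι x)) with h | h | h
    · have hx : x ≠ x₀ := by
        intro hx
        rw [(hfix x).mpr hx] at h
        exact lt_irrefl _ h
      rw [if_pos h, if_neg (not_lt.mpr h.le), if_neg hx]
      simp
    · have hx : x = x₀ := (hfix x).mp (e.injective h).symm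
      rw [if_neg (by rw [h]; exact lt_irrefl _), if_neg (by rw [h]; exact lt_irrefl _), if_pos hx]
      simp
    · have hx : x ≠ x₀ := by
        intro hx
        rw [(hfix x).mpr hx] at h
        exact lt_irrefl _ h
      rw [if_neg (not_lt.mpr h.le), if_pos h, if_neg hx]
      simp
  rw [Finset.sum_congr rfl (fun x _ => hsplit x), Finset.sum_add_distrib, Finset.sum_add_distrib]
  have h2 : ∑ x : X, (if e (ι x) < e x then F x else 0) =
      ∑ x : X, (if e x < e (ι x) then F x else 0) := by
    rw [← Equiv.sum_comp ιe]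
    apply Finset.sum_congr rfl
    intro x _
    have : ιe x = ι x := rfl
    simp only [this, hι, hF]
  rw [h2, Finset.sum_ite_eq' Finset.univ x₀, if_pos (Finset.mem_univ _), ← Finset.sum_filter]
  ring

end Involution

section Mod16

variable {G : Type*} [Group G] [Fintype G]

theorem IsIrrCharacter.conj {χ : G → ℂ} (hχ : IsIrrCharacter G χ) :
    IsIrrCharacter G (fun g => conj (χ g)) := by
  apply isIrrCharacter_of_classInner_self_eq_one (IsCharacter.conj (IsIrrCharacter.isCharacter hχ))
  have h1 := classInner_irr hχ hχ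
  rw [if_pos rfl] at h1
  have h2 : classInner (fun g => conj (χ g)) (fun g => conj (χ g)) = conj (classInner χ χ) := by
    unfold classInner
    simp only [map_mul, map_inv₀, map_natCast, map_sum]
  rw [h2, h1, map_one]

theorem sq_mod_eight_of_odd {n : ℕ} (h : Odd n) : n ^ 2 % 8 = 1 := by
  obtain ⟨k, rfl⟩ := h
  have : (2 * k + 1) ^ 2 = 4 * (k * (k + 1)) + 1 := by ring
  rw [this]
  have h2 : 2 ∣ k * (k + 1) := (Nat.even_mul_succ_self k).two_dvd
  obtain ⟨m, hm⟩ := h2
  rw [hm]
  omega

theorem card_modEq_card_conjClasses_of_odd (hodd : Odd (Nat.card G)) :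
    Nat.card G ≡ Nat.card (ConjClasses G) [MOD 16] := by
  classical
  have := Fintype.ofFinite (IrrCharacter G)
  choose n hn1 hn2 hn3 using fun χ : IrrCharacter G => IsIrrCharacter.apply_one_dvd_card χ.2
  let ι : IrrCharacter G → IrrCharacter G := fun χ => ⟨fun g => conj ((χ : G → ℂ) g), IsIrrCharacter.conj χ.2⟩
  let χ₀ : IrrCharacter G := ⟨fun _ => 1, isIrrCharacter_one⟩
  have hι : ∀ χ, ι (ι χ) = χ := by
    intro χ
    apply Subtype.ext
    funext g
    simp [ι]
  have hfix : ∀ χ, ι χ = χ ↔ χ = χ₀ := by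
    intro χ
    constructor
    · intro h
      apply Subtype.ext
      apply eq_one_of_real_of_odd hodd χ.2
      intro g
      have := congrFun (congrArg Subtype.val h) g
      exact Complex.conj_eq_iff_im.mp this
    · rintro rfl
      apply Subtype.ext
      funext g
      simp [ι, χ₀]
  obtain ⟨T, hT⟩ := exists_half_sum_involution ι hι χ₀ hfix
  have hnι : ∀ χ, n (ι χ) = n χ := by
    intro χ
    have h1 := hn1 (ι χ)
    have h2 : ((ι χ : IrrCharacter G) : G → ℂ) 1 = conj ((χ : G → ℂ) 1) := rfl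
    rw [h2, hn1 χ, Complex.conj_natCast] at h1
    exact_mod_cast h1.symm
  have hcount := hT (fun _ => 1) (fun _ => rfl)
  have hsq := hT (fun χ => n χ ^ 2) (fun χ => by simp only [hnι])
  have hn₀ : n χ₀ = 1 := by
    have := hn1 χ₀
    have h2 : (χ₀ : G → ℂ) 1 = 1 := rfl
    rw [h2] at this
    exact_mod_cast this.symm
  have hG : ∑ χ : IrrCharacter G, n χ ^ 2 = Nat.card G := by
    have h1 := sum_sq_degree (G := G)
    have h2 : ((∑ χ : IrrCharacter G, n χ ^ 2 : ℕ) : ℂ) = (Nat.card G : ℂ) := by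
      rw [← h1]
      push_cast
      apply Finset.sum_congr rfl
      intro χ _
      rw [hn1 χ]
    exact_mod_cast h2
  have hk : ∑ _χ : IrrCharacter G, 1 = Nat.card (ConjClasses G) := by
    rw [← card_irrCharacter, Nat.card_eq_fintype_card]
    simp
  rw [hG, hn₀] at hsq
  rw [hk] at hcount
  have hodd_n : ∀ χ : IrrCharacter G, Odd (n χ) := by
    intro χ
    exact Odd.of_dvd_nat hodd (hn2 χ)
  have hmod : (∑ χ ∈ T, n χ ^ 2) % 8 = (∑ _χ ∈ T, 1) % 8 := by
    rw [Finset.sum_nat_mod, Finset.sum_nat_mod (f := fun _ => 1)]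
    congr 1
    apply Finset.sum_congr rfl
    intro χ _
    rw [sq_mod_eight_of_odd (hodd_n χ)]
  rw [hsq, hcount]
  unfold Nat.ModEq
  omega

end Mod16


end Cfsg.Agent.Lib.Helper3
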