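import Mathlib

set_option autoImplicit false

namespace Cfsg.Agent.Lib.Helper3

open Module

theorem pow_apply_of_apply_eq_smul {K V : Type*} [Field K] [AddCommGroup V] [Module K V]
    (f : Module.End K V) (μ : K) (x : V) (h : f x = μ • x) (n : ℕ) :
    (f ^ n) x = μ ^ n • x := by
  induction n with
  | zero => simp
  | succ k ih =>
    rw [pow_succ, Module.End.mul_apply, h, map_smul, ih, smul_smul, pow_succ, mul_comm]

/-- A finite-order endomorphism of a finite-dimensional complex vector space has a basis of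
eigenvectors whose eigenvalues are roots of unity. -/
theorem exists_eigenbasis_of_pow_eq_one {V : Type*} [AddCommGroup V] [Module ℂ V]
    [FiniteDimensional ℂ V] (f : Module.End ℂ V) {n : ℕ} (hn : 0 < n) (hf : f ^ n = 1) :
    ∃ (b : Module.Basis (Fin (Module.finrank ℂ V)) ℂ V) (μ : Fin (Module.finrank ℂ V) → ℂ),
      (∀ i, f (b i) = μ i • b i) ∧ ∀ i, μ i ^ n = 1 := by
  classical
  have hss : f.IsSemisimple := by
    apply Module.End.isSemisimple_of_squarefree_aeval_eq_zero (p := Polynomial.X ^ n - 1)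
    · apply Polynomial.Separable.squarefree
      have : (Polynomial.X ^ n - 1 : Polynomial ℂ) = Polynomial.X ^ n - Polynomial.C 1 := by simp
      rw [this]
      exact Polynomial.separable_X_pow_sub_C 1 (by exact_mod_cast hn.ne') one_ne_zero
    · simp [hf]
  have htop := hss.iSup_eigenspace_eq_top
  have hind := Module.End.eigenspaces_iSupIndep f
  have hint := DirectSum.isInternal_submodule_of_iSupIndep_of_iSup_eq_top hind htop
  let v : ∀ μ : ℂ, Module.Basis (Fin (Module.finrank ℂ (f.eigenspace μ))) ℂ (f.eigenspace μ) :=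
    fun μ => Module.finBasis ℂ _
  let B := hint.collectedBasis v
  have hfin : Finite (Σ μ : ℂ, Fin (Module.finrank ℂ (f.eigenspace μ))) :=
    Module.Finite.finite_basis B
  have := Fintype.ofFinite (Σ μ : ℂ, Fin (Module.finrank ℂ (f.eigenspace μ)))
  have hcard : Fintype.card (Σ μ : ℂ, Fin (Module.finrank ℂ (f.eigenspace μ))) =
      Module.finrank ℂ V := (Module.finrank_eq_card_basis B).symm
  let e := Fintype.equivFinOfCardEq hcard
  have key : ∀ i, f (B (e.symm i)) = (e.symm i).1 • B (e.symm i) := fun i =>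
    Module.End.mem_eigenspace_iff.mp (hint.collectedBasis_mem v _)
  refine ⟨B.reindex e, fun i => (e.symm i).1, ?_, ?_⟩
  · intro i
    simpa [Module.Basis.reindex_apply] using key i
  · intro i
    have hne : B (e.symm i) ≠ 0 := B.ne_zero _
    have h1 := pow_apply_of_apply_eq_smul f _ _ (key i) n
    rw [hf, Module.End.one_apply] at h1
    have h2 : ((e.symm i).1 ^ n - 1) • B (e.symm i) = 0 := by
      rw [sub_smul, one_smul, ← h1, sub_self]
    rcases smul_eq_zero.mp h2 with h3 | h3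
    · exact sub_eq_zero.mp h3
    · exact absurd h3 hne

theorem trace_eq_sum_of_eigenbasis {K V ι : Type*} [Field K] [AddCommGroup V] [Module K V]
    [Fintype ι] [DecidableEq ι]
    (f : Module.End K V) (b : Module.Basis ι K V) (μ : ι → K)
    (h : ∀ i, f (b i) = μ i • b i) : LinearMap.trace K V f = ∑ i, μ i := by
  rw [LinearMap.trace_eq_matrix_trace K b f, Matrix.trace]
  apply Finset.sum_congr rfl
  intro i _
  simp [LinearMap.toMatrix_apply, h]

theorem exists_eigenbasis_rep {G V : Type*} [Group G] [Finite G] [AddCommGroup V] [Module ℂ V]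
    [FiniteDimensional ℂ V] (ρ : Representation ℂ G V) (g : G) :
    ∃ (b : Module.Basis (Fin (Module.finrank ℂ V)) ℂ V) (μ : Fin (Module.finrank ℂ V) → ℂ),
      (∀ i, ρ g (b i) = μ i • b i) ∧ ∀ i, μ i ^ orderOf g = 1 := by
  apply exists_eigenbasis_of_pow_eq_one (ρ g) (orderOf_pos g)
  rw [← map_pow, pow_orderOf_eq_one, map_one]

theorem rep_zpow_apply_eigen {G V : Type*} [Group G] [AddCommGroup V] [Module ℂ V]
    (ρ : Representation ℂ G V) (g : G) (x : V) (μ : ℂ) (hμ : μ ≠ 0) (h : ρ g x = μ • x) (k : ℤ) :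
    ρ (g ^ k) x = μ ^ k • x := by
  have hnat : ∀ n : ℕ, ρ (g ^ n) x = μ ^ n • x := by
    intro n
    rw [map_pow]
    exact pow_apply_of_apply_eq_smul (ρ g) μ x h n
  have hinv : ∀ n : ℕ, ρ ((g ^ n)⁻¹) x = (μ ^ n)⁻¹ • x := by
    intro n
    have h1 : ρ ((g ^ n)⁻¹) (ρ (g ^ n) x) = x := by
      rw [← Module.End.mul_apply, ← map_mul, inv_mul_cancel, map_one, Module.End.one_apply]
    rw [hnat n, map_smul] at h1
    have hne : μ ^ n ≠ 0 := pow_ne_zero _ hμ
    calc ρ ((g ^ n)⁻¹) x = (μ ^ n)⁻¹ • (μ ^ n • ρ ((g ^ n)⁻¹) x) := by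
          rw [smul_smul, inv_mul_cancel₀ hne, one_smul]
      _ = (μ ^ n)⁻¹ • x := by rw [h1]
  cases k with
  | ofNat n => simpa using hnat n
  | negSucc n => simpa [zpow_negSucc] using hinv (n + 1)


open scoped ComplexConjugate

variable {G V : Type*} [Group G] [AddCommGroup V] [Module ℂ V]

theorem character_eq_sum_eigen [FiniteDimensional ℂ V]
    (ρ : Representation ℂ G V) (g : G) {ι : Type*} [Fintype ι] [DecidableEq ι]
    (b : Module.Basis ι ℂ V) (μ : ι → ℂ) (h : ∀ i, ρ g (b i) = μ i • b i) :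
    ρ.character g = ∑ i, μ i :=
  trace_eq_sum_of_eigenbasis (ρ g) b μ h

theorem character_zpow_eq_sum_eigen [FiniteDimensional ℂ V]
    (ρ : Representation ℂ G V) (g : G) {ι : Type*} [Fintype ι] [DecidableEq ι]
    (b : Module.Basis ι ℂ V) (μ : ι → ℂ) (hμ : ∀ i, μ i ≠ 0) (h : ∀ i, ρ g (b i) = μ i • b i)
    (k : ℤ) : ρ.character (g ^ k) = ∑ i, μ i ^ k :=
  trace_eq_sum_of_eigenbasis (ρ (g ^ k)) b (fun i => μ i ^ k)
    (fun i => rep_zpow_apply_eigen ρ g (b i) (μ i) (hμ i) (h i) k)

theorem inv_eq_conj_of_pow_eq_one {μ : ℂ} {n : ℕ} (hn : n ≠ 0) (h : μ ^ n = 1) : μ⁻¹ = conj μ :=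
  Complex.inv_eq_conj (Complex.norm_eq_one_of_pow_eq_one h hn)

theorem character_inv [Finite G] [FiniteDimensional ℂ V]
    (ρ : Representation ℂ G V) (g : G) : ρ.character g⁻¹ = conj (ρ.character g) := by
  classical
  obtain ⟨b, μ, h1, h2⟩ := exists_eigenbasis_rep ρ g
  have hμ : ∀ i, μ i ≠ 0 := fun i h0 => by
    have := h2 i
    rw [h0, zero_pow (orderOf_pos g).ne'] at this
    exact zero_ne_one this
  have := character_zpow_eq_sum_eigen ρ g b μ hμ h1 (-1)
  rw [zpow_neg_one] at this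
  rw [this, character_eq_sum_eigen ρ g b μ h1, map_sum]
  apply Finset.sum_congr rfl
  intro i _
  rw [zpow_neg_one]
  exact inv_eq_conj_of_pow_eq_one (orderOf_pos g).ne' (h2 i)


theorem eq_one_of_norm_one_of_sum_eq_card {ι : Type*} [Fintype ι] (z : ι → ℂ)
    (hz : ∀ i, ‖z i‖ = 1) (hs : ∑ i, z i = (Fintype.card ι : ℂ)) : ∀ i, z i = 1 := by
  have hre : ∀ i, (z i).re ≤ 1 := fun i => (Complex.re_le_norm (z i)).trans (hz i).le
  have hsum : ∑ i, (1 - (z i).re) = 0 := by
    have := congrArg Complex.re hs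
    rw [Complex.re_sum] at this
    simp only [Complex.natCast_re] at this
    rw [Finset.sum_sub_distrib, this]
    simp
  have h0 : ∀ i ∈ Finset.univ, (1 - (z i).re) = 0 :=
    (Finset.sum_eq_zero_iff_of_nonneg (fun i _ => sub_nonneg.mpr (hre i))).mp hsum
  intro i
  have hr : (z i).re = 1 := by linarith [h0 i (Finset.mem_univ i)]
  have hn := hz i
  have hsq : (z i).re ^ 2 + (z i).im ^ 2 = 1 := by
    have := Complex.sq_norm (z i)
    rw [hn, Complex.normSq_apply] at this
    nlinarith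
  have hi : (z i).im = 0 := by
    rw [hr] at hsq
    have : (z i).im ^ 2 = 0 := by linarith
    exact pow_eq_zero_iff (two_ne_zero) |>.mp this
  apply Complex.ext <;> simp [hr, hi]


end Cfsg.Agent.Lib.Helper3
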