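import Cfsg.Agent.Lib.Helper3.RootsAvg
import Cfsg.Agent.Lib.Helper3.OddOrder
import Cfsg.Agent.S0138
set_option autoImplicit false

namespace Cfsg.Agent.Lib.Helper3

open Module
open scoped ComplexConjugate

section BurnsideCoprime

variable {G : Type*} [Group G] [Fintype G]

theorem character_eq_zero_or_norm_eq_of_coprime {V : Type*} [AddCommGroup V] [Module ℂ V]
    [FiniteDimensional ℂ V] (ρ : Representation ℂ G V) [hρ : ρ.IsIrreducible] (g : G)
    (hcop : Nat.Coprime (Module.finrank ℂ V) (Subgroup.centralizer ({g} : Set G)).index) :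
    ρ.character g = 0 ∨ ‖ρ.character g‖ = (Module.finrank ℂ V : ℝ) := by
  classical
  have hV : Nontrivial V := ((isIrreducible_iff ρ).mp hρ).1
  have hn : 0 < Module.finrank ℂ V := Module.finrank_pos
  have hnC : (Module.finrank ℂ V : ℂ) ≠ 0 := by exact_mod_cast hn.ne'
  obtain ⟨b, μ, h1, h2⟩ := exists_eigenbasis_rep ρ g
  have hχ := character_eq_sum_eigen ρ g b μ h1
  have hint : IsIntegral ℤ ((∑ i, μ i) / (Module.finrank ℂ V : ℂ)) := by
    rw [← hχ]
    obtain ⟨u, v, huv⟩ := (Nat.isCoprime_iff_coprime.mpr hcop)
    have h3 : ρ.character g / (Module.finrank ℂ V : ℂ) =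
        (u : ℂ) * ρ.character g + (v : ℂ) *
          (((Subgroup.centralizer ({g} : Set G)).index : ℂ) * ρ.character g /
            (Module.finrank ℂ V : ℂ)) := by
      have huv' : (u : ℂ) * (Module.finrank ℂ V : ℂ) +
          (v : ℂ) * ((Subgroup.centralizer ({g} : Set G)).index : ℂ) = 1 := by
        exact_mod_cast congrArg (fun z : ℤ => (z : ℂ)) huv
      field_simp
      linear_combination (-(ρ.character g)) * huv'
    rw [h3]
    apply IsIntegral.add
    · exact (isIntegral_algebraMap (R := ℤ) (x := u)).mul (isIntegral_character ρ g)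
    · exact (isIntegral_algebraMap (R := ℤ) (x := v)).mul (isIntegral_omega ρ g)
  rw [hχ]
  exact sum_roots_of_unity_eq_zero_or_norm_eq hn (orderOf_pos g) μ h2 hint

end BurnsideCoprime

section BurnsideClass

variable {G : Type*} [Group G] [Fintype G]

/-- An irreducible representation all of whose operators are the identity has trivial character. -/
theorem character_eq_one_of_forall_eq_id {n : ℕ} (ρ : Representation ℂ G (Fin n → ℂ))
    (hρ : ρ.IsIrreducible) (h : ∀ y : G, ρ y = LinearMap.id) : ρ.character = fun _ => 1 := by
  have hcard : (Nat.card G : ℂ) ≠ 0 := by exact_mod_cast Nat.card_pos.ne'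
  have hχ : ∀ y : G, ρ.character y = (n : ℂ) := by
    intro y
    rw [Representation.character, h y, LinearMap.trace_id]
    simp
  have h1 := classInner_irr (isIrrCharacter_character ρ hρ) (isIrrCharacter_character ρ hρ)
  rw [if_pos rfl] at h1
  unfold classInner at h1
  simp only [hχ, Complex.conj_natCast, Finset.sum_const, Finset.card_univ, nsmul_eq_mul] at h1
  rw [← Nat.card_eq_fintype_card] at h1
  have h2 : (n : ℂ) ^ 2 = 1 := by
    field_simp at h1
    exact h1
  have h3 : n ^ 2 = 1 := by exact_mod_cast h2
  have h4 : n = 1 := by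
    rcases Nat.eq_zero_or_pos n with h0 | h0
    · subst h0; simp at h3
    · nlinarith
  funext y
  rw [hχ y, h4]
  simp

theorem prime_card_of_simple_of_class_prime_pow [IsSimpleGroup G] (p k : ℕ) (hp : p.Prime)
    (g : G) (hg : g ≠ 1) (hclass : (Subgroup.centralizer ({g} : Set G)).index = p ^ k) :
    (Nat.card G).Prime := by
  classical
  by_cases hab : ∀ a b : G, a * b = b * a
  · let inst : CommGroup G := { ‹Group G› with mul_comm := hab }
    exact @IsSimpleGroup.prime_card G inst inferInstance
  exfalso
  -- centre is trivial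
  have hZ : Subgroup.center G = ⊥ := by
    rcases (inferInstance : (Subgroup.center G).Normal).eq_bot_or_eq_top with h | h
    · exact h
    · exfalso
      apply hab
      intro a b
      have ha : a ∈ Subgroup.center G := by rw [h]; trivial
      exact (Subgroup.mem_center_iff.mp ha b).symm
  have hgZ : g ∉ Subgroup.center G := by
    rw [hZ, Subgroup.mem_bot]
    exact hg
  -- k ≠ 0
  have hk : k ≠ 0 := by
    rintro rfl
    rw [pow_zero, Subgroup.index_eq_one] at hclass
    apply hgZ
    rw [Subgroup.mem_center_iff]
    intro x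
    have hx : x ∈ Subgroup.centralizer ({g} : Set G) := by rw [hclass]; trivial
    exact (Subgroup.mem_centralizer_iff.mp hx g rfl).symm
  have := Fintype.ofFinite (IrrCharacter G)
  let χ₀ : IrrCharacter G := ⟨fun _ => 1, isIrrCharacter_one⟩
  -- key dichotomy
  have hkey : ∀ χ : IrrCharacter G, χ ≠ χ₀ →
      ∃ t : ℂ, IsIntegral ℤ t ∧ (χ : G → ℂ) g * (χ : G → ℂ) 1 = (p : ℂ) * t := by
    intro χ hχ
    obtain ⟨n, ρ, hρ, hχρ⟩ := χ.2
    have hV : Nontrivial (Fin n → ℂ) := ((isIrreducible_iff ρ).mp hρ).1
    have hfr : Module.finrank ℂ (Fin n → ℂ) = n := by simp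
    by_cases hpn : p ∣ n
    · obtain ⟨d, rfl⟩ := hpn
      refine ⟨(χ : G → ℂ) g * (d : ℂ), ?_, ?_⟩
      · apply IsIntegral.mul
        · exact IsCharacter.isIntegral (IsIrrCharacter.isCharacter χ.2) g
        · exact isIntegral_algebraMap (R := ℤ) (x := (d : ℤ))
      · rw [← hχρ, Representation.char_one, hfr]
        push_cast
        ring
    · refine ⟨0, isIntegral_zero, ?_⟩
      rw [mul_zero]
      have hcop : Nat.Coprime (Module.finrank ℂ (Fin n → ℂ))
          (Subgroup.centralizer ({g} : Set G)).index := by
        rw [hclass, hfr]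
        exact Nat.Coprime.pow_right k ((Nat.Prime.coprime_iff_not_dvd hp).mpr hpn).symm
      have := hρ
      rcases character_eq_zero_or_norm_eq_of_coprime ρ g hcop with h0 | h1
      · rw [← hχρ, h0, zero_mul]
      · exfalso
        obtain ⟨ω, hω⟩ := (Cfsg.Agent.S0138.result ρ g).mp h1
        -- kernel of ρ
        let N : Subgroup G := (ρ : G →* Module.End ℂ (Fin n → ℂ)).ker
        have hN : N = ⊥ ∨ N = ⊤ :=
          (MonoidHom.normal_ker (ρ : G →* Module.End ℂ (Fin n → ℂ))).eq_bot_or_eq_top
        rcases hN with hN | hN
        · -- faithful: g central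
          apply hgZ
          rw [Subgroup.mem_center_iff]
          intro x
          have h2 : ρ (x * g) = ρ (g * x) := by
            rw [map_mul, map_mul, hω]
            ext v
            simp
          have h3 : (x * g) * (g * x)⁻¹ ∈ N := by
            rw [MonoidHom.mem_ker, map_mul, h2, ← map_mul, mul_inv_cancel, map_one]
          rw [hN, Subgroup.mem_bot] at h3
          exact mul_inv_eq_one.mp h3
        · -- trivial representation
          apply hχ
          apply Subtype.ext
          rw [← hχρ]
          apply character_eq_one_of_forall_eq_id ρ hρ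
          intro y
          have hy : y ∈ N := by rw [hN]; trivial
          exact MonoidHom.mem_ker.mp hy
  choose! t ht1 ht2 using hkey
  have hcol := column_orthogonality (G := G) g 1
  have hnc : ¬ IsConj g 1 := by
    intro h
    exact hg (isConj_one_left.mp h)
  rw [if_neg hnc] at hcol
  have hconj1 : ∀ χ : IrrCharacter G, conj ((χ : G → ℂ) 1) = (χ : G → ℂ) 1 := fun χ =>
    IsCharacter.conj_one (IsIrrCharacter.isCharacter χ.2)
  simp only [hconj1] at hcol
  rw [← Finset.add_sum_erase Finset.univ _ (Finset.mem_univ χ₀)] at hcol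
  have h1 : (χ₀ : G → ℂ) g * (χ₀ : G → ℂ) 1 = 1 := by simp [χ₀]
  rw [h1] at hcol
  have h2 : ∑ χ ∈ Finset.univ.erase χ₀, (χ : G → ℂ) g * (χ : G → ℂ) 1 =
      (p : ℂ) * ∑ χ ∈ Finset.univ.erase χ₀, t χ := by
    rw [Finset.mul_sum]
    apply Finset.sum_congr rfl
    intro χ hχ
    exact ht2 χ (Finset.ne_of_mem_erase hχ)
  rw [h2] at hcol
  have hpC : (p : ℂ) ≠ 0 := by exact_mod_cast hp.ne_zero
  have hint : IsIntegral ℤ (((1 : ℕ) : ℂ) / (p : ℂ)) := by
    have h3 : ((1 : ℕ) : ℂ) / (p : ℂ) = -∑ χ ∈ Finset.univ.erase χ₀, t χ := by
      field_simp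
      push_cast
      linear_combination hcol
    rw [h3]
    apply IsIntegral.neg
    apply IsIntegral.sum
    intro χ hχ
    exact ht1 χ (Finset.ne_of_mem_erase hχ)
  have h4 : p ∣ 1 := nat_dvd_of_isIntegral_div hp.ne_zero hint
  exact hp.one_lt.ne' (Nat.dvd_one.mp h4)

end BurnsideClass

section PQ

universe u

theorem isSolvable_of_two_primes_aux (p q : ℕ) (hp : p.Prime) (hq : q.Prime) :
    ∀ (n : ℕ) (G : Type u) [Group G] [Finite G], Nat.card G = n →
      (∀ r : ℕ, r.Prime → r ∣ Nat.card G → r = p ∨ r = q) → Group.IsSolvable G := by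
  intro n
  induction n using Nat.strong_induction_on with
  | _ n ih =>
    intro G _ _ hn hpq
    classical
    have := Fintype.ofFinite G
    by_cases htriv : Subsingleton G
    · infer_instance
    rw [not_subsingleton_iff_nontrivial] at htriv
    by_cases hns : ∃ N : Subgroup G, N.Normal ∧ N ≠ ⊥ ∧ N ≠ ⊤
    · obtain ⟨N, hN, hNb, hNt⟩ := hns
      have hcardN : Nat.card N < n := by
        rw [← hn]
        apply lt_of_le_of_ne (Subgroup.card_le_card_group N)
        intro h
        exact hNt (Subgroup.card_eq_iff_eq_top N |>.mp h)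
      have hcardQ : Nat.card (G ⧸ N) < n := by
        rw [← hn, ← Subgroup.index_eq_card, ← Subgroup.index_mul_card N]
        have h1 : 1 < Nat.card N := by
          rw [Finite.one_lt_card_iff_nontrivial]
          exact (Subgroup.nontrivial_iff_ne_bot N).mpr hNb
        have h2 : 0 < N.index := Nat.pos_of_ne_zero Subgroup.index_ne_zero_of_finite
        nlinarith
      have hsN : Group.IsSolvable N := ih _ hcardN N rfl (fun r hr hrd =>
        hpq r hr (hrd.trans (Subgroup.card_subgroup_dvd_card N)))
      have hsQ : Group.IsSolvable (G ⧸ N) := ih _ hcardQ (G ⧸ N) rfl (fun r hr hrd =>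
        hpq r hr (hrd.trans (by
          rw [← Subgroup.index_eq_card]
          exact Subgroup.index_dvd_card N)))
      apply Group.isSolvable_of_ker_le_range N.subtype (QuotientGroup.mk' N)
      rw [QuotientGroup.ker_mk', Subgroup.range_subtype]
    · -- simple case
      have hsimple : IsSimpleGroup G := by
        refine { exists_pair_ne := htriv.exists_pair_ne, eq_bot_or_eq_top_of_normal := ?_ }
        intro N hN
        by_contra hcon
        push Not at hcon
        exact hns ⟨N, hN, hcon.1, hcon.2⟩
      have hcard1 : Nat.card G ≠ 1 := by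
        intro h
        have := (Nat.card_eq_one_iff_unique.mp h).1
        exact not_subsingleton G this
      obtain ⟨r, hr, hrd⟩ := Nat.exists_prime_and_dvd hcard1
      have : Fact r.Prime := ⟨hr⟩
      let Q : Sylow r G := default
      have hQne : Nontrivial Q := by
        have h1 : r ∣ Nat.card Q := by
          have := Q.card_eq_multiplicity
          rw [this]
          apply dvd_pow_self
          have : 0 < (Nat.card G).factorization r :=
            (hr.factorization_pos_of_dvd Nat.card_pos.ne' hrd)
          omega
        rw [← Finite.one_lt_card_iff_nontrivial]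
        exact lt_of_lt_of_le hr.one_lt (Nat.le_of_dvd Nat.card_pos h1)
      have hcn : Nontrivial (Subgroup.center Q) := IsPGroup.center_nontrivial Q.2
      obtain ⟨z, hzne⟩ := exists_ne (1 : Subgroup.center Q)
      let g : G := ((z : Q) : G)
      have hg : g ≠ 1 := by
        intro h
        apply hzne
        apply Subtype.ext
        apply Subtype.ext
        exact h
      have hQle : (Q : Subgroup G) ≤ Subgroup.centralizer ({g} : Set G) := by
        intro x hx
        rw [Subgroup.mem_centralizer_iff]
        intro y hy
        rw [Set.mem_singleton_iff] at hy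
        subst hy
        have := Subgroup.mem_center_iff.mp z.2 ⟨x, hx⟩
        exact (congrArg Subtype.val this).symm
      have hdvd : (Subgroup.centralizer ({g} : Set G)).index ∣ (Q : Subgroup G).index :=
        Subgroup.index_dvd_of_le hQle
      -- the other prime
      let s : ℕ := if r = p then q else p
      have hs : s.Prime := by
        simp only [s]
        split_ifs
        · exact hq
        · exact hp
      have hindex : ∃ m, (Q : Subgroup G).index = s ^ m := by
        refine ⟨_, Nat.eq_prime_pow_of_unique_prime_dvd Subgroup.index_ne_zero_of_finite ?_⟩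
        intro d hd hdd
        have hdr : d ≠ r := by
          rintro rfl
          exact Q.not_dvd_index hdd
        have := hpq d hd (hdd.trans (Subgroup.index_dvd_card _))
        simp only [s]
        rcases hpq r hr hrd with h1 | h1
        · rw [if_pos h1]
          rcases this with h2 | h2
          · exact absurd (h2.trans h1.symm) hdr
          · exact h2
        · rcases this with h2 | h2
          · by_cases h3 : r = p
            · exact absurd (h2.trans h3.symm) hdr
            · rw [if_neg h3]
              exact h2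
          · exact absurd (h2.trans h1.symm) hdr
      obtain ⟨m, hm⟩ := hindex
      rw [hm] at hdvd
      obtain ⟨k, _, hk⟩ := (Nat.dvd_prime_pow hs).mp hdvd
      have hprime := prime_card_of_simple_of_class_prime_pow s k hs g hg hk
      have : Fact (Nat.card G).Prime := ⟨hprime⟩
      have hcyc : IsCyclic G := isCyclic_of_prime_card rfl
      exact Group.isSolvable_of_comm (isMulCommutative_iff.mp hcyc.isMulCommutative)

theorem isSolvable_of_card_eq_prime_pow_mul {G : Type u} [Group G] [Finite G] (p q a b : ℕ)
    (hp : p.Prime) (hq : q.Prime) (hcard : Nat.card G = p ^ a * q ^ b) : Group.IsSolvable G := by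
  apply isSolvable_of_two_primes_aux p q hp hq _ G rfl
  intro r hr hrd
  rw [hcard] at hrd
  rcases (Nat.Prime.dvd_mul hr).mp hrd with h | h
  · left
    exact (Nat.prime_dvd_prime_iff_eq hr hp).mp (hr.dvd_of_dvd_pow h)
  · right
    exact (Nat.prime_dvd_prime_iff_eq hr hq).mp (hr.dvd_of_dvd_pow h)

end PQ


end Cfsg.Agent.Lib.Helper3
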