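import Cfsg.Agent.Lib.Helper3.Decomp

set_option autoImplicit false

namespace Cfsg.Agent.Lib.Helper3

open Module
open scoped ComplexConjugate

section CharOps

variable {G : Type*} [Group G]

theorem IsCharacter.add {χ ψ : G → ℂ} (hχ : IsCharacter G χ) (hψ : IsCharacter G ψ) :
    IsCharacter G (χ + ψ) := by
  obtain ⟨n, ρ, rfl⟩ := hχ
  obtain ⟨m, σ, rfl⟩ := hψ
  have h : ρ.character + σ.character = (ρ.prod σ).character := by
    funext g
    simp only [Pi.add_apply, Representation.character]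
    have : (ρ.prod σ) g = (ρ g).prodMap (σ g) := rfl
    rw [this, LinearMap.trace_prodMap']
  rw [h]
  exact isCharacter_character _

theorem IsCharacter.zero : IsCharacter G (0 : G → ℂ) := by
  refine ⟨0, 1, ?_⟩
  funext g
  simp [Representation.character]

theorem IsCharacter.sum {ι : Type*} (s : Finset ι) (χ : ι → G → ℂ)
    (h : ∀ i ∈ s, IsCharacter G (χ i)) : IsCharacter G (∑ i ∈ s, χ i) := by
  classical
  induction s using Finset.induction_on with
  | empty => simpa using IsCharacter.zero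
  | insert a s ha ih =>
    rw [Finset.sum_insert ha]
    exact IsCharacter.add (h a (Finset.mem_insert_self a s))
      (ih (fun i hi => h i (Finset.mem_insert_of_mem hi)))

theorem IsCharacter.nsmul {χ : G → ℂ} (hχ : IsCharacter G χ) (m : ℕ) :
    IsCharacter G ((m : ℂ) • χ) := by
  induction m with
  | zero => simpa using IsCharacter.zero
  | succ k ih =>
    have : ((k + 1 : ℕ) : ℂ) • χ = (k : ℂ) • χ + χ := by
      push_cast
      rw [add_smul, one_smul]
    rw [this]
    exact IsCharacter.add ih hχ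

theorem IsCharacter.mul {χ ψ : G → ℂ} (hχ : IsCharacter G χ) (hψ : IsCharacter G ψ) :
    IsCharacter G (χ * ψ) := by
  obtain ⟨n, ρ, rfl⟩ := hχ
  obtain ⟨m, σ, rfl⟩ := hψ
  rw [← Representation.char_tensor]
  exact isCharacter_character _

theorem IsCharacter.one : IsCharacter G (fun _ => (1 : ℂ)) := by
  have h : (fun _ : G => (1 : ℂ)) = (Representation.trivial ℂ G ℂ).character := by
    funext g
    simp [Representation.character]
  rw [h]
  exact isCharacter_character _

theorem IsCharacter.restrict {χ : G → ℂ} (hχ : IsCharacter G χ) (H : Subgroup G) :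
    IsCharacter H (fun h : H => χ h) := by
  obtain ⟨n, ρ, rfl⟩ := hχ
  exact ⟨n, ρ.comp H.subtype, rfl⟩

theorem IsCharacter.conj [Finite G] {χ : G → ℂ} (hχ : IsCharacter G χ) :
    IsCharacter G (fun g => conj (χ g)) := by
  obtain ⟨n, ρ, rfl⟩ := hχ
  have h : (fun g => conj (ρ.character g)) = ρ.dual.character := by
    funext g
    rw [Representation.char_dual, character_inv]
  rw [h]
  exact isCharacter_character _

end CharOps

section NatMult

variable {G : Type*} [Group G] [Fintype G]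

theorem IsCharacter.classInner_irr_nat {χ ψ : G → ℂ} (hχ : IsCharacter G χ)
    (hψ : IsIrrCharacter G ψ) : ∃ m : ℕ, classInner χ ψ = (m : ℂ) := by
  obtain ⟨n, ρ, rfl⟩ := hχ
  obtain ⟨k, τ, _, rfl⟩ := hψ
  exact ⟨_, classInner_character_eq_finrank ρ τ⟩

theorem IsCharacter.exists_mult [Fintype (IrrCharacter G)] {χ : G → ℂ} (hχ : IsCharacter G χ) :
    ∃ m : IrrCharacter G → ℕ, (∀ ψ : IrrCharacter G, classInner χ (ψ : G → ℂ) = (m ψ : ℂ)) ∧
      χ = ∑ ψ : IrrCharacter G, (m ψ : ℂ) • (ψ : G → ℂ) := by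
  choose m hm using fun ψ : IrrCharacter G => IsCharacter.classInner_irr_nat hχ ψ.2
  refine ⟨m, hm, ?_⟩
  conv_lhs => rw [classFunction_eq_sum (IsCharacter.isClassFunction hχ)]
  apply Finset.sum_congr rfl
  intro ψ _
  rw [hm ψ]

theorem classInner_sum_sum [Fintype (IrrCharacter G)] (a b : IrrCharacter G → ℂ) :
    classInner (∑ ψ : IrrCharacter G, a ψ • (ψ : G → ℂ)) (∑ ψ : IrrCharacter G, b ψ • (ψ : G → ℂ)) =
      ∑ ψ : IrrCharacter G, a ψ * conj (b ψ) := by
  classical
  rw [classInner_sum_left]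
  apply Finset.sum_congr rfl
  intro ψ _
  rw [classInner_smul_left, classInner_sum_right, Finset.sum_eq_single ψ]
  · rw [classInner_smul_right, classInner_irr ψ.2 ψ.2, if_pos rfl, mul_one]
  · intro φ _ hφ
    rw [classInner_smul_right, classInner_irr ψ.2 φ.2, if_neg, mul_zero]
    intro h
    apply hφ
    exact (Subtype.ext h).symm
  · intro h
    exact absurd (Finset.mem_univ _) h

theorem isIrrCharacter_of_classInner_self_eq_one {χ : G → ℂ} (hχ : IsCharacter G χ)
    (h : classInner χ χ = 1) : IsIrrCharacter G χ := by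
  classical
  have := Fintype.ofFinite (IrrCharacter G)
  obtain ⟨m, hm, hsum⟩ := IsCharacter.exists_mult hχ
  have h1 : classInner χ χ = ∑ ψ : IrrCharacter G, ((m ψ : ℂ)) * conj ((m ψ : ℂ)) := by
    conv_lhs => rw [hsum]
    exact classInner_sum_sum _ _
  rw [h] at h1
  have h2 : (1 : ℕ) = ∑ ψ : IrrCharacter G, m ψ * m ψ := by
    have : (1 : ℂ) = ((∑ ψ : IrrCharacter G, m ψ * m ψ : ℕ) : ℂ) := by
      rw [h1]
      push_cast
      apply Finset.sum_congr rfl
      intro ψ _
      rw [Complex.conj_natCast]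
    exact_mod_cast this
  -- exactly one multiplicity is one
  have h3 : ∃ ψ₀ : IrrCharacter G, m ψ₀ ≠ 0 := by
    by_contra hcon
    push Not at hcon
    simp [hcon] at h2
  obtain ⟨ψ₀, hψ₀⟩ := h3
  have h4 : ∀ ψ : IrrCharacter G, ψ ≠ ψ₀ → m ψ = 0 := by
    intro ψ hψ
    by_contra hne
    have h5 : m ψ₀ * m ψ₀ + m ψ * m ψ ≤ ∑ φ : IrrCharacter G, m φ * m φ := by
      have : ({ψ₀, ψ} : Finset (IrrCharacter G)) ⊆ Finset.univ := Finset.subset_univ _
      have h6 := Finset.sum_le_sum_of_subset (f := fun φ : IrrCharacter G => m φ * m φ) this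
      rw [Finset.sum_pair (Ne.symm hψ)] at h6
      exact h6
    have h7 : 1 ≤ m ψ₀ * m ψ₀ := Nat.one_le_iff_ne_zero.mpr (Nat.mul_ne_zero hψ₀ hψ₀)
    have h8 : 1 ≤ m ψ * m ψ := Nat.one_le_iff_ne_zero.mpr (Nat.mul_ne_zero hne hne)
    omega
  have h5 : m ψ₀ = 1 := by
    have h6 : ∑ φ : IrrCharacter G, m φ * m φ = m ψ₀ * m ψ₀ := by
      rw [Finset.sum_eq_single ψ₀]
      · intro φ _ hφ
        simp [h4 φ hφ]
      · intro h
        exact absurd (Finset.mem_univ _) h
    rw [h6] at h2
    have : m ψ₀ ≤ 1 := by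
      by_contra hgt
      push Not at hgt
      have : 2 * 2 ≤ m ψ₀ * m ψ₀ := Nat.mul_le_mul hgt hgt
      omega
    omega
  have h6 : χ = (ψ₀ : G → ℂ) := by
    rw [hsum, Finset.sum_eq_single ψ₀]
    · rw [h5]
      simp
    · intro φ _ hφ
      rw [h4 φ hφ]
      simp
    · intro h
      exact absurd (Finset.mem_univ _) h
  rw [h6]
  exact ψ₀.2

end NatMult

end Cfsg.Agent.Lib.Helper3
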