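import Cfsg.Agent.Lib.Helper3.CharBasic

set_option autoImplicit false

namespace Cfsg.Agent.Lib.Helper3

open Module
open scoped ComplexConjugate

section TraceProj

variable {K F : Type*} [Field K] [AddCommGroup F] [Module K F] [FiniteDimensional K F]

/-- Trace of the restriction of `T` to an invariant subspace `W` computed through a projection. -/
theorem trace_restrict_eq_trace_comp_proj (T : F →ₗ[K] F) (W : Submodule K F)
    (hT : ∀ w ∈ W, T w ∈ W) (P : F →ₗ[K] F) (hP : ∀ f, P f ∈ W) (hPW : ∀ w ∈ W, P w = w) :
    LinearMap.trace K W (T.restrict hT) = LinearMap.trace K F (T ∘ₗ P) := by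
  let π : F →ₗ[K] W := P.codRestrict W hP
  have h1 : T ∘ₗ P = (T ∘ₗ W.subtype) ∘ₗ π := by
    ext f
    simp [π]
  rw [h1, LinearMap.trace_comp_comm']
  congr 1
  ext w
  simp only [LinearMap.coe_restrict_apply, LinearMap.coe_comp, Function.comp_apply,
    Submodule.coe_subtype, π, LinearMap.codRestrict_apply]
  exact (hPW _ (hT w w.2)).symm

end TraceProj

theorem trace_pi {K X V : Type*} [Field K] [Fintype X] [DecidableEq X] [AddCommGroup V]
    [Module K V] [FiniteDimensional K V] (T : (X → V) →ₗ[K] (X → V)) :
    LinearMap.trace K (X → V) T =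
      ∑ x : X, LinearMap.trace K V
        (LinearMap.proj x ∘ₗ T ∘ₗ LinearMap.single K (fun _ : X => V) x) := by
  classical
  let b := Module.finBasis K V
  let B := Pi.basis (fun _ : X => b)
  rw [LinearMap.trace_eq_matrix_trace K B T, Matrix.trace, Fintype.sum_sigma]
  apply Finset.sum_congr rfl
  intro x _
  rw [LinearMap.trace_eq_matrix_trace K b, Matrix.trace]
  apply Finset.sum_congr rfl
  intro i _
  simp only [Matrix.diag_apply, LinearMap.toMatrix_apply, B, Pi.basis_repr, Pi.basis_apply,
    LinearMap.coe_comp, Function.comp_apply, LinearMap.coe_proj, Function.eval,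
    LinearMap.coe_single]


section Induced

variable {G : Type*} [Group G] {V : Type*} [AddCommGroup V] [Module ℂ V]

/-- The translation representation of `G` on functions `G → V`. -/
def transRep (G : Type*) [Group G] (V : Type*) [AddCommGroup V] [Module ℂ V] :
    Representation ℂ G (G → V) where
  toFun g :=
    { toFun := fun f x => f (g⁻¹ * x)
      map_add' := fun _ _ => rfl
      map_smul' := fun _ _ => rfl }
  map_one' := by
    ext f x
    simp
  map_mul' g₁ g₂ := by
    ext f x
    simp [mul_assoc]

theorem transRep_apply (g : G) (f : G → V) (x : G) : transRep G V g f x = f (g⁻¹ * x) := rfl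

variable (H : Subgroup G) (σ : Representation ℂ H V)

/-- The space of the induced representation, as a subspace of `G → V`. -/
def indSpace : Submodule ℂ (G → V) where
  carrier := {f | ∀ (x : G) (h : H), f (x * h) = σ h⁻¹ (f x)}
  add_mem' := by
    intro a b ha hb x h
    simp only [Pi.add_apply, map_add]
    rw [ha x h, hb x h]
  zero_mem' := by
    intro x h
    simp
  smul_mem' := by
    intro c a ha x h
    simp only [Pi.smul_apply, map_smul]
    rw [ha x h]

theorem mem_indSpace (f : G → V) :
    f ∈ indSpace H σ ↔ ∀ (x : G) (h : H), f (x * h) = σ h⁻¹ (f x) := Iff.rfl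

theorem transRep_mem_indSpace (g : G) (f : G → V) (hf : f ∈ indSpace H σ) :
    transRep G V g f ∈ indSpace H σ := by
  intro x h
  rw [transRep_apply, transRep_apply, ← mul_assoc, hf]

/-- The induced representation. -/
def indSubrep : Subrepresentation (transRep G V) :=
  ⟨indSpace H σ, fun g f hf => transRep_mem_indSpace H σ g f hf⟩

/-- The induced representation on `indSpace`. -/
def indRep : Representation ℂ G (indSpace H σ) := (indSubrep H σ).toRepresentation

variable [Fintype H]

/-- The averaging projection onto `indSpace`. -/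
noncomputable def indProj : (G → V) →ₗ[ℂ] (G → V) where
  toFun f := fun x => (Nat.card H : ℂ)⁻¹ • ∑ h : H, σ h (f (x * h))
  map_add' := by
    intro a b
    funext x
    simp only [Pi.add_apply, map_add, Finset.sum_add_distrib, smul_add]
  map_smul' := by
    intro c a
    funext x
    simp only [Pi.smul_apply, map_smul, RingHom.id_apply, Finset.smul_sum]
    apply Finset.sum_congr rfl
    intro h _
    rw [smul_comm]

theorem indProj_apply (f : G → V) (x : G) :
    indProj H σ f x = (Nat.card H : ℂ)⁻¹ • ∑ h : H, σ h (f (x * h)) := rfl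

theorem indProj_mem (f : G → V) : indProj H σ f ∈ indSpace H σ := by
  intro x k
  rw [indProj_apply, indProj_apply, map_smul, map_sum]
  congr 1
  rw [← Equiv.sum_comp (Equiv.mulLeft k⁻¹)]
  apply Finset.sum_congr rfl
  intro h _
  simp only [Equiv.coe_mulLeft]
  rw [← Module.End.mul_apply, ← map_mul]
  congr 2
  simp [mul_assoc]

theorem indProj_of_mem (f : G → V) (hf : f ∈ indSpace H σ) : indProj H σ f = f := by
  funext x
  rw [indProj_apply]
  have : ∀ h : H, σ h (f (x * h)) = f x := by
    intro h
    rw [hf x h, ← Module.End.mul_apply, ← map_mul, mul_inv_cancel, map_one, Module.End.one_apply]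
  rw [Finset.sum_congr rfl (fun h _ => this h)]
  simp only [Finset.sum_const, Finset.card_univ]
  rw [← Nat.card_eq_fintype_card, ← Nat.cast_smul_eq_nsmul ℂ, smul_smul, inv_mul_cancel₀, one_smul]
  exact_mod_cast Nat.card_pos.ne'


omit [Fintype H] in
theorem extendByZero_apply_mem {θ : H → ℂ} {y : G} (hy : y ∈ H) :
    extendByZero H θ y = θ ⟨y, hy⟩ := by
  unfold extendByZero
  exact Subtype.val_injective.extend_apply θ 0 ⟨y, hy⟩

omit [Fintype H] in
theorem extendByZero_apply_not_mem {θ : H → ℂ} {y : G} (hy : y ∉ H) :
    extendByZero H θ y = 0 := by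
  unfold extendByZero
  apply Function.extend_apply'
  rintro ⟨a, rfl⟩
  exact hy a.2

theorem sum_ite_eq_extendByZero (θ : H → ℂ) (y : G) [DecidableEq G] :
    ∑ h : H, (if (h : G) = y then θ h else 0) = extendByZero H θ y := by
  by_cases hy : y ∈ H
  · rw [extendByZero_apply_mem H hy]
    rw [Finset.sum_eq_single (⟨y, hy⟩ : H)]
    · simp
    · intro b _ hb
      rw [if_neg]
      intro h
      apply hb
      exact Subtype.ext h
    · intro h
      exact absurd (Finset.mem_univ _) h
  · rw [extendByZero_apply_not_mem H hy]
    apply Finset.sum_eq_zero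
    intro h _
    rw [if_neg]
    intro hh
    apply hy
    rw [← hh]
    exact h.2

theorem indRep_character [Fintype G] [FiniteDimensional ℂ V] (g : G) :
    (indRep H σ).character g =
      (Nat.card H : ℂ)⁻¹ * ∑ x : G, extendByZero H σ.character (x⁻¹ * g * x) := by
  classical
  have h1 : (indRep H σ).character g = LinearMap.trace ℂ (indSpace H σ)
      ((transRep G V g).restrict (fun f hf => transRep_mem_indSpace H σ g f hf)) := rfl
  rw [h1, trace_restrict_eq_trace_comp_proj (transRep G V g) (indSpace H σ)
    (fun f hf => transRep_mem_indSpace H σ g f hf) (indProj H σ) (indProj_mem H σ)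
    (indProj_of_mem H σ), trace_pi, Finset.mul_sum]
  apply Finset.sum_congr rfl
  intro x _
  have h2 : LinearMap.proj x ∘ₗ (transRep G V g ∘ₗ indProj H σ) ∘ₗ
      LinearMap.single ℂ (fun _ : G => V) x =
      (Nat.card H : ℂ)⁻¹ • ∑ h : H, (if (h : G) = x⁻¹ * g * x then σ h else 0) := by
    ext v
    simp only [LinearMap.coe_comp, Function.comp_apply, LinearMap.coe_proj, Function.eval,
      transRep_apply, indProj_apply, LinearMap.coe_single, LinearMap.smul_apply,
      LinearMap.sum_apply]
    congr 1
    apply Finset.sum_congr rfl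
    intro h _
    by_cases hh : (h : G) = x⁻¹ * g * x
    · rw [if_pos hh]
      have : g⁻¹ * x * ↑h = x := by rw [hh]; group
      rw [this, Pi.single_eq_same]
    · rw [if_neg hh]
      have : g⁻¹ * x * ↑h ≠ x := by
        intro h3
        apply hh
        calc (h : G) = x⁻¹ * g * (g⁻¹ * x * ↑h) := by group
          _ = x⁻¹ * g * x := by rw [h3]
      rw [Pi.single_eq_of_ne this]
      simp
  rw [h2, map_smul, map_sum, smul_eq_mul]
  congr 1
  rw [← sum_ite_eq_extendByZero H σ.character (x⁻¹ * g * x)]
  apply Finset.sum_congr rfl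
  intro h _
  by_cases hh : (h : G) = x⁻¹ * g * x
  · rw [if_pos hh, if_pos hh]
    rfl
  · rw [if_neg hh, if_neg hh, map_zero]

theorem isCharacter_indFun [Fintype G] (H : Subgroup G) {θ : H → ℂ} (hθ : IsCharacter H θ) :
    IsCharacter G (indFun H θ) := by
  classical
  obtain ⟨n, σ, rfl⟩ := hθ
  have := Fintype.ofFinite H
  have h : indFun H σ.character = (indRep H σ).character := by
    funext g
    rw [indRep_character]
    rfl
  rw [h]
  exact isCharacter_character _

end Induced

end Cfsg.Agent.Lib.Helper3
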