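import Cfsg.Agent.Lib.Helper3.Complete

set_option autoImplicit false

namespace Cfsg.Agent.Lib.Helper3

open Module
open scoped ComplexConjugate

section ClassSize

variable {G : Type*} [Group G]

theorem index_centralizer_eq_ncard (g : G) :
    (Subgroup.centralizer ({g} : Set G)).index = Set.ncard {x : G | IsConj x g} := by
  let act : MulAction G G := MulAction.compHom G (MulAut.conj : G →* MulAut G)
  have hsmul : ∀ a x : G, act.toSMul.smul a x = a * x * a⁻¹ := fun a x => rfl
  have hstab : @MulAction.stabilizer G G _ act g = Subgroup.centralizer {g} := by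
    ext a
    rw [@MulAction.mem_stabilizer_iff G G _ act, Subgroup.mem_centralizer_iff]
    change a * g * a⁻¹ = g ↔ _
    simp only [Set.mem_singleton_iff, forall_eq]
    constructor
    · intro h
      calc g * a = (a * g * a⁻¹) * a := by rw [h]
        _ = a * g := by group
    · intro h
      rw [← h]
      group
  rw [← hstab, @MulAction.index_stabilizer G G _ act]
  congr 1
  ext x
  simp only [Set.mem_ofPred_eq]
  rw [isConj_comm, isConj_iff]
  constructor
  · rintro ⟨a, ha⟩
    exact ⟨a, ha⟩
  · rintro ⟨a, ha⟩
    exact ⟨a, ha⟩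

theorem card_filter_isConj [Fintype G] (g : G) [DecidablePred (fun x : G => IsConj x g)] :
    (Finset.univ.filter (fun x : G => IsConj x g)).card =
      (Subgroup.centralizer ({g} : Set G)).index := by
  rw [index_centralizer_eq_ncard, ← Set.ncard_coe_finset]
  congr 1
  ext x
  simp

end ClassSize

section Column

variable {G : Type*} [Group G]

theorem IsClassFunction.eq_of_isConj {θ : G → ℂ} (hθ : IsClassFunction G θ) {x y : G}
    (h : IsConj x y) : θ x = θ y := by
  obtain ⟨c, hc⟩ := isConj_iff.mp h
  rw [← hc, hθ x c]

theorem isClassFunction_indicator (h : G) [DecidablePred (fun x : G => IsConj x h)] :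
    IsClassFunction G (fun x => if IsConj x h then (1 : ℂ) else 0) := by
  intro g x
  have : IsConj (x * g * x⁻¹) h ↔ IsConj g h := by
    have h1 : IsConj g (x * g * x⁻¹) := isConj_iff.mpr ⟨x, rfl⟩
    constructor
    · intro h2
      exact h1.trans h2
    · intro h2
      exact h1.symm.trans h2
  simp only [this]

theorem classInner_indicator [Fintype G] (h : G) [DecidablePred (fun x : G => IsConj x h)]
    {χ : G → ℂ} (hχ : IsClassFunction G χ) :
    classInner (fun x => if IsConj x h then (1 : ℂ) else 0) χ =
      (Nat.card G : ℂ)⁻¹ * ((Subgroup.centralizer ({h} : Set G)).index : ℂ) * conj (χ h) := by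
  unfold classInner
  rw [mul_assoc]
  congr 1
  rw [← card_filter_isConj h]
  simp only [ite_mul, one_mul, zero_mul]
  rw [← Finset.sum_filter]
  rw [Finset.sum_congr rfl (g := fun _ => conj (χ h))]
  · simp
  · intro x hx
    simp only [Finset.mem_filter, Finset.mem_univ, true_and] at hx
    rw [IsClassFunction.eq_of_isConj hχ hx]

theorem column_orthogonality [Fintype G] [Fintype (IrrCharacter G)] (g h : G)
    [Decidable (IsConj g h)] :
    ∑ χ : IrrCharacter G, (χ : G → ℂ) g * conj ((χ : G → ℂ) h) =
      if IsConj g h then (Nat.card (Subgroup.centralizer ({g} : Set G)) : ℂ) else 0 := by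
  classical
  have hcard : (Nat.card G : ℂ) ≠ 0 := by exact_mod_cast Nat.card_pos.ne'
  have hidx : ((Subgroup.centralizer ({h} : Set G)).index : ℂ) ≠ 0 := by
    exact_mod_cast (Subgroup.index_ne_zero_of_finite)
  have hexp := classFunction_eq_sum (isClassFunction_indicator h)
  have hg := congrFun hexp g
  simp only [Finset.sum_apply, Pi.smul_apply, smul_eq_mul] at hg
  have hrw : ∀ χ : IrrCharacter G,
      classInner (fun x => if IsConj x h then (1 : ℂ) else 0) (χ : G → ℂ) * (χ : G → ℂ) g =
      ((Nat.card G : ℂ)⁻¹ * ((Subgroup.centralizer ({h} : Set G)).index : ℂ)) *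
        ((χ : G → ℂ) g * conj ((χ : G → ℂ) h)) := by
    intro χ
    rw [classInner_indicator h (IsCharacter.isClassFunction (IsIrrCharacter.isCharacter χ.2))]
    ring
  rw [Finset.sum_congr rfl (fun χ _ => hrw χ), ← Finset.mul_sum] at hg
  have hmul : ((Subgroup.centralizer ({h} : Set G)).index : ℂ) *
      (Nat.card (Subgroup.centralizer ({h} : Set G)) : ℂ) = (Nat.card G : ℂ) := by
    exact_mod_cast (Subgroup.centralizer ({h} : Set G)).index_mul_card
  by_cases hc : IsConj g h
  · rw [if_pos hc] at hg
    rw [if_pos hc]
    have hsum : ∑ χ : IrrCharacter G, (χ : G → ℂ) g * conj ((χ : G → ℂ) h) =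
        (Nat.card (Subgroup.centralizer ({h} : Set G)) : ℂ) := by
      have h5 : (Nat.card G : ℂ) = ((Subgroup.centralizer ({h} : Set G)).index : ℂ) *
          ∑ χ : IrrCharacter G, (χ : G → ℂ) g * conj ((χ : G → ℂ) h) := by
        field_simp at hg
        rw [hg]
      rw [← hmul] at h5
      exact (mul_left_cancel₀ hidx h5).symm
    rw [hsum]
    have h1 : (Subgroup.centralizer ({g} : Set G)).index =
        (Subgroup.centralizer ({h} : Set G)).index := by
      rw [index_centralizer_eq_ncard, index_centralizer_eq_ncard]
      congr 1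
      ext x
      simp only [Set.mem_ofPred_eq]
      exact ⟨fun hx => hx.trans hc, fun hx => hx.trans hc.symm⟩
    have h2 := (Subgroup.centralizer ({g} : Set G)).index_mul_card
    have h3 := (Subgroup.centralizer ({h} : Set G)).index_mul_card
    rw [h1] at h2
    have h4 : Nat.card (Subgroup.centralizer ({g} : Set G)) =
        Nat.card (Subgroup.centralizer ({h} : Set G)) := by
      have hpos : 0 < (Subgroup.centralizer ({h} : Set G)).index :=
        Nat.pos_of_ne_zero Subgroup.index_ne_zero_of_finite
      exact Nat.eq_of_mul_eq_mul_left hpos (h2.trans h3.symm)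
    rw [h4]
  · rw [if_neg hc] at hg
    rw [if_neg hc]
    have h6 : (Nat.card G : ℂ)⁻¹ * ((Subgroup.centralizer ({h} : Set G)).index : ℂ) ≠ 0 :=
      mul_ne_zero (inv_ne_zero hcard) hidx
    rcases mul_eq_zero.mp hg.symm with h7 | h7
    · exact absurd h7 h6
    · exact h7

end Column
section Count

variable {G : Type*} [Group G]

/-- Pull back a function on conjugacy classes to the group. -/
def classPullback (G : Type*) [Group G] : (ConjClasses G → ℂ) →ₗ[ℂ] (G → ℂ) where
  toFun F := fun g => F (ConjClasses.mk g)
  map_add' _ _ := rfl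
  map_smul' _ _ := rfl

theorem classPullback_injective : Function.Injective (classPullback G) := by
  intro F F' h
  funext C
  obtain ⟨g, rfl⟩ := ConjClasses.mk_surjective C
  exact congrFun h g

theorem mem_range_classPullback_iff (f : G → ℂ) :
    f ∈ LinearMap.range (classPullback G) ↔ IsClassFunction G f := by
  constructor
  · rintro ⟨F, rfl⟩ g x
    change F (ConjClasses.mk (x * g * x⁻¹)) = F (ConjClasses.mk g)
    congr 1
    rw [ConjClasses.mk_eq_mk_iff_isConj]
    exact (isConj_iff.mpr ⟨x, rfl⟩).symm
  · intro hf
    refine ⟨fun C => Quotient.liftOn C f (fun a b hab => ?_), ?_⟩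
    · exact IsClassFunction.eq_of_isConj hf hab
    · funext g
      rfl

theorem card_irrCharacter [Finite G] :
    Nat.card (IrrCharacter G) = Nat.card (ConjClasses G) := by
  classical
  have := Fintype.ofFinite G
  have := Fintype.ofFinite (IrrCharacter G)
  have := Fintype.ofFinite (ConjClasses G)
  have hspan : Submodule.span ℂ (Set.range (fun χ : IrrCharacter G => (χ : G → ℂ))) =
      LinearMap.range (classPullback G) := by
    apply le_antisymm
    · rw [Submodule.span_le]
      rintro _ ⟨χ, rfl⟩
      exact (mem_range_classPullback_iff _).mpr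
        (IsCharacter.isClassFunction (IsIrrCharacter.isCharacter χ.2))
    · intro f hf
      rw [classFunction_eq_sum ((mem_range_classPullback_iff f).mp hf)]
      apply Submodule.sum_mem
      intro χ _
      apply Submodule.smul_mem
      exact Submodule.subset_span ⟨χ, rfl⟩
  have h1 := finrank_span_eq_card (irrCharacter_linearIndependent (G := G))
  have h2 := LinearMap.finrank_range_of_inj (classPullback_injective (G := G))
  rw [hspan, h2] at h1
  rw [Nat.card_eq_fintype_card, Nat.card_eq_fintype_card, ← h1]
  simp

end Count

section Regular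

variable {G : Type*} [Group G] [Fintype G]

theorem leftRegular_character [DecidableEq G] (g : G) :
    (Representation.leftRegular ℂ G).character g = if g = 1 then (Nat.card G : ℂ) else 0 := by
  rw [Representation.character, LinearMap.trace_eq_matrix_trace ℂ (MonoidAlgebra.basis G ℂ),
    Matrix.trace]
  simp only [Matrix.diag_apply, LinearMap.toMatrix_apply, MonoidAlgebra.basis_apply,
    Representation.ofMulAction_single, smul_eq_mul]
  by_cases hg : g = 1
  · subst hg
    simp [MonoidAlgebra.basis, Nat.card_eq_fintype_card]
  · rw [if_neg hg]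
    apply Finset.sum_eq_zero
    intro h _
    simp [MonoidAlgebra.basis, hg]

theorem IsCharacter.conj_one {χ : G → ℂ} (h : IsCharacter G χ) : conj (χ 1) = χ 1 := by
  have := IsCharacter.inv h 1
  rw [inv_one] at this
  exact this.symm

theorem classInner_leftRegular {χ : G → ℂ} (h : IsCharacter G χ) :
    classInner (Representation.leftRegular ℂ G).character χ = χ 1 := by
  classical
  have hcard : (Nat.card G : ℂ) ≠ 0 := by exact_mod_cast Nat.card_pos.ne'
  unfold classInner
  simp only [leftRegular_character, ite_mul, zero_mul]
  rw [Finset.sum_ite_eq' Finset.univ (1 : G)]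
  simp only [Finset.mem_univ, if_true]
  rw [IsCharacter.conj_one h]
  field_simp

theorem leftRegular_character_eq_sum [Fintype (IrrCharacter G)] :
    (Representation.leftRegular ℂ G).character =
      ∑ χ : IrrCharacter G, (χ : G → ℂ) 1 • (χ : G → ℂ) := by
  have h := classFunction_eq_sum
    (IsCharacter.isClassFunction (isCharacter_character (Representation.leftRegular ℂ G)))
  conv_lhs => rw [h]
  apply Finset.sum_congr rfl
  intro χ _
  rw [classInner_leftRegular (IsIrrCharacter.isCharacter χ.2)]

theorem sum_sq_degree [Fintype (IrrCharacter G)] :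
    ∑ χ : IrrCharacter G, (χ : G → ℂ) 1 ^ 2 = (Nat.card G : ℂ) := by
  classical
  have h := congrFun (leftRegular_character_eq_sum (G := G)) 1
  rw [leftRegular_character, if_pos rfl] at h
  rw [h]
  simp only [Finset.sum_apply, Pi.smul_apply, smul_eq_mul]
  apply Finset.sum_congr rfl
  intro χ _
  ring

end Regular


end Cfsg.Agent.Lib.Helper3
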