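import Cfsg.Agent.Lib.Helper3.CharBasic
set_option autoImplicit false

namespace Cfsg.Agent.Lib.Helper3

open Module
open scoped ComplexConjugate

section Complete

variable {G : Type*} [Group G] [Fintype G]

/-- The weighted sum operator `∑ g, f g • ρ g`. -/
noncomputable def wsum {V : Type*} [AddCommGroup V] [Module ℂ V] (ρ : Representation ℂ G V)
    (f : G → ℂ) : V →ₗ[ℂ] V := ∑ g : G, f g • ρ g

theorem wsum_apply {V : Type*} [AddCommGroup V] [Module ℂ V] (ρ : Representation ℂ G V)
    (f : G → ℂ) (v : V) : wsum ρ f v = ∑ g : G, f g • ρ g v := by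
  simp [wsum, LinearMap.sum_apply]

theorem wsum_comm {V : Type*} [AddCommGroup V] [Module ℂ V] (ρ : Representation ℂ G V)
    {f : G → ℂ} (hf : IsClassFunction G f) (h : G) (v : V) :
    ρ h (wsum ρ f v) = wsum ρ f (ρ h v) := by
  rw [wsum_apply, wsum_apply, map_sum]
  rw [← Equiv.sum_comp (MulAut.conj h).toEquiv (fun g => f g • ρ g (ρ h v))]
  apply Finset.sum_congr rfl
  intro g _
  simp only [MulEquiv.toEquiv_eq_coe, EquivLike.coe_coe, MulAut.conj_apply, map_smul]
  rw [hf g h]
  congr 1
  rw [← Module.End.mul_apply, ← Module.End.mul_apply, ← map_mul, ← map_mul]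
  congr 2
  group

theorem trace_wsum {V : Type*} [AddCommGroup V] [Module ℂ V] [FiniteDimensional ℂ V]
    (ρ : Representation ℂ G V) (f : G → ℂ) :
    LinearMap.trace ℂ V (wsum ρ f) = ∑ g : G, f g * ρ.character g := by
  simp [wsum, map_sum, Representation.character]

theorem wsum_eq_zero_of_irreducible {V : Type*} [AddCommGroup V] [Module ℂ V]
    [FiniteDimensional ℂ V] (ρ : Representation ℂ G V) [hρ : ρ.IsIrreducible]
    {f : G → ℂ} (hf : IsClassFunction G f) (h0 : ∑ g : G, f g * ρ.character g = 0) :
    wsum ρ f = 0 := by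
  let T : Representation.IntertwiningMap ρ ρ := ⟨wsum ρ f, fun g => by
    ext v
    exact (wsum_comm ρ hf g v).symm⟩
  obtain ⟨c, hc⟩ :=
    (Representation.IsIrreducible.algebraMap_intertwiningMap_bijective_of_isAlgClosed (ρ := ρ)).2 T
  have hT : wsum ρ f = c • LinearMap.id := by
    have := congrArg Representation.IntertwiningMap.toLinearMap hc
    have h2 : T.toLinearMap = wsum ρ f := rfl
    rw [← h2, ← this]
    ext v
    simp
  have htr := trace_wsum ρ f
  rw [h0, hT, map_smul, LinearMap.trace_id, smul_eq_mul] at htr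
  have hV : Nontrivial V := ((isIrreducible_iff ρ).mp hρ).1
  have hfin : (Module.finrank ℂ V : ℂ) ≠ 0 := by
    exact_mod_cast (Module.finrank_pos (R := ℂ) (M := V)).ne'
  have hc0 : c = 0 := by
    rcases mul_eq_zero.mp htr with h | h
    · exact h
    · exact absurd h hfin
  rw [hT, hc0, zero_smul]


theorem wsum_subrep {V : Type*} [AddCommGroup V] [Module ℂ V] (ρ : Representation ℂ G V)
    (S : Subrepresentation ρ) (f : G → ℂ) (v : S.toSubmodule) :
    ((wsum S.toRepresentation f v : S.toSubmodule) : V) = wsum ρ f (v : V) := by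
  rw [wsum_apply, wsum_apply]
  simp only [Submodule.coe_sum, Submodule.coe_smul]
  rfl

universe u in
theorem wsum_eq_zero_aux {f : G → ℂ} (hf : IsClassFunction G f)
    (h0 : ∀ χ : G → ℂ, IsIrrCharacter G χ → ∑ g : G, f g * χ g = 0) :
    ∀ (d : ℕ) (V : Type u) [AddCommGroup V] [Module ℂ V] [FiniteDimensional ℂ V]
      (ρ : Representation ℂ G V), Module.finrank ℂ V = d → wsum ρ f = 0 := by
  have : NeZero (Nat.card G : ℂ) := ⟨by exact_mod_cast Nat.card_pos.ne'⟩
  intro d
  induction d using Nat.strong_induction_on with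
  | _ d ih =>
    intro V _ _ _ ρ hd
    by_cases hirr : ρ.IsIrreducible
    · exact wsum_eq_zero_of_irreducible ρ hf (h0 _ (isIrrCharacter_character ρ hirr))
    · by_cases hV : Nontrivial V
      · have hex : ∃ S : Subrepresentation ρ, S ≠ ⊥ ∧ S ≠ ⊤ := by
          by_contra hcon
          push Not at hcon
          apply hirr
          refine { exists_pair_ne := ?_, eq_bot_or_eq_top := ?_ }
          · refine ⟨⊥, ⊤, ?_⟩
            intro hbt
            have : (⊥ : Submodule ℂ V) = ⊤ := congrArg Subrepresentation.toSubmodule hbt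
            exact bot_ne_top this
          · intro S
            by_cases hS : S = ⊥
            · exact Or.inl hS
            · exact Or.inr (hcon S hS)
        obtain ⟨S, hSb, hSt⟩ := hex
        obtain ⟨S', hS'⟩ := exists_isCompl S
        have hS't : S' ≠ ⊤ := by
          intro h
          apply hSb
          have := hS'.inf_eq_bot
          rwa [h, inf_top_eq] at this
        have hlt : ∀ T : Subrepresentation ρ, T ≠ ⊤ → Module.finrank ℂ T.toSubmodule < d := by
          intro T hT
          rw [← hd]
          apply Submodule.finrank_lt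
          intro h
          apply hT
          exact Subrepresentation.toSubmodule_injective h
        have hz : ∀ T : Subrepresentation ρ, T ≠ ⊤ → ∀ v ∈ T.toSubmodule, wsum ρ f v = 0 := by
          intro T hT v hv
          have := ih _ (hlt T hT) T.toSubmodule T.toRepresentation rfl
          have h2 := wsum_subrep ρ T f ⟨v, hv⟩
          rw [this] at h2
          simpa using h2.symm
        have hsup : S.toSubmodule ⊔ S'.toSubmodule = ⊤ := by
          have := hS'.sup_eq_top
          have h2 := congrArg Subrepresentation.toSubmodule this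
          exact h2
        apply LinearMap.ext
        intro v
        have hv : v ∈ S.toSubmodule ⊔ S'.toSubmodule := by rw [hsup]; trivial
        obtain ⟨a, ha, b, hb, rfl⟩ := Submodule.mem_sup.mp hv
        rw [map_add, hz S hSt a ha, hz S' hS't b hb]
        simp
      · rw [not_nontrivial_iff_subsingleton] at hV
        apply LinearMap.ext
        intro v
        exact Subsingleton.elim _ _

theorem wsum_eq_zero {f : G → ℂ} (hf : IsClassFunction G f)
    (h0 : ∀ χ : G → ℂ, IsIrrCharacter G χ → ∑ g : G, f g * χ g = 0)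
    {V : Type*} [AddCommGroup V] [Module ℂ V] [FiniteDimensional ℂ V]
    (ρ : Representation ℂ G V) : wsum ρ f = 0 :=
  wsum_eq_zero_aux hf h0 _ V ρ rfl


theorem eq_zero_of_forall_irr {f : G → ℂ} (hf : IsClassFunction G f)
    (h0 : ∀ χ : G → ℂ, IsIrrCharacter G χ → ∑ g : G, f g * χ g = 0) : f = 0 := by
  classical
  have h1 := wsum_eq_zero hf h0 (Representation.leftRegular ℂ G)
  have h2 := congrArg (fun T => T (MonoidAlgebra.single (1 : G) (1 : ℂ))) h1
  simp only [wsum_apply, Representation.ofMulAction_single, smul_eq_mul, mul_one,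
    LinearMap.zero_apply] at h2
  funext g₀
  have h3 := congrArg (fun x => x.coeff g₀) h2
  simp only [MonoidAlgebra.coeff_sum, MonoidAlgebra.coeff_smul, MonoidAlgebra.coeff_single,
    MonoidAlgebra.coeff_zero, Finsupp.coe_finsetSum, Finsupp.coe_smul, Finset.sum_apply,
    Pi.smul_apply, Finsupp.single_apply, smul_eq_mul, Finsupp.coe_zero, Pi.zero_apply] at h3
  simpa using h3

end Complete
section Expand

variable {G : Type*} [Group G] [Fintype G]

theorem eq_zero_of_classInner_irr_eq_zero {D : G → ℂ} (hD : IsClassFunction G D)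
    (h : ∀ χ : G → ℂ, IsIrrCharacter G χ → classInner D χ = 0) : D = 0 := by
  have hcard : (Nat.card G : ℂ) ≠ 0 := by exact_mod_cast Nat.card_pos.ne'
  have hf : IsClassFunction G (fun g => conj (D g)) := fun g x => by
    simp only [hD g x]
  have h0 : ∀ χ : G → ℂ, IsIrrCharacter G χ → ∑ g : G, (fun g => conj (D g)) g * χ g = 0 := by
    intro χ hχ
    have h1 := h χ hχ
    unfold classInner at h1
    have h2 : ∑ g : G, D g * conj (χ g) = 0 := by
      rcases mul_eq_zero.mp h1 with h3 | h3
      · exact absurd (inv_eq_zero.mp h3) hcard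
      · exact h3
    have h3 := congrArg conj h2
    simpa [map_sum] using h3
  have := eq_zero_of_forall_irr hf h0
  funext g
  have h4 := congrFun this g
  simpa using h4

omit [Fintype G] in
theorem isClassFunction_sum {ι : Type*} (s : Finset ι) (φ : ι → G → ℂ)
    (h : ∀ i ∈ s, IsClassFunction G (φ i)) : IsClassFunction G (∑ i ∈ s, φ i) := by
  intro g x
  simp only [Finset.sum_apply]
  exact Finset.sum_congr rfl (fun i hi => h i hi g x)

omit [Fintype G] in
theorem isClassFunction_smul (c : ℂ) {φ : G → ℂ} (h : IsClassFunction G φ) :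
    IsClassFunction G (c • φ) := by
  intro g x
  simp only [Pi.smul_apply, h g x]

omit [Fintype G] in
theorem isClassFunction_sub {φ ψ : G → ℂ} (h : IsClassFunction G φ) (h' : IsClassFunction G ψ) :
    IsClassFunction G (φ - ψ) := by
  intro g x
  simp only [Pi.sub_apply, h g x, h' g x]

theorem classFunction_eq_sum [Fintype (IrrCharacter G)] {ψ : G → ℂ} (hψ : IsClassFunction G ψ) :
    ψ = ∑ χ : IrrCharacter G, classInner ψ (χ : G → ℂ) • (χ : G → ℂ) := by
  classical
  rw [← sub_eq_zero]
  apply eq_zero_of_classInner_irr_eq_zero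
  · apply isClassFunction_sub hψ
    apply isClassFunction_sum
    intro χ _
    exact isClassFunction_smul _ (IsCharacter.isClassFunction (IsIrrCharacter.isCharacter χ.2))
  · intro χ hχ
    rw [classInner_sub_left, classInner_sum_left]
    rw [Finset.sum_eq_single (⟨χ, hχ⟩ : IrrCharacter G)]
    · rw [classInner_smul_left, classInner_irr hχ hχ, if_pos rfl, mul_one, sub_self]
    · intro i _ hi
      rw [classInner_smul_left, classInner_irr i.2 hχ, if_neg, mul_zero]
      intro h
      apply hi
      exact Subtype.ext h
    · intro h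
      exact absurd (Finset.mem_univ _) h

end Expand

end Cfsg.Agent.Lib.Helper3
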