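import Cfsg.Agent.Lib.Helper3.Ortho
set_option autoImplicit false

namespace Cfsg.Agent.Lib.Helper3

open Module
open scoped ComplexConjugate

section Mult

variable {G : Type*} [Group G] [Fintype G]

/-- The inner product of a character with the character of a representation `τ` is the dimension
of the space of intertwining maps. -/
theorem classInner_character_eq_finrank {V W : Type*} [AddCommGroup V] [Module ℂ V]
    [FiniteDimensional ℂ V] [AddCommGroup W] [Module ℂ W] [FiniteDimensional ℂ W]
    (ρ : Representation ℂ G V) (τ : Representation ℂ G W) :
    classInner ρ.character τ.character =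
      (Module.finrank ℂ (Representation.IntertwiningMap τ ρ) : ℂ) := by
  have hinv : Invertible (Nat.card G : ℂ) :=
    invertibleOfNonzero (by exact_mod_cast Nat.card_pos.ne')
  rw [← Representation.card_inv_mul_sum_char_mul_char_eq_finrank τ ρ]
  unfold classInner
  congr 1
  apply Finset.sum_congr rfl
  intro g _
  rw [character_inv τ g]

theorem exists_irr_classInner_ne_zero {χ : G → ℂ} (hχ : IsClassFunction G χ) (h0 : χ ≠ 0) :
    ∃ ψ : G → ℂ, IsIrrCharacter G ψ ∧ classInner χ ψ ≠ 0 := by
  by_contra hcon
  push Not at hcon
  exact h0 (eq_zero_of_classInner_irr_eq_zero hχ hcon)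

end Mult
section Glue

variable {k G V W : Type*} [Field k] [Group G] [AddCommGroup V] [Module k V]
  [AddCommGroup W] [Module k W]

theorem subrep_toRepresentation_apply {ρ : Representation k G V} (S : Subrepresentation ρ)
    (g : G) (v : S.toSubmodule) : ((S.toRepresentation g v : S.toSubmodule) : V) = ρ g v := rfl

/-- An injective intertwining map gives an equivalence onto its range. -/
noncomputable def equivRange {τ : Representation k G W} {ρ : Representation k G V}
    (f : Representation.IntertwiningMap τ ρ) (hf : Function.Injective f) :
    τ.Equiv f.range.toRepresentation :=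
  Representation.Equiv.mk (LinearEquiv.ofInjective f.toLinearMap hf) (fun g => by
    ext w
    exact f.isIntertwining τ ρ g w)

/-- Characters add over complementary subrepresentations. -/
theorem character_eq_add_of_isCompl [FiniteDimensional k V] {ρ : Representation k G V}
    (S S' : Subrepresentation ρ) (h : IsCompl S.toSubmodule S'.toSubmodule) (g : G) :
    ρ.character g = S.toRepresentation.character g + S'.toRepresentation.character g := by
  let e := Submodule.prodEquivOfIsCompl S.toSubmodule S'.toSubmodule h
  have h1 : ρ g = e.conj (LinearMap.prodMap (S.toRepresentation g) (S'.toRepresentation g)) := by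
    apply LinearMap.ext
    intro v
    obtain ⟨⟨a, b⟩, rfl⟩ := e.surjective v
    rw [LinearEquiv.conj_apply_apply, LinearEquiv.symm_apply_apply]
    simp only [e, Submodule.coe_prodEquivOfIsCompl', LinearMap.prodMap_apply, map_add]
    rfl
  unfold Representation.character
  rw [h1, LinearMap.trace_conj', LinearMap.trace_prodMap']

/-- Glue equivalences on complementary subrepresentations. -/
noncomputable def equivOfIsCompl {ρ : Representation k G V} {σ : Representation k G W}
    (S S' : Subrepresentation ρ) (T T' : Subrepresentation σ)
    (hS : IsCompl S.toSubmodule S'.toSubmodule) (hT : IsCompl T.toSubmodule T'.toSubmodule)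
    (e₁ : S.toRepresentation.Equiv T.toRepresentation)
    (e₂ : S'.toRepresentation.Equiv T'.toRepresentation) : ρ.Equiv σ :=
  Representation.Equiv.mk
    ((Submodule.prodEquivOfIsCompl S.toSubmodule S'.toSubmodule hS).symm ≪≫ₗ
      (e₁.toLinearEquiv.prodCongr e₂.toLinearEquiv) ≪≫ₗ
      (Submodule.prodEquivOfIsCompl T.toSubmodule T'.toSubmodule hT)) (fun g => by
    apply LinearMap.ext
    intro v
    obtain ⟨⟨a, b⟩, rfl⟩ := (Submodule.prodEquivOfIsCompl S.toSubmodule S'.toSubmodule hS).surjective v
    have h1 : ρ g ((Submodule.prodEquivOfIsCompl S.toSubmodule S'.toSubmodule hS) (a, b)) =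
        (Submodule.prodEquivOfIsCompl S.toSubmodule S'.toSubmodule hS)
          (S.toRepresentation g a, S'.toRepresentation g b) := by
      simp only [Submodule.coe_prodEquivOfIsCompl', map_add]
      rfl
    simp only [LinearMap.coe_comp, LinearEquiv.coe_coe, Function.comp_apply, LinearEquiv.trans_apply]
    rw [h1, LinearEquiv.symm_apply_apply, LinearEquiv.symm_apply_apply]
    simp only [LinearEquiv.prodCongr_apply, Submodule.coe_prodEquivOfIsCompl', map_add]
    have h2 : e₁.toLinearEquiv (S.toRepresentation g a) = T.toRepresentation g (e₁.toLinearEquiv a) :=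
      e₁.toIntertwiningMap.isIntertwining _ _ g a
    have h3 : e₂.toLinearEquiv (S'.toRepresentation g b) =
        T'.toRepresentation g (e₂.toLinearEquiv b) :=
      e₂.toIntertwiningMap.isIntertwining _ _ g b
    rw [h2, h3]
    rfl)

end Glue

section EquivOfChar

variable {G : Type*} [Group G] [Fintype G]

omit [Fintype G] in
theorem isCompl_toSubmodule {V : Type*} [AddCommGroup V] [Module ℂ V]
    {ρ : Representation ℂ G V} {S S' : Subrepresentation ρ} (h : IsCompl S S') :
    IsCompl S.toSubmodule S'.toSubmodule := by
  apply IsCompl.of_eq
  · have := h.inf_eq_bot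
    exact congrArg Subrepresentation.toSubmodule this
  · have := h.sup_eq_top
    exact congrArg Subrepresentation.toSubmodule this

universe u v in
theorem nonempty_equiv_of_character_eq_aux :
    ∀ (d : ℕ) (V : Type u) (W : Type v) [AddCommGroup V] [Module ℂ V] [FiniteDimensional ℂ V]
      [AddCommGroup W] [Module ℂ W] [FiniteDimensional ℂ W]
      (ρ : Representation ℂ G V) (σ : Representation ℂ G W),
      Module.finrank ℂ V = d → ρ.character = σ.character → Nonempty (ρ.Equiv σ) := by
  have hne : NeZero (Nat.card G : ℂ) := ⟨by exact_mod_cast Nat.card_pos.ne'⟩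
  intro d
  induction d using Nat.strong_induction_on with
  | _ d ih =>
    intro V W _ _ _ _ _ _ ρ σ hd hchar
    have hdW : Module.finrank ℂ W = d := by
      have h1 := congrFun hchar 1
      rw [Representation.char_one, Representation.char_one] at h1
      have h2 : Module.finrank ℂ V = Module.finrank ℂ W := by exact_mod_cast h1
      rw [← h2, hd]
    by_cases hV : Nontrivial V
    · have hd0 : d ≠ 0 := by
        rw [← hd]
        exact (Module.finrank_pos (R := ℂ) (M := V)).ne'
      have hχ0 : ρ.character ≠ 0 := by
        intro h0
        have h1 := congrFun h0 1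
        rw [Representation.char_one, hd, Pi.zero_apply] at h1
        apply hd0
        exact_mod_cast h1
      obtain ⟨ψ, hψ, hne0⟩ := exists_irr_classInner_ne_zero
        (IsCharacter.isClassFunction (isCharacter_character ρ)) hχ0
      obtain ⟨m, τ, hτ, rfl⟩ := hψ
      have hτV : Nontrivial (Fin m → ℂ) := ((isIrreducible_iff τ).mp hτ).1
      have hne1 : Module.finrank ℂ (Representation.IntertwiningMap τ ρ) ≠ 0 := by
        intro h0
        apply hne0
        rw [classInner_character_eq_finrank, h0]
        simp
      have hne2 : Module.finrank ℂ (Representation.IntertwiningMap τ σ) ≠ 0 := by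
        intro h0
        apply hne0
        rw [hchar, classInner_character_eq_finrank, h0]
        simp
      obtain ⟨f, hf⟩ := (Module.finrank_pos_iff_exists_ne_zero (R := ℂ)).mp
        (Nat.pos_of_ne_zero hne1)
      obtain ⟨f', hf'⟩ := (Module.finrank_pos_iff_exists_ne_zero (R := ℂ)).mp
        (Nat.pos_of_ne_zero hne2)
      have hfi : Function.Injective f :=
        (Representation.IsIrreducible.injective_or_eq_zero f).resolve_right hf
      have hfi' : Function.Injective f' :=
        (Representation.IsIrreducible.injective_or_eq_zero f').resolve_right hf'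
      obtain ⟨S', hS'⟩ := exists_isCompl f.range
      obtain ⟨T', hT'⟩ := exists_isCompl f'.range
      have hcS := isCompl_toSubmodule hS'
      have hcT := isCompl_toSubmodule hT'
      have e₁ : f.range.toRepresentation.Equiv f'.range.toRepresentation :=
        (equivRange f hfi).symm.trans (equivRange f' hfi')
      have hcharS' : S'.toRepresentation.character = T'.toRepresentation.character := by
        funext g
        have h1 := character_eq_add_of_isCompl f.range S' hcS g
        have h2 := character_eq_add_of_isCompl f'.range T' hcT g
        have h3 : f.range.toRepresentation.character g = f'.range.toRepresentation.character g :=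
          congrFun (Representation.char_iso e₁) g
        rw [hchar, h2, h3] at h1
        exact (add_left_cancel h1).symm
      have hlt : Module.finrank ℂ S'.toSubmodule < d := by
        have h1 := Submodule.finrank_add_eq_of_isCompl hcS
        have h2 : Module.finrank ℂ f.range.toSubmodule = Module.finrank ℂ (Fin m → ℂ) :=
          (LinearEquiv.ofInjective f.toLinearMap hfi).finrank_eq.symm
        have h3 : 0 < Module.finrank ℂ (Fin m → ℂ) := Module.finrank_pos
        omega
      obtain ⟨e₂⟩ := ih _ hlt S'.toSubmodule T'.toSubmodule S'.toRepresentation
        T'.toRepresentation rfl hcharS'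
      exact ⟨equivOfIsCompl f.range S' f'.range T' hcS hcT e₁ e₂⟩
    · rw [not_nontrivial_iff_subsingleton] at hV
      have hd0 : d = 0 := by
        rw [← hd]
        exact Module.finrank_zero_of_subsingleton
      have hW : Subsingleton W := by
        rw [hd0] at hdW
        exact Module.finrank_zero_iff.mp hdW
      refine ⟨Representation.Equiv.mk (LinearEquiv.ofSubsingleton V W) (fun g => ?_)⟩
      apply LinearMap.ext
      intro v
      exact Subsingleton.elim _ _

theorem nonempty_equiv_of_character_eq {V W : Type*} [AddCommGroup V] [Module ℂ V]
    [FiniteDimensional ℂ V] [AddCommGroup W] [Module ℂ W] [FiniteDimensional ℂ W]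
    (ρ : Representation ℂ G V) (σ : Representation ℂ G W) (h : ρ.character = σ.character) :
    Nonempty (ρ.Equiv σ) :=
  nonempty_equiv_of_character_eq_aux _ V W ρ σ rfl h

end EquivOfChar

end Cfsg.Agent.Lib.Helper3
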