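import Cfsg.Agent.Lib.Helper3.RepBasic
import Cfsg.Agent.Lib.Helper3.Eigen

set_option autoImplicit false

namespace Cfsg.Agent.Lib.Helper3

open Module
open scoped ComplexConjugate

section Char

variable {G : Type*} [Group G] {V : Type*} [AddCommGroup V] [Module ℂ V] [FiniteDimensional ℂ V]

/-- A finite dimensional representation transported to a coordinate space. -/
noncomputable def finRep (ρ : Representation ℂ G V) :
    Representation ℂ G (Fin (Module.finrank ℂ V) → ℂ) :=
  transportRep ρ (Module.finBasis ℂ V).equivFun

noncomputable def finRepEquiv (ρ : Representation ℂ G V) : ρ.Equiv (finRep ρ) :=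
  transportEquiv ρ _

theorem isCharacter_character (ρ : Representation ℂ G V) : IsCharacter G ρ.character :=
  ⟨Module.finrank ℂ V, finRep ρ, (Representation.char_iso (finRepEquiv ρ)).symm⟩

theorem isIrrCharacter_character (ρ : Representation ℂ G V) (h : ρ.IsIrreducible) :
    IsIrrCharacter G ρ.character :=
  ⟨Module.finrank ℂ V, finRep ρ, isIrreducible_of_equiv (finRepEquiv ρ) h,
    (Representation.char_iso (finRepEquiv ρ)).symm⟩

theorem IsIrrCharacter.isCharacter {χ : G → ℂ} (h : IsIrrCharacter G χ) : IsCharacter G χ := by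
  obtain ⟨n, ρ, _, h2⟩ := h
  exact ⟨n, ρ, h2⟩

theorem IsCharacter.isClassFunction {χ : G → ℂ} (h : IsCharacter G χ) : IsClassFunction G χ := by
  obtain ⟨n, ρ, rfl⟩ := h
  intro g x
  exact Representation.char_conj ρ g x

theorem IsCharacter.inv [Finite G] {χ : G → ℂ} (h : IsCharacter G χ) (g : G) :
    χ g⁻¹ = conj (χ g) := by
  obtain ⟨n, ρ, rfl⟩ := h
  exact character_inv ρ g

theorem classInner_irr [Fintype G] {χ ψ : G → ℂ} (hχ : IsIrrCharacter G χ)
    (hψ : IsIrrCharacter G ψ) : classInner χ ψ = if χ = ψ then 1 else 0 := by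
  classical
  obtain ⟨n, ρ, hρ, rfl⟩ := hχ
  obtain ⟨m, σ, hσ, rfl⟩ := hψ
  have hinv : Invertible (Nat.card G : ℂ) :=
    invertibleOfNonzero (by exact_mod_cast Nat.card_pos.ne')
  have key : ∀ {a b : ℕ} (α : Representation ℂ G (Fin a → ℂ)) (β : Representation ℂ G (Fin b → ℂ)),
      classInner α.character β.character =
        (Nat.card G : ℂ)⁻¹ * ∑ g : G, α.character g * β.character g⁻¹ := by
    intro a b α β
    unfold classInner
    congr 1
    apply Finset.sum_congr rfl
    intro g _
    rw [character_inv β g]
  rw [key, Representation.char_orthonormal ρ σ]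
  by_cases hne : Nonempty (σ.Equiv ρ)
  · obtain ⟨φ⟩ := hne
    rw [if_pos ⟨φ⟩, if_pos (Representation.char_iso φ).symm]
  · rw [if_neg hne, if_neg]
    intro heq
    have h1 := Representation.char_orthonormal ρ σ
    have h2 := Representation.char_orthonormal ρ ρ
    rw [if_neg hne] at h1
    rw [if_pos ⟨Representation.Equiv.refl ρ⟩, heq] at h2
    rw [heq] at h1
    rw [h1] at h2
    simp at h2

end Char
section Inner

variable {G : Type*} [Group G] [Fintype G]

theorem classInner_add_left (φ₁ φ₂ ψ : G → ℂ) :
    classInner (φ₁ + φ₂) ψ = classInner φ₁ ψ + classInner φ₂ ψ := by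
  simp only [classInner, Pi.add_apply, add_mul, Finset.sum_add_distrib, mul_add]

theorem classInner_sub_left (φ₁ φ₂ ψ : G → ℂ) :
    classInner (φ₁ - φ₂) ψ = classInner φ₁ ψ - classInner φ₂ ψ := by
  simp only [classInner, Pi.sub_apply, sub_mul, Finset.sum_sub_distrib, mul_sub]

theorem classInner_smul_left (c : ℂ) (φ ψ : G → ℂ) :
    classInner (c • φ) ψ = c * classInner φ ψ := by
  simp only [classInner, Pi.smul_apply, smul_eq_mul, Finset.mul_sum]
  apply Finset.sum_congr rfl
  intro g _
  ring

theorem classInner_zero_left (ψ : G → ℂ) : classInner (0 : G → ℂ) ψ = 0 := by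
  simp [classInner]

theorem classInner_sum_left {ι : Type*} (s : Finset ι) (φ : ι → G → ℂ) (ψ : G → ℂ) :
    classInner (∑ i ∈ s, φ i) ψ = ∑ i ∈ s, classInner (φ i) ψ := by
  classical
  induction s using Finset.induction_on with
  | empty => simp [classInner_zero_left]
  | insert a s ha ih => rw [Finset.sum_insert ha, Finset.sum_insert ha, classInner_add_left, ih]

theorem classInner_conj_symm (φ ψ : G → ℂ) : classInner φ ψ = conj (classInner ψ φ) := by
  simp only [classInner, map_mul, map_inv₀, map_natCast, map_sum, Complex.conj_conj]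
  congr 1
  apply Finset.sum_congr rfl
  intro g _
  ring

theorem classInner_add_right (φ ψ₁ ψ₂ : G → ℂ) :
    classInner φ (ψ₁ + ψ₂) = classInner φ ψ₁ + classInner φ ψ₂ := by
  rw [classInner_conj_symm, classInner_add_left, map_add, ← classInner_conj_symm,
    ← classInner_conj_symm]

theorem classInner_sub_right (φ ψ₁ ψ₂ : G → ℂ) :
    classInner φ (ψ₁ - ψ₂) = classInner φ ψ₁ - classInner φ ψ₂ := by
  rw [classInner_conj_symm, classInner_sub_left, map_sub, ← classInner_conj_symm,
    ← classInner_conj_symm]

theorem classInner_smul_right (c : ℂ) (φ ψ : G → ℂ) :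
    classInner φ (c • ψ) = conj c * classInner φ ψ := by
  rw [classInner_conj_symm, classInner_smul_left, map_mul, ← classInner_conj_symm]

theorem classInner_zero_right (φ : G → ℂ) : classInner φ (0 : G → ℂ) = 0 := by
  simp [classInner]

theorem classInner_sum_right {ι : Type*} (s : Finset ι) (φ : G → ℂ) (ψ : ι → G → ℂ) :
    classInner φ (∑ i ∈ s, ψ i) = ∑ i ∈ s, classInner φ (ψ i) := by
  classical
  induction s using Finset.induction_on with
  | empty => simp [classInner_zero_right]
  | insert a s ha ih => rw [Finset.sum_insert ha, Finset.sum_insert ha, classInner_add_right, ih]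

end Inner

section LinIndep

variable {G : Type*} [Group G]

theorem irrCharacter_linearIndependent [Finite G] :
    LinearIndependent ℂ (fun χ : IrrCharacter G => (χ : G → ℂ)) := by
  classical
  have := Fintype.ofFinite G
  rw [linearIndependent_iff']
  intro s c hc j hj
  have h1 := congrArg (fun f => classInner f (j : G → ℂ)) hc
  simp only [classInner_sum_left, classInner_smul_left, classInner_zero_left] at h1
  rw [Finset.sum_eq_single j] at h1
  · rw [classInner_irr j.2 j.2, if_pos rfl, mul_one] at h1
    exact h1
  · intro i _ hij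
    rw [classInner_irr i.2 j.2, if_neg (fun h => hij (Subtype.ext h)), mul_zero]
  · intro h
    exact absurd hj h

instance irrCharacter_finite [Finite G] : Finite (IrrCharacter G) := by
  have := Fintype.ofFinite G
  exact (irrCharacter_linearIndependent (G := G)).finite

end LinIndep


end Cfsg.Agent.Lib.Helper3
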