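import Cfsg.Agent.Lib.Helper3.Ortho
set_option autoImplicit false

namespace Cfsg.Agent.Lib.Helper3

open Module
open scoped ComplexConjugate

section Omega

variable {G : Type*} [Group G] [Fintype G]

theorem wsum_eq_smul_id_of_irreducible {V : Type*} [AddCommGroup V] [Module ℂ V]
    [FiniteDimensional ℂ V] (ρ : Representation ℂ G V) [hρ : ρ.IsIrreducible]
    {f : G → ℂ} (hf : IsClassFunction G f) :
    ∃ c : ℂ, wsum ρ f = c • LinearMap.id ∧
      c * (Module.finrank ℂ V : ℂ) = ∑ g : G, f g * ρ.character g := by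
  let T : Representation.IntertwiningMap ρ ρ := ⟨wsum ρ f, fun g => by
    ext v
    exact (wsum_comm ρ hf g v).symm⟩
  obtain ⟨c, hc⟩ :=
    (Representation.IsIrreducible.algebraMap_intertwiningMap_bijective_of_isAlgClosed (ρ := ρ)).2 T
  have hT : wsum ρ f = c • LinearMap.id := by
    have := congrArg Representation.IntertwiningMap.toLinearMap hc
    have h2 : T.toLinearMap = wsum ρ f := rfl
    rw [← h2, ← this]
    ext v
    simp
  refine ⟨c, hT, ?_⟩
  have htr := trace_wsum ρ f
  rw [hT, map_smul, LinearMap.trace_id, smul_eq_mul] at htr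
  exact htr

/-- Integrality of operators coming from the integral group ring. -/
theorem isIntegral_sum_int_smul {V : Type*} [AddCommGroup V] [Module ℂ V]
    (ρ : Representation ℂ G V) (a : G → ℤ) :
    IsIntegral ℤ (∑ g : G, (a g : ℂ) • ρ g : Module.End ℂ V) := by
  classical
  let φ : MonoidAlgebra ℤ G →ₐ[ℤ] Module.End ℂ V := MonoidAlgebra.lift ℤ (Module.End ℂ V) G ρ
  let z : MonoidAlgebra ℤ G := ∑ g : G, MonoidAlgebra.single g (a g)
  have hz : IsIntegral ℤ z := IsIntegral.of_finite ℤ z
  have hφ : φ z = ∑ g : G, (a g : ℂ) • ρ g := by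
    simp only [z, map_sum, φ]
    apply Finset.sum_congr rfl
    intro g _
    rw [MonoidAlgebra.lift_single]
    rw [← Int.cast_smul_eq_zsmul ℂ]
  rw [← hφ]
  exact IsIntegral.map (R := ℤ) (A := ℤ) φ hz


theorem sum_indicator_mul [DecidableEq G] (g : G) [DecidablePred (fun x : G => IsConj x g)]
    {χ : G → ℂ} (hχ : IsClassFunction G χ) :
    ∑ x : G, (if IsConj x g then (1 : ℂ) else 0) * χ x =
      ((Subgroup.centralizer ({g} : Set G)).index : ℂ) * χ g := by
  rw [← card_filter_isConj g]
  simp only [ite_mul, one_mul, zero_mul]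
  rw [← Finset.sum_filter]
  rw [Finset.sum_congr rfl (g := fun _ => χ g)]
  · simp
  · intro x hx
    simp only [Finset.mem_filter, Finset.mem_univ, true_and] at hx
    rw [IsClassFunction.eq_of_isConj hχ hx]

theorem isIntegral_omega {V : Type*} [AddCommGroup V] [Module ℂ V]
    [FiniteDimensional ℂ V] (ρ : Representation ℂ G V) [hρ : ρ.IsIrreducible] (g : G) :
    IsIntegral ℤ (((Subgroup.centralizer ({g} : Set G)).index : ℂ) * ρ.character g /
      (Module.finrank ℂ V : ℂ)) := by
  classical
  have hV : Nontrivial V := ((isIrreducible_iff ρ).mp hρ).1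
  have hfin : (Module.finrank ℂ V : ℂ) ≠ 0 := by
    exact_mod_cast (Module.finrank_pos (R := ℂ) (M := V)).ne'
  obtain ⟨c, hc1, hc2⟩ := wsum_eq_smul_id_of_irreducible ρ (isClassFunction_indicator g)
  rw [sum_indicator_mul g (IsCharacter.isClassFunction (isCharacter_character ρ))] at hc2
  have hceq : ((Subgroup.centralizer ({g} : Set G)).index : ℂ) * ρ.character g /
      (Module.finrank ℂ V : ℂ) = c := by
    rw [← hc2]
    field_simp
  rw [hceq]
  have hint := isIntegral_sum_int_smul ρ (fun x => if IsConj x g then (1 : ℤ) else 0)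
  have hsum : (∑ x : G, (((if IsConj x g then (1 : ℤ) else 0 : ℤ)) : ℂ) • ρ x : Module.End ℂ V) =
      algebraMap ℂ (Module.End ℂ V) c := by
    rw [Module.algebraMap_end_eq_smul_id, ← hc1]
    unfold wsum
    apply Finset.sum_congr rfl
    intro x _
    by_cases hx : IsConj x g
    · simp only [if_pos hx]
      simp
    · simp only [if_neg hx]
      simp
  rw [hsum] at hint
  have hinj : Function.Injective (algebraMap ℂ (Module.End ℂ V)) :=
    FaithfulSMul.algebraMap_injective ℂ (Module.End ℂ V)
  exact (isIntegral_algebraMap_iff hinj).mp hint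

end Omega

end Cfsg.Agent.Lib.Helper3
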