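import Cfsg.Agent.Lib.Helper3.OddOrder

set_option autoImplicit false

namespace Cfsg.Agent.Lib.Helper3

open Module
open scoped ComplexConjugate

section Perm

variable {G : Type*} [Group G] {X : Type*} [MulAction G X]

theorem ofMulAction_character [Fintype X] [DecidableEq X] (g : G) :
    (Representation.ofMulAction ℂ G X).character g =
      (Fintype.card (MulAction.fixedBy X g) : ℂ) := by
  rw [Representation.character, LinearMap.trace_eq_matrix_trace ℂ (MonoidAlgebra.basis X ℂ),
    Matrix.trace]
  simp only [Matrix.diag_apply, LinearMap.toMatrix_apply, MonoidAlgebra.basis_apply,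
    Representation.ofMulAction_single]
  rw [Fintype.card_subtype, Finset.card_filter]
  push_cast
  apply Finset.sum_congr rfl
  intro x _
  simp [MonoidAlgebra.basis, Finsupp.single_apply, MulAction.mem_fixedBy]

/-- Embeddings fixed by `g` are embeddings into the fixed points. -/
def fixedByEmbeddingEquiv (n : ℕ) (g : G) :
    MulAction.fixedBy (Fin n ↪ X) g ≃ (Fin n ↪ MulAction.fixedBy X g) where
  toFun f := ⟨fun i => ⟨f.1 i, by
      have := congrArg (fun e : Fin n ↪ X => e i) f.2
      simpa using this⟩, fun i j h => f.1.injective (congrArg Subtype.val h)⟩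
  invFun e := ⟨e.trans (Function.Embedding.subtype _), by
      ext i
      exact (e i).2⟩
  left_inv f := by
    ext i
    rfl
  right_inv e := by
    ext i
    rfl

theorem card_fixedBy_embedding_two [Fintype X] [DecidableEq X] (g : G) :
    Fintype.card (MulAction.fixedBy (Fin 2 ↪ X) g) =
      Fintype.card (MulAction.fixedBy X g) * (Fintype.card (MulAction.fixedBy X g) - 1) := by
  rw [Fintype.card_congr (fixedByEmbeddingEquiv 2 g), Fintype.card_embedding_eq, Fintype.card_fin]
  simp [Nat.descFactorial]
  ring

end Perm

end Cfsg.Agent.Lib.Helper3
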