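import Mathlib
import Cfsg.Agent.Lib.Helper97.Zass
import Cfsg.Agent.Lib.Helper97.Zass2
import Cfsg.Agent.Lib.Helper78.TwoFrob1
import Cfsg.Agent.Lib.Helper35.FrobeniusMod
import Cfsg.Agent.S0878
import Cfsg.Agent.S0879
import Cfsg.Agent.S0880

set_option autoImplicit false
set_option linter.style.haveILetI false
set_option linter.unusedSectionVars false

/-! Zassenhaus groups whose two point stabiliser `E` has odd order, `G` simple:
`E` is inverted by every involution interchanging the two points (transfer into `E / foc(E)`,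
plus the structure of Z-groups). -/

namespace Cfsg.Agent.Lib.Helper3.ZassOdd

open Cfsg MulAction
open Cfsg.Agent.Lib.Helper97.Zass
open scoped commutatorElement

variable {G Ω : Type*} [Group G] [MulAction G Ω]

/-- the two point stabiliser -/
abbrev twoStab (G : Type*) {Ω : Type*} [Group G] [MulAction G Ω] (a b : Ω) : Subgroup G :=
  stabilizer G a ⊓ stabilizer G b

theorem mem_twoStab {a b : Ω} {x : G} : x ∈ twoStab G a b ↔ x • a = a ∧ x • b = b := by
  rw [Subgroup.mem_inf, mem_stabilizer_iff, mem_stabilizer_iff]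

theorem exists_ne_one_mem_twoStab (hy : Hyp G Ω) {a b : Ω} (hab : a ≠ b) :
    ∃ x ∈ twoStab G a b, x ≠ 1 := by
  obtain ⟨g, hg1, c, d, hcd, hgc, hgd⟩ := hy.h4
  obtain ⟨x, hxc, hxd⟩ := hy.h2 hcd hab
  refine ⟨x * g * x⁻¹, ?_, ?_⟩
  · rw [mem_twoStab]
    constructor
    · rw [mul_smul, mul_smul, ← hxc, inv_smul_smul, hgc]
    · rw [mul_smul, mul_smul, ← hxd, inv_smul_smul, hgd]
  · intro h
    apply hg1
    calc g = x⁻¹ * (x * g * x⁻¹) * x := by group
      _ = 1 := by rw [h]; group

/-- the two point stabiliser, as a subgroup of the point stabiliser -/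
def twoStabEquiv (a b : Ω) : twoStab G a b ≃* stabilizer (stabilizer G a) b where
  toFun x := ⟨⟨x.1, (mem_twoStab.mp x.2).1⟩, (mem_twoStab.mp x.2).2⟩
  invFun y := ⟨y.1.1, mem_twoStab.mpr ⟨y.1.2, y.2⟩⟩
  left_inv _ := rfl
  right_inv _ := rfl
  map_mul' _ _ := rfl

theorem isZGroup_twoStab [Finite G] (hy : Hyp G Ω) {a b : Ω} (hab : a ≠ b)
    (hodd : Odd (Nat.card (twoStab G a b))) : IsZGroup (twoStab G a b) := by
  have hC := frob_compl hy a b (Ne.symm hab)
  obtain ⟨N, hN, -, -⟩ := Cfsg.Agent.Lib.Helper96.frobenius_kernel_subgroup _ hC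
  have hcard : Nat.card (stabilizer (stabilizer G a) b) = Nat.card (twoStab G a b) :=
    Nat.card_congr (twoStabEquiv (G := G) a b).symm.toEquiv
  haveI : IsZGroup (stabilizer (stabilizer G a) b) := by
    refine ⟨fun p hp P => ?_⟩
    haveI := Fact.mk hp
    rcases Cfsg.Agent.Lib.Helper78.TwoFrob.sylow_cyclic_or_quaternion hC hN p P with h | ⟨n, ⟨e⟩⟩
    · exact h
    · exfalso
      have h1 : Nat.card P = 4 * 2 ^ n := by
        rw [Nat.card_congr e.toEquiv]
        haveI : NeZero (2 ^ n) := ⟨by positivity⟩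
        rw [Nat.card_eq_fintype_card, QuaternionGroup.card]
      have h2 : Nat.card P ∣ Nat.card (stabilizer (stabilizer G a) b) :=
        Subgroup.card_subgroup_dvd_card _
      rw [hcard, h1] at h2
      have h3 : 2 ∣ Nat.card (twoStab G a b) := Dvd.dvd.trans ⟨2 * 2 ^ n, by ring⟩ h2
      rw [← Nat.not_even_iff_odd] at hodd
      exact hodd (even_iff_two_dvd.mpr h3)
  exact IsZGroup.of_injective (f := (twoStabEquiv (G := G) a b).toMonoidHom)
    (twoStabEquiv (G := G) a b).injective


/-- `G` is perfect. -/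
theorem commutator_eq_top (hy : Hyp G Ω) [IsSimpleGroup G] : commutator G = ⊤ := by
  rcases IsSimpleGroup.eq_bot_or_eq_top_of_normal (commutator G) inferInstance with h | h
  · exfalso
    have hcomm : ∀ x y : G, x * y = y * x := by
      intro x y
      have h1 : ⁅x, y⁆ ∈ commutator G := by
        rw [commutator_def]
        exact Subgroup.commutator_mem_commutator (Subgroup.mem_top x) (Subgroup.mem_top y)
      rw [h, Subgroup.mem_bot, commutatorElement_eq_one_iff_mul_comm] at h1
      exact h1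
    obtain ⟨a, b, c, hab, hbc, hac⟩ := hy.three
    obtain ⟨x, hx, hx1⟩ := exists_ne_one_mem_twoStab hy hab
    apply hx1
    apply hy.faith
    intro d
    by_cases hda : d = a
    · rw [hda]; exact (mem_twoStab.mp hx).1
    · obtain ⟨d', hd'⟩ := exists_ne hy d
      obtain ⟨g, hga, -⟩ := hy.h2 hab (Ne.symm hd')
      rw [← hga, ← mul_smul, hcomm x g, mul_smul, (mem_twoStab.mp hx).1]
  · exact h

section cards

variable [Fintype Ω]

/-- `|G| = e (n-1) n`. -/
theorem card_eq [Finite G] (hy : Hyp G Ω) {a b : Ω} (hab : a ≠ b) :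
    Nat.card G = Nat.card (twoStab G a b) * (Fintype.card Ω - 1) * Fintype.card Ω := by
  classical
  have := Fintype.ofFinite G
  obtain ⟨x, y, z, hxy, hyz, hxz⟩ := hy.three
  have h3 : 3 ≤ Fintype.card Ω := by
    have : 2 < Fintype.card Ω := Fintype.two_lt_card_iff.mpr ⟨x, y, z, hxy, hxz, hyz⟩
    omega
  obtain ⟨m, hm⟩ : ∃ m, Fintype.card Ω = m + 3 := ⟨Fintype.card Ω - 3, by omega⟩
  obtain ⟨-, h2⟩ := Cfsg.Agent.S0880.count hy hab m hm
  have he : Nat.card ↥(twoStab G a b) =
      (Finset.univ.filter (fun x : G => x • a = a ∧ x • b = b)).card := by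
    rw [← Fintype.card_subtype, ← Nat.card_eq_fintype_card]
    apply Nat.card_congr
    apply Equiv.subtypeEquivRight
    intro x
    exact mem_twoStab
  rw [Nat.card_eq_fintype_card, h2, he, hm]
  have : m + 3 - 1 = m + 2 := by omega
  rw [this]

/-- `|G_a| = e (n-1)`. -/
theorem card_stabilizer_eq [Finite G] (hy : Hyp G Ω) {a b : Ω} (hab : a ≠ b) :
    Nat.card (stabilizer G a) = Nat.card (twoStab G a b) * (Fintype.card Ω - 1) := by
  classical
  have := Fintype.ofFinite G
  have hpt : MulAction.IsPretransitive G Ω := by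
    refine ⟨fun c d => ?_⟩
    by_cases hcd : c = d
    · exact ⟨1, by rw [one_smul, hcd]⟩
    · obtain ⟨c', hc'⟩ := exists_ne hy c
      obtain ⟨d', hd'⟩ := exists_ne hy d
      obtain ⟨g', hg'c, -⟩ := hy.h2 (Ne.symm hc') (Ne.symm hd')
      exact ⟨g', hg'c⟩
  have h1 := Subgroup.card_mul_index (stabilizer G a)
  rw [MulAction.index_stabilizer_of_transitive, Nat.card_eq_fintype_card (α := Ω),
    card_eq hy hab] at h1
  have hpos : 0 < Fintype.card Ω := Fintype.card_pos_iff.mpr ⟨a⟩
  exact Nat.eq_of_mul_eq_mul_right hpos h1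

/-- `n - 1 ≡ 1 mod e`. -/
theorem card_sub_one_mod [Finite G] (hy : Hyp G Ω) {a b : Ω} (hab : a ≠ b) :
    (Fintype.card Ω - 1) % Nat.card (twoStab G a b) = 1 % Nat.card (twoStab G a b) := by
  have hC := frob_compl hy a b (Ne.symm hab)
  have h1 := Cfsg.Agent.Lib.Helper35.index_mod_card hC
  have hcard : Nat.card (stabilizer (stabilizer G a) b) = Nat.card (twoStab G a b) :=
    Nat.card_congr (twoStabEquiv (G := G) a b).symm.toEquiv
  have h2 := Subgroup.card_mul_index (stabilizer (stabilizer G a) b)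
  rw [hcard, card_stabilizer_eq hy hab] at h2
  have hpos : 0 < Nat.card (twoStab G a b) := Nat.card_pos
  have h3 : (stabilizer (stabilizer G a) b).index = Fintype.card Ω - 1 :=
    Nat.eq_of_mul_eq_mul_left hpos h2
  rw [h3, hcard] at h1
  exact h1

/-- `E` is a Hall subgroup of `G`. -/
theorem coprime_card_index [Finite G] (hy : Hyp G Ω) {a b : Ω} (hab : a ≠ b)
    (hodd : Odd (Nat.card (twoStab G a b))) :
    (Nat.card (twoStab G a b)).Coprime (twoStab G a b).index := by
  have h1 := Subgroup.card_mul_index (twoStab G a b)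
  rw [card_eq hy hab, mul_assoc] at h1
  have hpos : 0 < Nat.card (twoStab G a b) := Nat.card_pos
  have h2 : (twoStab G a b).index = (Fintype.card Ω - 1) * Fintype.card Ω :=
    Nat.eq_of_mul_eq_mul_left hpos h1
  rw [h2]
  have hm := card_sub_one_mod hy hab
  set e := Nat.card (twoStab G a b) with he
  obtain ⟨x, y, z, hxy, hyz, hxz⟩ := hy.three
  have h3 : 3 ≤ Fintype.card Ω := by
    have : 2 < Fintype.card Ω := Fintype.two_lt_card_iff.mpr ⟨x, y, z, hxy, hxz, hyz⟩
    omega
  obtain ⟨n, hn⟩ : ∃ n, Fintype.card Ω = n + 1 := ⟨Fintype.card Ω - 1, by omega⟩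
  rw [hn] at hm ⊢
  have hn1 : n + 1 - 1 = n := by omega
  rw [hn1] at hm ⊢
  have hc1 : Nat.Coprime e n := by
    have : Nat.gcd n e = Nat.gcd 1 e := Nat.ModEq.gcd_eq hm
    rw [Nat.Coprime, Nat.gcd_comm, this, Nat.gcd_one_left]
  have hc2 : Nat.Coprime e (n + 1) := by
    have hm2 : (n + 1) % e = (1 + 1) % e := Nat.ModEq.add_right 1 hm
    have : Nat.gcd (n + 1) e = Nat.gcd 2 e := Nat.ModEq.gcd_eq hm2
    rw [Nat.Coprime, Nat.gcd_comm, this]
    exact (Nat.coprime_two_left.mpr hodd)
  exact Nat.Coprime.mul_right hc1 hc2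

end cards


section main

variable [Finite G] [Fintype Ω]

/-- transfer: every element of `E` lies in the focal subgroup of `E` -/
theorem le_focalSubgroup (hy : Hyp G Ω) [IsSimpleGroup G] {a b : Ω} (hab : a ≠ b)
    (hodd : Odd (Nat.card (twoStab G a b))) :
    twoStab G a b ≤ (twoStab G a b).focalSubgroup := by
  intro x hx
  have hperf := commutator_eq_top (G := G) hy
  have hker : commutator G ≤ (twoStab G a b).transferFocal.ker := by
    rw [commutator_def, Subgroup.commutator_le]
    intro g₁ _ g₂ _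
    rw [MonoidHom.mem_ker, map_commutatorElement, commutatorElement_eq_one_iff_mul_comm]
    exact IsMulCommutative.is_comm.comm _ _
  have h1 : (twoStab G a b).transferFocal x = 1 := by
    have : x ∈ (twoStab G a b).transferFocal.ker := hker (by rw [hperf]; exact Subgroup.mem_top x)
    exact this
  have h2 := (twoStab G a b).transferFocal_eq_pow ⟨x, hx⟩
  rw [h1] at h2
  have h4 : ((⟨x, hx⟩ : twoStab G a b) : twoStab G a b ⧸ (twoStab G a b).focalSubgroupOf) ^
      Nat.card (twoStab G a b) = 1 := by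
    rw [← QuotientGroup.mk_pow, pow_card_eq_one', QuotientGroup.mk_one]
  have h5 : orderOf ((⟨x, hx⟩ : twoStab G a b) : twoStab G a b ⧸ (twoStab G a b).focalSubgroupOf)
      = 1 := by
    have d1 := orderOf_dvd_of_pow_eq_one h2.symm
    have d2 := orderOf_dvd_of_pow_eq_one h4
    have := Nat.dvd_gcd d2 d1
    rw [coprime_card_index hy hab hodd] at this
    exact Nat.dvd_one.mp this
  rw [orderOf_eq_one_iff, QuotientGroup.eq_one_iff, Subgroup.focalSubgroupOf_def,
    Subgroup.mem_subgroupOf] at h5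
  exact h5

theorem focal_gen_mem {a b : Ω}
    (hTI : ∀ g : G, g ∉ Subgroup.normalizer ((twoStab G a b : Subgroup G) : Set G) →
      ∀ x ∈ twoStab G a b, g * x * g⁻¹ ∈ twoStab G a b → x = 1)
    {x u : G} (hx : x ∈ twoStab G a b) (hg : ⁅x, u⁆ ∈ twoStab G a b) :
    x = 1 ∨ u ∈ Subgroup.normalizer ((twoStab G a b : Subgroup G) : Set G) := by
  by_cases hu : u ∈ Subgroup.normalizer ((twoStab G a b : Subgroup G) : Set G)
  · exact Or.inr hu
  · left
    have h1 : u * x⁻¹ * u⁻¹ ∈ twoStab G a b := by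
      have : u * x⁻¹ * u⁻¹ = x⁻¹ * ⁅x, u⁆ := by
        rw [commutatorElement_def]; group
      rw [this]
      exact Subgroup.mul_mem _ (Subgroup.inv_mem _ hx) hg
    have := hTI u hu x⁻¹ (Subgroup.inv_mem _ hx) h1
    exact inv_eq_one.mp this

theorem focal_le_commutator_normalizer {a b : Ω}
    (hTI : ∀ g : G, g ∉ Subgroup.normalizer ((twoStab G a b : Subgroup G) : Set G) →
      ∀ x ∈ twoStab G a b, g * x * g⁻¹ ∈ twoStab G a b → x = 1) :
    (twoStab G a b).focalSubgroup ≤
      ⁅Subgroup.normalizer ((twoStab G a b : Subgroup G) : Set G),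
        Subgroup.normalizer ((twoStab G a b : Subgroup G) : Set G)⁆ := by
  rw [Subgroup.focalSubgroup_def, Subgroup.closure_le]
  rintro g ⟨hg, x, hx, u, rfl⟩
  rcases focal_gen_mem hTI hx hg with h | h
  · rw [h, commutatorElement_one_left]
    exact Subgroup.one_mem _
  · exact Subgroup.commutator_mem_commutator (Subgroup.le_normalizer hx) h


/-- the normaliser of `E` is a Z-group -/
theorem isZGroup_normalizer (hZ : Cfsg.IsZassenhausGroup G Ω) {a b : Ω} (hab : a ≠ b)
    (hodd : Odd (Nat.card (twoStab G a b))) :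
    IsZGroup (Subgroup.normalizer ((twoStab G a b : Subgroup G) : Set G)) := by
  have hy := hyp_of_zass hZ
  have hind := (Cfsg.Agent.S0879.result hZ hab).2
  haveI := isZGroup_twoStab hy hab hodd
  haveI hn : ((twoStab G a b).subgroupOf
      (Subgroup.normalizer ((twoStab G a b : Subgroup G) : Set G))).Normal :=
    Subgroup.normal_in_normalizer
  have hcard : Nat.card (Subgroup.normalizer ((twoStab G a b : Subgroup G) : Set G) ⧸
      (twoStab G a b).subgroupOf (Subgroup.normalizer ((twoStab G a b : Subgroup G) : Set G)))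
      = 2 := by
    rw [← Subgroup.index_eq_card]; exact hind
  haveI : IsCyclic (Subgroup.normalizer ((twoStab G a b : Subgroup G) : Set G) ⧸
      (twoStab G a b).subgroupOf (Subgroup.normalizer ((twoStab G a b : Subgroup G) : Set G))) := by
    haveI : Fact (Nat.Prime 2) := ⟨Nat.prime_two⟩
    exact isCyclic_of_prime_card hcard
  refine isZGroup_of_coprime (G := twoStab G a b)
    (f := Subgroup.inclusion (Subgroup.le_normalizer))
    (f' := QuotientGroup.mk' ((twoStab G a b).subgroupOf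
      (Subgroup.normalizer ((twoStab G a b : Subgroup G) : Set G)))) ?_ ?_
  · rw [QuotientGroup.ker_mk', Subgroup.inclusion_range]
  · rw [hcard]
    exact Nat.coprime_two_right.mpr hodd

/-- `E` is abelian. -/
theorem twoStab_comm (hZ : Cfsg.IsZassenhausGroup G Ω) [IsSimpleGroup G] {a b : Ω} (hab : a ≠ b)
    (hodd : Odd (Nat.card (twoStab G a b))) :
    ∀ x ∈ twoStab G a b, ∀ y ∈ twoStab G a b, x * y = y * x := by
  have hy := hyp_of_zass hZ
  have hTI := (Cfsg.Agent.S0879.result hZ hab).1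
  haveI := isZGroup_normalizer hZ hab hodd
  have hle : twoStab G a b ≤ ⁅Subgroup.normalizer ((twoStab G a b : Subgroup G) : Set G),
      Subgroup.normalizer ((twoStab G a b : Subgroup G) : Set G)⁆ :=
    (le_focalSubgroup hy hab hodd).trans (focal_le_commutator_normalizer hTI)
  have hcyc : IsCyclic (commutator (Subgroup.normalizer ((twoStab G a b : Subgroup G) : Set G))) :=
    IsZGroup.isCyclic_commutator _
  letI := hcyc.commGroup
  intro x hx y hy'
  have hx' := hle hx
  have hy'' := hle hy'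
  rw [← Subgroup.map_subtype_commutator, Subgroup.mem_map] at hx' hy''
  obtain ⟨x', hx'c, rfl⟩ := hx'
  obtain ⟨y', hy'c, rfl⟩ := hy''
  have h1 := mul_comm (⟨x', hx'c⟩ : commutator (Subgroup.normalizer
    ((twoStab G a b : Subgroup G) : Set G))) ⟨y', hy'c⟩
  have h2 : x' * y' = y' * x' := congrArg Subtype.val h1
  have h3 : ((x' * y' : Subgroup.normalizer ((twoStab G a b : Subgroup G) : Set G)) : G) =
      ((y' * x' : Subgroup.normalizer ((twoStab G a b : Subgroup G) : Set G)) : G) := by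
    rw [h2]
  exact h3


/-- the elements of an abelian subgroup `E` inverted by `t` -/
def invSub (t : G) (E : Subgroup G) (hE : ∀ x ∈ E, ∀ y ∈ E, x * y = y * x) : Subgroup G where
  carrier := {x | x ∈ E ∧ t * x * t⁻¹ = x⁻¹}
  mul_mem' := by
    rintro x y ⟨hx, hx'⟩ ⟨hy, hy'⟩
    refine ⟨E.mul_mem hx hy, ?_⟩
    calc t * (x * y) * t⁻¹ = (t * x * t⁻¹) * (t * y * t⁻¹) := by group
      _ = x⁻¹ * y⁻¹ := by rw [hx', hy']
      _ = (y * x)⁻¹ := by rw [mul_inv_rev]
      _ = (x * y)⁻¹ := by rw [hE x hx y hy]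
  one_mem' := ⟨E.one_mem, by group⟩
  inv_mem' := by
    rintro x ⟨hx, hx'⟩
    refine ⟨E.inv_mem hx, ?_⟩
    calc t * x⁻¹ * t⁻¹ = (t * x * t⁻¹)⁻¹ := by group
      _ = (x⁻¹)⁻¹ := by rw [hx']

/-- **Key lemma**: an involution interchanging `a` and `b` inverts the two point stabiliser. -/
theorem conj_eq_inv (hZ : Cfsg.IsZassenhausGroup G Ω) [IsSimpleGroup G] {a b : Ω} (hab : a ≠ b)
    (hodd : Odd (Nat.card (twoStab G a b))) {t : G} (hta : t • a = b) (htb : t • b = a)
    (ht : t * t = 1) : ∀ y ∈ twoStab G a b, t * y * t⁻¹ = y⁻¹ := by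
  have hy := hyp_of_zass hZ
  have hTI := (Cfsg.Agent.S0879.result hZ hab).1
  have hcomm := twoStab_comm hZ hab hodd
  have htinv : t⁻¹ = t := inv_eq_of_mul_eq_one_left ht
  obtain ⟨x₀, hx₀, hx₀1⟩ := exists_ne_one_mem_twoStab hy hab
  have hle : (twoStab G a b).focalSubgroup ≤ invSub t (twoStab G a b) hcomm := by
    rw [Subgroup.focalSubgroup_def, Subgroup.closure_le]
    rintro g ⟨hg, x, hx, u, rfl⟩
    rcases focal_gen_mem hTI hx hg with h | h
    · rw [h, commutatorElement_one_left]
      exact Subgroup.one_mem _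
    · have hpres := Cfsg.Agent.S0879.preserve_of_conj_mem hy.h3 hab hx₀1 hx₀
        ((Subgroup.mem_normalizer_iff.mp h x₀).mp hx₀)
      rcases hpres with ⟨hua, hub⟩ | ⟨hua, hub⟩
      · have hu : u ∈ twoStab G a b := mem_twoStab.mpr ⟨hua, hub⟩
        have : ⁅x, u⁆ = 1 := by
          rw [commutatorElement_eq_one_iff_mul_comm]; exact hcomm x hx u hu
        rw [this]; exact Subgroup.one_mem _
      · have hx' : t⁻¹ * u ∈ twoStab G a b := by
          rw [mem_twoStab, mul_smul, mul_smul, hua, hub, htinv, htb, hta]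
          exact ⟨rfl, rfl⟩
        have hxinv := Subgroup.inv_mem _ hx
        have hc : (t⁻¹ * u) * x⁻¹ * (t⁻¹ * u)⁻¹ = x⁻¹ := by
          rw [hcomm _ hx' _ hxinv]; group
        have hw : ⁅x, u⁆ = x * t * x⁻¹ * t⁻¹ := by
          rw [commutatorElement_def]
          calc x * u * x⁻¹ * u⁻¹ = x * t * ((t⁻¹ * u) * x⁻¹ * (t⁻¹ * u)⁻¹) * t⁻¹ := by group
            _ = x * t * x⁻¹ * t⁻¹ := by rw [hc]
        refine ⟨hg, ?_⟩
        rw [hw, htinv]
        calc t * (x * t * x⁻¹ * t) * t = t * x * t * x⁻¹ * (t * t) := by group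
          _ = t * x * t * x⁻¹ := by rw [ht, mul_one]
          _ = (x * t * x⁻¹ * t)⁻¹ := by
            rw [mul_inv_rev, mul_inv_rev, mul_inv_rev, inv_inv, htinv]; group
  intro y hy'
  exact (hle (le_focalSubgroup hy hab hodd hy')).2

end main

end Cfsg.Agent.Lib.Helper3.ZassOdd
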