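import Mathlib
import Cfsg.Agent.Lib.Helper3.ZassInv

set_option autoImplicit false
set_option linter.style.haveILetI false
set_option linter.unusedSectionVars false

/-! Counting involutions in a simple Zassenhaus group with two point stabiliser of odd order. -/

namespace Cfsg.Agent.Lib.Helper3.ZassOdd

open Cfsg MulAction
open Cfsg.Agent.Lib.Helper97.Zass

variable {G Ω : Type*} [Group G] [MulAction G Ω] [Fintype Ω]

theorem three_le_card (hy : Hyp G Ω) : 3 ≤ Fintype.card Ω := by
  obtain ⟨x, y, z, hxy, hyz, hxz⟩ := hy.three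
  have : 2 < Fintype.card Ω := Fintype.two_lt_card_iff.mpr ⟨x, y, z, hxy, hxz, hyz⟩
  omega

theorem card_twoStab_eq_of_ne [Finite G] (hy : Hyp G Ω) {a b c d : Ω} (hab : a ≠ b)
    (hcd : c ≠ d) : Nat.card (twoStab G c d) = Nat.card (twoStab G a b) := by
  have h1 := card_eq hy hab
  have h2 := card_eq hy hcd
  have h3 := three_le_card hy
  rw [h1, mul_assoc, mul_assoc] at h2
  have hpos : 0 < (Fintype.card Ω - 1) * Fintype.card Ω := Nat.mul_pos (by omega) (by omega)
  exact (Nat.eq_of_mul_eq_mul_right hpos h2).symm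

theorem pow_odd_smul {g : G} {c d : Ω} (hgc : g • c = d) (hgd : g • d = c) (k : ℕ) :
    g ^ (2 * k + 1) • c = d ∧ g ^ (2 * k + 1) • d = c := by
  induction k with
  | zero => simpa using ⟨hgc, hgd⟩
  | succ k ih =>
    have : g ^ (2 * (k + 1) + 1) = g ^ (2 * k + 1) * g * g := by
      rw [mul_assoc, ← pow_two, ← pow_add]
      congr 1
    rw [this]
    constructor
    · rw [mul_smul, mul_smul, hgc, hgd]; exact ih.1
    · rw [mul_smul, mul_smul, hgd, hgc]; exact ih.2

/-- every element interchanging two points is an involution -/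
theorem swap_mul_self [Finite G] (hZ : Cfsg.IsZassenhausGroup G Ω) [IsSimpleGroup G] {c d : Ω}
    (hcd : c ≠ d) (hodd : Odd (Nat.card (twoStab G c d))) {g : G} (hgc : g • c = d)
    (hgd : g • d = c) : g * g = 1 := by
  obtain ⟨k, hk⟩ := hodd
  have hgg : g * g ∈ twoStab G c d := by
    rw [mem_twoStab, mul_smul, mul_smul, hgc, hgd, hgc]
    exact ⟨rfl, rfl⟩
  have hpow : (g * g) ^ (2 * k + 1) = 1 := by
    have h1 : (⟨g * g, hgg⟩ : twoStab G c d) ^ Nat.card (twoStab G c d) = 1 := pow_card_eq_one'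
    have h2 := congrArg Subtype.val h1
    rw [Subgroup.coe_pow, hk] at h2
    exact h2
  set t := g ^ (2 * k + 1) with ht
  have htt : t * t = 1 := by
    rw [ht, ← (Commute.refl g).mul_pow]; exact hpow
  obtain ⟨htc, htd⟩ := pow_odd_smul hgc hgd k
  rw [← ht] at htc htd
  have htinv : t⁻¹ = t := inv_eq_of_mul_eq_one_left htt
  have hy' : t⁻¹ * g ∈ twoStab G c d := by
    rw [mem_twoStab, mul_smul, mul_smul, hgc, hgd, htinv, htc, htd]
    exact ⟨rfl, rfl⟩
  have hinv := conj_eq_inv hZ hcd (by rw [hk]; exact ⟨k, rfl⟩) htc htd htt _ hy'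
  rw [htinv] at hinv
  calc g * g = (t * (t * g) * t) * (t * g) := by
        have : t * (t * g) = g := by rw [← mul_assoc, htt, one_mul]
        rw [this, mul_assoc g t, ← mul_assoc t t, htt, one_mul]
    _ = 1 := by rw [hinv, inv_mul_cancel]

theorem inv_fix_unique [Finite G] {c d : Ω} (hodd : Odd (Nat.card (twoStab G c d))) {x : G}
    (hx1 : x ≠ 1) (hx2 : x * x = 1) (hc : x • c = c) (hd : x • d = d) : False := by
  have hx : x ∈ twoStab G c d := mem_twoStab.mpr ⟨hc, hd⟩
  haveI : Fact (Nat.Prime 2) := ⟨Nat.prime_two⟩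
  have ho : orderOf x = 2 := orderOf_eq_prime (by rw [pow_two]; exact hx2) hx1
  have h1 : orderOf (⟨x, hx⟩ : twoStab G c d) = 2 := by
    rw [← Subgroup.orderOf_coe]; exact ho
  have h2 : 2 ∣ Nat.card (twoStab G c d) := h1 ▸ orderOf_dvd_natCard _
  rw [← Nat.not_even_iff_odd] at hodd
  exact hodd (even_iff_two_dvd.mpr h2)


section finset

variable [Fintype G] [DecidableEq G] [DecidableEq Ω]

/-- the involutions of `G` -/
def invs (G : Type*) [Group G] [Fintype G] [DecidableEq G] : Finset G :=
  Finset.univ.filter (fun x : G => x ≠ 1 ∧ x * x = 1)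

theorem mem_invs {x : G} : x ∈ invs G ↔ x ≠ 1 ∧ x * x = 1 := by
  rw [invs, Finset.mem_filter]; simp

/-- the number of involutions mapping `c` to `d` -/
def invCount (G : Type*) {Ω : Type*} [Group G] [MulAction G Ω] [Fintype G] [DecidableEq G]
    [DecidableEq Ω] (c d : Ω) : ℕ :=
  ((invs G).filter (fun x => x • c = d)).card

theorem card_invs_eq_sum (c : Ω) : (invs G).card = ∑ d : Ω, invCount G c d := by
  exact Finset.card_eq_sum_card_fiberwise (f := fun x : G => x • c) (fun _ _ => Finset.mem_univ _)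

theorem card_twoStab_eq_filter (c d : Ω) :
    Nat.card (twoStab G c d) =
      (Finset.univ.filter (fun x : G => x • c = c ∧ x • d = d)).card := by
  rw [← Fintype.card_subtype, ← Nat.card_eq_fintype_card]
  apply Nat.card_congr
  apply Equiv.subtypeEquivRight
  intro x
  exact mem_twoStab

/-- the number of involutions interchanging two points is `e` -/
theorem invCount_of_ne (hZ : Cfsg.IsZassenhausGroup G Ω) [IsSimpleGroup G] {c d : Ω}
    (hcd : c ≠ d) (hodd : Odd (Nat.card (twoStab G c d))) :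
    invCount G c d = Nat.card (twoStab G c d) := by
  have hy := hyp_of_zass hZ
  obtain ⟨t, htc, htd⟩ := hy.h2 hcd (Ne.symm hcd)
  rw [card_twoStab_eq_filter, invCount]
  apply Finset.card_nbij' (fun x => t⁻¹ * x) (fun y => t * y)
  · intro x hx
    rw [Finset.mem_coe, Finset.mem_filter, mem_invs] at hx
    obtain ⟨⟨hx1, hx2⟩, hxc⟩ := hx
    have hxd : x • d = c := by rw [← hxc, ← mul_smul, hx2, one_smul]
    rw [Finset.mem_coe, Finset.mem_filter, mul_smul, mul_smul, hxc, hxd]
    refine ⟨Finset.mem_univ _, ?_, ?_⟩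
    · rw [inv_smul_eq_iff, htc]
    · rw [inv_smul_eq_iff, htd]
  · intro y hy'
    rw [Finset.mem_coe, Finset.mem_filter] at hy'
    obtain ⟨-, hyc, hyd⟩ := hy'
    have h1 : (t * y) • c = d := by rw [mul_smul, hyc, htc]
    have h2 : (t * y) • d = c := by rw [mul_smul, hyd, htd]
    rw [Finset.mem_coe, Finset.mem_filter, mem_invs]
    refine ⟨⟨?_, swap_mul_self hZ hcd hodd h1 h2⟩, h1⟩
    intro h
    have h' : t * y = 1 := h
    rw [h', one_smul] at h1
    exact hcd h1
  · intro x _
    simp
  · intro y _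
    simp

/-- the fixed points of an involution: at most one -/
theorem card_fix_le_one (hodd : ∀ c d : Ω, c ≠ d → Odd (Nat.card (twoStab G c d))) {x : G}
    (hx : x ∈ invs G) : (Finset.univ.filter (fun c : Ω => x • c = c)).card ≤ 1 := by
  rw [mem_invs] at hx
  rw [Finset.card_le_one]
  intro c hc d hd
  rw [Finset.mem_filter] at hc hd
  by_contra hcd
  exact inv_fix_unique (hodd c d hcd) hx.1 hx.2 hc.2 hd.2

/-- parity of the number of fixed points of an involution -/
theorem card_fix_modEq {x : G} (hx : x ∈ invs G) :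
    (Finset.univ.filter (fun c : Ω => x • c = c)).card ≡ Fintype.card Ω [MOD 2] := by
  rw [mem_invs] at hx
  haveI : Fact (Nat.Prime 2) := ⟨Nat.prime_two⟩
  have h1 : (MulAction.toPerm x : Equiv.Perm Ω) ^ 2 ^ 1 = 1 := by
    rw [pow_one, pow_two]
    ext c
    simp only [Equiv.Perm.coe_mul, Function.comp_apply, MulAction.toPerm_apply, Equiv.Perm.coe_one,
      id_eq]
    rw [← mul_smul, hx.2, one_smul]
  have h2 := Equiv.Perm.card_compl_support_modEq h1
  have h3 : (MulAction.toPerm x : Equiv.Perm Ω).supportᶜ =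
      Finset.univ.filter (fun c : Ω => x • c = c) := by
    ext c
    simp [Equiv.Perm.mem_support]
  rw [h3] at h2
  exact h2


theorem invCount_self_of_even (hodd : ∀ c d : Ω, c ≠ d → Odd (Nat.card (twoStab G c d)))
    (hn : Even (Fintype.card Ω)) (c : Ω) : invCount G c c = 0 := by
  rw [invCount, Finset.card_eq_zero, Finset.filter_eq_empty_iff]
  intro x hx hxc
  have h1 := card_fix_le_one hodd hx
  have h2 := card_fix_modEq (Ω := Ω) hx
  have h3 : 0 < (Finset.univ.filter (fun c : Ω => x • c = c)).card :=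
    Finset.card_pos.mpr ⟨c, by rw [Finset.mem_filter]; exact ⟨Finset.mem_univ _, hxc⟩⟩
  have h4 : (Finset.univ.filter (fun c : Ω => x • c = c)).card = 1 := by omega
  rw [h4] at h2
  have := Nat.even_iff.mp hn
  have h5 := h2.symm
  rw [Nat.ModEq, this] at h5
  omega

theorem card_fix_of_odd (hodd : ∀ c d : Ω, c ≠ d → Odd (Nat.card (twoStab G c d)))
    (hn : Odd (Fintype.card Ω)) {x : G} (hx : x ∈ invs G) :
    (Finset.univ.filter (fun c : Ω => x • c = c)).card = 1 := by
  have h1 := card_fix_le_one hodd hx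
  have h2 := card_fix_modEq (Ω := Ω) hx
  have := Nat.odd_iff.mp hn
  rw [Nat.ModEq, this] at h2
  interval_cases h : (Finset.univ.filter (fun c : Ω => x • c = c)).card
  · omega
  · rfl

theorem sum_invCount_self :
    ∑ c : Ω, invCount G c c = ∑ x ∈ invs G, (Finset.univ.filter (fun c : Ω => x • c = c)).card := by
  simp only [invCount, Finset.card_filter]
  rw [Finset.sum_comm]

theorem invCount_self_eq (hy : Hyp G Ω) (a c : Ω) : invCount G c c = invCount G a a := by
  have hpt : ∃ w : G, w • a = c := by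
    by_cases hca : a = c
    · exact ⟨1, by rw [one_smul, hca]⟩
    · obtain ⟨a', ha'⟩ := exists_ne hy a
      obtain ⟨c', hc'⟩ := exists_ne hy c
      obtain ⟨w, hw, -⟩ := hy.h2 (Ne.symm ha') (Ne.symm hc')
      exact ⟨w, hw⟩
  obtain ⟨w, hw⟩ := hpt
  have hw' : w⁻¹ • c = a := by rw [inv_smul_eq_iff, hw]
  rw [invCount, invCount]
  apply Finset.card_nbij' (fun x => w⁻¹ * x * w) (fun y => w * y * w⁻¹)
  · intro x hx
    rw [Finset.mem_coe, Finset.mem_filter, mem_invs] at hx
    obtain ⟨⟨hx1, hx2⟩, hxc⟩ := hx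
    rw [Finset.mem_coe, Finset.mem_filter, mem_invs]
    refine ⟨⟨?_, ?_⟩, ?_⟩
    · intro h
      have h' : w⁻¹ * x * w = 1 := h
      apply hx1
      calc x = w * (w⁻¹ * x * w) * w⁻¹ := by group
        _ = 1 := by rw [h']; group
    · calc w⁻¹ * x * w * (w⁻¹ * x * w) = w⁻¹ * (x * x) * w := by group
        _ = 1 := by rw [hx2]; group
    · rw [mul_smul, mul_smul, hw, hxc, hw']
  · intro y hy'
    rw [Finset.mem_coe, Finset.mem_filter, mem_invs] at hy'
    obtain ⟨⟨hy1, hy2⟩, hya⟩ := hy'
    rw [Finset.mem_coe, Finset.mem_filter, mem_invs]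
    refine ⟨⟨?_, ?_⟩, ?_⟩
    · intro h
      have h' : w * y * w⁻¹ = 1 := h
      apply hy1
      calc y = w⁻¹ * (w * y * w⁻¹) * w := by group
        _ = 1 := by rw [h']; group
    · calc w * y * w⁻¹ * (w * y * w⁻¹) = w * (y * y) * w⁻¹ := by group
        _ = 1 := by rw [hy2]; group
    · rw [mul_smul, mul_smul, hw', hya, hw]
  · intro x _
    show w * (w⁻¹ * x * w) * w⁻¹ = x
    group
  · intro y _
    show w⁻¹ * (w * y * w⁻¹) * w = y
    group

/-- the number of involutions, and the number of involutions fixing a point -/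
theorem card_invs (hZ : Cfsg.IsZassenhausGroup G Ω) [IsSimpleGroup G] {a b : Ω} (hab : a ≠ b)
    (hodd : Odd (Nat.card (twoStab G a b))) :
    (Even (Fintype.card Ω) → (invs G).card = (Fintype.card Ω - 1) * Nat.card (twoStab G a b) ∧
      ∀ c : Ω, invCount G c c = 0) ∧
    (Odd (Fintype.card Ω) → (invs G).card = Fintype.card Ω * Nat.card (twoStab G a b) ∧
      ∀ c : Ω, invCount G c c = Nat.card (twoStab G a b)) := by
  have hy := hyp_of_zass hZ
  have hodd' : ∀ c d : Ω, c ≠ d → Odd (Nat.card (twoStab G c d)) := by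
    intro c d hcd
    rw [card_twoStab_eq_of_ne hy hab hcd]; exact hodd
  have hne : ∀ c d : Ω, c ≠ d → invCount G c d = Nat.card (twoStab G a b) := by
    intro c d hcd
    rw [invCount_of_ne hZ hcd (hodd' c d hcd), card_twoStab_eq_of_ne hy hab hcd]
  have hJ : (invs G).card = invCount G a a + (Fintype.card Ω - 1) * Nat.card (twoStab G a b) := by
    rw [card_invs_eq_sum a, ← Finset.add_sum_erase Finset.univ _ (Finset.mem_univ a)]
    congr 1
    rw [Finset.sum_congr rfl (fun d hd => hne a d (Ne.symm (Finset.ne_of_mem_erase hd))),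
      Finset.sum_const, Finset.card_erase_of_mem (Finset.mem_univ a), Finset.card_univ,
      smul_eq_mul]
  constructor
  · intro hn
    have h0 := invCount_self_of_even hodd' hn
    rw [h0 a, zero_add] at hJ
    exact ⟨hJ, h0⟩
  · intro hn
    have h1 : ∑ c : Ω, invCount G c c = (invs G).card := by
      rw [sum_invCount_self, Finset.sum_congr rfl (fun x hx => card_fix_of_odd hodd' hn hx),
        Finset.sum_const, smul_eq_mul, mul_one]
    rw [Finset.sum_congr rfl (fun c _ => invCount_self_eq hy a c), Finset.sum_const,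
      Finset.card_univ, smul_eq_mul] at h1
    have h3 := three_le_card hy
    have h4 : (Fintype.card Ω - 1) * invCount G a a =
        (Fintype.card Ω - 1) * Nat.card (twoStab G a b) := by
      have : Fintype.card Ω * invCount G a a =
          invCount G a a + (Fintype.card Ω - 1) * invCount G a a := by
        have : Fintype.card Ω = 1 + (Fintype.card Ω - 1) := by omega
        nth_rewrite 1 [this]
        rw [add_mul, one_mul]
      omega
    have h5 : invCount G a a = Nat.card (twoStab G a b) :=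
      Nat.eq_of_mul_eq_mul_left (by omega) h4
    refine ⟨?_, fun c => by rw [invCount_self_eq hy a c, h5]⟩
    rw [hJ, h5]
    have : Fintype.card Ω = 1 + (Fintype.card Ω - 1) := by omega
    nth_rewrite 2 [this]
    rw [add_mul, one_mul]


/-- two involutions interchanging the same two points are conjugate -/
theorem isConj_of_swap (hZ : Cfsg.IsZassenhausGroup G Ω) [IsSimpleGroup G] {c d : Ω}
    (hcd : c ≠ d) (hodd : Odd (Nat.card (twoStab G c d))) {x x' : G}
    (hx2 : x * x = 1) (hxc : x • c = d) (hxd : x • d = c) (hx'c : x' • c = d)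
    (hx'd : x' • d = c) : IsConj x x' := by
  have hxinv : x⁻¹ = x := inv_eq_of_mul_eq_one_left hx2
  set y := x * x' with hy
  have hyE : y ∈ twoStab G c d := by
    rw [mem_twoStab, hy, mul_smul, mul_smul, hx'c, hx'd, hxc, hxd]
    exact ⟨rfl, rfl⟩
  obtain ⟨k, hk⟩ := hodd
  have hpow : y ^ (2 * k + 1) = 1 := by
    have h1 : (⟨y, hyE⟩ : twoStab G c d) ^ Nat.card (twoStab G c d) = 1 := pow_card_eq_one'
    have h2 := congrArg Subtype.val h1
    rw [Subgroup.coe_pow, hk] at h2
    exact h2
  set z := y ^ (k + 1) with hz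
  have hzE : z ∈ twoStab G c d := Subgroup.pow_mem _ hyE _
  have hzz : z * z = y := by
    rw [hz, ← pow_add]
    have : k + 1 + (k + 1) = (2 * k + 1) + 1 := by ring
    rw [this, pow_succ, hpow, one_mul]
  have hinv := conj_eq_inv hZ hcd (by rw [hk]; exact ⟨k, rfl⟩) hxc hxd hx2 z hzE
  rw [hxinv] at hinv
  rw [isConj_iff]
  refine ⟨z⁻¹, ?_⟩
  have h1 : x * z⁻¹ * x = z := by
    have : x * z⁻¹ * x = (x * z * x)⁻¹ := by
      rw [mul_inv_rev, mul_inv_rev, hxinv, mul_assoc]
    rw [this, hinv, inv_inv]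
  calc z⁻¹ * x * z⁻¹⁻¹ = x * (x * z⁻¹ * x) * z := by
        rw [inv_inv, ← mul_assoc, ← mul_assoc, hx2, one_mul]
    _ = x * (z * z) := by rw [h1, mul_assoc]
    _ = x' := by rw [hzz, hy, ← mul_assoc, hx2, one_mul]

theorem isConj_conj (w x : G) : IsConj x (w * x * w⁻¹) := isConj_iff.mpr ⟨w, rfl⟩

/-- all involutions are conjugate -/
theorem isConj_invs (hZ : Cfsg.IsZassenhausGroup G Ω) [IsSimpleGroup G] {a b : Ω} (hab : a ≠ b)
    (hodd : Odd (Nat.card (twoStab G a b))) {x x' : G} (hx : x ∈ invs G) (hx' : x' ∈ invs G) :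
    IsConj x x' := by
  have hy := hyp_of_zass hZ
  have hodd' : ∀ c d : Ω, c ≠ d → Odd (Nat.card (twoStab G c d)) := by
    intro c d hcd
    rw [card_twoStab_eq_of_ne hy hab hcd]; exact hodd
  have hpt : ∀ c d : Ω, ∃ w : G, w • c = d := by
    intro c d
    by_cases hcd : c = d
    · exact ⟨1, by rw [one_smul, hcd]⟩
    · obtain ⟨c', hc'⟩ := exists_ne hy c
      obtain ⟨d', hd'⟩ := exists_ne hy d
      obtain ⟨w, hw, -⟩ := hy.h2 (Ne.symm hc') (Ne.symm hd')
      exact ⟨w, hw⟩
  have hconj_mem : ∀ (w x : G), x ∈ invs G → w * x * w⁻¹ ∈ invs G := by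
    intro w x hx
    rw [mem_invs] at hx ⊢
    refine ⟨?_, ?_⟩
    · intro h
      apply hx.1
      calc x = w⁻¹ * (w * x * w⁻¹) * w := by group
        _ = 1 := by rw [h]; group
    · calc w * x * w⁻¹ * (w * x * w⁻¹) = w * (x * x) * w⁻¹ := by group
        _ = 1 := by rw [hx.2]; group
  rcases Nat.even_or_odd (Fintype.card Ω) with hn | hn
  · -- fixed point free involutions
    have h0 := ((card_invs hZ hab hodd).1 hn).2
    have hmove : ∀ x ∈ invs G, x • a ≠ a := by
      intro x hx hxa
      have := h0 a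
      rw [invCount, Finset.card_eq_zero, Finset.filter_eq_empty_iff] at this
      exact this hx hxa
    have hxa := hmove x hx
    have hx'a := hmove x' hx'
    obtain ⟨w, hwa, hwd⟩ := hy.h2 (Ne.symm hx'a) (Ne.symm hxa)
    have hx2 := (mem_invs.mp hx).2
    have hx'2 := (mem_invs.mp hx').2
    have hwinv : w⁻¹ • a = a := by rw [inv_smul_eq_iff, hwa]
    have h1 : (w * x' * w⁻¹) • a = x • a := by
      rw [mul_smul, mul_smul, hwinv, hwd]
    have h2 : (w * x' * w⁻¹) • (x • a) = a := by
      rw [← h1, ← mul_smul]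
      have : w * x' * w⁻¹ * (w * x' * w⁻¹) = 1 := by
        calc w * x' * w⁻¹ * (w * x' * w⁻¹) = w * (x' * x') * w⁻¹ := by group
          _ = 1 := by rw [hx'2]; group
      rw [this, one_smul]
    have h3 : x • (x • a) = a := by rw [← mul_smul, hx2, one_smul]
    have hc1 := isConj_of_swap hZ (Ne.symm hxa) (hodd' _ _ (Ne.symm hxa)) hx2 rfl h3 h1 h2
    exact hc1.trans (isConj_conj w x').symm
  · -- involutions with exactly one fixed point
    have hI := ((card_invs hZ hab hodd).2 hn).2
    -- reduce to involutions fixing `a`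
    have key : ∀ x₁ x₂ : G, x₁ ∈ invs G → x₂ ∈ invs G → x₁ • a = a → x₂ • a = a →
        IsConj x₁ x₂ := by
      intro x₁ x₂ hx₁ hx₂ hx₁a hx₂a
      set Ia := (invs G).filter (fun x => x • a = a) with hIa
      have hIacard : Ia.card = Nat.card (twoStab G a b) := hI a
      set Ef := Finset.univ.filter (fun x : G => x • a = a ∧ x • b = b) with hEf
      have hEfcard : Ef.card = Nat.card (twoStab G a b) := (card_twoStab_eq_filter a b).symm
      have hx₁b : x₁ • b ≠ b := by
        intro h
        exact inv_fix_unique (hodd' a b hab) (mem_invs.mp hx₁).1 (mem_invs.mp hx₁).2 hx₁a h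
      have hx₁b' : x₁ • b ≠ a := by
        intro h
        apply hab
        have h' : x₁ • (x₁ • b) = x₁ • a := congrArg (fun z => x₁ • z) h
        rw [← mul_smul, (mem_invs.mp hx₁).2, one_smul, hx₁a] at h'
        exact h'.symm
      have hinj : Set.InjOn (fun y : G => y * x₁ * y⁻¹) (Ef : Set G) := by
        intro y hy' y' hy'' hyy
        rw [Finset.mem_coe, hEf, Finset.mem_filter] at hy' hy''
        have hyy' : y * x₁ * y⁻¹ = y' * x₁ * y'⁻¹ := hyy
        set v := y'⁻¹ * y with hv
        have hva : v • a = a := by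
          rw [hv, mul_smul, hy'.2.1, inv_smul_eq_iff, hy''.2.1]
        have hvb : v • b = b := by
          rw [hv, mul_smul, hy'.2.2, inv_smul_eq_iff, hy''.2.2]
        have hcomm : v * x₁ = x₁ * v := by
          calc v * x₁ = y'⁻¹ * (y * x₁ * y⁻¹) * y := by rw [hv]; group
            _ = y'⁻¹ * (y' * x₁ * y'⁻¹) * y := by rw [hyy']
            _ = x₁ * v := by rw [hv]; group
        have hvc : v • (x₁ • b) = x₁ • b := by
          rw [← mul_smul, hcomm, mul_smul, hvb]
        have hv1 : v = 1 := hy.h3 v a b (x₁ • b) hab (Ne.symm hx₁b) (Ne.symm hx₁b') hva hvb hvc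
        calc y = y' * v := by rw [hv]; group
          _ = y' := by rw [hv1, mul_one]
      have himg : Ef.image (fun y : G => y * x₁ * y⁻¹) ⊆ Ia := by
        intro z hz
        rw [Finset.mem_image] at hz
        obtain ⟨y, hy', rfl⟩ := hz
        rw [hEf, Finset.mem_filter] at hy'
        rw [hIa, Finset.mem_filter]
        refine ⟨hconj_mem y x₁ hx₁, ?_⟩
        have : y⁻¹ • a = a := by rw [inv_smul_eq_iff, hy'.2.1]
        rw [mul_smul, mul_smul, this, hx₁a, hy'.2.1]
      have hcardimg : (Ef.image (fun y : G => y * x₁ * y⁻¹)).card = Ef.card :=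
        Finset.card_image_of_injOn hinj
      have heq : Ef.image (fun y : G => y * x₁ * y⁻¹) = Ia :=
        Finset.eq_of_subset_of_card_le himg (by rw [hcardimg, hEfcard, hIacard])
      have hx₂mem : x₂ ∈ Ia := by
        rw [hIa, Finset.mem_filter]; exact ⟨hx₂, hx₂a⟩
      rw [← heq, Finset.mem_image] at hx₂mem
      obtain ⟨y, -, hy'⟩ := hx₂mem
      rw [← hy']
      exact isConj_conj y x₁
    -- every involution has a fixed point
    have hfix : ∀ x ∈ invs G, ∃ c : Ω, x • c = c := by
      intro x hx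
      have := card_fix_of_odd hodd' hn hx
      have hpos : 0 < (Finset.univ.filter (fun c : Ω => x • c = c)).card := by omega
      obtain ⟨c, hc⟩ := Finset.card_pos.mp hpos
      rw [Finset.mem_filter] at hc
      exact ⟨c, hc.2⟩
    obtain ⟨c, hc⟩ := hfix x hx
    obtain ⟨c', hc'⟩ := hfix x' hx'
    obtain ⟨w, hw⟩ := hpt c a
    obtain ⟨w', hw'⟩ := hpt c' a
    have h1 : (w * x * w⁻¹) • a = a := by
      have : w⁻¹ • a = c := by rw [inv_smul_eq_iff, hw]
      rw [mul_smul, mul_smul, this, hc, hw]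
    have h2 : (w' * x' * w'⁻¹) • a = a := by
      have : w'⁻¹ • a = c' := by rw [inv_smul_eq_iff, hw']
      rw [mul_smul, mul_smul, this, hc', hw']
    have := key _ _ (hconj_mem w x hx) (hconj_mem w' x' hx') h1 h2
    exact ((isConj_conj w x).trans this).trans (isConj_conj w' x').symm

end finset

end Cfsg.Agent.Lib.Helper3.ZassOdd
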