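import Mathlib
import Cfsg.Agent.Lib.Helper3.ZassCount

set_option autoImplicit false
set_option linter.style.haveILetI false
set_option linter.unusedSectionVars false

/-! The Frobenius kernel `H` of a point stabiliser in a simple Zassenhaus group with two point
stabiliser of odd order: involutions of `H` are central in `H`. -/

namespace Cfsg.Agent.Lib.Helper3.ZassOdd

open Cfsg MulAction
open Cfsg.Agent.Lib.Helper97.Zass

variable {G Ω : Type*} [Group G] [MulAction G Ω] [Fintype Ω]

/-- `H` contains every element of the point stabiliser fixing no other point -/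
theorem mem_kernel_of_fix_only [Finite G] (hy : Hyp G Ω) {a : Ω} (H : Subgroup G)
    (hHa : H ≤ MulAction.stabilizer G a) (hHcard : Nat.card H + 1 = Fintype.card Ω)
    (hHfix : ∀ u ∈ H, u ≠ 1 → ∀ c : Ω, u • c = c → c = a) (x : G) (hxa : x • a = a)
    (hx : x = 1 ∨ ∀ c, x • c = c → c = a) : x ∈ H := by
  classical
  have := Fintype.ofFinite G
  have hn3 := three_le_card hy
  set Kf : Finset G :=
    Finset.univ.filter (fun x : G => x • a = a ∧ (x = 1 ∨ ∀ c, x • c = c → c = a)) with hKf
  set Hf : Finset G := Finset.univ.filter (fun x : G => x ∈ H) with hHf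
  have hHfcard : Hf.card = Nat.card H := by
    rw [hHf, ← Fintype.card_subtype, ← Nat.card_eq_fintype_card]
  have hKle : Kf.card ≤ Fintype.card Ω - 1 :=
    Cfsg.Agent.S0878.card_kernel_le (fun h1 h2 => hy.h2 h1 h2) hy.h3 a (by omega)
  have hHK : Hf ⊆ Kf := by
    intro x hx
    rw [hHf, Finset.mem_filter] at hx
    rw [hKf, Finset.mem_filter]
    refine ⟨Finset.mem_univ _, hHa hx.2, ?_⟩
    by_cases hx1 : x = 1
    · exact Or.inl hx1
    · exact Or.inr (hHfix x hx.2 hx1)
  have heq : Hf = Kf := Finset.eq_of_subset_of_card_le hHK (by omega)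
  have : x ∈ Kf := by
    rw [hKf, Finset.mem_filter]
    exact ⟨Finset.mem_univ _, hxa, hx⟩
  rw [← heq, hHf, Finset.mem_filter] at this
  exact this.2

/-- an involution fixing `a` lies in `H` and commutes with every element of `H` -/
theorem kernel_commute_inv [Finite G] (hZ : Cfsg.IsZassenhausGroup G Ω) [IsSimpleGroup G]
    {a b : Ω} (hab : a ≠ b) (hodd : Odd (Nat.card (twoStab G a b))) (H : Subgroup G)
    (hHa : H ≤ MulAction.stabilizer G a) (hHcard : Nat.card H + 1 = Fintype.card Ω)
    (hHfix : ∀ u ∈ H, u ≠ 1 → ∀ c : Ω, u • c = c → c = a) {x : G} (hx1 : x ≠ 1)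
    (hx2 : x * x = 1) (hxa : x • a = a) : x ∈ H ∧ ∀ g ∈ H, g * x = x * g := by
  classical
  have := Fintype.ofFinite G
  have hy := hyp_of_zass hZ
  have hn3 := three_le_card hy
  have hodd' : ∀ c d : Ω, c ≠ d → Odd (Nat.card (twoStab G c d)) := by
    intro c d hcd
    rw [card_twoStab_eq_of_ne hy hab hcd]; exact hodd
  have hxinv : x ∈ invs G := mem_invs.mpr ⟨hx1, hx2⟩
  have hxfix : ∀ c, x • c = c → c = a := by
    intro c hc
    by_contra hca
    exact inv_fix_unique (hodd' c a hca) hx1 hx2 hc hxa
  have hxH : x ∈ H := mem_kernel_of_fix_only hy H hHa hHcard hHfix x hxa (Or.inr hxfix)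
  refine ⟨hxH, ?_⟩
  -- the number of points is odd, and `e` involutions fix `a`
  have hnodd : Odd (Fintype.card Ω) := by
    rcases Nat.even_or_odd (Fintype.card Ω) with hn | hn
    · exfalso
      have h0 := ((card_invs hZ hab hodd).1 hn).2 a
      rw [invCount, Finset.card_eq_zero, Finset.filter_eq_empty_iff] at h0
      exact h0 hxinv hxa
    · exact hn
  have hI := ((card_invs hZ hab hodd).2 hnodd).2 a
  set e := Nat.card (twoStab G a b) with he
  have hepos : 0 < e := Nat.card_pos
  set Ia := (invs G).filter (fun x => x • a = a) with hIa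
  set Nf : Finset G := Finset.univ.filter (fun g : G => g • a = a) with hNf
  set CH : Finset G := Finset.univ.filter (fun g : G => g ∈ H ∧ g * x = x * g) with hCH
  set Hf : Finset G := Finset.univ.filter (fun g : G => g ∈ H) with hHf
  have hHfcard : Hf.card = Nat.card H := by
    rw [hHf, ← Fintype.card_subtype, ← Nat.card_eq_fintype_card]
  have hNfcard : Nf.card = e * (Fintype.card Ω - 1) := by
    rw [← card_stabilizer_eq hy hab, hNf, ← Fintype.card_subtype, ← Nat.card_eq_fintype_card]
    rfl
  -- elements of the point stabiliser commuting with `x` lie in `H`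
  have hcent : ∀ c : G, c • a = a → c * x = x * c → c ∈ H := by
    intro c hca hcx
    apply mem_kernel_of_fix_only hy H hHa hHcard hHfix c hca
    by_cases hc1 : c = 1
    · exact Or.inl hc1
    · right
      intro d hd
      by_contra hda
      have hxd : x • d ≠ d := fun h => hda (hxfix d h)
      have hxd' : x • d ≠ a := by
        intro h
        apply hda
        have h' : x • (x • d) = x • a := congrArg (fun z => x • z) h
        rw [← mul_smul, hx2, one_smul, hxa] at h'
        exact h'
      have hcd : c • (x • d) = x • d := by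
        rw [← mul_smul, hcx, mul_smul, hd]
      exact hc1 (hy.h3 c a d (x • d) (Ne.symm hda) (Ne.symm hxd) (Ne.symm hxd') hca hd hcd)
  have himg : Nf.image (fun g : G => g * x * g⁻¹) ⊆ Ia := by
    intro z hz
    rw [Finset.mem_image] at hz
    obtain ⟨g, hg, rfl⟩ := hz
    rw [hNf, Finset.mem_filter] at hg
    rw [hIa, Finset.mem_filter, mem_invs]
    have hginv : g⁻¹ • a = a := by rw [inv_smul_eq_iff, hg.2]
    refine ⟨⟨?_, ?_⟩, ?_⟩
    · intro h
      apply hx1
      calc x = g⁻¹ * (g * x * g⁻¹) * g := by group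
        _ = 1 := by rw [h]; group
    · calc g * x * g⁻¹ * (g * x * g⁻¹) = g * (x * x) * g⁻¹ := by group
        _ = 1 := by rw [hx2]; group
    · rw [mul_smul, mul_smul, hginv, hxa, hg.2]
  have hfib : ∀ v ∈ Nf.image (fun g : G => g * x * g⁻¹),
      (Nf.filter (fun g => g * x * g⁻¹ = v)).card ≤ CH.card := by
    intro v hv
    rw [Finset.mem_image] at hv
    obtain ⟨g₀, hg₀, rfl⟩ := hv
    rw [hNf, Finset.mem_filter] at hg₀
    apply Finset.card_le_card_of_injOn (fun g => g₀⁻¹ * g)
    · intro g hg
      rw [Finset.mem_coe, Finset.mem_filter, hNf, Finset.mem_filter] at hg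
      obtain ⟨⟨-, hga⟩, hgx⟩ := hg
      have hc1 : (g₀⁻¹ * g) • a = a := by
        rw [mul_smul, hga, inv_smul_eq_iff, hg₀.2]
      have hc2 : (g₀⁻¹ * g) * x = x * (g₀⁻¹ * g) := by
        calc (g₀⁻¹ * g) * x = g₀⁻¹ * (g * x * g⁻¹) * g := by group
          _ = g₀⁻¹ * (g₀ * x * g₀⁻¹) * g := by rw [hgx]
          _ = x * (g₀⁻¹ * g) := by group
      rw [Finset.mem_coe, hCH, Finset.mem_filter]
      exact ⟨Finset.mem_univ _, hcent _ hc1 hc2, hc2⟩
    · intro g _ g' _ hgg
      exact mul_left_cancel hgg
  have h1 := Finset.card_le_mul_card_image Nf CH.card hfib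
  have h2 : (Nf.image (fun g : G => g * x * g⁻¹)).card ≤ e := by
    rw [← hI]; exact Finset.card_le_card himg
  have h3 : CH ⊆ Hf := by
    intro g hg
    rw [hCH, Finset.mem_filter] at hg
    rw [hHf, Finset.mem_filter]
    exact ⟨Finset.mem_univ _, hg.2.1⟩
  have h4 : Hf.card ≤ CH.card := by
    rw [hHfcard]
    have h5 : e * (Fintype.card Ω - 1) ≤ CH.card * e := by
      rw [← hNfcard]
      exact h1.trans (Nat.mul_le_mul_left _ h2)
    have h6 : Nat.card H = Fintype.card Ω - 1 := by omega
    rw [h6]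
    rw [mul_comm] at h5
    exact Nat.le_of_mul_le_mul_right h5 hepos
  have heq : CH = Hf := Finset.eq_of_subset_of_card_le h3 h4
  intro g hg
  have : g ∈ CH := by
    rw [heq, hHf, Finset.mem_filter]; exact ⟨Finset.mem_univ _, hg⟩
  rw [hCH, Finset.mem_filter] at this
  exact this.2.2

end Cfsg.Agent.Lib.Helper3.ZassOdd
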