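import Mathlib
import Cfsg.Agent.Lib.Helper3.ZassKer
import Cfsg.Agent.Lib.Helper97.Zass2
import Cfsg.Agent.Lib.Helper78.TwoFrob1

set_option autoImplicit false
set_option linter.style.haveILetI false
set_option linter.unusedSectionVars false

/-! The Frobenius kernel `H` of a point stabiliser of a Zassenhaus group as a T.I. subgroup with
Frobenius normalizer. -/

namespace Cfsg.Agent.Lib.Helper3.ZassFeit

open Cfsg MulAction
open Cfsg.Agent.Lib.Helper97.Zass
open Cfsg.Agent.Lib.Helper3.ZassOdd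

variable {G Ω : Type*} [Group G] [MulAction G Ω] [Fintype Ω]

/-- the hypotheses on the kernel `H` -/
structure Ker (G : Type*) {Ω : Type*} [Group G] [MulAction G Ω] [Fintype Ω] (a : Ω)
    (H : Subgroup G) : Prop where
  le : H ≤ MulAction.stabilizer G a
  card : Nat.card H + 1 = Fintype.card Ω
  fix : ∀ u ∈ H, u ≠ 1 → ∀ c : Ω, u • c = c → c = a

variable {a : Ω} {H : Subgroup G}

theorem Ker.mem_iff [Finite G] (hy : Hyp G Ω) (k : Ker G a H) (x : G) :
    x ∈ H ↔ x • a = a ∧ (x = 1 ∨ ∀ c, x • c = c → c = a) := by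
  constructor
  · intro hx
    refine ⟨k.le hx, ?_⟩
    by_cases hx1 : x = 1
    · exact Or.inl hx1
    · exact Or.inr (k.fix x hx hx1)
  · rintro ⟨hxa, hx⟩
    exact mem_kernel_of_fix_only hy H k.le k.card k.fix x hxa hx

theorem Ker.ne_bot [Finite G] (hy : Hyp G Ω) (k : Ker G a H) : H ≠ ⊥ := by
  intro h
  have h3 := three_le_card hy
  have hc := k.card
  rw [h, Subgroup.card_bot] at hc
  omega

theorem Ker.exists_ne_one [Finite G] (hy : Hyp G Ω) (k : Ker G a H) : ∃ u ∈ H, u ≠ 1 := by
  by_contra hcon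
  push Not at hcon
  apply k.ne_bot hy
  rw [Subgroup.eq_bot_iff_forall]
  exact hcon

theorem Ker.conj_mem [Finite G] (hy : Hyp G Ω) (k : Ker G a H) {g : G} (hg : g • a = a) {x : G}
    (hx : x ∈ H) : g * x * g⁻¹ ∈ H := by
  rw [k.mem_iff hy] at hx ⊢
  obtain ⟨hxa, hx⟩ := hx
  have hga : g⁻¹ • a = a := by rw [inv_smul_eq_iff, hg]
  refine ⟨by rw [mul_smul, mul_smul, hga, hxa, hg], ?_⟩
  rcases hx with hx | hx
  · left
    rw [hx]
    group
  · right
    intro c hc
    have h1 : x • (g⁻¹ • c) = g⁻¹ • c := by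
      rw [mul_smul, mul_smul] at hc
      rw [eq_inv_smul_iff, hc]
    have h2 := hx _ h1
    rw [inv_smul_eq_iff, hg] at h2
    exact h2

theorem Ker.normalizer_eq [Finite G] (hy : Hyp G Ω) (k : Ker G a H) :
    Subgroup.normalizer (H : Set G) = MulAction.stabilizer G a := by
  ext g
  rw [Subgroup.mem_normalizer_iff, MulAction.mem_stabilizer_iff]
  constructor
  · intro hg
    obtain ⟨u, hu, hu1⟩ := k.exists_ne_one hy
    have h1 : g * u * g⁻¹ ∈ H := (hg u).mp hu
    have h2 : g * u * g⁻¹ ≠ 1 := by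
      intro h
      apply hu1
      calc u = g⁻¹ * (g * u * g⁻¹) * g := by group
        _ = 1 := by rw [h]; group
    have h3 : (g * u * g⁻¹) • (g • a) = g • a := by
      rw [mul_smul, mul_smul, inv_smul_smul, (k.le hu : u • a = a)]
    exact k.fix _ h1 h2 _ h3
  · intro hg x
    constructor
    · intro hx
      exact k.conj_mem hy hg hx
    · intro hx
      have hga : g⁻¹ • a = a := by rw [inv_smul_eq_iff, hg]
      have := k.conj_mem hy hga hx
      have e : g⁻¹ * (g * x * g⁻¹) * g⁻¹⁻¹ = x := by group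
      rw [e] at this
      exact this

theorem Ker.ti [Finite G] (hy : Hyp G Ω) (k : Ker G a H) :
    ∀ g : G, g ∉ Subgroup.normalizer (H : Set G) → ∀ x ∈ H, g * x * g⁻¹ ∈ H → x = 1 := by
  intro g hg x hx hgx
  by_contra hx1
  apply hg
  rw [k.normalizer_eq hy, MulAction.mem_stabilizer_iff]
  have h2 : g * x * g⁻¹ ≠ 1 := by
    intro h
    apply hx1
    calc x = g⁻¹ * (g * x * g⁻¹) * g := by group
      _ = 1 := by rw [h]; group
  have h3 : (g * x * g⁻¹) • (g • a) = g • a := by
    rw [mul_smul, mul_smul, inv_smul_smul, (k.le hx : x • a = a)]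
  exact k.fix _ hgx h2 _ h3

theorem Ker.tiSubset [Finite G] (hy : Hyp G Ω) (k : Ker G a H) : IsTISubset (H : Set G) :=
  k.ti hy

theorem Ker.cent_le [Finite G] (hy : Hyp G Ω) (k : Ker G a H) :
    ∀ x ∈ H, x ≠ 1 → Subgroup.centralizer ({x} : Set G) ≤ H := by
  intro x hx hx1 y hy'
  rw [Subgroup.mem_centralizer_iff] at hy'
  have hc : x * y = y * x := hy' x (Set.mem_singleton x)
  have hxa : x • a = a := k.le hx
  have hya : y • a = a := by
    apply k.fix x hx hx1
    rw [← mul_smul, hc, mul_smul, hxa]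
  rw [k.mem_iff hy]
  refine ⟨hya, ?_⟩
  by_cases hy1 : y = 1
  · exact Or.inl hy1
  right
  intro c hcy
  by_contra hca
  -- y fixes a, c, x • c
  have hxc : x • c ≠ c := fun h => hca (k.fix x hx hx1 c h)
  have hyxc : y • (x • c) = x • c := by
    rw [← mul_smul, ← hc, mul_smul, hcy]
  have hxca : x • c ≠ a := by
    intro h
    apply hca
    have : x • c = x • a := by rw [h, hxa]
    exact smul_left_cancel x this
  exact hy1 (hy.h3 y a c (x • c) (Ne.symm hca) (Ne.symm hxc) (Ne.symm hxca) hya hcy hyxc)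

theorem Ker.lt_normalizer [Finite G] (hy : Hyp G Ω) (k : Ker G a H) :
    H < Subgroup.normalizer (H : Set G) := by
  rw [k.normalizer_eq hy]
  refine lt_of_le_of_ne k.le ?_
  intro h
  obtain ⟨b, hb⟩ := exists_ne hy a
  obtain ⟨x, hx, hx1⟩ := exists_ne_one_mem_twoStab hy (Ne.symm hb)
  rw [mem_twoStab] at hx
  have hxH : x ∈ H := by rw [h]; exact hx.1
  exact hb (k.fix x hxH hx1 b hx.2)

theorem Ker.nilpotent [Finite G] (hy : Hyp G Ω) (k : Ker G a H) : Group.IsNilpotent H := by
  obtain ⟨b, hb⟩ := exists_ne hy a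
  have hC := frob_compl hy a b hb
  haveI : (H.subgroupOf (MulAction.stabilizer G a)).Normal := by
    refine ⟨fun x hx g => ?_⟩
    rw [Subgroup.mem_subgroupOf] at hx ⊢
    have := k.conj_mem hy g.2 hx
    simpa using this
  have hN : ((H.subgroupOf (MulAction.stabilizer G a) : Subgroup (MulAction.stabilizer G a)) :
      Set (MulAction.stabilizer G a)) =
      Cfsg.frobeniusKernel (MulAction.stabilizer (MulAction.stabilizer G a) b) := by
    ext s
    rw [kernel_mem hy a b hb s]
    show s ∈ H.subgroupOf (MulAction.stabilizer G a) ↔ _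
    rw [Subgroup.mem_subgroupOf, k.mem_iff hy]
    constructor
    · rintro ⟨-, h | h⟩
      · left
        exact Subtype.ext h
      · right
        exact h
    · rintro (h | h)
      · refine ⟨s.2, Or.inl ?_⟩
        rw [h]
        rfl
      · exact ⟨s.2, Or.inr h⟩
  have hnil := Cfsg.Agent.Lib.Helper78.TwoFrob.kernel_nilpotent hC hN
  have e : H.subgroupOf (MulAction.stabilizer G a) ≃* H := Subgroup.subgroupOfEquivOfLe k.le
  exact (Group.isNilpotent_congr e).mp hnil

end Cfsg.Agent.Lib.Helper3.ZassFeit
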