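import Mathlib
import Cfsg.Agent.Lib.Helper3.ZassFeit1
import Cfsg.Agent.Lib.Helper69.Zass

set_option autoImplicit false
set_option linter.style.haveILetI false
set_option linter.unusedSectionVars false

/-! Index of the kernel and commutativity of the quotient `N / H`. -/

namespace Cfsg.Agent.Lib.Helper3.ZassFeit

open Cfsg MulAction
open Cfsg.Agent.Lib.Helper97.Zass
open Cfsg.Agent.Lib.Helper3.ZassOdd

variable {G Ω : Type*} [Group G] [MulAction G Ω] [Fintype Ω]
variable {a : Ω} {H : Subgroup G}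

theorem Ker.card_eq [Finite G] (k : Ker G a H) : Nat.card H = Fintype.card Ω - 1 := by
  have := k.card
  omega

theorem Ker.card_normalizer [Finite G] (hy : Hyp G Ω) (k : Ker G a H) {b : Ω} (hab : a ≠ b) :
    Nat.card ↥(Subgroup.normalizer (H : Set G)) = Nat.card (twoStab G a b) * Nat.card H := by
  rw [k.normalizer_eq hy, card_stabilizer_eq hy hab, k.card_eq]

theorem Ker.index_eq [Finite G] (hy : Hyp G Ω) (k : Ker G a H) {b : Ω} (hab : a ≠ b) :
    (H.subgroupOf (Subgroup.normalizer (H : Set G))).index = Nat.card (twoStab G a b) := by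
  have h1 := Subgroup.card_mul_index (H.subgroupOf (Subgroup.normalizer (H : Set G)))
  have h2 : Nat.card ↥(H.subgroupOf (Subgroup.normalizer (H : Set G))) = Nat.card H :=
    Nat.card_congr (Subgroup.subgroupOfEquivOfLe (k.lt_normalizer hy).le).toEquiv
  rw [h2, k.card_normalizer hy hab] at h1
  have hpos : 0 < Nat.card H := Nat.card_pos
  have h3 : Nat.card H * (H.subgroupOf (Subgroup.normalizer (H : Set G))).index =
      Nat.card H * Nat.card (twoStab G a b) := by rw [h1, mul_comm]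
  exact Nat.eq_of_mul_eq_mul_left hpos h3

/-- every element of the point stabiliser is `u * s` with `u ∈ H`, `s ∈ E` -/
theorem Ker.exists_decomp [Finite G] (k : Ker G a H) {b : Ω} (hab : a ≠ b) {x : G}
    (hx : x • a = a) : ∃ u ∈ H, ∃ s ∈ twoStab G a b, x = u * s := by
  have hc : Nat.card H + 1 = Nat.card Ω := by
    rw [Nat.card_eq_fintype_card (α := Ω)]; exact k.card
  obtain ⟨u, hu, hub⟩ := Cfsg.Agent.Lib.Helper69.Zass.exists_H_smul_eq hab H k.le hc k.fix x hx
  refine ⟨u, hu, u⁻¹ * x, ?_, by group⟩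
  rw [mem_twoStab]
  have hua : u • a = a := k.le hu
  constructor
  · rw [mul_smul, hx, inv_smul_eq_iff, hua]
  · rw [mul_smul, ← hub, inv_smul_smul]

/-- `N / H` is abelian -/
theorem Ker.commutator_mem [Finite G] (hZ : IsZassenhausGroup G Ω) [IsSimpleGroup G]
    (k : Ker G a H) {b : Ω} (hab : a ≠ b) (hodd : Odd (Nat.card (twoStab G a b)))
    {x y : G} (hx : x • a = a) (hy' : y • a = a) : x * y * x⁻¹ * y⁻¹ ∈ H := by
  have hy := hyp_of_zass hZ
  obtain ⟨u, hu, s, hs, rfl⟩ := k.exists_decomp hab hx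
  obtain ⟨v, hv, r, hr, rfl⟩ := k.exists_decomp hab hy'
  have hsr : s * r = r * s := twoStab_comm hZ hab hodd s hs r hr
  have hsa : s • a = a := (mem_twoStab.mp hs).1
  have hra : r • a = a := (mem_twoStab.mp hr).1
  have h1 : s * v * s⁻¹ ∈ H := k.conj_mem hy hsa hv
  have h2 : r * u⁻¹ * r⁻¹ ∈ H := k.conj_mem hy hra (H.inv_mem hu)
  have e : u * s * (v * r) * (u * s)⁻¹ * (v * r)⁻¹ =
      u * (s * v * s⁻¹) * (r * u⁻¹ * r⁻¹) * v⁻¹ := by
    have h3 : s * r * s⁻¹ = r := by rw [hsr]; group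
    calc u * s * (v * r) * (u * s)⁻¹ * (v * r)⁻¹
        = u * (s * v * s⁻¹) * (s * r * s⁻¹) * u⁻¹ * r⁻¹ * v⁻¹ := by group
      _ = u * (s * v * s⁻¹) * (r * u⁻¹ * r⁻¹) * v⁻¹ := by rw [h3]; group
  rw [e]
  exact H.mul_mem (H.mul_mem (H.mul_mem hu h1) h2) (H.inv_mem hv)

end Cfsg.Agent.Lib.Helper3.ZassFeit
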