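import Mathlib
import Cfsg.Agent.Lib.Helper3.ZassFeit2
import Cfsg.Agent.Lib.Helper3.ZassCount

set_option autoImplicit false
set_option linter.style.haveILetI false
set_option linter.unusedSectionVars false

/-! # Simple Zassenhaus groups with a non-abelian regular normal `2`-subgroup, part A:
the kernel `Q` is a Suzuki `2`-group. -/

namespace Cfsg.Agent.Lib.Helper3.Sz

open Cfsg MulAction
open Cfsg.Agent.Lib.Helper97.Zass
open Cfsg.Agent.Lib.Helper3.ZassOdd
open Cfsg.Agent.Lib.Helper3.ZassFeit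

variable {G Ω : Type*} [Group G] [MulAction G Ω] [Fintype Ω]

/-- the two point stabiliser acts freely on `Q ∖ 1`. -/
theorem free_of_ker [Finite G] (hy : Hyp G Ω) {a b : Ω} (hab : a ≠ b) {Q : Subgroup G}
    (k : Ker G a Q) : ∀ g ∈ twoStab G a b, ∀ u ∈ Q, u ≠ 1 → g * u * g⁻¹ = u → g = 1 := by
  intro g hg u hu hu1 hgu
  have hc : g ∈ Subgroup.centralizer ({u} : Set G) := by
    rw [Subgroup.mem_centralizer_singleton_iff]
    calc g * u = g * u * g⁻¹ * g := by group
      _ = u * g := by rw [hgu]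
  have hgQ : g ∈ Q := k.cent_le hy u hu hu1 hc
  by_contra hg1
  exact hab (k.fix g hgQ hg1 b (mem_twoStab.mp hg).2).symm

/-- an involution fixing `a` lies in `Q`. -/
theorem inv_mem_ker [Finite G] (hy : Hyp G Ω) {a b : Ω} (hab : a ≠ b)
    (hodd : Odd (Nat.card (twoStab G a b))) {Q : Subgroup G} (k : Ker G a Q) {x : G}
    (hx1 : x ≠ 1) (hx2 : x * x = 1) (hxa : x • a = a) : x ∈ Q := by
  rw [k.mem_iff hy]
  refine ⟨hxa, Or.inr ?_⟩
  intro c hc
  by_contra hca
  have hodd' : Odd (Nat.card (twoStab G a c)) := by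
    rw [card_twoStab_eq_of_ne hy hab (Ne.symm hca)]; exact hodd
  exact inv_fix_unique hodd' hx1 hx2 hxa hc

section finset

variable [Fintype G] [DecidableEq G] [DecidableEq Ω]

/-- the number of involutions fixing `a` is `e`. -/
theorem card_invs_fix (hZ : Cfsg.IsZassenhausGroup G Ω) [IsSimpleGroup G] {a b : Ω} (hab : a ≠ b)
    (hodd : Odd (Nat.card (twoStab G a b))) (hn : Odd (Fintype.card Ω)) :
    ((invs G).filter (fun x => x • a = a)).card = Nat.card (twoStab G a b) :=
  ((card_invs hZ hab hodd).2 hn).2 a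

/-- the two point stabiliser is transitive on the involutions of `Q`. -/
theorem trans_invs_ker (hZ : Cfsg.IsZassenhausGroup G Ω) [IsSimpleGroup G] {a b : Ω} (hab : a ≠ b)
    (hodd : Odd (Nat.card (twoStab G a b))) {Q : Subgroup G} (k : Ker G a Q)
    (hn : Odd (Fintype.card Ω)) {z y : G} (hzQ : z ∈ Q) (hz1 : z ≠ 1) (hz2 : z * z = 1)
    (hyQ : y ∈ Q) (hy1 : y ≠ 1) (hy2 : y * y = 1) :
    ∃ g ∈ twoStab G a b, g * z * g⁻¹ = y := by
  have hy := hyp_of_zass hZ
  have hfree := free_of_ker hy hab k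
  set S := (invs G).filter (fun x => x • a = a) with hS
  have hmem : ∀ g : twoStab G a b, (g : G) * z * (g : G)⁻¹ ∈ S := by
    intro g
    rw [hS, Finset.mem_filter, mem_invs]
    refine ⟨⟨?_, ?_⟩, k.le (k.conj_mem hy (mem_twoStab.mp g.2).1 hzQ)⟩
    · intro h
      apply hz1
      have := congrArg (fun w => (g : G)⁻¹ * w * (g : G)) h
      simpa [mul_assoc] using this
    · calc (g : G) * z * (g : G)⁻¹ * ((g : G) * z * (g : G)⁻¹)
          = (g : G) * (z * z) * (g : G)⁻¹ := by group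
        _ = 1 := by rw [hz2]; group
  let f : twoStab G a b → S := fun g => ⟨_, hmem g⟩
  have hinj : Function.Injective f := by
    intro g g' h
    have h1 : (g : G) * z * (g : G)⁻¹ = (g' : G) * z * (g' : G)⁻¹ := congrArg Subtype.val h
    have h2 : ((g' : G)⁻¹ * (g : G)) * z * ((g' : G)⁻¹ * (g : G))⁻¹ = z := by
      have := congrArg (fun w => (g' : G)⁻¹ * w * (g' : G)) h1
      simp only [mul_assoc, inv_mul_cancel_left, inv_mul_cancel, mul_one] at this
      simp only [mul_inv_rev, inv_inv, mul_assoc]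
      exact this
    have h3 := hfree _ (mul_mem (inv_mem g'.2) g.2) z hzQ hz1 h2
    apply Subtype.ext
    have : (g : G) = (g' : G) := by
      have := congrArg (fun w => (g' : G) * w) h3
      simpa [mul_assoc] using this
    exact this
  have hcard : Nat.card S ≤ Nat.card (twoStab G a b) := by
    rw [Nat.card_eq_fintype_card, Fintype.card_coe, card_invs_fix hZ hab hodd hn]
  have hbij := hinj.bijective_of_nat_card_le hcard
  have hyS : y ∈ S := by
    rw [hS, Finset.mem_filter, mem_invs]; exact ⟨⟨hy1, hy2⟩, k.le hyQ⟩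
  obtain ⟨g, hg⟩ := hbij.2 ⟨y, hyS⟩
  exact ⟨g, g.2, congrArg Subtype.val hg⟩

end finset

/-- a nontrivial finite `2`-subgroup has a central involution. -/
theorem exists_central_inv [Finite G] {Q : Subgroup G} (hQ2 : IsPGroup 2 Q) (hQ : Q ≠ ⊥) :
    ∃ z ∈ Q, z ≠ 1 ∧ z * z = 1 ∧ ∀ u ∈ Q, z * u = u * z := by
  haveI : Fact (Nat.Prime 2) := ⟨Nat.prime_two⟩
  haveI : Nontrivial Q := (Subgroup.nontrivial_iff_ne_bot Q).mpr hQ
  haveI := hQ2.center_nontrivial
  obtain ⟨n, hn, hcard⟩ := (hQ2.to_subgroup (Subgroup.center Q)).nontrivial_iff_card.mp inferInstance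
  have hdvd : 2 ∣ Nat.card (Subgroup.center Q) := by
    rw [hcard]; exact dvd_pow_self 2 (by omega)
  obtain ⟨z, hz⟩ := exists_prime_orderOf_dvd_card' 2 hdvd
  have hz2 : z ^ 2 = 1 := by rw [← hz]; exact pow_orderOf_eq_one z
  have hz1 : z ≠ 1 := by
    intro h; rw [h, orderOf_one] at hz; omega
  refine ⟨((z : Q) : G), (z : Q).2, ?_, ?_, ?_⟩
  · intro h
    apply hz1
    apply Subtype.ext; apply Subtype.ext
    simpa using h
  · have := congrArg (fun w : Subgroup.center Q => ((w : Q) : G)) hz2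
    simpa [pow_two] using this
  · intro u hu
    have h := Subgroup.mem_center_iff.mp z.2 ⟨u, hu⟩
    have := congrArg (fun w : Q => (w : G)) h
    simpa using this.symm

end Cfsg.Agent.Lib.Helper3.Sz
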