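import Mathlib

set_option autoImplicit false
set_option linter.style.haveILetI false
set_option linter.unusedSectionVars false

/-!
# Zassenhaus' theorem: the model on `OnePoint V`

Permutation groups of `OnePoint V` (`V` a finite abelian group) containing the translations,
in which only the identity fixes three points, whose two point stabilizer `E` of `0, ∞` acts
additively on `V`, and containing an involution `t` interchanging `0` and `∞`.
-/

namespace Cfsg.Agent.Lib.Helper3.ZT

open OnePoint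

variable {V : Type*} [AddCommGroup V]

/-- the finite part of a point (`0` for `∞`) -/
def val (p : OnePoint V) : V := p.elim 0 id

@[simp] theorem val_coe (x : V) : val (x : OnePoint V) = x := rfl

@[simp] theorem val_infty : val (∞ : OnePoint V) = 0 := rfl

theorem coe_val {p : OnePoint V} (hp : p ≠ ∞) : ((val p : V) : OnePoint V) = p := by
  obtain ⟨y, rfl⟩ := ne_infty_iff_exists.mp hp
  rfl

/-- translation by `v` -/
def trans (v : V) : Equiv.Perm (OnePoint V) where
  toFun p := p.elim ∞ (fun x => ((v + x : V) : OnePoint V))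
  invFun p := p.elim ∞ (fun x => ((-v + x : V) : OnePoint V))
  left_inv p := by
    induction p using OnePoint.rec with
    | infty => rfl
    | coe x => simp
  right_inv p := by
    induction p using OnePoint.rec with
    | infty => rfl
    | coe x => simp

@[simp] theorem trans_infty (v : V) : trans v (∞ : OnePoint V) = ∞ := rfl

@[simp] theorem trans_coe (v x : V) : trans v (x : OnePoint V) = ((v + x : V) : OnePoint V) := rfl

theorem trans_add (v w : V) : trans (v + w) = trans v * trans w := by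
  ext p
  induction p using OnePoint.rec with
  | infty => simp
  | coe x => simp [add_assoc]

@[simp] theorem trans_zero : trans (0 : V) = 1 := by
  ext p
  induction p using OnePoint.rec with
  | infty => simp
  | coe x => simp

theorem trans_neg (v : V) : trans (-v) = (trans v)⁻¹ := by
  rw [eq_inv_iff_mul_eq_one, ← trans_add, neg_add_cancel, trans_zero]

theorem trans_inv_coe (v x : V) : (trans v)⁻¹ (x : OnePoint V) = ((-v + x : V) : OnePoint V) := by
  rw [← trans_neg, trans_coe]

/-- A permutation fixing `∞` maps finite points to finite points. -/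
theorem apply_coe_ne_infty {γ : Equiv.Perm (OnePoint V)} (hγ : γ ∞ = ∞) (x : V) :
    γ (x : OnePoint V) ≠ ∞ := by
  intro h
  rw [← hγ] at h
  exact coe_ne_infty x (γ.injective h)

theorem apply_coe {γ : Equiv.Perm (OnePoint V)} (hγ : γ ∞ = ∞) (x : V) :
    γ (x : OnePoint V) = ((val (γ (x : OnePoint V)) : V) : OnePoint V) :=
  (coe_val (apply_coe_ne_infty hγ x)).symm

/-- the stabilizer of `0` and `∞` -/
def Estab (Γ : Subgroup (Equiv.Perm (OnePoint V))) : Subgroup (Equiv.Perm (OnePoint V)) where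
  carrier := {γ | γ ∈ Γ ∧ γ ∞ = ∞ ∧ γ ((0 : V) : OnePoint V) = ((0 : V) : OnePoint V)}
  mul_mem' := by
    rintro γ δ ⟨h1, h2, h3⟩ ⟨h1', h2', h3'⟩
    refine ⟨Γ.mul_mem h1 h1', ?_, ?_⟩
    · rw [Equiv.Perm.mul_apply, h2', h2]
    · rw [Equiv.Perm.mul_apply, h3', h3]
  one_mem' := ⟨Γ.one_mem, rfl, rfl⟩
  inv_mem' := by
    rintro γ ⟨h1, h2, h3⟩
    refine ⟨Γ.inv_mem h1, ?_, ?_⟩
    · rw [Equiv.Perm.inv_eq_iff_eq, h2]
    · rw [Equiv.Perm.inv_eq_iff_eq, h3]

theorem mem_Estab {Γ : Subgroup (Equiv.Perm (OnePoint V))} {γ : Equiv.Perm (OnePoint V)} :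
    γ ∈ Estab Γ ↔ γ ∈ Γ ∧ γ ∞ = ∞ ∧ γ ((0 : V) : OnePoint V) = ((0 : V) : OnePoint V) :=
  Iff.rfl

/-- The hypotheses of the model. -/
structure Mod0 (Γ : Subgroup (Equiv.Perm (OnePoint V))) (t : Equiv.Perm (OnePoint V)) :
    Prop where
  trans_mem : ∀ v : V, trans v ∈ Γ
  fix3 : ∀ γ ∈ Γ, ∀ p₁ p₂ p₃ : OnePoint V, p₁ ≠ p₂ → p₂ ≠ p₃ → p₁ ≠ p₃ → γ p₁ = p₁ →
    γ p₂ = p₂ → γ p₃ = p₃ → γ = 1
  add : ∀ γ ∈ Γ, γ ∞ = ∞ → γ ((0 : V) : OnePoint V) = ((0 : V) : OnePoint V) → ∀ x y : V,
    val (γ ((x + y : V) : OnePoint V)) = val (γ (x : OnePoint V)) + val (γ (y : OnePoint V))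
  t_mem : t ∈ Γ
  t_sq : t * t = 1
  t_zero : t ((0 : V) : OnePoint V) = ∞
  card : 2 * Nat.card (Estab Γ) + 1 = Nat.card V

/-- the linear action of an element fixing `∞` -/
def lin (γ : Equiv.Perm (OnePoint V)) (x : V) : V := val (γ (x : OnePoint V))

end Cfsg.Agent.Lib.Helper3.ZT
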