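import Mathlib
import Cfsg.Agent.Lib.Helper3.ZT0

set_option autoImplicit false
set_option linter.style.haveILetI false
set_option linter.unusedSectionVars false

/-!
# Zassenhaus' theorem: basic lemmas in the model
-/

namespace Cfsg.Agent.Lib.Helper3.ZT

open OnePoint

variable {V : Type*} [AddCommGroup V] {Γ : Subgroup (Equiv.Perm (OnePoint V))}
  {t : Equiv.Perm (OnePoint V)}

theorem coe_inj' {x y : V} (h : ((x : V) : OnePoint V) = (y : OnePoint V)) : x = y :=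
  OnePoint.coe_injective h

theorem Mod0.t_inv (m : Mod0 Γ t) : t⁻¹ = t := inv_eq_of_mul_eq_one_left m.t_sq

theorem Mod0.t_t (m : Mod0 Γ t) (p : OnePoint V) : t (t p) = p := by
  have := congrArg (fun f => f p) m.t_sq
  simpa using this

theorem Mod0.t_infty (m : Mod0 Γ t) : t ∞ = ((0 : V) : OnePoint V) := by
  rw [← m.t_zero, m.t_t]

theorem lin_spec {γ : Equiv.Perm (OnePoint V)} (hγ : γ ∞ = ∞) (x : V) :
    γ (x : OnePoint V) = ((lin γ x : V) : OnePoint V) := apply_coe hγ x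

theorem Mod0.lin_add (m : Mod0 Γ t) {h : Equiv.Perm (OnePoint V)} (hh : h ∈ Estab Γ) (x y : V) :
    lin h (x + y) = lin h x + lin h y := m.add h hh.1 hh.2.1 hh.2.2 x y

theorem lin_zero {h : Equiv.Perm (OnePoint V)} (hh : h ∈ Estab Γ) : lin h 0 = 0 := by
  unfold lin
  rw [hh.2.2]
  rfl

theorem lin_mul {h k : Equiv.Perm (OnePoint V)} (hk : k ∈ Estab Γ) (x : V) :
    lin (h * k) x = lin h (lin k x) := by
  show val (h (k (x : OnePoint V))) = val (h ((val (k (x : OnePoint V)) : V) : OnePoint V))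
  rw [← apply_coe hk.2.1 x]

theorem lin_one (x : V) : lin (1 : Equiv.Perm (OnePoint V)) x = x := rfl

theorem lin_inv_lin {h : Equiv.Perm (OnePoint V)} (hh : h ∈ Estab Γ) (x : V) :
    lin h⁻¹ (lin h x) = x := by
  rw [← lin_mul hh, inv_mul_cancel, lin_one]

theorem lin_lin_inv {h : Equiv.Perm (OnePoint V)} (hh : h ∈ Estab Γ) (x : V) :
    lin h (lin h⁻¹ x) = x := by
  rw [← lin_mul ((Estab Γ).inv_mem hh), mul_inv_cancel, lin_one]

theorem lin_injective {h : Equiv.Perm (OnePoint V)} (hh : h ∈ Estab Γ) :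
    Function.Injective (lin h) := Function.LeftInverse.injective (lin_inv_lin hh)

theorem lin_eq_zero_iff {h : Equiv.Perm (OnePoint V)} (hh : h ∈ Estab Γ) {x : V} :
    lin h x = 0 ↔ x = 0 := by
  constructor
  · intro hx
    apply lin_injective hh
    rw [hx, lin_zero hh]
  · rintro rfl
    exact lin_zero hh

theorem Mod0.lin_neg (m : Mod0 Γ t) {h : Equiv.Perm (OnePoint V)} (hh : h ∈ Estab Γ) (x : V) :
    lin h (-x) = -lin h x := by
  have h1 := m.lin_add hh x (-x)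
  rw [add_neg_cancel, lin_zero hh] at h1
  exact (neg_eq_of_add_eq_zero_right h1.symm).symm

theorem Mod0.semireg (m : Mod0 Γ t) {h : Equiv.Perm (OnePoint V)} (hh : h ∈ Estab Γ) {x : V}
    (hx : x ≠ 0) (hfix : lin h x = x) : h = 1 := by
  refine m.fix3 h hh.1 ∞ ((0 : V) : OnePoint V) (x : OnePoint V) (infty_ne_coe 0) ?_
    (infty_ne_coe x) hh.2.1 hh.2.2 ?_
  · intro h0
    exact hx (coe_inj' h0).symm
  · rw [lin_spec hh.2.1, hfix]

theorem E_ext {h k : Equiv.Perm (OnePoint V)} (hh : h ∈ Estab Γ) (hk : k ∈ Estab Γ)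
    (hx : ∀ x, lin h x = lin k x) : h = k := by
  ext p
  induction p using OnePoint.rec with
  | infty => rw [hh.2.1, hk.2.1]
  | coe x => rw [lin_spec hh.2.1, lin_spec hk.2.1, hx]

theorem Mod0.t_coe_eq_infty_iff (m : Mod0 Γ t) {x : V} : t (x : OnePoint V) = ∞ ↔ x = 0 := by
  constructor
  · intro h
    rw [← m.t_zero] at h
    exact coe_inj' (t.injective h)
  · rintro rfl
    exact m.t_zero

theorem Mod0.t_coe (m : Mod0 Γ t) {x : V} (hx : x ≠ 0) :
    t (x : OnePoint V) = ((lin t x : V) : OnePoint V) := by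
  refine (coe_val ?_).symm
  intro h
  exact hx (m.t_coe_eq_infty_iff.mp h)

theorem Mod0.tau_ne_zero (m : Mod0 Γ t) {x : V} (hx : x ≠ 0) : lin t x ≠ 0 := by
  intro h
  have h1 := m.t_coe hx
  rw [h, ← m.t_infty] at h1
  exact coe_ne_infty x (t.injective h1)

theorem Mod0.tau_tau (m : Mod0 Γ t) {x : V} (hx : x ≠ 0) : lin t (lin t x) = x := by
  show val (t ((lin t x : V) : OnePoint V)) = x
  rw [← m.t_coe hx, m.t_t]
  rfl

theorem Mod0.tau_injective (m : Mod0 Γ t) {x y : V} (hx : x ≠ 0) (hy : y ≠ 0)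
    (h : lin t x = lin t y) : x = y := by
  rw [← m.tau_tau hx, ← m.tau_tau hy, h]

theorem Mod0.tht_mem (m : Mod0 Γ t) {h : Equiv.Perm (OnePoint V)} (hh : h ∈ Estab Γ) :
    t * h * t ∈ Estab Γ := by
  refine ⟨Γ.mul_mem (Γ.mul_mem m.t_mem hh.1) m.t_mem, ?_, ?_⟩
  · rw [Equiv.Perm.mul_apply, Equiv.Perm.mul_apply, m.t_infty, hh.2.2, m.t_zero]
  · rw [Equiv.Perm.mul_apply, Equiv.Perm.mul_apply, m.t_zero, hh.2.1, m.t_infty]

theorem Mod0.tau_lin (m : Mod0 Γ t) {h : Equiv.Perm (OnePoint V)} (hh : h ∈ Estab Γ) {x : V}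
    (hx : x ≠ 0) : lin t (lin h x) = lin (t * h * t) (lin t x) := by
  show val (t ((lin h x : V) : OnePoint V)) = val ((t * h * t) ((lin t x : V) : OnePoint V))
  rw [← lin_spec hh.2.1, ← m.t_coe hx, Equiv.Perm.mul_apply, Equiv.Perm.mul_apply, m.t_t]

theorem Mod0.decomp (m : Mod0 Γ t) {γ : Equiv.Perm (OnePoint V)} (hγ : γ ∈ Γ) (hinf : γ ∞ = ∞) :
    trans (-(lin γ 0)) * γ ∈ Estab Γ := by
  refine ⟨Γ.mul_mem (m.trans_mem _) hγ, ?_, ?_⟩
  · rw [Equiv.Perm.mul_apply, hinf, trans_infty]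
  · rw [Equiv.Perm.mul_apply, lin_spec hinf, trans_coe, neg_add_cancel]

theorem decomp_eq (γ : Equiv.Perm (OnePoint V)) :
    γ = trans (lin γ 0) * (trans (-(lin γ 0)) * γ) := by
  rw [← mul_assoc, ← trans_add, add_neg_cancel, trans_zero, one_mul]

end Cfsg.Agent.Lib.Helper3.ZT
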