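import Mathlib
import Cfsg.Agent.Lib.Helper3.ZT1

set_option autoImplicit false
set_option linter.style.haveILetI false
set_option linter.unusedSectionVars false

/-!
# Zassenhaus' theorem: from a group to the model
-/

namespace Cfsg.Agent.Lib.Helper3.ZT

open OnePoint MulAction

variable {G Ω : Type*} [Group G] [MulAction G Ω] {a b : Ω} {F : Subgroup G}
  {W : Type*} [AddCommGroup W]

/-- the data of the transport of a group to the model on `OnePoint W` -/
structure Tr (G : Type*) {Ω : Type*} [Group G] [MulAction G Ω] (a b : Ω) (F : Subgroup G)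
    {W : Type*} [AddCommGroup W] (j : Multiplicative W ≃* F) (Ψ : OnePoint W ≃ Ω) : Prop where
  hab : a ≠ b
  fix3 : ∀ g : G, ∀ p q r : Ω, p ≠ q → q ≠ r → p ≠ r → g • p = p → g • q = q → g • r = r → g = 1
  le : F ≤ stabilizer G a
  normal : ∀ g : G, g • a = a → ∀ u ∈ F, g * u * g⁻¹ ∈ F
  semi : ∀ u ∈ F, ∀ v ∈ F, u • b = v • b → u = v
  psi_infty : Ψ ∞ = a
  psi_coe : ∀ w : W, Ψ (w : OnePoint W) = ((j (Multiplicative.ofAdd w) : F) : G) • b
  hcard : 2 * Nat.card ↥(stabilizer G a ⊓ stabilizer G b) + 1 = Nat.card W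

/-- the permutation representation on `OnePoint W` -/
def Phi (Ψ : OnePoint W ≃ Ω) : G →* Equiv.Perm (OnePoint W) :=
  (Ψ.symm.permCongrHom.toMonoidHom).comp (MulAction.toPermHom G Ω)

theorem Phi_apply (Ψ : OnePoint W ≃ Ω) (g : G) (p : OnePoint W) :
    Phi Ψ g p = Ψ.symm (g • Ψ p) := rfl

theorem Phi_fix_iff (Ψ : OnePoint W ≃ Ω) (g : G) (p : OnePoint W) :
    Phi Ψ g p = p ↔ g • Ψ p = Ψ p := by
  rw [Phi_apply, Equiv.symm_apply_eq]

variable {j : Multiplicative W ≃* F} {Ψ : OnePoint W ≃ Ω}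

theorem Tr.psi_zero (d : Tr G a b F j Ψ) : Ψ ((0 : W) : OnePoint W) = b := by
  rw [d.psi_coe, ofAdd_zero, map_one, Subgroup.coe_one, one_smul]

theorem Tr.Phi_infty_iff (d : Tr G a b F j Ψ) (g : G) : Phi Ψ g ∞ = ∞ ↔ g • a = a := by
  rw [Phi_fix_iff, d.psi_infty]

theorem Tr.Phi_zero_iff (d : Tr G a b F j Ψ) (g : G) :
    Phi Ψ g ((0 : W) : OnePoint W) = ((0 : W) : OnePoint W) ↔ g • b = b := by
  rw [Phi_fix_iff, d.psi_zero]

theorem Tr.exists_ne_zero [Finite G] (d : Tr G a b F j Ψ) : ∃ w : W, w ≠ 0 := by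
  by_contra hcon
  push Not at hcon
  haveI : Subsingleton W := ⟨fun x y => by rw [hcon x, hcon y]⟩
  have h1 : Nat.card W = 1 := Nat.card_unique
  have h2 := d.hcard
  rw [h1] at h2
  have h3 : 0 < Nat.card ↥(stabilizer G a ⊓ stabilizer G b) := Nat.card_pos
  omega

theorem Tr.Phi_injective [Finite G] (d : Tr G a b F j Ψ) : Function.Injective (Phi Ψ : G →* _) := by
  rw [injective_iff_map_eq_one]
  intro g hg
  obtain ⟨w, hw⟩ := d.exists_ne_zero
  have hfix : ∀ p : OnePoint W, g • Ψ p = Ψ p := by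
    intro p
    rw [← Phi_fix_iff, hg, Equiv.Perm.one_apply]
  refine d.fix3 g (Ψ ∞) (Ψ ((0 : W) : OnePoint W)) (Ψ (w : OnePoint W)) ?_ ?_ ?_ (hfix _) (hfix _)
    (hfix _)
  · exact fun h => infty_ne_coe _ (Ψ.injective h)
  · exact fun h => hw (coe_inj' (Ψ.injective h)).symm
  · exact fun h => infty_ne_coe _ (Ψ.injective h)

theorem Tr.Phi_j (d : Tr G a b F j Ψ) (v : W) :
    Phi Ψ ((j (Multiplicative.ofAdd v) : F) : G) = trans v := by
  ext p
  induction p using OnePoint.rec with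
  | infty =>
    rw [trans_infty, d.Phi_infty_iff]
    exact d.le (j (Multiplicative.ofAdd v)).2
  | coe x =>
    rw [trans_coe, Phi_apply, Equiv.symm_apply_eq, d.psi_coe, d.psi_coe, ← mul_smul, ofAdd_add,
      map_mul, Subgroup.coe_mul]

/-- the key lemma on the linear action of the two point stabilizer -/
theorem Tr.lin_Phi (d : Tr G a b F j Ψ) {g : G} (hga : g • a = a) (hgb : g • b = b) (x : W) :
    ((j (Multiplicative.ofAdd (lin (Phi Ψ g) x)) : F) : G)
      = g * ((j (Multiplicative.ofAdd x) : F) : G) * g⁻¹ := by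
  have hinf : Phi Ψ g ∞ = ∞ := (d.Phi_infty_iff g).mpr hga
  have h1 := lin_spec hinf x
  rw [Phi_apply, Equiv.symm_apply_eq, d.psi_coe, d.psi_coe] at h1
  apply d.semi _ (j _).2 _ (d.normal g hga _ (j _).2)
  rw [← h1, mul_smul, mul_smul, inv_smul_eq_iff.mpr hgb.symm]

theorem Tr.Estab_eq [Finite G] (d : Tr G a b F j Ψ) :
    Estab (Phi Ψ : G →* _).range = (stabilizer G a ⊓ stabilizer G b).map (Phi Ψ) := by
  ext γ
  rw [mem_Estab, Subgroup.mem_map]
  constructor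
  · rintro ⟨⟨g, rfl⟩, h1, h2⟩
    refine ⟨g, ?_, rfl⟩
    rw [Subgroup.mem_inf, mem_stabilizer_iff, mem_stabilizer_iff]
    exact ⟨(d.Phi_infty_iff g).mp h1, (d.Phi_zero_iff g).mp h2⟩
  · rintro ⟨g, hg, rfl⟩
    rw [Subgroup.mem_inf, mem_stabilizer_iff, mem_stabilizer_iff] at hg
    exact ⟨⟨g, rfl⟩, (d.Phi_infty_iff g).mpr hg.1, (d.Phi_zero_iff g).mpr hg.2⟩

theorem Tr.mod0 [Finite G] (d : Tr G a b F j Ψ) {t : G} (htb : t • b = a) (ht : t * t = 1) :
    Mod0 (Phi Ψ : G →* _).range (Phi Ψ t) := by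
  have hE := d.Estab_eq
  refine
    { trans_mem := fun v => ⟨_, d.Phi_j v⟩
      fix3 := ?_
      add := ?_
      t_mem := ⟨t, rfl⟩
      t_sq := by rw [← map_mul, ht, map_one]
      t_zero := by rw [Phi_apply, d.psi_zero, htb, Equiv.symm_apply_eq, d.psi_infty]
      card := ?_ }
  · rintro γ ⟨g, rfl⟩ p₁ p₂ p₃ h12 h23 h13 h1 h2 h3
    rw [Phi_fix_iff] at h1 h2 h3
    rw [d.fix3 g (Ψ p₁) (Ψ p₂) (Ψ p₃) (fun h => h12 (Ψ.injective h))
      (fun h => h23 (Ψ.injective h)) (fun h => h13 (Ψ.injective h)) h1 h2 h3, map_one]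
  · rintro γ ⟨g, rfl⟩ hinf h0 x y
    have hga := (d.Phi_infty_iff g).mp hinf
    have hgb := (d.Phi_zero_iff g).mp h0
    show lin (Phi Ψ g) (x + y) = lin (Phi Ψ g) x + lin (Phi Ψ g) y
    apply Multiplicative.ofAdd.injective
    apply j.injective
    apply Subtype.ext
    rw [d.lin_Phi hga hgb, ofAdd_add, map_mul, Subgroup.coe_mul, ofAdd_add, map_mul,
      Subgroup.coe_mul, d.lin_Phi hga hgb, d.lin_Phi hga hgb]
    group
  · rw [hE, Subgroup.card_map_of_injective d.Phi_injective]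
    exact d.hcard

end Cfsg.Agent.Lib.Helper3.ZT
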