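import Mathlib
import Cfsg.Agent.Lib.Helper3.ZT9

set_option autoImplicit false
set_option linter.style.haveILetI false
set_option linter.unusedSectionVars false

/-!
# Zassenhaus' theorem: existence of the transport data
-/

namespace Cfsg.Agent.Lib.Helper3.ZT

open OnePoint MulAction

variable {G Ω : Type*} [Group G] [MulAction G Ω] {a b : Ω} {F : Subgroup G}
  {W : Type*} [AddCommGroup W]

theorem semi_of_reg (hab : a ≠ b) (hFle : F ≤ stabilizer G a)
    (hreg : ∀ y z : Ω, y ≠ a → z ≠ a → ∃! u : F, (u : G) • y = z) :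
    ∀ u ∈ F, ∀ v ∈ F, u • b = v • b → u = v := by
  intro u hu v hv huv
  have hz : v • b ≠ a := by
    intro h
    have h1 : v • a = a := hFle hv
    rw [← h1] at h
    exact hab (smul_left_cancel v h).symm
  have h1 := (hreg b (v • b) hab.symm hz).unique (y₁ := ⟨u, hu⟩) (y₂ := ⟨v, hv⟩) huv rfl
  exact congrArg Subtype.val h1

theorem fix_of_reg (hreg : ∀ y z : Ω, y ≠ a → z ≠ a → ∃! u : F, (u : G) • y = z) :
    ∀ u ∈ F, u ≠ 1 → ∀ c : Ω, u • c = c → c = a := by
  intro u hu hu1 c hc
  by_contra hca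
  have h1 := (hreg c c hca hca).unique (y₁ := ⟨u, hu⟩) (y₂ := 1) hc (one_smul _ _)
  exact hu1 (congrArg Subtype.val h1)

theorem exists_psi (hab : a ≠ b) (hFle : F ≤ stabilizer G a)
    (hreg : ∀ y z : Ω, y ≠ a → z ≠ a → ∃! u : F, (u : G) • y = z)
    (j : Multiplicative W ≃* F) :
    ∃ Ψ : OnePoint W ≃ Ω, Ψ ∞ = a ∧
      ∀ w : W, Ψ (w : OnePoint W) = ((j (Multiplicative.ofAdd w) : F) : G) • b := by
  have hsemi := semi_of_reg hab hFle hreg
  let f : OnePoint W → Ω := fun p => p.elim a (fun w => ((j (Multiplicative.ofAdd w) : F) : G) • b)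
  have hne : ∀ w : W, ((j (Multiplicative.ofAdd w) : F) : G) • b ≠ a := by
    intro w h
    have h1 : ((j (Multiplicative.ofAdd w) : F) : G) • a = a := hFle (j _).2
    rw [← h1] at h
    exact hab (smul_left_cancel _ h).symm
  have hbij : Function.Bijective f := by
    constructor
    · intro p q hpq
      induction p using OnePoint.rec with
      | infty =>
        induction q using OnePoint.rec with
        | infty => rfl
        | coe y => exact absurd hpq.symm (hne y)
      | coe x =>
        induction q using OnePoint.rec with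
        | infty => exact absurd hpq (hne x)
        | coe y =>
          have h1 := hsemi _ (j _).2 _ (j _).2 hpq
          have h2 := j.injective (Subtype.ext h1)
          rw [Multiplicative.ofAdd.injective h2]
    · intro y
      by_cases hy : y = a
      · exact ⟨∞, hy.symm⟩
      · obtain ⟨u, hu, -⟩ := hreg b y hab.symm hy
        refine ⟨((Multiplicative.toAdd (j.symm u) : W) : OnePoint W), ?_⟩
        show ((j (Multiplicative.ofAdd (Multiplicative.toAdd (j.symm u))) : F) : G) • b = y
        rw [ofAdd_toAdd, MulEquiv.apply_symm_apply]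
        exact hu
  exact ⟨Equiv.ofBijective f hbij, rfl, fun w => rfl⟩

theorem exists_tr (hab : a ≠ b)
    (hfix3 : ∀ g : G, ∀ p q r : Ω, p ≠ q → q ≠ r → p ≠ r → g • p = p → g • q = q → g • r = r →
      g = 1)
    (hFle : F ≤ stabilizer G a) (hFn : (F.subgroupOf (stabilizer G a)).Normal)
    (hreg : ∀ y z : Ω, y ≠ a → z ≠ a → ∃! u : F, (u : G) • y = z)
    (j : Multiplicative W ≃* F)
    (hcard : 2 * Nat.card ↥(stabilizer G a ⊓ stabilizer G b) + 1 = Nat.card W) :
    ∃ Ψ : OnePoint W ≃ Ω, Tr G a b F j Ψ := by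
  obtain ⟨Ψ, h1, h2⟩ := exists_psi hab hFle hreg j
  refine ⟨Ψ, hab, hfix3, hFle, ?_, semi_of_reg hab hFle hreg, h1, h2, hcard⟩
  intro g hg u hu
  have h3 := hFn.conj_mem ⟨u, hFle hu⟩ (Subgroup.mem_subgroupOf.mpr hu) ⟨g, hg⟩
  exact Subgroup.mem_subgroupOf.mp h3

end Cfsg.Agent.Lib.Helper3.ZT
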