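import Mathlib
import Cfsg.Agent.Lib.Helper97.Zass

set_option autoImplicit false
set_option linter.style.haveILetI false
set_option linter.unusedSectionVars false

/-!
# Zassenhaus' theorem: the sharply triply transitive alternative
-/

namespace Cfsg.Agent.Lib.Helper3.ZT

open MulAction
open Cfsg.Agent.Lib.Helper97.Zass

variable {G Ω : Type*} [Group G] [MulAction G Ω]

/-- If the two point stabilizer has `n - 2` elements, it is transitive on the remaining points. -/
theorem twoStab_transitive [Fintype Ω] [Finite G] (hy : Hyp G Ω) {a b : Ω} (hab : a ≠ b)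
    (he : Nat.card ↥(stabilizer G a ⊓ stabilizer G b) + 2 = Fintype.card Ω) {c d : Ω}
    (hca : c ≠ a) (hcb : c ≠ b) (hda : d ≠ a) (hdb : d ≠ b) :
    ∃ h : G, h • a = a ∧ h • b = b ∧ h • c = d := by
  classical
  haveI : Fintype ↥(stabilizer G a ⊓ stabilizer G b) := Fintype.ofFinite _
  set s : Finset Ω := Finset.univ.image (fun h : ↥(stabilizer G a ⊓ stabilizer G b) => (h : G) • c)
    with hs
  have hmem : ∀ h : ↥(stabilizer G a ⊓ stabilizer G b), (h : G) • a = a ∧ (h : G) • b = b := by
    intro h
    have := h.2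
    rw [Subgroup.mem_inf, mem_stabilizer_iff, mem_stabilizer_iff] at this
    exact this
  have hinj : Function.Injective
      (fun h : ↥(stabilizer G a ⊓ stabilizer G b) => (h : G) • c) := by
    intro h k hhk
    have hhk' : (h : G) • c = (k : G) • c := hhk
    have h1 : ((k : G)⁻¹ * (h : G)) • c = c := by
      rw [mul_smul, hhk', inv_smul_smul]
    have h2 : ((k : G)⁻¹ * (h : G)) • a = a := by
      rw [mul_smul, (hmem h).1, inv_smul_eq_iff, (hmem k).1]
    have h3 : ((k : G)⁻¹ * (h : G)) • b = b := by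
      rw [mul_smul, (hmem h).2, inv_smul_eq_iff, (hmem k).2]
    have h4 := hy.h3 _ a b c hab hcb.symm hca.symm h2 h3 h1
    apply Subtype.ext
    calc (h : G) = (k : G) * ((k : G)⁻¹ * (h : G)) := by group
      _ = k := by rw [h4, mul_one]
  have hcs : s.card = Nat.card ↥(stabilizer G a ⊓ stabilizer G b) := by
    rw [hs, Finset.card_image_of_injective _ hinj, Finset.card_univ, Nat.card_eq_fintype_card]
  have hsub : s ⊆ (Finset.univ.erase a).erase b := by
    intro z hz
    obtain ⟨h, -, rfl⟩ := Finset.mem_image.mp hz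
    rw [Finset.mem_erase, Finset.mem_erase]
    refine ⟨?_, ?_, Finset.mem_univ _⟩
    · intro h0
      exact hcb (smul_left_cancel (h : G) (h0.trans (hmem h).2.symm))
    · intro h0
      exact hca (smul_left_cancel (h : G) (h0.trans (hmem h).1.symm))
  have hct : ((Finset.univ.erase a).erase b).card = Fintype.card Ω - 2 := by
    rw [Finset.card_erase_of_mem, Finset.card_erase_of_mem (Finset.mem_univ _), Finset.card_univ]
    · omega
    · rw [Finset.mem_erase]
      exact ⟨hab.symm, Finset.mem_univ _⟩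
  have heq : s = (Finset.univ.erase a).erase b :=
    Finset.eq_of_subset_of_card_le hsub (by rw [hcs, hct]; omega)
  have hd : d ∈ s := by
    rw [heq, Finset.mem_erase, Finset.mem_erase]
    exact ⟨hdb, hda, Finset.mem_univ _⟩
  obtain ⟨h, -, hh⟩ := Finset.mem_image.mp hd
  exact ⟨h, (hmem h).1, (hmem h).2, hh⟩

/-- The sharply triply transitive alternative. -/
theorem sharply_three [Fintype Ω] [Finite G] (hy : Hyp G Ω) {a b : Ω} (hab : a ≠ b)
    (he : Nat.card ↥(stabilizer G a ⊓ stabilizer G b) + 2 = Fintype.card Ω) :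
    MulAction.IsMultiplyPretransitive G Ω 3 ∧ ∀ t : Fin 3 ↪ Ω, MulAction.stabilizer G t = ⊥ := by
  constructor
  · rw [MulAction.isMultiplyPretransitive_iff]
    intro x y
    have hx01 : x 0 ≠ x 1 := fun h => by simpa using x.injective h
    have hx02 : x 0 ≠ x 2 := fun h => by simpa using x.injective h
    have hx12 : x 1 ≠ x 2 := fun h => by simpa using x.injective h
    have hy01 : y 0 ≠ y 1 := fun h => by simpa using y.injective h
    have hy02 : y 0 ≠ y 2 := fun h => by simpa using y.injective h
    have hy12 : y 1 ≠ y 2 := fun h => by simpa using y.injective h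
    obtain ⟨g₁, hg₁a, hg₁b⟩ := hy.h2 hx01 hab
    obtain ⟨g₂, hg₂a, hg₂b⟩ := hy.h2 hy01 hab
    have hca : g₁ • x 2 ≠ a := by
      rw [← hg₁a]
      exact fun h => hx02 (smul_left_cancel _ h).symm
    have hcb : g₁ • x 2 ≠ b := by
      rw [← hg₁b]
      exact fun h => hx12 (smul_left_cancel _ h).symm
    have hda : g₂ • y 2 ≠ a := by
      rw [← hg₂a]
      exact fun h => hy02 (smul_left_cancel _ h).symm
    have hdb : g₂ • y 2 ≠ b := by
      rw [← hg₂b]
      exact fun h => hy12 (smul_left_cancel _ h).symm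
    obtain ⟨h, hha, hhb, hhc⟩ := twoStab_transitive hy hab he hca hcb hda hdb
    refine ⟨g₂⁻¹ * h * g₁, ?_⟩
    ext i
    rw [Function.Embedding.smul_apply]
    fin_cases i
    · show (g₂⁻¹ * h * g₁) • x 0 = y 0
      rw [mul_smul, mul_smul, hg₁a, hha, inv_smul_eq_iff, hg₂a]
    · show (g₂⁻¹ * h * g₁) • x 1 = y 1
      rw [mul_smul, mul_smul, hg₁b, hhb, inv_smul_eq_iff, hg₂b]
    · show (g₂⁻¹ * h * g₁) • x 2 = y 2
      rw [mul_smul, mul_smul, hhc, inv_smul_smul]
  · intro t
    rw [eq_bot_iff]
    intro g hg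
    rw [mem_stabilizer_iff] at hg
    have hfix : ∀ i, g • t i = t i := by
      intro i
      have := congrArg (fun f : Fin 3 ↪ Ω => f i) hg
      simpa [Function.Embedding.smul_apply] using this
    have h01 : t 0 ≠ t 1 := fun h => by simpa using t.injective h
    have h02 : t 0 ≠ t 2 := fun h => by simpa using t.injective h
    have h12 : t 1 ≠ t 2 := fun h => by simpa using t.injective h
    rw [Subgroup.mem_bot]
    exact hy.h3 g (t 0) (t 1) (t 2) h01 h12 h02 (hfix 0) (hfix 1) (hfix 2)

end Cfsg.Agent.Lib.Helper3.ZT
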