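import Mathlib
import Cfsg.Prelude.Def_Characters
import Cfsg.Agent.Lib.Helper3.CharOps
import Cfsg.Agent.Lib.Helper3.Induced

set_option autoImplicit false

/-!
# Algebra of induced class functions

Linearity of `indFun`, the push-pull formula `ind (θ · res χ) = ind θ · χ`.
-/

namespace Cfsg.Agent.Lib.Helper3

open Cfsg

universe u

variable {G : Type u} [Group G]

theorem extendByZero_add (H : Subgroup G) (θ θ' : H → ℂ) :
    extendByZero H (θ + θ') = extendByZero H θ + extendByZero H θ' := by
  funext y
  by_cases hy : y ∈ H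
  · simp [extendByZero_apply_mem H hy]
  · simp [extendByZero_apply_not_mem H hy]

theorem extendByZero_smul (H : Subgroup G) (c : ℂ) (θ : H → ℂ) :
    extendByZero H (c • θ) = c • extendByZero H θ := by
  funext y
  by_cases hy : y ∈ H
  · simp [extendByZero_apply_mem H hy]
  · simp [extendByZero_apply_not_mem H hy]

theorem extendByZero_zero (H : Subgroup G) :
    extendByZero H (0 : H → ℂ) = 0 := by
  funext y
  by_cases hy : y ∈ H
  · simp [extendByZero_apply_mem H hy]
  · simp [extendByZero_apply_not_mem H hy]

theorem extendByZero_mul_restrict (H : Subgroup G) (θ : H → ℂ) (χ : G → ℂ) :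
    extendByZero H (fun h => θ h * χ h) = extendByZero H θ * χ := by
  funext y
  by_cases hy : y ∈ H
  · simp [extendByZero_apply_mem H hy]
  · simp [extendByZero_apply_not_mem H hy]

variable [Fintype G]

theorem indFun_add (H : Subgroup G) (θ θ' : H → ℂ) :
    indFun H (θ + θ') = indFun H θ + indFun H θ' := by
  funext g
  simp only [indFun, extendByZero_add, Pi.add_apply, Finset.sum_add_distrib, mul_add]

theorem indFun_smul (H : Subgroup G) (c : ℂ) (θ : H → ℂ) :
    indFun H (c • θ) = c • indFun H θ := by
  funext g
  simp only [indFun, extendByZero_smul, Pi.smul_apply, smul_eq_mul, ← Finset.mul_sum]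
  ring

theorem indFun_zero (H : Subgroup G) : indFun H (0 : H → ℂ) = 0 := by
  funext g
  simp [indFun, extendByZero_zero]

theorem indFun_sum (H : Subgroup G) {ι : Type*} (s : Finset ι) (θ : ι → H → ℂ) :
    indFun H (∑ i ∈ s, θ i) = ∑ i ∈ s, indFun H (θ i) := by
  classical
  induction s using Finset.induction_on with
  | empty => simp [indFun_zero]
  | insert a s ha ih => rw [Finset.sum_insert ha, Finset.sum_insert ha, indFun_add, ih]

theorem indFun_sub (H : Subgroup G) (θ θ' : H → ℂ) :
    indFun H (θ - θ') = indFun H θ - indFun H θ' := by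
  have : θ - θ' = θ + (-1 : ℂ) • θ' := by
    funext h; simp [sub_eq_add_neg]
  rw [this, indFun_add, indFun_smul]
  funext g; simp [sub_eq_add_neg]

/-- Push-pull: `ind (θ · res χ) = ind θ · χ` for a class function `χ` of `G`. -/
theorem indFun_mul_restrict (H : Subgroup G) (θ : H → ℂ) {χ : G → ℂ}
    (hχ : IsClassFunction G χ) :
    indFun H (fun h => θ h * χ h) = indFun H θ * χ := by
  funext g
  simp only [indFun, extendByZero_mul_restrict, Pi.mul_apply]
  rw [mul_assoc, Finset.sum_mul]
  congr 1
  refine Finset.sum_congr rfl fun x _ => ?_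
  have : χ (x⁻¹ * g * x) = χ g := by
    have := hχ g x⁻¹
    rwa [inv_inv] at this
  rw [this]

theorem isClassFunction_indFun (H : Subgroup G) (θ : H → ℂ) :
    IsClassFunction G (indFun H θ) := by
  intro g h
  simp only [indFun]
  congr 1
  refine Fintype.sum_equiv (Equiv.mulLeft h⁻¹) _ _ fun x => ?_
  simp only [Equiv.coe_mulLeft]
  congr 1
  group

end Cfsg.Agent.Lib.Helper3
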