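import Mathlib
import Cfsg.Prelude.Def_Characters

set_option autoImplicit false

namespace Cfsg.Agent.Lib.Helper3

open Module

section Irr

variable {k G V W : Type*} [Field k] [Monoid G] [AddCommGroup V] [Module k V]
  [AddCommGroup W] [Module k W]

/-- The subrepresentation attached to an invariant submodule. -/
def subrepOf (ρ : Representation k G V) (S : Submodule k V)
    (hS : ∀ g : G, ∀ v ∈ S, ρ g v ∈ S) : Subrepresentation ρ :=
  ⟨S, fun g v hv => hS g v hv⟩

theorem isIrreducible_iff (ρ : Representation k G V) :
    ρ.IsIrreducible ↔ Nontrivial V ∧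
      ∀ S : Submodule k V, (∀ g : G, ∀ v ∈ S, ρ g v ∈ S) → S = ⊥ ∨ S = ⊤ := by
  constructor
  · intro h
    refine ⟨?_, ?_⟩
    · by_contra hV
      rw [not_nontrivial_iff_subsingleton] at hV
      obtain ⟨a, b, hab⟩ := h.toNontrivial
      apply hab
      apply Subrepresentation.toSubmodule_injective
      exact Subsingleton.elim _ _
    · intro S hS
      rcases h.eq_bot_or_eq_top (subrepOf ρ S hS) with h1 | h1
      · left
        exact congrArg Subrepresentation.toSubmodule h1
      · right
        exact congrArg Subrepresentation.toSubmodule h1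
  · rintro ⟨hV, h⟩
    refine { exists_pair_ne := ?_, eq_bot_or_eq_top := ?_ }
    · refine ⟨⊥, ⊤, ?_⟩
      intro hbt
      have : (⊥ : Submodule k V) = ⊤ := congrArg Subrepresentation.toSubmodule hbt
      exact bot_ne_top this
    · intro S
      rcases h S.toSubmodule (fun g v hv => S.apply_mem_toSubmodule g hv) with h1 | h1
      · left
        exact Subrepresentation.toSubmodule_injective h1
      · right
        exact Subrepresentation.toSubmodule_injective h1

theorem isIrreducible_of_equiv {ρ : Representation k G V} {σ : Representation k G W}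
    (φ : ρ.Equiv σ) (h : ρ.IsIrreducible) : σ.IsIrreducible := by
  rw [isIrreducible_iff] at h ⊢
  obtain ⟨hV, h⟩ := h
  refine ⟨φ.toLinearEquiv.symm.toEquiv.nontrivial, ?_⟩
  intro S hS
  have key := h (S.comap φ.toLinearEquiv.toLinearMap) (by
    intro g v hv
    simp only [Submodule.mem_comap] at hv ⊢
    have h2 : φ.toLinearEquiv.toLinearMap (ρ g v) = σ g (φ.toLinearEquiv.toLinearMap v) :=
      φ.toIntertwiningMap.isIntertwining ρ σ g v
    rw [h2]
    exact hS g _ hv)
  rcases key with h1 | h1
  · left
    have := congrArg (Submodule.map φ.toLinearEquiv.toLinearMap) h1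
    rwa [Submodule.map_comap_eq_of_surjective φ.toLinearEquiv.surjective, Submodule.map_bot] at this
  · right
    have := congrArg (Submodule.map φ.toLinearEquiv.toLinearMap) h1
    rwa [Submodule.map_comap_eq_of_surjective φ.toLinearEquiv.surjective, Submodule.map_top,
      LinearMap.range_eq_top.mpr φ.toLinearEquiv.surjective] at this

/-- Transport a representation along a linear equivalence. -/
def transportRep (ρ : Representation k G V) (e : V ≃ₗ[k] W) : Representation k G W where
  toFun g := e.conj (ρ g)
  map_one' := by
    rw [map_one]
    exact LinearEquiv.conj_id e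
  map_mul' x y := by
    rw [map_mul]
    exact LinearEquiv.conj_comp e (ρ y) (ρ x)

theorem transportRep_apply (ρ : Representation k G V) (e : V ≃ₗ[k] W) (g : G) (w : W) :
    transportRep ρ e g w = e (ρ g (e.symm w)) := rfl

/-- A representation is equivalent to its transport. -/
def transportEquiv (ρ : Representation k G V) (e : V ≃ₗ[k] W) : ρ.Equiv (transportRep ρ e) :=
  Representation.Equiv.mk e (fun g => by
    ext v
    simp [transportRep_apply])

end Irr

end Cfsg.Agent.Lib.Helper3
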