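import Mathlib
import Cfsg.Prelude.Def_Characters
import Cfsg.Agent.Lib.Helper3.IndAlg
import Cfsg.Agent.Lib.Helper3.Decomp
import Cfsg.Agent.Lib.Helper3.RepBasic
import Cfsg.Agent.Lib.Helper80.Schur
import Cfsg.Agent.Lib.Helper79.Ito

set_option autoImplicit false

/-!
# Nonlinear irreducible characters of (abelian normal)-by-(p-group) are induced from
proper subgroups
-/

namespace Cfsg.Agent.Lib.Helper3

open Cfsg

universe u

/-- An irreducible representation all of whose operators are scalars has dimension one. -/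
theorem finrank_eq_one_of_forall_scalar {A : Type*} [Group A] {V : Type*} [AddCommGroup V]
    [Module ℂ V] [FiniteDimensional ℂ V] (σ : Representation ℂ A V) (hσ : σ.IsIrreducible)
    (hsc : ∀ a : A, ∃ c : ℂ, σ a = c • LinearMap.id) : Module.finrank ℂ V = 1 := by
  obtain ⟨hnt, hS⟩ := (isIrreducible_iff σ).mp hσ
  obtain ⟨v, hv⟩ := exists_ne (0 : V)
  have h := hS (Submodule.span ℂ {v}) (by
    intro g w hw
    obtain ⟨c, hc⟩ := hsc g
    rw [hc]
    simp only [LinearMap.smul_apply, LinearMap.id_coe, id_eq]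
    exact Submodule.smul_mem _ _ hw)
  rcases h with h | h
  · exfalso
    apply hv
    have : v ∈ Submodule.span ℂ {v} := Submodule.mem_span_singleton_self v
    rw [h] at this
    exact (Submodule.mem_bot ℂ).mp this
  · have h1 := finrank_span_singleton (K := ℂ) hv
    rw [h, finrank_top] at h1
    exact h1

/-- An irreducible constituent of the character of a representation whose operators commute
pairwise is linear. -/
theorem irr_constituent_linear_of_commute {A : Type u} [Group A] [Fintype A] {n : ℕ}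
    (τ : Representation ℂ A (Fin n → ℂ)) (hcomm : ∀ a b : A, τ a * τ b = τ b * τ a)
    {θ : A → ℂ} (hθ : IsIrrCharacter A θ) (hne : classInner τ.character θ ≠ 0) : θ 1 = 1 := by
  obtain ⟨m, σ, hσ, rfl⟩ := hθ
  haveI := hσ
  have hne1 : Module.finrank ℂ (Representation.IntertwiningMap σ τ) ≠ 0 := by
    intro h0
    apply hne
    rw [classInner_character_eq_finrank, h0]
    simp
  obtain ⟨f, hf⟩ := (Module.finrank_pos_iff_exists_ne_zero (R := ℂ)).mp
    (Nat.pos_of_ne_zero hne1)
  have hfi : Function.Injective f :=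
    (Representation.IsIrreducible.injective_or_eq_zero f).resolve_right hf
  have hint : ∀ (a : A) (w : Fin m → ℂ), f (σ a w) = τ a (f w) :=
    fun a w => f.isIntertwining σ τ a w
  have hσcomm : ∀ a b : A, σ a ∘ₗ σ b = σ b ∘ₗ σ a := by
    intro a b
    apply LinearMap.ext
    intro w
    apply hfi
    simp only [LinearMap.comp_apply]
    rw [hint, hint, hint, hint]
    have := congrArg (fun T => T (f w)) (hcomm a b)
    simpa using this
  have hsc : ∀ a : A, ∃ c : ℂ, σ a = c • LinearMap.id := by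
    intro a
    exact Cfsg.Agent.Lib.Helper80.schur_scalar σ (σ a) (fun g => hσcomm a g)
  have h1 := finrank_eq_one_of_forall_scalar σ hσ hsc
  rw [Representation.char_one, h1]
  simp


open Cfsg.Agent.Lib.Helper75 Cfsg.Agent.Lib.Helper79 in
/-- If the inertia group of a *linear* constituent `θ` of the restriction of an irreducible
representation to a normal subgroup `A` is everything, then `A` acts by scalars.
(Generalizes `Helper79.scalar_of_inertia_eq_top`.) -/
theorem scalar_of_inertia_eq_top_of_linear {G : Type u} [Group G] [Fintype G] (A : Subgroup G)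
    [hAn : A.Normal] [Fintype A] {n : ℕ}
    (ρ : Representation ℂ G (Fin n → ℂ)) (hρ : ρ.IsIrreducible) {θ : A → ℂ}
    (hθ : IsIrrCharacter A θ) (hθ1 : θ 1 = 1)
    (h : classInner (fun a : A => ρ.character a) θ ≠ 0)
    (hT : inertia A θ = ⊤) : ∀ a ∈ A, ∃ c : ℂ, ρ a = c • LinearMap.id := by
  classical
  have hχ : IsIrrCharacter G ρ.character := ⟨n, ρ, hρ, rfl⟩
  have h1 := Cfsg.Agent.S0174.result A hAn ρ.character hχ θ hθ h
  have hS : {ψ : A → ℂ | ∃ g : G, ψ = fun a : A => θ ⟨g * a * g⁻¹, hAn.conj_mem a a.2 g⟩} =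
      {θ} := by
    ext ψ
    simp only [Set.mem_ofPred_eq, Set.mem_singleton_iff]
    constructor
    · rintro ⟨g, rfl⟩
      have hg : g ∈ inertia A θ := by rw [hT]; exact Subgroup.mem_top g
      exact hg
    · rintro rfl
      exact ⟨1, (conjFun_one A ψ).symm⟩
  rw [hS, finsum_mem_singleton] at h1
  obtain ⟨φ, hφ⟩ := exists_monoidHom_of_isCharacter_of_one
    (Cfsg.Agent.Lib.Helper3.IsIrrCharacter.isCharacter hθ) hθ1
  set e := classInner (fun a : A => ρ.character a) θ with he
  have hen : e = (n : ℂ) := by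
    have h2 := congrFun h1 1
    simp only [Pi.smul_apply, smul_eq_mul, hθ1, mul_one] at h2
    rw [← h2]
    exact rep_character_one ρ
  intro a ha
  refine ⟨((φ ⟨a, ha⟩ : ℂˣ) : ℂ), ?_⟩
  have hχa : ρ.character a = (n : ℂ) * ((φ ⟨a, ha⟩ : ℂˣ) : ℂ) := by
    have h2 := congrFun h1 ⟨a, ha⟩
    simp only [Pi.smul_apply, smul_eq_mul] at h2
    rw [h2, hen, hφ]
  set c : ℂ := ((φ ⟨a, ha⟩ : ℂˣ) : ℂ) with hc
  have hc0 : c ≠ 0 := Units.ne_zero _
  have hm : 0 < orderOf a := orderOf_pos a
  have hcpow : c ^ orderOf a = 1 := by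
    rw [hc, ← Units.val_pow_eq_pow_val, ← map_pow]
    have : (⟨a, ha⟩ : A) ^ orderOf a = 1 := by
      apply Subtype.ext
      simp [pow_orderOf_eq_one]
    rw [this, map_one]
    rfl
  set M := LinearMap.toMatrixAlgEquiv' (ρ a) with hM
  have hMpow : (c⁻¹ • M) ^ orderOf a = 1 := by
    rw [smul_pow, inv_pow, hcpow, inv_one, one_smul, hM, ← map_pow, ← map_pow,
      pow_orderOf_eq_one, map_one, map_one]
  have htr : (c⁻¹ • M).trace = n := by
    rw [Matrix.trace_smul, smul_eq_mul]
    have : M.trace = ρ.character a := by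
      rw [Representation.character,
        LinearMap.trace_eq_matrix_trace ℂ (Pi.basisFun ℂ (Fin n)), LinearMap.toMatrix_eq_toMatrix']
      rfl
    rw [this, hχa]
    field_simp
  have hone := matrix_eq_one_of_trace_eq _ _ hm hMpow htr
  have hMc : M = c • (1 : Matrix (Fin n) (Fin n) ℂ) := by
    rw [← hone, smul_smul, mul_inv_cancel₀ hc0, one_smul]
  apply LinearMap.toMatrixAlgEquiv'.injective
  rw [← hM, hMc, map_smul]
  congr 1
  exact (map_one _).symm

/-- The subgroup of elements acting by scalars. -/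
def scalarSubgroup {G : Type*} [Group G] {V : Type*} [AddCommGroup V] [Module ℂ V]
    (ρ : Representation ℂ G V) : Subgroup G where
  carrier := {g | ∃ c : ℂ, ρ g = c • LinearMap.id}
  one_mem' := ⟨1, by rw [map_one, one_smul]; rfl⟩
  mul_mem' := by
    rintro a b ⟨c, hc⟩ ⟨d, hd⟩
    refine ⟨c * d, ?_⟩
    rw [map_mul, hc, hd]
    apply LinearMap.ext
    intro v
    simp only [Module.End.mul_apply, LinearMap.smul_apply, LinearMap.id_coe, id_eq, map_smul,
      mul_smul]
    rw [smul_comm]
  inv_mem' := by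
    rintro a ⟨c, hc⟩
    by_cases hV : Nontrivial V
    · refine ⟨c⁻¹, ?_⟩
      have h1 : ρ a * ρ a⁻¹ = 1 := by rw [← map_mul, mul_inv_cancel, map_one]
      have hc0 : c ≠ 0 := by
        rintro rfl
        rw [hc, zero_smul, zero_mul] at h1
        obtain ⟨v, hv⟩ := exists_ne (0 : V)
        apply hv
        have := congrArg (fun T : V →ₗ[ℂ] V => T v) h1
        simpa using this.symm
      rw [hc] at h1
      apply LinearMap.ext
      intro v
      have := congrArg (fun T : V →ₗ[ℂ] V => T v) h1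
      simp only [Module.End.mul_apply, LinearMap.smul_apply, LinearMap.id_coe, id_eq,
        Module.End.one_apply] at this
      simp only [LinearMap.smul_apply, LinearMap.id_coe, id_eq]
      calc ρ a⁻¹ v = c⁻¹ • (c • ρ a⁻¹ v) := by rw [smul_smul, inv_mul_cancel₀ hc0, one_smul]
        _ = c⁻¹ • v := by rw [this]
    · rw [not_nontrivial_iff_subsingleton] at hV
      exact ⟨0, Subsingleton.elim _ _⟩

theorem mem_scalarSubgroup {G : Type*} [Group G] {V : Type*} [AddCommGroup V] [Module ℂ V]
    (ρ : Representation ℂ G V) (g : G) :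
    g ∈ scalarSubgroup ρ ↔ ∃ c : ℂ, ρ g = c • LinearMap.id := Iff.rfl

instance scalarSubgroup_normal {G : Type*} [Group G] {V : Type*} [AddCommGroup V] [Module ℂ V]
    (ρ : Representation ℂ G V) : (scalarSubgroup ρ).Normal := by
  constructor
  rintro a ⟨c, hc⟩ x
  refine ⟨c, ?_⟩
  rw [map_mul, map_mul, hc]
  apply LinearMap.ext
  intro v
  simp only [Module.End.mul_apply, LinearMap.smul_apply, LinearMap.id_coe, id_eq, map_smul]
  congr 1
  have : ρ x * ρ x⁻¹ = 1 := by rw [← map_mul, mul_inv_cancel, map_one]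
  have := congrArg (fun T : V →ₗ[ℂ] V => T v) this
  simp only [Module.End.mul_apply, Module.End.one_apply] at this
  exact this


open Cfsg.Agent.Lib.Helper75 Cfsg.Agent.Lib.Helper79 in
/-- A nonlinear irreducible character of a group with an abelian normal subgroup of `p`-power
index is induced from an irreducible character of a proper subgroup. -/
theorem exists_proper_induced {G : Type u} [Group G] [Fintype G] (p : ℕ) [hp : Fact p.Prime]
    (C : Subgroup G) [hCn : C.Normal] (hC : ∀ a ∈ C, ∀ b ∈ C, a * b = b * a)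
    (hidx : ∃ k : ℕ, C.index = p ^ k) {ξ : G → ℂ} (hξ : IsIrrCharacter G ξ) (h1 : ξ 1 ≠ 1) :
    ∃ (T : Subgroup G) (ψ : T → ℂ), T ≠ ⊤ ∧ IsIrrCharacter T ψ ∧ ξ = indFun T ψ := by
  classical
  by_contra hno
  push Not at hno
  obtain ⟨n, ρ, hρ, rfl⟩ := hξ
  have hχ : IsIrrCharacter G ρ.character := ⟨n, ρ, hρ, rfl⟩
  -- Claim X
  have claimX : ∀ (A : Subgroup G) [A.Normal] (θ : A → ℂ), IsIrrCharacter A θ → θ 1 = 1 →
      classInner (fun a : A => ρ.character a) θ ≠ 0 → A ≤ scalarSubgroup ρ := by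
    intro A hAn θ hθ hθ1 hne
    obtain ⟨ψ, hψ, hind, -⟩ := clifford_correspondence A hχ hθ hne
    by_cases hT : inertia A θ = ⊤
    · intro a ha
      exact scalar_of_inertia_eq_top_of_linear A ρ hρ hθ hθ1 hne hT a ha
    · exact absurd hind (hno _ ψ hT hψ)
  set Z := scalarSubgroup ρ with hZ
  -- C ≤ Z
  have hCZ : C ≤ Z := by
    haveI : IsMulCommutative C := ⟨⟨fun a b => Subtype.ext (hC a a.2 b b.2)⟩⟩
    obtain ⟨θ, hθ, hne⟩ := exists_irr_constituent_restrict C hχ
    exact claimX C θ hθ (irr_one_eq_one_of_comm ⟨θ, hθ⟩) hne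
  -- Z = ⊤
  have hZtop : Z = ⊤ := by
    by_contra hZne
    obtain ⟨k, hk⟩ := hidx
    have hdvd : Z.index ∣ p ^ k := by rw [← hk]; exact Subgroup.index_dvd_of_le hCZ
    obtain ⟨j, -, hj⟩ := (Nat.dvd_prime_pow hp.out).mp hdvd
    have hpg : IsPGroup p (G ⧸ Z) := IsPGroup.of_card (n := j) (by
      rw [← Subgroup.index_eq_card]; exact hj)
    haveI : Nontrivial (G ⧸ Z) := by
      rw [← Finite.one_lt_card_iff_nontrivial, ← Subgroup.index_eq_card]
      have h0 : Z.index ≠ 0 := Subgroup.index_ne_zero_of_finite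
      have h1' : Z.index ≠ 1 := fun h => hZne (Subgroup.index_eq_one.mp h)
      omega
    have hcn := hpg.center_nontrivial
    obtain ⟨⟨gbar, hgc⟩, hg1⟩ := exists_ne (1 : Subgroup.center (G ⧸ Z))
    have hg1' : gbar ≠ 1 := fun h => hg1 (Subtype.ext h)
    obtain ⟨g, rfl⟩ := QuotientGroup.mk_surjective gbar
    have hgZ : g ∉ Z := fun h => hg1' ((QuotientGroup.eq_one_iff g).mpr h)
    haveI hzn : (Subgroup.zpowers (g : G ⧸ Z)).Normal := by
      constructor
      intro q hq x
      have hqc : q ∈ Subgroup.center (G ⧸ Z) := (Subgroup.zpowers_le.mpr hgc) hq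
      rw [Subgroup.mem_center_iff] at hqc
      rw [hqc x, mul_inv_cancel_right]
      exact hq
    set A : Subgroup G := (Subgroup.zpowers (g : G ⧸ Z)).comap (QuotientGroup.mk' Z) with hA
    haveI : A.Normal := hzn.comap _
    have hgA : g ∈ A := by
      rw [hA, Subgroup.mem_comap]
      exact Subgroup.mem_zpowers _
    have hform : ∀ a ∈ A, ∃ (i : ℤ) (c : ℂ), ρ a = c • ρ (g ^ i) := by
      intro a ha
      rw [hA, Subgroup.mem_comap] at ha
      obtain ⟨i, hi⟩ := Subgroup.mem_zpowers_iff.mp ha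
      have h2 : ((g ^ i : G) : G ⧸ Z) = (a : G ⧸ Z) := by
        rw [QuotientGroup.mk_zpow]; exact hi
      have h3 : (g ^ i)⁻¹ * a ∈ Z := QuotientGroup.eq.mp h2
      obtain ⟨c, hc⟩ := h3
      refine ⟨i, c, ?_⟩
      have h4 : a = g ^ i * ((g ^ i)⁻¹ * a) := by group
      conv_lhs => rw [h4, map_mul, hc]
      rw [mul_smul_comm, Module.End.mul_eq_comp, LinearMap.comp_id]
    have hcomm : ∀ a ∈ A, ∀ b ∈ A, ρ a * ρ b = ρ b * ρ a := by
      intro a ha b hb
      obtain ⟨i, c, hi⟩ := hform a ha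
      obtain ⟨j', d, hj'⟩ := hform b hb
      rw [hi, hj', smul_mul_smul_comm, smul_mul_smul_comm, ← map_mul, ← map_mul, ← zpow_add,
        ← zpow_add, mul_comm c d, add_comm i j']
    obtain ⟨θ, hθ, hne⟩ := exists_irr_constituent_restrict A hχ
    have hθ1 : θ 1 = 1 := by
      let τ : Representation ℂ A (Fin n → ℂ) := ρ.comp A.subtype
      have hτ : τ.character = fun a : A => ρ.character a := rfl
      apply irr_constituent_linear_of_commute τ ?_ hθ (by rw [hτ]; exact hne)
      intro a b
      exact hcomm a a.2 b b.2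
    exact hgZ (claimX A θ hθ hθ1 hne hgA)
  -- all scalar, hence degree 1
  apply h1
  have hsc : ∀ a : G, ∃ c : ℂ, ρ a = c • LinearMap.id := fun a => by
    have : a ∈ Z := by rw [hZtop]; trivial
    exact this
  have := finrank_eq_one_of_forall_scalar ρ hρ hsc
  rw [Representation.char_one, this]
  simp

end Cfsg.Agent.Lib.Helper3
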