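import Mathlib
import Cfsg.Prelude.Def_Characters
import Cfsg.Agent.Lib.Helper3.CharOps
import Cfsg.Agent.Lib.Helper3.Ortho
import Cfsg.Agent.Lib.Helper3.Degree
import Cfsg.Agent.Lib.Helper75.Clifford
import Cfsg.Agent.Lib.Helper80.IrrApi
import Cfsg.Agent.S0850

set_option autoImplicit false
set_option linter.style.haveILetI false

/-!
Character theory of a finite group `N` with a normal subgroup `K` containing the centralizer of
each of its nonidentity elements (a Frobenius kernel, or `K = N`).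
-/

namespace Cfsg.Agent.Lib.Helper3

open Cfsg
open scoped ComplexConjugate

universe u

section abstract

variable {N : Type u} [Group N] [Fintype N] (K : Subgroup N) [hKn : K.Normal] [Fintype K]

omit [Fintype ↥K] in
/-- For `x ∉ K` the coset `K x` is a single `K`-conjugacy class. -/
theorem frobKer_coset_conj (hF : ∀ k ∈ K, k ≠ 1 → ∀ x : N, x * k = k * x → x ∈ K)
    (x : N) (hx : x ∉ K) (h : N) (hh : h ∈ K) : ∃ k ∈ K, k * x * k⁻¹ = h * x := by
  classical
  let f : K → K := fun k => ⟨(k : N) * x * (k : N)⁻¹ * x⁻¹, by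
    have h1 : x * (k : N)⁻¹ * x⁻¹ ∈ K := hKn.conj_mem _ (K.inv_mem k.2) x
    have : (k : N) * x * (k : N)⁻¹ * x⁻¹ = (k : N) * (x * (k : N)⁻¹ * x⁻¹) := by group
    rw [this]
    exact K.mul_mem k.2 h1⟩
  have hinj : Function.Injective f := by
    intro k k' hkk
    have h1 : (k : N) * x * (k : N)⁻¹ * x⁻¹ = (k' : N) * x * (k' : N)⁻¹ * x⁻¹ :=
      congrArg Subtype.val hkk
    have h2 : (k : N) * x * (k : N)⁻¹ = (k' : N) * x * (k' : N)⁻¹ := mul_right_cancel h1
    set j : N := (k' : N)⁻¹ * (k : N) with hj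
    have hjK : j ∈ K := K.mul_mem (K.inv_mem k'.2) k.2
    have hcomm : x * j = j * x := by
      have : j * x * j⁻¹ = x := by
        rw [hj]
        calc (k' : N)⁻¹ * (k : N) * x * ((k' : N)⁻¹ * (k : N))⁻¹
            = (k' : N)⁻¹ * ((k : N) * x * (k : N)⁻¹) * (k' : N) := by group
          _ = (k' : N)⁻¹ * ((k' : N) * x * (k' : N)⁻¹) * (k' : N) := by rw [h2]
          _ = x := by group
      calc x * j = (j * x * j⁻¹) * j := by rw [this]
        _ = j * x := by group
    by_cases hj1 : j = 1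
    · apply Subtype.ext
      have : (k : N) = (k' : N) * j := by rw [hj]; group
      rw [this, hj1, mul_one]
    · exact absurd (hF j hjK hj1 x hcomm) hx
  have hsurj : Function.Surjective f := Finite.injective_iff_surjective.mp hinj
  obtain ⟨k, hk⟩ := hsurj ⟨h, hh⟩
  refine ⟨k, k.2, ?_⟩
  have h1 : (k : N) * x * (k : N)⁻¹ * x⁻¹ = h := congrArg Subtype.val hk
  calc (k : N) * x * (k : N)⁻¹ = ((k : N) * x * (k : N)⁻¹ * x⁻¹) * x := by group
    _ = h * x := by rw [h1]

/-- A relevant irreducible character has no principal constituent on `K`. -/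
theorem sum_eq_zero_of_relevant {χ : N → ℂ} (hχ : IsIrrCharacter N χ)
    (hrel : ∃ k ∈ K, χ k ≠ χ 1) : ∑ k : K, χ k = 0 := by
  classical
  haveI : Fintype (IrrCharacter K) := Fintype.ofFinite _
  have hone : IsIrrCharacter K (fun _ : K => (1 : ℂ)) := by
    have := Cfsg.Agent.Lib.Helper79.isIrrCharacter_of_monoidHom (1 : K →* ℂˣ)
    simpa using this
  by_contra hne
  have hinner : classInner (fun k : K => χ k) (fun _ : K => (1 : ℂ)) ≠ 0 := by
    unfold classInner
    simp only [map_one, mul_one]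
    apply mul_ne_zero
    · apply inv_ne_zero
      have : 0 < Nat.card K := Nat.card_pos
      exact_mod_cast this.ne'
    · exact hne
  have hres : IsCharacter K (fun k : K => χ k) :=
    IsCharacter.restrict (IsIrrCharacter.isCharacter hχ) K
  obtain ⟨m, hm, hsum⟩ := IsCharacter.exists_mult hres
  set one : IrrCharacter K := ⟨fun _ => 1, hone⟩ with hone'
  have hm0 : ∀ ψ : IrrCharacter K, ψ ≠ one → m ψ = 0 := by
    intro ψ hψ
    by_contra h0
    have hne' : classInner (fun k : K => χ k) (ψ : K → ℂ) ≠ 0 := by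
      rw [hm ψ]
      exact_mod_cast h0
    obtain ⟨g, hg⟩ := Cfsg.Agent.Lib.Helper75.clifford_conj K hχ hone ψ.2 hinner hne'
    apply hψ
    apply Subtype.ext
    rw [hg]
    funext n
    rw [Cfsg.Agent.Lib.Helper75.conjFun_apply]
  have hconst : ∀ k : K, χ k = (m one : ℂ) := by
    intro k
    have := congrFun hsum k
    rw [Finset.sum_apply] at this
    rw [this, Finset.sum_eq_single one]
    · simp [hone']
    · intro ψ _ hψ
      rw [hm0 ψ hψ]
      simp
    · intro h; exact absurd (Finset.mem_univ _) h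
  obtain ⟨k, hk, hkne⟩ := hrel
  apply hkne
  have h1 := hconst ⟨k, hk⟩
  have h2 := hconst 1
  simp only [Subgroup.coe_one] at h2
  rw [h2]
  exact h1

/-- A relevant irreducible character vanishes off `K`. -/
theorem eq_zero_of_relevant_of_not_mem (hF : ∀ k ∈ K, k ≠ 1 → ∀ x : N, x * k = k * x → x ∈ K)
    {χ : N → ℂ} (hχ : IsIrrCharacter N χ) (hrel : ∃ k ∈ K, χ k ≠ χ 1) (x : N) (hx : x ∉ K) :
    χ x = 0 := by
  classical
  have hsum0 := sum_eq_zero_of_relevant K hχ hrel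
  have hcl := IsCharacter.isClassFunction (IsIrrCharacter.isCharacter hχ)
  -- inner sums
  have hin : ∀ y : N, ∑ h : K, χ ((h : N) * y) = if y ∈ K then 0 else (Nat.card K : ℂ) * χ y := by
    intro y
    split_ifs with hy
    · rw [← hsum0]
      exact Fintype.sum_equiv (Equiv.mulRight (⟨y, hy⟩ : K)) _ _ (fun h => rfl)
    · have : ∀ h : K, χ ((h : N) * y) = χ y := by
        intro h
        obtain ⟨k, _, hk⟩ := frobKer_coset_conj K hF y hy h h.2
        rw [← hk]
        exact hcl y k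
      rw [Finset.sum_congr rfl (fun h _ => this h)]
      simp [Nat.card_eq_fintype_card]
  have hgo := fun h : K => Cfsg.Agent.Lib.Helper80.irr_generalized_orthogonality ⟨χ, hχ⟩ (h : N)
  simp only at hgo
  have htot : ∑ h : K, ∑ y : N, χ ((h : N) * y) * χ y⁻¹ = 0 := by
    rw [Finset.sum_congr rfl (fun h _ => hgo h)]
    rw [← Finset.sum_div, ← Finset.mul_sum, hsum0, mul_zero, zero_div]
  rw [Finset.sum_comm] at htot
  have htot2 : ∑ y : N, (if y ∈ K then (0 : ℂ) else (Nat.card K : ℂ) * (χ y * conj (χ y))) = 0 := by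
    have e : ∑ y : N, (if y ∈ K then (0 : ℂ) else (Nat.card K : ℂ) * (χ y * conj (χ y))) =
        ∑ y : N, ∑ h : K, χ ((h : N) * y) * χ y⁻¹ := by
      apply Finset.sum_congr rfl
      intro y _
      rw [← Finset.sum_mul, hin y, IsCharacter.inv (IsIrrCharacter.isCharacter hχ) y]
      split_ifs
      · rw [zero_mul]
      · ring
    rw [e]
    exact htot
  have hKne : (Nat.card K : ℂ) ≠ 0 := by
    have : 0 < Nat.card K := Nat.card_pos
    exact_mod_cast this.ne'
  have hreal : ∑ y : N, (if y ∈ K then (0 : ℝ) else Complex.normSq (χ y)) = 0 := by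
    have h1 : ((∑ y : N, (if y ∈ K then (0 : ℝ) else Complex.normSq (χ y)) : ℝ) : ℂ) * (Nat.card K : ℂ) = 0 := by
      rw [← htot2]
      push_cast
      rw [Finset.sum_mul]
      apply Finset.sum_congr rfl
      intro y _
      split_ifs
      · simp
      · rw [Complex.mul_conj]; ring
    have h2 := (mul_eq_zero.mp h1).resolve_right hKne
    exact_mod_cast h2
  have hnn : ∀ y ∈ (Finset.univ : Finset N), 0 ≤ (if y ∈ K then (0 : ℝ) else Complex.normSq (χ y)) := by
    intro y _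
    split_ifs
    · exact le_rfl
    · exact Complex.normSq_nonneg _
  have := (Finset.sum_eq_zero_iff_of_nonneg hnn).mp hreal x (Finset.mem_univ x)
  rw [if_neg hx] at this
  exact Complex.normSq_eq_zero.mp this

omit [Fintype ↥K] in
/-- The order of `K` is coprime to its index. -/
theorem frobKer_coprime (hF : ∀ k ∈ K, k ≠ 1 → ∀ x : N, x * k = k * x → x ∈ K) :
    Nat.Coprime (Nat.card K) K.index := by
  apply Nat.coprime_of_dvd
  intro p hp hpK hpi
  haveI : Fact p.Prime := ⟨hp⟩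
  have hC : ∀ k ∈ K, k ≠ 1 → Subgroup.centralizer ({k} : Set N) ≤ K := by
    intro k hk hk1 x hx
    rw [Subgroup.mem_centralizer_iff] at hx
    exact hF k hk hk1 x (hx k rfl).symm
  obtain ⟨P⟩ : Nonempty (Sylow p N) := inferInstance
  have hPK : (P : Subgroup N) ≤ K := by
    intro y hy
    obtain ⟨a, ha⟩ := P.2 ⟨y, hy⟩
    have hya : y ^ (p ^ a) = 1 := by
      have := congrArg Subtype.val ha
      simpa using this
    have hyN : y ∈ Subgroup.normalizer (K : Set N) := by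
      rw [Subgroup.normalizer_eq_top]; trivial
    exact Cfsg.Agent.S0850.pelt_mem K hC p hpK y hyN a hya
  have h1 : K.index ∣ (P : Subgroup N).index := Subgroup.index_dvd_of_le hPK
  exact P.not_dvd_index (hpi.trans h1)

/-- The index of `K` divides the degree of every relevant irreducible character. -/
theorem index_dvd_degree_of_relevant (hF : ∀ k ∈ K, k ≠ 1 → ∀ x : N, x * k = k * x → x ∈ K)
    {χ : N → ℂ} (hχ : IsIrrCharacter N χ) (hrel : ∃ k ∈ K, χ k ≠ χ 1) :
    ∃ f : ℕ, χ 1 = ((K.index * f : ℕ) : ℂ) := by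
  classical
  obtain ⟨H, hH⟩ := Subgroup.exists_right_complement'_of_coprime (frobKer_coprime K hF)
  have hcard : Nat.card H = K.index := (hH.symm.index_eq_card).symm
  have hdisj : Disjoint K H := hH.disjoint
  have hone : IsIrrCharacter H (fun _ : H => (1 : ℂ)) := by
    have := Cfsg.Agent.Lib.Helper79.isIrrCharacter_of_monoidHom (1 : H →* ℂˣ)
    simpa using this
  have hres : IsCharacter H (fun h : H => χ h) :=
    IsCharacter.restrict (IsIrrCharacter.isCharacter hχ) H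
  obtain ⟨m, hm⟩ := IsCharacter.classInner_irr_nat hres hone
  refine ⟨m, ?_⟩
  have hsum : ∑ h : H, χ h * conj ((fun _ : H => (1 : ℂ)) h) = χ 1 := by
    rw [Finset.sum_eq_single (1 : H)]
    · simp
    · intro h _ hh1
      have hhK : (h : N) ∉ K := by
        intro hk
        apply hh1
        have : (h : N) ∈ K ⊓ H := ⟨hk, h.2⟩
        rw [hdisj.eq_bot, Subgroup.mem_bot] at this
        exact Subtype.ext this
      rw [eq_zero_of_relevant_of_not_mem K hF hχ hrel _ hhK, zero_mul]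
    · intro h; exact absurd (Finset.mem_univ _) h
  unfold classInner at hm
  rw [hsum, hcard] at hm
  have hne : (K.index : ℂ) ≠ 0 := by
    have : K.index ≠ 0 := Subgroup.index_ne_zero_of_finite
    exact_mod_cast this
  push_cast
  rw [← hm]
  field_simp

section sums

open scoped Classical

variable [Fintype (IrrCharacter N)]

omit hKn [Fintype ↥K] in
/-- Column orthogonality split by relevance, at a nonidentity element of `K`. -/
theorem sum_relevant_mul_eq (k : N) (hk : k ∈ K) (hk1 : k ≠ 1) :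
    ∑ χ : IrrCharacter N, (if (∃ k ∈ K, (χ : N → ℂ) k ≠ (χ : N → ℂ) 1) then
        (χ : N → ℂ) 1 * (χ : N → ℂ) k else 0) =
      - ∑ χ : IrrCharacter N, (if (∃ k ∈ K, (χ : N → ℂ) k ≠ (χ : N → ℂ) 1) then 0 else
        ((χ : N → ℂ) 1) ^ 2) := by
  have hco := column_orthogonality k (1 : N)
  have hnc : ¬ IsConj k 1 := by
    rw [isConj_one_left]
    exact hk1
  rw [if_neg hnc] at hco
  rw [eq_neg_iff_add_eq_zero, ← Finset.sum_add_distrib]
  have e : ∑ χ : IrrCharacter N, ((if (∃ k ∈ K, (χ : N → ℂ) k ≠ (χ : N → ℂ) 1) then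
        (χ : N → ℂ) 1 * (χ : N → ℂ) k else 0) +
      (if (∃ k ∈ K, (χ : N → ℂ) k ≠ (χ : N → ℂ) 1) then 0 else ((χ : N → ℂ) 1) ^ 2)) =
      ∑ χ : IrrCharacter N, (χ : N → ℂ) k * conj ((χ : N → ℂ) 1) := by
    apply Finset.sum_congr rfl
    intro χ _
    rw [Cfsg.Agent.Lib.Helper80.irr_one_conj χ]
    split_ifs with hrel
    · rw [add_zero, mul_comm]
    · push Not at hrel
      rw [zero_add, hrel k hk, sq]
  rw [e, hco]

/-- The nonrelevant degrees: `∑ χ(1)² = |N : K|`, and the relevant ones: `∑ χ(1)² = (|K|-1)|N:K|`. -/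
theorem sum_sq_nonrelevant_and_relevant :
    ∑ χ : IrrCharacter N, (if (∃ k ∈ K, (χ : N → ℂ) k ≠ (χ : N → ℂ) 1) then 0 else
        ((χ : N → ℂ) 1) ^ 2) = (K.index : ℂ) ∧
    ∑ χ : IrrCharacter N, (if (∃ k ∈ K, (χ : N → ℂ) k ≠ (χ : N → ℂ) 1) then
        ((χ : N → ℂ) 1) ^ 2 else 0) = ((Nat.card K : ℂ) - 1) * (K.index : ℂ) := by
  set E := ∑ χ : IrrCharacter N, (if (∃ k ∈ K, (χ : N → ℂ) k ≠ (χ : N → ℂ) 1) then 0 else
        ((χ : N → ℂ) 1) ^ 2) with hE
  set T := ∑ χ : IrrCharacter N, (if (∃ k ∈ K, (χ : N → ℂ) k ≠ (χ : N → ℂ) 1) then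
        ((χ : N → ℂ) 1) ^ 2 else 0) with hT
  -- T + E = |N|
  have h1 : T + E = (Nat.card N : ℂ) := by
    have hco := column_orthogonality (1 : N) (1 : N)
    rw [if_pos (IsConj.refl 1)] at hco
    have hcent : Subgroup.centralizer ({1} : Set N) = ⊤ := by
      ext x
      simp [Subgroup.mem_centralizer_iff]
    rw [hcent, Subgroup.card_top] at hco
    rw [← hco, hT, hE, ← Finset.sum_add_distrib]
    apply Finset.sum_congr rfl
    intro χ _
    rw [Cfsg.Agent.Lib.Helper80.irr_one_conj χ]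
    split_ifs <;> ring
  -- T = (|K| - 1) E
  have h2 : T = ((Nat.card K : ℂ) - 1) * E := by
    have hz : ∑ k : K, ∑ χ : IrrCharacter N, (if (∃ k ∈ K, (χ : N → ℂ) k ≠ (χ : N → ℂ) 1) then
        (χ : N → ℂ) 1 * (χ : N → ℂ) (k : N) else 0) = 0 := by
      rw [Finset.sum_comm]
      apply Finset.sum_eq_zero
      intro χ _
      split_ifs with hrel
      · rw [← Finset.mul_sum, sum_eq_zero_of_relevant K χ.2 hrel, mul_zero]
      · simp
    rw [← Finset.add_sum_erase Finset.univ _ (Finset.mem_univ (1 : K))] at hz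
    have hrest : ∀ k ∈ (Finset.univ : Finset K).erase 1,
        ∑ χ : IrrCharacter N, (if (∃ k ∈ K, (χ : N → ℂ) k ≠ (χ : N → ℂ) 1) then
        (χ : N → ℂ) 1 * (χ : N → ℂ) (k : N) else 0) = -E := by
      intro k hk
      have hk1 : (k : N) ≠ 1 := by
        intro h
        exact (Finset.mem_erase.mp hk).1 (Subtype.ext h)
      exact sum_relevant_mul_eq K (k : N) k.2 hk1
    rw [Finset.sum_congr rfl hrest, Finset.sum_const, Finset.card_erase_of_mem (Finset.mem_univ _),
      Finset.card_univ, nsmul_eq_mul] at hz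
    have hfirst : ∑ χ : IrrCharacter N, (if (∃ k ∈ K, (χ : N → ℂ) k ≠ (χ : N → ℂ) 1) then
        (χ : N → ℂ) 1 * (χ : N → ℂ) ((1 : K) : N) else 0) = T := by
      rw [hT]
      apply Finset.sum_congr rfl
      intro χ _
      split_ifs
      · rw [Subgroup.coe_one, sq]
      · rfl
    rw [hfirst] at hz
    have hKpos : 1 ≤ Fintype.card K := Fintype.card_pos
    rw [Nat.cast_sub hKpos] at hz
    rw [Nat.card_eq_fintype_card]
    push_cast at hz ⊢
    linear_combination hz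
  have hKN : (Nat.card K : ℂ) * (K.index : ℂ) = (Nat.card N : ℂ) := by
    have := K.card_mul_index
    exact_mod_cast this
  have hKne : (Nat.card K : ℂ) ≠ 0 := by
    have : 0 < Nat.card K := Nat.card_pos
    exact_mod_cast this.ne'
  have hEe : E = (K.index : ℂ) := by
    have : (Nat.card K : ℂ) * E = (Nat.card K : ℂ) * (K.index : ℂ) := by
      rw [hKN, ← h1, h2]; ring
    exact mul_left_cancel₀ hKne this
  exact ⟨hEe, by rw [h2, hEe]⟩

omit hKn [Fintype ↥K] in
/-- A class function whose coefficients at the relevant characters are proportional to their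
degrees is constant on `K ∖ {1}`. -/
theorem const_on_of_proportional {Ξ : N → ℂ} (hΞ : IsClassFunction N Ξ) (a : ℂ)
    (ha : ∀ χ : IrrCharacter N, (∃ k ∈ K, (χ : N → ℂ) k ≠ (χ : N → ℂ) 1) →
      classInner Ξ (χ : N → ℂ) = a * (χ : N → ℂ) 1) :
    ∃ C : ℂ, ∀ k ∈ K, k ≠ 1 → Ξ k = C := by
  refine ⟨∑ χ : IrrCharacter N, (if (∃ k ∈ K, (χ : N → ℂ) k ≠ (χ : N → ℂ) 1) then 0 else
        classInner Ξ (χ : N → ℂ) * (χ : N → ℂ) 1) - a * ∑ χ : IrrCharacter N,
        (if (∃ k ∈ K, (χ : N → ℂ) k ≠ (χ : N → ℂ) 1) then 0 else ((χ : N → ℂ) 1) ^ 2), ?_⟩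
  intro k hk hk1
  have hexp := congrFun (classFunction_eq_sum hΞ) k
  rw [Finset.sum_apply] at hexp
  rw [hexp, sub_eq_add_neg, ← mul_neg, ← sum_relevant_mul_eq K k hk hk1, Finset.mul_sum,
    ← Finset.sum_add_distrib]
  apply Finset.sum_congr rfl
  intro χ _
  simp only [Pi.smul_apply, smul_eq_mul]
  split_ifs with hrel
  · rw [ha χ hrel]; ring
  · push Not at hrel
    rw [hrel k hk]; ring

omit hKn [Fintype ↥K] in
/-- A class function `Ξ` with `ξ(1)[Ξ,χ] = χ(1)[Ξ,ξ]` for all relevant irreducible `χ, ξ` is constant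
on `K ∖ {1}`. -/
theorem const_on_of_cross {Ξ : N → ℂ} (hΞ : IsClassFunction N Ξ)
    (hcross : ∀ χ ξ : N → ℂ, IsIrrCharacter N χ → IsIrrCharacter N ξ →
      (∃ k ∈ K, χ k ≠ χ 1) → (∃ k ∈ K, ξ k ≠ ξ 1) →
      ξ 1 * classInner Ξ χ = χ 1 * classInner Ξ ξ) :
    ∃ C : ℂ, ∀ k ∈ K, k ≠ 1 → Ξ k = C := by
  by_cases hex : ∃ ξ₀ : IrrCharacter N, ∃ k ∈ K, (ξ₀ : N → ℂ) k ≠ (ξ₀ : N → ℂ) 1
  · obtain ⟨ξ₀, hrel₀⟩ := hex
    have hd0 : (ξ₀ : N → ℂ) 1 ≠ 0 := Cfsg.Agent.Lib.Helper80.irr_one_ne_zero ξ₀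
    apply const_on_of_proportional K hΞ (classInner Ξ (ξ₀ : N → ℂ) / (ξ₀ : N → ℂ) 1)
    intro χ hrel
    have := hcross χ ξ₀ χ.2 ξ₀.2 hrel hrel₀
    field_simp
    linear_combination this
  · push Not at hex
    apply const_on_of_proportional K hΞ 0
    intro χ hrel
    obtain ⟨k, hk, hne⟩ := hrel
    exact absurd (hex χ k hk) hne

/-- If `|N:K| * F` divides the degree of every relevant irreducible character, then `F = 1`. -/
theorem eq_one_of_forall_dvd_degree (F : ℕ)
    (hdvd : ∀ χ : IrrCharacter N, (∃ k ∈ K, (χ : N → ℂ) k ≠ (χ : N → ℂ) 1) →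
      ∃ f : ℕ, (χ : N → ℂ) 1 = ((K.index * (F * f) : ℕ) : ℂ))
    (k : N) (hk : k ∈ K) (hk1 : k ≠ 1) : F = 1 := by
  have he : (K.index : ℂ) ≠ 0 := by
    have : K.index ≠ 0 := Subgroup.index_ne_zero_of_finite
    exact_mod_cast this
  have h1 := sum_relevant_mul_eq K k hk hk1
  rw [(sum_sq_nonrelevant_and_relevant K).1] at h1
  -- the integral sum
  have hterm : ∀ χ : IrrCharacter N, ∃ A : ℂ, IsIntegral ℤ A ∧
      (if (∃ k ∈ K, (χ : N → ℂ) k ≠ (χ : N → ℂ) 1) then
        (χ : N → ℂ) 1 * (χ : N → ℂ) k else 0) = (K.index : ℂ) * (F : ℂ) * A := by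
    intro χ
    by_cases hrel : ∃ k ∈ K, (χ : N → ℂ) k ≠ (χ : N → ℂ) 1
    · obtain ⟨f, hf⟩ := hdvd χ hrel
      refine ⟨(f : ℂ) * (χ : N → ℂ) k, ?_, ?_⟩
      · have hfint : IsIntegral ℤ ((f : ℕ) : ℂ) := by
          have := isIntegral_algebraMap (R := ℤ) (A := ℂ) (x := (f : ℤ))
          simpa using this
        exact IsIntegral.mul hfint (IsCharacter.isIntegral (IsIrrCharacter.isCharacter χ.2) k)
      · rw [if_pos hrel, hf]
        push_cast
        ring
    · exact ⟨0, isIntegral_zero, by rw [if_neg hrel]; ring⟩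
  choose A hA hAeq using hterm
  rw [Finset.sum_congr rfl (fun χ _ => hAeq χ), ← Finset.mul_sum] at h1
  have hFA : (F : ℂ) * ∑ χ : IrrCharacter N, A χ = -1 := by
    have : (K.index : ℂ) * ((F : ℂ) * ∑ χ : IrrCharacter N, A χ) = (K.index : ℂ) * (-1) := by
      rw [← mul_assoc, h1]; ring
    exact mul_left_cancel₀ he this
  have hF0 : F ≠ 0 := by
    intro h0
    rw [h0] at hFA
    simp at hFA
  have hint : IsIntegral ℤ (∑ χ : IrrCharacter N, A χ) :=
    IsIntegral.sum _ (fun χ _ => hA χ)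
  have hval : ((1 : ℕ) : ℂ) / (F : ℂ) = -(∑ χ : IrrCharacter N, A χ) := by
    have hFc : (F : ℂ) ≠ 0 := by exact_mod_cast hF0
    rw [div_eq_iff hFc]
    push_cast
    linear_combination hFA
  have hint2 : IsIntegral ℤ (((1 : ℕ) : ℂ) / (F : ℂ)) := by
    rw [hval]; exact hint.neg
  have := nat_dvd_of_isIntegral_div hF0 hint2
  exact Nat.dvd_one.mp this

/-- Integrality from the cross relations `f₀ z_χ = f_χ z₀` (where `χ(1) = |N:K| f_χ`). -/
theorem frobKer_dvd_of_cross (z : IrrCharacter N → ℤ) (z₀ : ℤ) (f₀ : ℕ) (hf₀ : f₀ ≠ 0)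
    (h : ∀ χ : IrrCharacter N, (∃ k ∈ K, (χ : N → ℂ) k ≠ (χ : N → ℂ) 1) →
      ∃ f : ℕ, (χ : N → ℂ) 1 = ((K.index * f : ℕ) : ℂ) ∧ (f₀ : ℤ) * z χ = (f : ℤ) * z₀)
    (k : N) (hk : k ∈ K) (hk1 : k ≠ 1) : (f₀ : ℤ) ∣ z₀ := by
  have he : (K.index : ℂ) ≠ 0 := by
    have : K.index ≠ 0 := Subgroup.index_ne_zero_of_finite
    exact_mod_cast this
  have hf₀c : (f₀ : ℂ) ≠ 0 := by exact_mod_cast hf₀
  have h1 := sum_relevant_mul_eq K k hk hk1
  rw [(sum_sq_nonrelevant_and_relevant K).1] at h1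
  -- termwise: z₀ * (χ 1 * χ k) = e * f₀ * (z χ * χ k)
  have hterm : ∀ χ : IrrCharacter N,
      (z₀ : ℂ) * (if (∃ k ∈ K, (χ : N → ℂ) k ≠ (χ : N → ℂ) 1) then
        (χ : N → ℂ) 1 * (χ : N → ℂ) k else 0) =
      (K.index : ℂ) * (f₀ : ℂ) * (if (∃ k ∈ K, (χ : N → ℂ) k ≠ (χ : N → ℂ) 1) then
        (z χ : ℂ) * (χ : N → ℂ) k else 0) := by
    intro χ
    split_ifs with hrel
    · obtain ⟨f, hf, hz⟩ := h χ hrel
      have hzc : (f₀ : ℂ) * (z χ : ℂ) = (f : ℂ) * (z₀ : ℂ) := by exact_mod_cast hz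
      rw [hf]
      push_cast
      linear_combination (-(K.index : ℂ) * (χ : N → ℂ) k) * hzc
    · simp
  have h2 : (K.index : ℂ) * (f₀ : ℂ) * ∑ χ : IrrCharacter N,
      (if (∃ k ∈ K, (χ : N → ℂ) k ≠ (χ : N → ℂ) 1) then (z χ : ℂ) * (χ : N → ℂ) k else 0) =
      (z₀ : ℂ) * (-(K.index : ℂ)) := by
    rw [← h1, Finset.mul_sum, Finset.mul_sum]
    exact (Finset.sum_congr rfl (fun χ _ => hterm χ)).symm
  set A := ∑ χ : IrrCharacter N,
      (if (∃ k ∈ K, (χ : N → ℂ) k ≠ (χ : N → ℂ) 1) then (z χ : ℂ) * (χ : N → ℂ) k else 0) with hA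
  have hAint : IsIntegral ℤ A := by
    apply IsIntegral.sum
    intro χ _
    split_ifs
    · have hzint : IsIntegral ℤ ((z χ : ℤ) : ℂ) := by
        have := isIntegral_algebraMap (R := ℤ) (A := ℂ) (x := z χ)
        simpa using this
      exact IsIntegral.mul hzint (IsCharacter.isIntegral (IsIrrCharacter.isCharacter χ.2) k)
    · exact isIntegral_zero
  have h3 : (f₀ : ℂ) * A = -(z₀ : ℂ) := by
    have : (K.index : ℂ) * ((f₀ : ℂ) * A) = (K.index : ℂ) * (-(z₀ : ℂ)) := by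
      rw [← mul_assoc, h2]; ring
    exact mul_left_cancel₀ he this
  have h4 : (((z₀ : ℚ) / (f₀ : ℚ) : ℚ) : ℂ) = -A := by
    push_cast
    rw [div_eq_iff hf₀c]
    linear_combination h3
  have h5 : IsIntegral ℤ ((((z₀ : ℚ) / (f₀ : ℚ) : ℚ)) : ℂ) := by
    rw [h4]; exact hAint.neg
  obtain ⟨m, hm⟩ := int_of_isIntegral_ratCast h5
  refine ⟨m, ?_⟩
  have hf₀q : (f₀ : ℚ) ≠ 0 := by exact_mod_cast hf₀
  have : (z₀ : ℚ) = (f₀ : ℚ) * (m : ℚ) := by
    rw [hm]; field_simp
  exact_mod_cast this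

end sums

end abstract

end Cfsg.Agent.Lib.Helper3
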