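import Cfsg.Agent.Lib.Helper3.Complete
import Cfsg.Agent.Lib.Helper25.CharUtil
import Cfsg.Agent.Lib.Helper25.NormTwo
import Cfsg.Agent.Lib.Helper79.Basic

set_option autoImplicit false

/-!
A generalized character `Θ` with `[Θ,Θ] = 3`, `[Θ,1] = 1` and `Θ 1 = 0` is `1 + χ₂ - χ₁` for
nonprincipal irreducible characters with `χ₁ 1 = χ₂ 1 + 1`.
-/

namespace Cfsg.Agent.Lib.Helper3

open Cfsg
open Cfsg.Agent.Lib.Helper25
open scoped ComplexConjugate

theorem isIrrCharacter_const_one {H : Type*} [Group H] :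
    IsIrrCharacter H (fun _ : H => (1 : ℂ)) := by
  have := Cfsg.Agent.Lib.Helper79.isIrrCharacter_of_monoidHom (1 : H →* ℂˣ)
  simpa using this

theorem genChar_norm_three {G : Type*} [Group G] [Fintype G] {Θ : G → ℂ}
    (hΘ : IsGeneralizedCharacter G Θ) (h3 : classInner Θ Θ = 3)
    (h1 : classInner Θ (fun _ => (1 : ℂ)) = 1) (h0 : Θ 1 = 0) :
    ∃ χ₁ χ₂ : G → ℂ, IsIrrCharacter G χ₁ ∧ IsIrrCharacter G χ₂ ∧ χ₁ ≠ (fun _ => 1) ∧
      χ₂ ≠ (fun _ => 1) ∧ χ₁ 1 = χ₂ 1 + 1 ∧ ∀ g, Θ g = 1 + χ₂ g - χ₁ g := by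
  classical
  haveI : Fintype (IrrCharacter G) := Fintype.ofFinite _
  have hcf := IsGeneralizedCharacter.isClassFunction hΘ
  have hexp := classFunction_eq_sum hcf
  have key : ∀ μ : IrrCharacter G, ∃ m : ℤ, classInner Θ (μ : G → ℂ) = (m : ℂ) := fun μ =>
    classInner_genChar_int hΘ
      (IsCharacter.isGeneralizedCharacter (IsIrrCharacter.isCharacter μ.2))
  choose m hm using key
  set one : IrrCharacter G := ⟨fun _ => 1, isIrrCharacter_const_one⟩ with hone
  have hm1 : m one = 1 := by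
    have := hm one
    rw [show ((one : IrrCharacter G) : G → ℂ) = fun _ => (1 : ℂ) from rfl, h1] at this
    exact_mod_cast this.symm
  have hexp' : Θ = ∑ μ : IrrCharacter G, ((m μ : ℤ) : ℂ) • (μ : G → ℂ) := by
    rw [hexp]
    exact Finset.sum_congr rfl (fun μ _ => by rw [hm μ])
  have hpars : ∑ μ : IrrCharacter G, m μ ^ 2 = 3 := by
    have e : classInner Θ Θ = ∑ μ : IrrCharacter G, (((m μ) ^ 2 : ℤ) : ℂ) := by
      conv_lhs => rw [hexp']
      rw [Cfsg.Agent.Lib.Helper25.classInner_sum_left]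
      apply Finset.sum_congr rfl
      intro μ _
      rw [Cfsg.Agent.Lib.Helper25.classInner_smul_left, ← hexp',
        ← Cfsg.Agent.Lib.Helper25.classInner_conj_symm, hm μ]
      simp [sq]
    rw [h3] at e
    have : ((∑ μ : IrrCharacter G, m μ ^ 2 : ℤ) : ℂ) = ((3 : ℤ) : ℂ) := by
      push_cast
      push_cast at e
      exact e.symm
    exact_mod_cast this
  set f : IrrCharacter G → ℤ := fun μ => if μ = one then 0 else m μ with hf
  have hfsum : ∑ μ, f μ ^ 2 = 2 := by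
    have e1 : ∑ μ, m μ ^ 2 = m one ^ 2 + ∑ μ ∈ Finset.univ.erase one, m μ ^ 2 :=
      (Finset.add_sum_erase _ _ (Finset.mem_univ one)).symm
    have e2 : ∑ μ, f μ ^ 2 = f one ^ 2 + ∑ μ ∈ Finset.univ.erase one, f μ ^ 2 :=
      (Finset.add_sum_erase _ _ (Finset.mem_univ one)).symm
    have e3 : ∑ μ ∈ Finset.univ.erase one, f μ ^ 2 = ∑ μ ∈ Finset.univ.erase one, m μ ^ 2 :=
      Finset.sum_congr rfl (fun μ hμ => by simp [hf, (Finset.mem_erase.mp hμ).1])
    have e4 : f one = 0 := by simp [hf]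
    rw [e4, e3] at e2
    rw [hm1, hpars] at e1
    rw [e2]
    linarith
  obtain ⟨i, j, hij, hi, hj, hrest⟩ := int_sum_sq_eq_two f hfsum
  have hi1 : i ≠ one := by
    intro h
    rw [h] at hi
    simp [hf] at hi
  have hj1 : j ≠ one := by
    intro h
    rw [h] at hj
    simp [hf] at hj
  have hfi : f i = m i := by simp [hf, hi1]
  have hfj : f j = m j := by simp [hf, hj1]
  rw [hfi] at hi
  rw [hfj] at hj
  have hΘ3 : Θ = ((m one : ℤ) : ℂ) • (one : G → ℂ) + (((m i : ℤ) : ℂ) • (i : G → ℂ) +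
      ((m j : ℤ) : ℂ) • (j : G → ℂ)) := by
    conv_lhs => rw [hexp']
    rw [← Finset.add_sum_erase Finset.univ _ (Finset.mem_univ one)]
    rw [← Finset.add_sum_erase (Finset.univ.erase one) _
      (Finset.mem_erase.mpr ⟨hi1, Finset.mem_univ i⟩)]
    rw [← Finset.add_sum_erase ((Finset.univ.erase one).erase i) _
      (Finset.mem_erase.mpr ⟨hij.symm, Finset.mem_erase.mpr ⟨hj1, Finset.mem_univ j⟩⟩)]
    rw [Finset.sum_eq_zero, add_zero]
    intro k hk
    have hk1 : k ≠ j := (Finset.mem_erase.mp hk).1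
    have hk2 : k ≠ i := (Finset.mem_erase.mp (Finset.mem_erase.mp hk).2).1
    have hk3 : k ≠ one := (Finset.mem_erase.mp (Finset.mem_erase.mp (Finset.mem_erase.mp hk).2).2).1
    have := hrest k hk2 hk1
    simp only [hf, if_neg hk3] at this
    rw [this]
    simp
  obtain ⟨di, hdi, edi⟩ := irr_degree i.2
  obtain ⟨dj, hdj, edj⟩ := irr_degree j.2
  have hdeg : (1 : ℂ) + (((m i : ℤ) : ℂ) * di + ((m j : ℤ) : ℂ) * dj) = 0 := by
    have := congrFun hΘ3 1
    rw [h0, hm1] at this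
    simp only [Pi.add_apply, Pi.smul_apply, smul_eq_mul] at this
    rw [edi, edj] at this
    simpa using this.symm
  have hdegZ : 1 + (m i * (di : ℤ) + m j * (dj : ℤ)) = 0 := by
    have : ((1 + (m i * (di : ℤ) + m j * (dj : ℤ)) : ℤ) : ℂ) = ((0 : ℤ) : ℂ) := by
      push_cast
      exact hdeg
    exact_mod_cast this
  have hne1 : ∀ k : IrrCharacter G, k ≠ one → (k : G → ℂ) ≠ (fun _ => (1 : ℂ)) := by
    intro k hk h
    exact hk (Subtype.ext h)
  rcases hi with hi | hi <;> rcases hj with hj | hj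
  · exfalso; rw [hi, hj] at hdegZ; omega
  · -- m i = 1, m j = -1 : Θ = 1 + i - j
    refine ⟨j, i, j.2, i.2, hne1 j hj1, hne1 i hi1, ?_, ?_⟩
    · rw [edi, edj]
      rw [hi, hj] at hdegZ
      have : (dj : ℤ) = di + 1 := by omega
      exact_mod_cast this
    · intro g
      have := congrFun hΘ3 g
      rw [hm1, hi, hj] at this
      simp only [Pi.add_apply, Pi.smul_apply, smul_eq_mul] at this
      rw [this]
      simp [sub_eq_add_neg]
      ring
  · refine ⟨i, j, i.2, j.2, hne1 i hi1, hne1 j hj1, ?_, ?_⟩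
    · rw [edi, edj]
      rw [hi, hj] at hdegZ
      have : (di : ℤ) = dj + 1 := by omega
      exact_mod_cast this
    · intro g
      have := congrFun hΘ3 g
      rw [hm1, hi, hj] at this
      simp only [Pi.add_apply, Pi.smul_apply, smul_eq_mul] at this
      rw [this]
      simp [sub_eq_add_neg]
      ring
  · exfalso; rw [hi, hj] at hdegZ; omega

end Cfsg.Agent.Lib.Helper3
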