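import Mathlib
import Cfsg.Prelude.Def_OddOrderChar
import Cfsg.Agent.Lib.Helper3.FrobKer
import Cfsg.Agent.Lib.Helper25.IndNormal
import Cfsg.Agent.S1529
import Cfsg.Agent.Lib.Helper3.NormThree

set_option autoImplicit false
set_option linter.style.haveILetI false

/-!
T.I. subgroups with Frobenius normalizer (Isaacs, Chapter 7): consequences of coherence.
-/

namespace Cfsg.Agent.Lib.Helper3

open Cfsg
open scoped ComplexConjugate

section tifn

variable {G : Type*} [Group G] [Fintype G] (K : Subgroup G)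

omit [Fintype G] in
/-- The Frobenius-kernel property of `K` inside its normalizer. -/
theorem tifn_hF (hC : ∀ k ∈ K, k ≠ 1 → Subgroup.centralizer ({k} : Set G) ≤ K) :
    ∀ k ∈ K.subgroupOf (Subgroup.normalizer (K : Set G)), k ≠ 1 →
      ∀ x : ↥(Subgroup.normalizer (K : Set G)), x * k = k * x →
        x ∈ K.subgroupOf (Subgroup.normalizer (K : Set G)) := by
  intro k hk hk1 x hx
  rw [Subgroup.mem_subgroupOf] at hk ⊢
  have hk1' : (k : G) ≠ 1 := fun h => hk1 (Subtype.ext h)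
  apply hC (k : G) hk hk1'
  rw [Subgroup.mem_centralizer_iff]
  intro h hh
  rw [Set.mem_singleton_iff] at hh
  subst hh
  have := congrArg Subtype.val hx
  simpa using this.symm

/-- The integer combination `ξ(1) χ - χ(1) ξ`. -/
def crossComb {X : Type*} (a b : ℕ) (χ ξ : X → ℂ) : X → ℂ :=
  ((b : ℤ) • χ) + ((-(a : ℤ)) • ξ)

theorem crossComb_apply {X : Type*} (a b : ℕ) (χ ξ : X → ℂ) (x : X) :
    crossComb a b χ ξ x = (b : ℂ) * χ x - (a : ℂ) * ξ x := by
  simp [crossComb, sub_eq_add_neg]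

theorem crossComb_mem_zspan {X : Type*} (S : Set (X → ℂ)) (a b : ℕ) {χ ξ : X → ℂ}
    (hχ : χ ∈ S) (hξ : ξ ∈ S) : crossComb a b χ ξ ∈ zspan S := by
  unfold crossComb zspan
  exact Submodule.add_mem _ (Submodule.smul_mem _ _ (Submodule.subset_span hχ))
    (Submodule.smul_mem _ _ (Submodule.subset_span hξ))

/-- The coherence hypotheses of Isaacs (7.18)/(7.19). -/
structure CohCtx (K : Subgroup G) [Fintype ↥(Subgroup.normalizer (K : Set G))]
    (S : Set (↥(Subgroup.normalizer (K : Set G)) → ℂ))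
    (star : (↥(Subgroup.normalizer (K : Set G)) → ℂ) → (G → ℂ)) : Prop where
  hTI : ∀ g : G, g ∉ Subgroup.normalizer (K : Set G) → ∀ k ∈ K, g * k * g⁻¹ ∈ K → k = 1
  hlt : K < Subgroup.normalizer (K : Set G)
  hC : ∀ k ∈ K, k ≠ 1 → Subgroup.centralizer ({k} : Set G) ≤ K
  hS : S = {χ : ↥(Subgroup.normalizer (K : Set G)) → ℂ |
    IsIrrCharacter ↥(Subgroup.normalizer (K : Set G)) χ ∧
      ∃ k : ↥(Subgroup.normalizer (K : Set G)), (k : G) ∈ K ∧ χ k ≠ χ 1}
  hstar : IsLinearIsometryOn (zspan S) star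
  hext : ∀ α ∈ zspanOn S ({1}ᶜ : Set ↥(Subgroup.normalizer (K : Set G))),
    star α = indFun (Subgroup.normalizer (K : Set G)) α

variable {K} [Fintype ↥(Subgroup.normalizer (K : Set G))]
  {S : Set (↥(Subgroup.normalizer (K : Set G)) → ℂ)}
  {star : (↥(Subgroup.normalizer (K : Set G)) → ℂ) → (G → ℂ)}

theorem CohCtx.irr (c : CohCtx K S star) {χ : ↥(Subgroup.normalizer (K : Set G)) → ℂ}
    (hχ : χ ∈ S) : IsIrrCharacter ↥(Subgroup.normalizer (K : Set G)) χ := by
  rw [c.hS] at hχ; exact hχ.1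

theorem CohCtx.rel (c : CohCtx K S star) {χ : ↥(Subgroup.normalizer (K : Set G)) → ℂ}
    (hχ : χ ∈ S) : ∃ k ∈ K.subgroupOf (Subgroup.normalizer (K : Set G)), χ k ≠ χ 1 := by
  rw [c.hS] at hχ
  obtain ⟨k, hk, hne⟩ := hχ.2
  exact ⟨k, Subgroup.mem_subgroupOf.mpr hk, hne⟩

theorem CohCtx.mem_of_irr_rel (c : CohCtx K S star) {χ : ↥(Subgroup.normalizer (K : Set G)) → ℂ}
    (hirr : IsIrrCharacter ↥(Subgroup.normalizer (K : Set G)) χ)
    (hrel : ∃ k ∈ K.subgroupOf (Subgroup.normalizer (K : Set G)), χ k ≠ χ 1) : χ ∈ S := by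
  rw [c.hS]
  obtain ⟨k, hk, hne⟩ := hrel
  exact ⟨hirr, k, Subgroup.mem_subgroupOf.mp hk, hne⟩

theorem CohCtx.vanish (c : CohCtx K S star) {χ : ↥(Subgroup.normalizer (K : Set G)) → ℂ}
    (hχ : χ ∈ S) (x : ↥(Subgroup.normalizer (K : Set G))) (hx : (x : G) ∉ K) : χ x = 0 := by
  haveI : (K.subgroupOf (Subgroup.normalizer (K : Set G))).Normal := Subgroup.normal_in_normalizer
  haveI : Fintype ↥(K.subgroupOf (Subgroup.normalizer (K : Set G))) := Fintype.ofFinite _
  exact eq_zero_of_relevant_of_not_mem _ (tifn_hF K c.hC) (c.irr hχ) (c.rel hχ) x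
    (fun h => hx (Subgroup.mem_subgroupOf.mp h))

/-- Properties of the cross combination `ξ(1)χ - χ(1)ξ`. -/
theorem CohCtx.cross (c : CohCtx K S star) {χ ξ : ↥(Subgroup.normalizer (K : Set G)) → ℂ}
    (hχ : χ ∈ S) (hξ : ξ ∈ S) (a b : ℕ) (ha : χ 1 = (a : ℂ)) (hb : ξ 1 = (b : ℂ)) :
    crossComb a b χ ξ ∈ zspan S ∧
    star (crossComb a b χ ξ) = ((b : ℤ) • star χ) + ((-(a : ℤ)) • star ξ) ∧
    star (crossComb a b χ ξ) = indFun (Subgroup.normalizer (K : Set G)) (crossComb a b χ ξ) ∧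
    (∀ k : ↥(Subgroup.normalizer (K : Set G)), (k : G) ∈ K → k ≠ 1 →
      star (crossComb a b χ ξ) k = crossComb a b χ ξ k) := by
  have hmem := crossComb_mem_zspan S a b hχ hξ
  have hχz : χ ∈ zspan S := Submodule.subset_span hχ
  have hξz : ξ ∈ zspan S := Submodule.subset_span hξ
  have h1 : crossComb a b χ ξ 1 = 0 := by
    rw [crossComb_apply, ha, hb]; ring
  have hon : crossComb a b χ ξ ∈ zspanOn S ({1}ᶜ : Set ↥(Subgroup.normalizer (K : Set G))) := by
    refine ⟨hmem, ?_⟩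
    intro x hx
    simp only [Set.mem_compl_iff, Set.mem_singleton_iff, not_not] at hx
    rw [hx]; exact h1
  have hlin : star (crossComb a b χ ξ) = ((b : ℤ) • star χ) + ((-(a : ℤ)) • star ξ) := by
    unfold crossComb
    rw [c.hstar.1 _ (Submodule.smul_mem _ _ hχz) _ (Submodule.smul_mem _ _ hξz),
      c.hstar.2.1 χ hχz, c.hstar.2.1 ξ hξz]
  have hind := c.hext _ hon
  refine ⟨hmem, hlin, hind, ?_⟩
  intro k hk hk1
  rw [hind]
  have hcl : IsClassFunction ↥(Subgroup.normalizer (K : Set G)) (crossComb a b χ ξ) := by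
    intro g h
    rw [crossComb_apply, crossComb_apply,
      IsCharacter.isClassFunction (IsIrrCharacter.isCharacter (c.irr hχ)) g h,
      IsCharacter.isClassFunction (IsIrrCharacter.isCharacter (c.irr hξ)) g h]
  have hvan : ∀ x : ↥(Subgroup.normalizer (K : Set G)), (x : G) ∉ K →
      crossComb a b χ ξ x = 0 := by
    intro x hx
    rw [crossComb_apply, c.vanish hχ x hx, c.vanish hξ x hx]; ring
  exact (Cfsg.Agent.S0850.result K c.hTI c.hlt c.hC).2 _ hcl hvan h1 k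

omit [Fintype G] [Fintype ↥(Subgroup.normalizer (K : Set G))] in
theorem classInner_crossComb_right {X : Type*} [Group X] [Fintype X] (Ξ : X → ℂ) (a b : ℕ)
    (f g : X → ℂ) :
    classInner Ξ (crossComb a b f g) = (b : ℂ) * classInner Ξ f - (a : ℂ) * classInner Ξ g := by
  have e : crossComb a b f g = ((b : ℂ) • f) - ((a : ℂ) • g) := by
    funext x
    simp [crossComb_apply]
  rw [e, Cfsg.Agent.Lib.Helper25.classInner_sub_right,
    Cfsg.Agent.Lib.Helper25.classInner_smul_right,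
    Cfsg.Agent.Lib.Helper25.classInner_smul_right, Complex.conj_natCast, Complex.conj_natCast]

omit [Fintype G] [Fintype ↥(Subgroup.normalizer (K : Set G))] in
theorem classInner_zcomb_right {X : Type*} [Group X] [Fintype X] (Ξ : X → ℂ) (a b : ℕ)
    (f g : X → ℂ) :
    classInner Ξ (((b : ℤ) • f) + ((-(a : ℤ)) • g)) =
      (b : ℂ) * classInner Ξ f - (a : ℂ) * classInner Ξ g :=
  classInner_crossComb_right Ξ a b f g

/-- A class function of `N` orthogonal to all cross combinations is constant on `K ∖ {1}`. -/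
theorem CohCtx.const_on (c : CohCtx K S star) {Ξ : ↥(Subgroup.normalizer (K : Set G)) → ℂ}
    (hΞ : IsClassFunction ↥(Subgroup.normalizer (K : Set G)) Ξ)
    (horth : ∀ χ ∈ S, ∀ ξ ∈ S, ∀ a b : ℕ, χ 1 = (a : ℂ) → ξ 1 = (b : ℂ) →
      classInner Ξ (crossComb a b χ ξ) = 0) :
    ∃ C : ℂ, ∀ k : ↥(Subgroup.normalizer (K : Set G)), (k : G) ∈ K → k ≠ 1 → Ξ k = C := by
  classical
  haveI : Fintype (IrrCharacter ↥(Subgroup.normalizer (K : Set G))) := Fintype.ofFinite _
  obtain ⟨C, hC⟩ := const_on_of_cross (K.subgroupOf (Subgroup.normalizer (K : Set G))) hΞ (by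
    intro χ ξ hχ hξ hrχ hrξ
    obtain ⟨a, _, ha⟩ := Cfsg.Agent.Lib.Helper25.irr_degree hχ
    obtain ⟨b, _, hb⟩ := Cfsg.Agent.Lib.Helper25.irr_degree hξ
    have := horth χ (c.mem_of_irr_rel hχ hrχ) ξ (c.mem_of_irr_rel hξ hrξ) a b ha hb
    rw [classInner_crossComb_right] at this
    rw [ha, hb]
    linear_combination this)
  exact ⟨C, fun k hk hk1 => hC k (Subgroup.mem_subgroupOf.mpr hk) hk1⟩

/-- `star χ` is plus or minus an irreducible character. -/
theorem CohCtx.star_signed (c : CohCtx K S star) {χ : ↥(Subgroup.normalizer (K : Set G)) → ℂ}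
    (hχ : χ ∈ S) : ∃ (ε : ℂ) (μ : G → ℂ), (ε = 1 ∨ ε = -1) ∧ IsIrrCharacter G μ ∧
      star χ = ε • μ := by
  have hχz : χ ∈ zspan S := Submodule.subset_span hχ
  have hnorm : classInner (star χ) (star χ) = 1 := by
    rw [c.hstar.2.2.1 χ hχz χ hχz, classInner_irr (c.irr hχ) (c.irr hχ), if_pos rfl]
  exact Cfsg.Agent.S1529.genChar_norm_one (c.hstar.2.2.2 χ hχz) hnorm

theorem CohCtx.star_isClassFunction (c : CohCtx K S star)
    {χ : ↥(Subgroup.normalizer (K : Set G)) → ℂ} (hχ : χ ∈ S) : IsClassFunction G (star χ) :=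
  Cfsg.Agent.Lib.Helper25.IsGeneralizedCharacter.isClassFunction
    (c.hstar.2.2.2 χ (Submodule.subset_span hχ))

/-- Isaacs (7.18)(a), one direction: irreducible characters other than `±star χ` are constant on
`K ∖ {1}`. -/
theorem CohCtx.const_of_not_exceptional (c : CohCtx K S star) {ψ : G → ℂ}
    (hψ : IsIrrCharacter G ψ) (hne : ¬ ∃ χ ∈ S, ψ = star χ ∨ ψ = -star χ) :
    ∃ C : ℂ, ∀ k ∈ K, k ≠ 1 → ψ k = C := by
  have hψcl : IsClassFunction G ψ := IsCharacter.isClassFunction (IsIrrCharacter.isCharacter hψ)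
  have horth0 : ∀ χ ∈ S, classInner ψ (star χ) = 0 := by
    intro χ hχ
    obtain ⟨ε, μ, hε, hμ, he⟩ := c.star_signed hχ
    rw [he, Cfsg.Agent.Lib.Helper25.classInner_smul_right, classInner_irr hψ hμ]
    split_ifs with h
    · exfalso
      apply hne
      refine ⟨χ, hχ, ?_⟩
      rcases hε with h1 | h1
      · left; rw [he, h1, one_smul, h]
      · right; rw [he, h1, h]; simp
    · rw [mul_zero]
  have hcl : IsClassFunction ↥(Subgroup.normalizer (K : Set G))
      (fun x : ↥(Subgroup.normalizer (K : Set G)) => ψ x) := by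
    intro g h
    exact hψcl g h
  obtain ⟨C, hC⟩ := c.const_on hcl (by
    intro χ hχ ξ hξ a b ha hb
    obtain ⟨_, hlin, hind, _⟩ := c.cross hχ hξ a b ha hb
    rw [← Cfsg.Agent.Lib.Helper25.frobenius_reciprocity' _ _ _ hψcl, ← hind, hlin,
      classInner_zcomb_right, horth0 χ hχ, horth0 ξ hξ]
    ring)
  refine ⟨C, ?_⟩
  intro k hk hk1
  have hkN : k ∈ Subgroup.normalizer (K : Set G) := Subgroup.le_normalizer hk
  exact hC ⟨k, hkN⟩ hk (fun h => hk1 (congrArg Subtype.val h))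

theorem CohCtx.sum_eq_zero (c : CohCtx K S star) {χ : ↥(Subgroup.normalizer (K : Set G)) → ℂ}
    (hχ : χ ∈ S) : ∑ x : ↥(Subgroup.normalizer (K : Set G)), χ x = 0 := by
  have hne : χ ≠ (fun _ => (1 : ℂ)) := by
    intro h
    obtain ⟨k, _, hk⟩ := c.rel hχ
    apply hk
    rw [h]
  have h0 := classInner_irr (c.irr hχ) (isIrrCharacter_const_one (H := ↥(Subgroup.normalizer (K : Set G))))
  rw [if_neg hne] at h0
  unfold classInner at h0
  simp only [map_one, mul_one] at h0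
  rcases mul_eq_zero.mp h0 with h | h
  · exfalso
    have : (Nat.card ↥(Subgroup.normalizer (K : Set G)) : ℂ) ≠ 0 := by
      have : 0 < Nat.card ↥(Subgroup.normalizer (K : Set G)) := Nat.card_pos
      exact_mod_cast this.ne'
    exact this (inv_eq_zero.mp h)
  · exact h

/-- Isaacs (7.18)(a), other direction: `star χ` is not constant on `K ∖ {1}`. -/
theorem CohCtx.not_const_star (c : CohCtx K S star) (htwo : ∃ χ ∈ S, ∃ ξ ∈ S, χ ≠ ξ)
    {χ : ↥(Subgroup.normalizer (K : Set G)) → ℂ} (hχ : χ ∈ S) (C : ℂ)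
    (hC : ∀ k ∈ K, k ≠ 1 → star χ k = C) : False := by
  -- a second member of S
  obtain ⟨ξ, hξ, hne⟩ : ∃ ξ ∈ S, χ ≠ ξ := by
    obtain ⟨χ₁, h1, ξ₁, h2, h12⟩ := htwo
    by_cases h : χ = χ₁
    · exact ⟨ξ₁, h2, by rw [h]; exact h12⟩
    · exact ⟨χ₁, h1, h⟩
  obtain ⟨a, _, ha⟩ := Cfsg.Agent.Lib.Helper25.irr_degree (c.irr hχ)
  obtain ⟨b, hb0, hb⟩ := Cfsg.Agent.Lib.Helper25.irr_degree (c.irr hξ)
  obtain ⟨hmem, hlin, hind, _⟩ := c.cross hχ hξ a b ha hb
  have hχz : χ ∈ zspan S := Submodule.subset_span hχ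
  have h1 : classInner (star χ) (star (crossComb a b χ ξ)) = (b : ℂ) := by
    rw [c.hstar.2.2.1 χ hχz _ hmem, classInner_crossComb_right,
      classInner_irr (c.irr hχ) (c.irr hχ), if_pos rfl,
      classInner_irr (c.irr hχ) (c.irr hξ), if_neg hne]
    ring
  have h2 : classInner (star χ) (star (crossComb a b χ ξ)) = 0 := by
    rw [hind, Cfsg.Agent.Lib.Helper25.frobenius_reciprocity' _ _ _ (c.star_isClassFunction hχ)]
    unfold classInner
    have hpt : ∀ x : ↥(Subgroup.normalizer (K : Set G)),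
        star χ (x : G) * conj (crossComb a b χ ξ x) = C * conj (crossComb a b χ ξ x) := by
      intro x
      by_cases hx : (x : G) ∈ K
      · by_cases hx1 : x = 1
        · have : crossComb a b χ ξ x = 0 := by
            rw [hx1, crossComb_apply, ha, hb]; ring
          rw [this, map_zero, mul_zero, mul_zero]
        · rw [hC (x : G) hx (fun h => hx1 (Subtype.ext h))]
      · have : crossComb a b χ ξ x = 0 := by
          rw [crossComb_apply, c.vanish hχ x hx, c.vanish hξ x hx]; ring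
        rw [this, map_zero, mul_zero, mul_zero]
    rw [Finset.sum_congr rfl (fun x _ => hpt x), ← Finset.mul_sum, ← map_sum]
    have hs : ∑ x : ↥(Subgroup.normalizer (K : Set G)), crossComb a b χ ξ x = 0 := by
      simp only [crossComb_apply]
      rw [Finset.sum_sub_distrib, ← Finset.mul_sum, ← Finset.mul_sum, c.sum_eq_zero hχ,
        c.sum_eq_zero hξ]
      ring
    rw [hs, map_zero, mul_zero, mul_zero]
  rw [h1] at h2
  have : (b : ℂ) ≠ 0 := by exact_mod_cast hb0.ne'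
  exact this h2

/-- The difference `star χ - χ` is constant on `K ∖ {1}`. -/
theorem CohCtx.diff_const (c : CohCtx K S star) {χ : ↥(Subgroup.normalizer (K : Set G)) → ℂ}
    (hχ : χ ∈ S) : ∃ C : ℂ, ∀ k : ↥(Subgroup.normalizer (K : Set G)), (k : G) ∈ K → k ≠ 1 →
      star χ k - χ k = C := by
  have hχz : χ ∈ zspan S := Submodule.subset_span hχ
  have hscl := c.star_isClassFunction hχ
  have hχcl := IsCharacter.isClassFunction (IsIrrCharacter.isCharacter (c.irr hχ))
  have hcl : IsClassFunction ↥(Subgroup.normalizer (K : Set G))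
      ((fun x : ↥(Subgroup.normalizer (K : Set G)) => star χ x) - χ) := by
    intro g h
    simp only [Pi.sub_apply]
    rw [hχcl g h]
    congr 1
    exact hscl g h
  obtain ⟨C, hC⟩ := c.const_on hcl (by
    intro ξ hξ η hη a b ha hb
    obtain ⟨hmem, _, hind, _⟩ := c.cross hξ hη a b ha hb
    rw [Cfsg.Agent.Lib.Helper25.classInner_sub_left,
      ← Cfsg.Agent.Lib.Helper25.frobenius_reciprocity' _ _ _ hscl, ← hind,
      c.hstar.2.2.1 χ hχz _ hmem, sub_self])
  exact ⟨C, fun k hk hk1 => hC k hk hk1⟩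

/-- The constant value of `star χ - χ` on `K ∖ {1}` is a rational integer. -/
theorem CohCtx.diff_const_int (c : CohCtx K S star) {χ : ↥(Subgroup.normalizer (K : Set G)) → ℂ}
    (hχ : χ ∈ S) (C : ℂ)
    (hC : ∀ k : ↥(Subgroup.normalizer (K : Set G)), (k : G) ∈ K → k ≠ 1 → star χ k - χ k = C) :
    ∃ z : ℤ, C = (z : ℂ) := by
  classical
  haveI : (K.subgroupOf (Subgroup.normalizer (K : Set G))).Normal := Subgroup.normal_in_normalizer
  haveI : Fintype ↥(K.subgroupOf (Subgroup.normalizer (K : Set G))) := Fintype.ofFinite _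
  set K' := K.subgroupOf (Subgroup.normalizer (K : Set G)) with hK'
  obtain ⟨k₀, hk₀, hk₀ne⟩ := c.rel hχ
  have hk₀1 : k₀ ≠ 1 := by
    intro h; apply hk₀ne; rw [h]
  obtain ⟨μ₁, μ₂, hμ₁, hμ₂, hdiff⟩ := c.hstar.2.2.2 χ (Submodule.subset_span hχ)
  -- integrality
  have hint : IsIntegral ℤ C := by
    rw [← hC k₀ (Subgroup.mem_subgroupOf.mp hk₀) hk₀1, hdiff]
    simp only [Pi.sub_apply]
    exact ((IsCharacter.isIntegral hμ₁ _).sub (IsCharacter.isIntegral hμ₂ _)).sub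
      (IsCharacter.isIntegral (IsIrrCharacter.isCharacter (c.irr hχ)) _)
  -- sums over K'
  have hsumχ : ∑ k : K', χ (k : ↥(Subgroup.normalizer (K : Set G))) = 0 :=
    sum_eq_zero_of_relevant K' (c.irr hχ) (c.rel hχ)
  have hchar_sum : ∀ μ : G → ℂ, IsCharacter G μ → ∃ n : ℕ,
      ∑ k : K', μ ((k : ↥(Subgroup.normalizer (K : Set G))) : G) = (Nat.card K' : ℂ) * (n : ℂ) := by
    intro μ hμ
    let f : K' →* G := (Subgroup.normalizer (K : Set G)).subtype.comp K'.subtype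
    have h1 : IsCharacter K' (fun k => μ (f k)) := Cfsg.Agent.Lib.Helper25.IsCharacter.comp_hom f hμ
    obtain ⟨n, hn⟩ := IsCharacter.classInner_irr_nat h1 (isIrrCharacter_const_one (H := K'))
    refine ⟨n, ?_⟩
    unfold classInner at hn
    simp only [map_one, mul_one] at hn
    have hne : (Nat.card K' : ℂ) ≠ 0 := by
      have : 0 < Nat.card K' := Nat.card_pos
      exact_mod_cast this.ne'
    rw [← hn, ← mul_assoc, mul_inv_cancel₀ hne, one_mul]
    rfl
  obtain ⟨n₁, hn₁⟩ := hchar_sum μ₁ hμ₁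
  obtain ⟨n₂, hn₂⟩ := hchar_sum μ₂ hμ₂
  obtain ⟨d₁, hd₁⟩ := Cfsg.Agent.Lib.Helper25.char_degree hμ₁
  obtain ⟨d₂, hd₂⟩ := Cfsg.Agent.Lib.Helper25.char_degree hμ₂
  obtain ⟨a, _, ha⟩ := Cfsg.Agent.Lib.Helper25.irr_degree (c.irr hχ)
  -- the sum of the differences
  have htotal : ∑ k : K', (star χ ((k : ↥(Subgroup.normalizer (K : Set G))) : G)
      - χ (k : ↥(Subgroup.normalizer (K : Set G)))) =
      (Nat.card K' : ℂ) * ((n₁ : ℂ) - (n₂ : ℂ)) := by
    rw [Finset.sum_sub_distrib, hsumχ, sub_zero, hdiff]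
    simp only [Pi.sub_apply]
    rw [Finset.sum_sub_distrib, hn₁, hn₂]
    ring
  have hsplit : ∑ k : K', (star χ ((k : ↥(Subgroup.normalizer (K : Set G))) : G)
      - χ (k : ↥(Subgroup.normalizer (K : Set G)))) =
      (star χ 1 - χ 1) + ((Fintype.card K' : ℂ) - 1) * C := by
    rw [← Finset.add_sum_erase Finset.univ _ (Finset.mem_univ (1 : K'))]
    congr 1
    have hrest : ∑ k ∈ (Finset.univ : Finset K').erase 1,
        (star χ ((k : ↥(Subgroup.normalizer (K : Set G))) : G)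
          - χ (k : ↥(Subgroup.normalizer (K : Set G)))) =
        ∑ _k ∈ (Finset.univ : Finset K').erase 1, C := by
      refine Finset.sum_congr rfl (fun k hk => ?_)
      have hkK : ((k : ↥(Subgroup.normalizer (K : Set G))) : G) ∈ K :=
        Subgroup.mem_subgroupOf.mp k.2
      have hk1 : (k : ↥(Subgroup.normalizer (K : Set G))) ≠ 1 := by
        intro h
        exact (Finset.mem_erase.mp hk).1 (Subtype.ext h)
      exact hC (k : ↥(Subgroup.normalizer (K : Set G))) hkK hk1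
    rw [hrest, Finset.sum_const, Finset.card_erase_of_mem (Finset.mem_univ _), Finset.card_univ,
      nsmul_eq_mul, Nat.cast_sub Fintype.card_pos]
    simp
  have hcard2 : 2 ≤ Fintype.card K' := by
    have : (1 : K') ≠ ⟨k₀, hk₀⟩ := fun h => hk₀1 (congrArg Subtype.val h).symm
    exact Fintype.one_lt_card_iff_nontrivial.mpr ⟨⟨1, ⟨k₀, hk₀⟩, this⟩⟩
  have hstar1 : star χ 1 = (d₁ : ℂ) - (d₂ : ℂ) := by
    rw [hdiff]; simp only [Pi.sub_apply]; rw [hd₁, hd₂]
  rw [htotal, hstar1, ha, Nat.card_eq_fintype_card] at hsplit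
  -- C as a rational
  set q : ℚ := ((Fintype.card K' : ℚ) * ((n₁ : ℚ) - (n₂ : ℚ)) - ((d₁ : ℚ) - (d₂ : ℚ) - (a : ℚ))) /
    ((Fintype.card K' : ℚ) - 1) with hq
  have hden : ((Fintype.card K' : ℂ) - 1) ≠ 0 := by
    have h1 : (1 : ℝ) < (Fintype.card K' : ℝ) := by exact_mod_cast hcard2
    have h2 : ((Fintype.card K' : ℂ) - 1) = (((Fintype.card K' : ℝ) - 1 : ℝ) : ℂ) := by push_cast; ring
    rw [h2]
    exact_mod_cast (sub_pos.mpr h1).ne'
  have hCq : C = (q : ℂ) := by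
    rw [hq]
    push_cast
    rw [eq_div_iff hden]
    linear_combination -hsplit
  rw [hCq] at hint
  obtain ⟨z, hz⟩ := int_of_isIntegral_ratCast hint
  refine ⟨z, ?_⟩
  rw [hCq, ← hz]
  push_cast
  rfl

/-- Isaacs (7.19): the differences `star χ - χ` on `K ∖ {1}` are `m χ(1)/e` for one integer `m`. -/
theorem CohCtx.exists_m (c : CohCtx K S star) :
    ∃ m : ℤ, ∀ χ ∈ S, ∀ k : ↥(Subgroup.normalizer (K : Set G)), (k : G) ∈ K → k ≠ 1 →
      star χ k - χ k = (m : ℂ) * χ 1 /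
        ((K.subgroupOf (Subgroup.normalizer (K : Set G))).index : ℂ) := by
  classical
  haveI : (K.subgroupOf (Subgroup.normalizer (K : Set G))).Normal := Subgroup.normal_in_normalizer
  haveI : Fintype ↥(K.subgroupOf (Subgroup.normalizer (K : Set G))) := Fintype.ofFinite _
  haveI : Fintype (IrrCharacter ↥(Subgroup.normalizer (K : Set G))) := Fintype.ofFinite _
  by_cases hne : S.Nonempty
  swap
  · exact ⟨0, fun χ hχ => absurd ⟨χ, hχ⟩ hne⟩
  obtain ⟨χ₀, hχ₀⟩ := hne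
  have he : ((K.subgroupOf (Subgroup.normalizer (K : Set G))).index : ℂ) ≠ 0 := by
    have : (K.subgroupOf (Subgroup.normalizer (K : Set G))).index ≠ 0 :=
      Subgroup.index_ne_zero_of_finite
    exact_mod_cast this
  have hdata : ∀ χ ∈ S, ∃ z : ℤ, ∀ k : ↥(Subgroup.normalizer (K : Set G)), (k : G) ∈ K → k ≠ 1 →
      star χ k - χ k = (z : ℂ) := by
    intro χ hχ
    obtain ⟨C, hC⟩ := c.diff_const hχ
    obtain ⟨z, hz⟩ := c.diff_const_int hχ C hC
    exact ⟨z, fun k hk hk1 => by rw [hC k hk hk1, hz]⟩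
  let z : IrrCharacter ↥(Subgroup.normalizer (K : Set G)) → ℤ := fun χ =>
    if h : (χ : ↥(Subgroup.normalizer (K : Set G)) → ℂ) ∈ S then (hdata _ h).choose else 0
  obtain ⟨z₀, hz₀⟩ := hdata χ₀ hχ₀
  obtain ⟨f₀, hf₀⟩ := index_dvd_degree_of_relevant
    (K.subgroupOf (Subgroup.normalizer (K : Set G))) (tifn_hF K c.hC) (c.irr hχ₀) (c.rel hχ₀)
  have hf₀ne : f₀ ≠ 0 := by
    intro h
    rw [h] at hf₀
    obtain ⟨a, ha0, ha⟩ := Cfsg.Agent.Lib.Helper25.irr_degree (c.irr hχ₀)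
    rw [ha] at hf₀
    have : a = 0 := by exact_mod_cast hf₀
    omega
  obtain ⟨k₀, hk₀, hk₀ne⟩ := c.rel hχ₀
  have hk₀1 : k₀ ≠ 1 := by
    intro h; apply hk₀ne; rw [h]
  have hk₀K : (k₀ : G) ∈ K := Subgroup.mem_subgroupOf.mp hk₀
  have hcross : ∀ χ ∈ S, ∀ (zχ : ℤ) (fχ : ℕ),
      (∀ k : ↥(Subgroup.normalizer (K : Set G)), (k : G) ∈ K → k ≠ 1 →
        star χ k - χ k = (zχ : ℂ)) →
      χ 1 = (((K.subgroupOf (Subgroup.normalizer (K : Set G))).index * fχ : ℕ) : ℂ) →
      (f₀ : ℤ) * zχ = (fχ : ℤ) * z₀ := by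
    intro χ hχ zχ fχ hzχ hfχ
    obtain ⟨_, hlin, _, hval⟩ := c.cross hχ hχ₀ _ _ hfχ hf₀
    have h1 := hval k₀ hk₀K hk₀1
    rw [hlin, crossComb_apply, Pi.add_apply, Pi.smul_apply, Pi.smul_apply] at h1
    simp only [zsmul_eq_mul, Int.cast_natCast, Int.cast_neg] at h1
    have h2 := hzχ k₀ hk₀K hk₀1
    have h3 := hz₀ k₀ hk₀K hk₀1
    have h4 : ((K.subgroupOf (Subgroup.normalizer (K : Set G))).index : ℂ) *
        ((f₀ : ℂ) * (zχ : ℂ)) =
        ((K.subgroupOf (Subgroup.normalizer (K : Set G))).index : ℂ) *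
          ((fχ : ℂ) * (z₀ : ℂ)) := by
      rw [← h2, ← h3]
      push_cast at h1
      linear_combination h1
    have h5 := mul_left_cancel₀ he h4
    exact_mod_cast h5
  have hdvd := frobKer_dvd_of_cross (K.subgroupOf (Subgroup.normalizer (K : Set G))) z z₀ f₀ hf₀ne
    (by
      intro χ hrel
      have hχS := c.mem_of_irr_rel χ.2 hrel
      obtain ⟨f, hf⟩ := index_dvd_degree_of_relevant
        (K.subgroupOf (Subgroup.normalizer (K : Set G))) (tifn_hF K c.hC) χ.2 hrel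
      refine ⟨f, hf, ?_⟩
      have hz : z χ = (hdata _ hχS).choose := dif_pos hχS
      rw [hz]
      exact hcross _ hχS _ f (hdata _ hχS).choose_spec hf) k₀ hk₀ hk₀1
  obtain ⟨m, hm⟩ := hdvd
  refine ⟨m, ?_⟩
  intro χ hχ k hk hk1
  obtain ⟨zχ, hzχ⟩ := hdata χ hχ
  obtain ⟨fχ, hfχ⟩ := index_dvd_degree_of_relevant
    (K.subgroupOf (Subgroup.normalizer (K : Set G))) (tifn_hF K c.hC) (c.irr hχ) (c.rel hχ)
  have h6 := hcross χ hχ zχ fχ hzχ hfχ
  rw [hm] at h6
  have h7 : zχ = (fχ : ℤ) * m := by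
    have hf₀z : (f₀ : ℤ) ≠ 0 := by exact_mod_cast hf₀ne
    apply mul_left_cancel₀ hf₀z
    rw [h6]; ring
  rw [hzχ k hk hk1, hfχ, h7]
  push_cast
  field_simp

end tifn

end Cfsg.Agent.Lib.Helper3
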