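import Mathlib
import Cfsg.Prelude.Def_OddOrderChar
import Cfsg.Agent.Lib.Helper3.TIFN
import Cfsg.Agent.Lib.Helper25.Coherence
import Cfsg.Agent.Lib.Helper25.Coherence2
import Cfsg.Agent.S1529

set_option autoImplicit false
set_option linter.style.haveILetI false

/-!
Gluing two coherent sets of irreducible characters (Peterfalvi (4.?)): orthogonality of the
two extended isometries and coherence of the union.
-/

namespace Cfsg.Agent.Lib.Helper3

open Cfsg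
open scoped ComplexConjugate
open Cfsg.Agent.Lib.Helper25 (zspan_add zspan_neg zspan_sub zspan_zsmul zspan_zero zspan_mono
  subset_zspan mem_zspanOn_one zspanOn_add zspanOn_neg zspanOn_sub zspanOn_zsmul zspanOn_mono
  zspanOn_zero genChar_add genChar_zero classInner_zsmul_left classInner_zsmul_right irr_degree)

section signed

variable {G : Type*} [Group G] [Fintype G]

/-- Two generalized characters of norm one are orthogonal or equal up to sign. -/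
theorem norm_one_pair {P Q : G → ℂ} (hP : IsGeneralizedCharacter G P)
    (hQ : IsGeneralizedCharacter G Q) (hP1 : classInner P P = 1) (hQ1 : classInner Q Q = 1) :
    P 1 ≠ 0 ∧ (classInner P Q = 0 ∨
      ∃ ε : ℂ, (ε = 1 ∨ ε = -1) ∧ Q = ε • P ∧ classInner P Q = ε) := by
  obtain ⟨ε₁, μ₁, hε₁, hμ₁, rfl⟩ := Cfsg.Agent.S1529.genChar_norm_one hP hP1
  obtain ⟨ε₂, μ₂, hε₂, hμ₂, rfl⟩ := Cfsg.Agent.S1529.genChar_norm_one hQ hQ1
  obtain ⟨d, hd0, hd⟩ := irr_degree hμ₁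
  have hdc : (d : ℂ) ≠ 0 := by exact_mod_cast hd0.ne'
  constructor
  · rw [Pi.smul_apply, hd, smul_eq_mul]
    rcases hε₁ with h | h <;> rw [h] <;> simpa using hdc
  · rw [Cfsg.Agent.Lib.Helper25.classInner_signed_irr hμ₁ hμ₂]
    by_cases hμ : μ₁ = μ₂
    · right
      subst hμ
      rw [if_pos rfl, mul_one]
      refine ⟨ε₁ * conj ε₂, ?_, ?_, rfl⟩
      · rcases hε₁ with h | h <;> rcases hε₂ with h' | h' <;> rw [h, h'] <;> simp
      · rw [smul_smul]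
        congr 1
        rcases hε₁ with h | h <;> rcases hε₂ with h' | h' <;> rw [h, h'] <;> simp
    · left
      rw [if_neg hμ, mul_zero]

end signed

section glue

variable {L : Type*} [Group L] [Fintype L] {G : Type*} [Group G] [Fintype G]

/-- Integer combinations of two disjoint sets of irreducible characters are orthogonal. -/
theorem classInner_zspan_disjoint {X Y : Set (L → ℂ)}
    (hX : ∀ ξ ∈ X, IsIrrCharacter L ξ) (hY : ∀ ξ ∈ Y, IsIrrCharacter L ξ)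
    (hXY : Disjoint X Y) {x y : L → ℂ} (hx : x ∈ zspan X) (hy : y ∈ zspan Y) :
    classInner x y = 0 := by
  unfold zspan at hx hy
  induction hx using Submodule.span_induction with
  | mem x hxX =>
    induction hy using Submodule.span_induction with
    | mem y hyY =>
      rw [classInner_irr (hX x hxX) (hY y hyY), if_neg]
      intro h
      exact Set.disjoint_left.mp hXY hxX (h ▸ hyY)
    | zero => exact Cfsg.Agent.Lib.Helper25.classInner_zero_right _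
    | add y₁ y₂ _ _ h₁ h₂ =>
      rw [Cfsg.Agent.Lib.Helper25.classInner_add_right, h₁, h₂, add_zero]
    | smul n y _ h => rw [classInner_zsmul_right, h, mul_zero]
  | zero => exact Cfsg.Agent.Lib.Helper25.classInner_zero_left _
  | add x₁ x₂ _ _ h₁ h₂ =>
    rw [Cfsg.Agent.Lib.Helper25.classInner_add_left, h₁, h₂, add_zero]
  | smul n x _ h => rw [classInner_zsmul_left, h, mul_zero]

/-- The value at `1` of an integer combination of irreducible characters is an integer. -/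
theorem zspan_apply_one_int {X : Set (L → ℂ)} (hX : ∀ ξ ∈ X, IsIrrCharacter L ξ)
    {x : L → ℂ} (hx : x ∈ zspan X) : ∃ m : ℤ, x 1 = (m : ℂ) := by
  unfold zspan at hx
  induction hx using Submodule.span_induction with
  | mem x hxX =>
    obtain ⟨n, _, hn⟩ := irr_degree (hX x hxX)
    exact ⟨n, by rw [hn]; simp⟩
  | zero => exact ⟨0, by simp⟩
  | add x₁ x₂ _ _ h₁ h₂ =>
    obtain ⟨m₁, h₁⟩ := h₁
    obtain ⟨m₂, h₂⟩ := h₂
    exact ⟨m₁ + m₂, by rw [Pi.add_apply, h₁, h₂]; push_cast; ring⟩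
  | smul n x _ h =>
    obtain ⟨m, h⟩ := h
    exact ⟨n * m, by rw [Pi.smul_apply, h]; simp⟩

/-- Cross terms of two linear maps vanish on the spans if they vanish on generators. -/
theorem classInner_zspan_images {X Y : Set (L → ℂ)} {σ τ : (L → ℂ) → (G → ℂ)}
    (hσ : IsLinearIsometryOn (zspan X) σ) (hτ : IsLinearIsometryOn (zspan Y) τ)
    (h0 : ∀ χ ∈ X, ∀ η ∈ Y, classInner (σ χ) (τ η) = 0)
    {x y : L → ℂ} (hx : x ∈ zspan X) (hy : y ∈ zspan Y) :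
    classInner (σ x) (τ y) = 0 := by
  have hσ0 : σ 0 = 0 := Cfsg.Agent.Lib.Helper25.isometryOn_map_zero hσ zspan_zero
  have hτ0 : τ 0 = 0 := Cfsg.Agent.Lib.Helper25.isometryOn_map_zero hτ zspan_zero
  have hy' := hy
  unfold zspan at hx hy
  induction hx using Submodule.span_induction with
  | mem x hxX =>
    induction hy using Submodule.span_induction with
    | mem y hyY => exact h0 x hxX y hyY
    | zero => rw [hτ0]; exact Cfsg.Agent.Lib.Helper25.classInner_zero_right _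
    | add y₁ y₂ hy₁ hy₂ h₁ h₂ =>
      rw [hτ.1 y₁ hy₁ y₂ hy₂, Cfsg.Agent.Lib.Helper25.classInner_add_right,
        h₁ hy₁, h₂ hy₂, add_zero]
    | smul n y hy h =>
      rw [hτ.2.1 y hy n, classInner_zsmul_right, h hy, mul_zero]
  | zero => rw [hσ0]; exact Cfsg.Agent.Lib.Helper25.classInner_zero_left _
  | add x₁ x₂ hx₁ hx₂ h₁ h₂ =>
    rw [hσ.1 x₁ hx₁ x₂ hx₂, Cfsg.Agent.Lib.Helper25.classInner_add_left, h₁, h₂, add_zero]
  | smul n x hx h =>
    rw [hσ.2.1 x hx n, classInner_zsmul_left, h, mul_zero]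

theorem zspan_union_decomp {X Y : Set (L → ℂ)} {θ : L → ℂ} (hθ : θ ∈ zspan (X ∪ Y)) :
    ∃ x ∈ zspan X, ∃ y ∈ zspan Y, θ = x + y := by
  unfold zspan at hθ ⊢
  rw [Submodule.span_union] at hθ
  obtain ⟨x, hx, y, hy, h⟩ := Submodule.mem_sup.mp hθ
  exact ⟨x, hx, y, hy, h.symm⟩

theorem zspan_decomp_unique {X Y : Set (L → ℂ)}
    (hX : ∀ ξ ∈ X, IsIrrCharacter L ξ) (hY : ∀ ξ ∈ Y, IsIrrCharacter L ξ)
    (hXY : Disjoint X Y) {x x' y y' : L → ℂ} (hx : x ∈ zspan X) (hx' : x' ∈ zspan X)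
    (hy : y ∈ zspan Y) (hy' : y' ∈ zspan Y) (h : x + y = x' + y') : x = x' ∧ y = y' := by
  have hu : x - x' = y' - y := by
    rw [sub_eq_sub_iff_add_eq_add, h, add_comm]
  have h0 : classInner (x - x') (x - x') = 0 := by
    conv_lhs => rw [hu]
    rw [← hu]
    exact classInner_zspan_disjoint hX hY hXY (zspan_sub hx hx')
      (by rw [hu]; exact zspan_sub hy' hy)
  have h1 := Cfsg.Agent.Lib.Helper25.classInner_self_eq_zero h0
  have h2 : y' - y = 0 := by rw [← hu, h1]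
  exact ⟨sub_eq_zero.mp h1, (sub_eq_zero.mp h2).symm⟩

open Classical in
/-- The map gluing `σ` on `ℤ[X]` and `τ` on `ℤ[Y]`. -/
noncomputable def glueMap (X Y : Set (L → ℂ)) (σ τ : (L → ℂ) → (G → ℂ)) :
    (L → ℂ) → (G → ℂ) := fun θ =>
  if h : ∃ x ∈ zspan X, ∃ y ∈ zspan Y, θ = x + y then
    σ h.choose + τ h.choose_spec.2.choose else 0

theorem glueMap_apply {X Y : Set (L → ℂ)} (σ τ : (L → ℂ) → (G → ℂ))
    (hX : ∀ ξ ∈ X, IsIrrCharacter L ξ) (hY : ∀ ξ ∈ Y, IsIrrCharacter L ξ)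
    (hXY : Disjoint X Y) {x y : L → ℂ} (hx : x ∈ zspan X) (hy : y ∈ zspan Y) :
    glueMap X Y σ τ (x + y) = σ x + τ y := by
  have h : ∃ x' ∈ zspan X, ∃ y' ∈ zspan Y, x + y = x' + y' := ⟨x, hx, y, hy, rfl⟩
  unfold glueMap
  rw [dif_pos h]
  have h1 := h.choose_spec.1
  have h2 := h.choose_spec.2.choose_spec.1
  have h3 := h.choose_spec.2.choose_spec.2
  obtain ⟨e1, e2⟩ := zspan_decomp_unique hX hY hXY hx h1 hy h2 h3
  have e3 : σ h.choose = σ x := congrArg σ e1.symm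
  have e4 : τ h.choose_spec.2.choose = τ y := congrArg τ e2.symm
  rw [e3, e4]

/-- The glued map is a linear isometry on `ℤ[X ∪ Y]` when the images are orthogonal. -/
theorem glueMap_isometry {X Y : Set (L → ℂ)} {σ τ : (L → ℂ) → (G → ℂ)}
    (hX : ∀ ξ ∈ X, IsIrrCharacter L ξ) (hY : ∀ ξ ∈ Y, IsIrrCharacter L ξ)
    (hXY : Disjoint X Y)
    (hσ : IsLinearIsometryOn (zspan X) σ) (hτ : IsLinearIsometryOn (zspan Y) τ)
    (h0 : ∀ χ ∈ X, ∀ η ∈ Y, classInner (σ χ) (τ η) = 0) :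
    IsLinearIsometryOn (zspan (X ∪ Y)) (glueMap X Y σ τ) := by
  refine ⟨?_, ?_, ?_, ?_⟩
  · intro θ₁ h₁ θ₂ h₂
    obtain ⟨x₁, hx₁, y₁, hy₁, rfl⟩ := zspan_union_decomp h₁
    obtain ⟨x₂, hx₂, y₂, hy₂, rfl⟩ := zspan_union_decomp h₂
    have e : x₁ + y₁ + (x₂ + y₂) = (x₁ + x₂) + (y₁ + y₂) := by abel
    rw [e, glueMap_apply σ τ hX hY hXY (zspan_add hx₁ hx₂) (zspan_add hy₁ hy₂),
      glueMap_apply σ τ hX hY hXY hx₁ hy₁, glueMap_apply σ τ hX hY hXY hx₂ hy₂,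
      hσ.1 x₁ hx₁ x₂ hx₂, hτ.1 y₁ hy₁ y₂ hy₂]
    abel
  · intro θ h n
    obtain ⟨x, hx, y, hy, rfl⟩ := zspan_union_decomp h
    rw [smul_add, glueMap_apply σ τ hX hY hXY (zspan_zsmul hx n) (zspan_zsmul hy n),
      glueMap_apply σ τ hX hY hXY hx hy, hσ.2.1 x hx n, hτ.2.1 y hy n, smul_add]
  · intro θ₁ h₁ θ₂ h₂
    obtain ⟨x₁, hx₁, y₁, hy₁, rfl⟩ := zspan_union_decomp h₁
    obtain ⟨x₂, hx₂, y₂, hy₂, rfl⟩ := zspan_union_decomp h₂
    rw [glueMap_apply σ τ hX hY hXY hx₁ hy₁, glueMap_apply σ τ hX hY hXY hx₂ hy₂]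
    simp only [Cfsg.Agent.Lib.Helper25.classInner_add_left,
      Cfsg.Agent.Lib.Helper25.classInner_add_right]
    rw [hσ.2.2.1 x₁ hx₁ x₂ hx₂, hτ.2.2.1 y₁ hy₁ y₂ hy₂,
      classInner_zspan_images hσ hτ h0 hx₁ hy₂,
      classInner_zspan_disjoint hX hY hXY hx₁ hy₂]
    have e1 : classInner (τ y₁) (σ x₂) = 0 := by
      rw [← Cfsg.Agent.Lib.Helper25.classInner_conj_symm,
        classInner_zspan_images hσ hτ h0 hx₂ hy₁, map_zero]
    have e2 : classInner y₁ x₂ = 0 := by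
      rw [← Cfsg.Agent.Lib.Helper25.classInner_conj_symm,
        classInner_zspan_disjoint hX hY hXY hx₂ hy₁, map_zero]
    rw [e1, e2]
  · intro θ h
    obtain ⟨x, hx, y, hy, rfl⟩ := zspan_union_decomp h
    rw [glueMap_apply σ τ hX hY hXY hx hy]
    exact genChar_add (hσ.2.2.2 x hx) (hτ.2.2.2 y hy)

end glue

section union

variable {L : Type*} [Group L] [Fintype L] {G : Type*} [Group G] [Fintype G]

theorem crossComb_mem_zspanOn {X : Set (L → ℂ)} {χ χ' : L → ℂ} (hχ : χ ∈ X) (hχ' : χ' ∈ X)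
    (a a' : ℕ) (ha : χ 1 = (a : ℂ)) (ha' : χ' 1 = (a' : ℂ)) :
    crossComb a a' χ χ' ∈ zspanOn X ({1}ᶜ : Set L) := by
  rw [mem_zspanOn_one]
  refine ⟨crossComb_mem_zspan X a a' hχ hχ', ?_⟩
  rw [crossComb_apply, ha, ha']; ring

theorem isometry_crossComb {X : Set (L → ℂ)} {σ : (L → ℂ) → (G → ℂ)}
    (hσ : IsLinearIsometryOn (zspan X) σ) {χ χ' : L → ℂ} (hχ : χ ∈ X) (hχ' : χ' ∈ X)
    (a a' : ℕ) :
    σ (crossComb a a' χ χ') = ((a' : ℤ) • σ χ) + ((-(a : ℤ)) • σ χ') := by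
  unfold crossComb
  rw [hσ.1 _ (zspan_zsmul (subset_zspan hχ) _) _ (zspan_zsmul (subset_zspan hχ') _),
    hσ.2.1 χ (subset_zspan hχ), hσ.2.1 χ' (subset_zspan hχ')]

/-- Peterfalvi-type lemma: the extended isometries on two disjoint coherent subsets have
orthogonal images. -/
theorem sigma_tau_orth (S X Y : Set (L → ℂ)) (hirr : ∀ ξ ∈ S, IsIrrCharacter L ξ)
    (hXS : X ⊆ S) (hYS : Y ⊆ S) (hXY : Disjoint X Y)
    (hX2 : ∃ a ∈ X, ∃ b ∈ X, a ≠ b) (hY2 : ∃ a ∈ Y, ∃ b ∈ Y, a ≠ b)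
    (α : (L → ℂ) → (G → ℂ)) (hα : IsLinearIsometryOn (zspanOn S {1}ᶜ) α)
    (hα1 : ∀ θ ∈ zspanOn S ({1}ᶜ : Set L), α θ 1 = 0)
    (σ τ : (L → ℂ) → (G → ℂ)) (hσ : IsLinearIsometryOn (zspan X) σ)
    (hσα : ∀ θ ∈ zspanOn X ({1}ᶜ : Set L), σ θ = α θ)
    (hτ : IsLinearIsometryOn (zspan Y) τ)
    (hτα : ∀ θ ∈ zspanOn Y ({1}ᶜ : Set L), τ θ = α θ) :
    ∀ χ ∈ X, ∀ η ∈ Y, classInner (σ χ) (τ η) = 0 := by
  intro χ hχ η hη
  have hXirr : ∀ ξ ∈ X, IsIrrCharacter L ξ := fun ξ h => hirr ξ (hXS h)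
  have hYirr : ∀ ξ ∈ Y, IsIrrCharacter L ξ := fun ξ h => hirr ξ (hYS h)
  obtain ⟨χ', hχ', hne⟩ : ∃ χ' ∈ X, χ ≠ χ' := by
    obtain ⟨u, hu, v, hv, huv⟩ := hX2
    by_cases h : χ = u
    · exact ⟨v, hv, by rw [h]; exact huv⟩
    · exact ⟨u, hu, h⟩
  obtain ⟨η', hη', hne'⟩ : ∃ η' ∈ Y, η ≠ η' := by
    obtain ⟨u, hu, v, hv, huv⟩ := hY2
    by_cases h : η = u
    · exact ⟨v, hv, by rw [h]; exact huv⟩
    · exact ⟨u, hu, h⟩
  obtain ⟨a, ha0, ha⟩ := irr_degree (hXirr χ hχ)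
  obtain ⟨a', ha'0, ha'⟩ := irr_degree (hXirr χ' hχ')
  obtain ⟨b, hb0, hb⟩ := irr_degree (hYirr η hη)
  obtain ⟨b', hb'0, hb'⟩ := irr_degree (hYirr η' hη')
  have hA := crossComb_mem_zspanOn hχ hχ' a a' ha ha'
  have hB := crossComb_mem_zspanOn hη hη' b b' hb hb'
  have hσA := isometry_crossComb hσ hχ hχ' a a'
  have hτB := isometry_crossComb hτ hη hη' b b'
  -- the four images
  have hχz := subset_zspan hχ
  have hχ'z := subset_zspan hχ'
  have hηz := subset_zspan hη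
  have hη'z := subset_zspan hη'
  have hpp : classInner (σ χ) (σ χ) = 1 := by
    rw [hσ.2.2.1 χ hχz χ hχz, classInner_irr (hXirr χ hχ) (hXirr χ hχ), if_pos rfl]
  have hp'p' : classInner (σ χ') (σ χ') = 1 := by
    rw [hσ.2.2.1 χ' hχ'z χ' hχ'z, classInner_irr (hXirr χ' hχ') (hXirr χ' hχ'), if_pos rfl]
  have hp'p : classInner (σ χ') (σ χ) = 0 := by
    rw [hσ.2.2.1 χ' hχ'z χ hχz, classInner_irr (hXirr χ' hχ') (hXirr χ hχ), if_neg hne.symm]
  have hqq : classInner (τ η) (τ η) = 1 := by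
    rw [hτ.2.2.1 η hηz η hηz, classInner_irr (hYirr η hη) (hYirr η hη), if_pos rfl]
  have hq'q' : classInner (τ η') (τ η') = 1 := by
    rw [hτ.2.2.1 η' hη'z η' hη'z, classInner_irr (hYirr η' hη') (hYirr η' hη'), if_pos rfl]
  have hqq' : classInner (τ η) (τ η') = 0 := by
    rw [hτ.2.2.1 η hηz η' hη'z, classInner_irr (hYirr η hη) (hYirr η' hη'), if_neg hne']
  -- the key relation
  have hE : classInner (σ (crossComb a a' χ χ')) (τ (crossComb b b' η η')) = 0 := by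
    rw [hσα _ hA, hτα _ hB, hα.2.2.1 _ (zspanOn_mono hXS hA) _ (zspanOn_mono hYS hB)]
    exact classInner_zspan_disjoint hXirr hYirr hXY hA.1 hB.1
  rw [hσA, hτB] at hE
  simp only [Cfsg.Agent.Lib.Helper25.classInner_add_left,
    Cfsg.Agent.Lib.Helper25.classInner_add_right, classInner_zsmul_left,
    classInner_zsmul_right] at hE
  -- values at one
  have hv1 : (a' : ℂ) * σ χ 1 - (a : ℂ) * σ χ' 1 = 0 := by
    have h := hα1 _ (zspanOn_mono hXS hA)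
    rw [← hσα _ hA, hσA, Pi.add_apply, Pi.smul_apply, Pi.smul_apply] at h
    simp only [zsmul_eq_mul, Int.cast_natCast, Int.cast_neg] at h
    linear_combination h
  have hv2 : (b' : ℂ) * τ η 1 - (b : ℂ) * τ η' 1 = 0 := by
    have h := hα1 _ (zspanOn_mono hYS hB)
    rw [← hτα _ hB, hτB, Pi.add_apply, Pi.smul_apply, Pi.smul_apply] at h
    simp only [zsmul_eq_mul, Int.cast_natCast, Int.cast_neg] at h
    linear_combination h
  obtain ⟨hp1, hpq⟩ := norm_one_pair (hσ.2.2.2 χ hχz) (hτ.2.2.2 η hηz) hpp hqq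
  rcases hpq with h | ⟨ε, hε, hQ, hin⟩
  · exact h
  exfalso
  -- consequences of `τ η = ε • σ χ`
  have hpq' : classInner (σ χ) (τ η') = 0 := by
    have : σ χ = ε • τ η := by
      rw [hQ, smul_smul]
      rcases hε with h | h <;> rw [h] <;> simp
    rw [this, Cfsg.Agent.Lib.Helper25.classInner_smul_left, hqq', mul_zero]
  have hp'q : classInner (σ χ') (τ η) = 0 := by
    rw [hQ, Cfsg.Agent.Lib.Helper25.classInner_smul_right, hp'p, mul_zero]
  rw [hin, hpq', hp'q] at hE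
  push_cast at hE
  have hac : (a : ℂ) ≠ 0 := by exact_mod_cast ha0.ne'
  have ha'c : (a' : ℂ) ≠ 0 := by exact_mod_cast ha'0.ne'
  have hbc : (b : ℂ) ≠ 0 := by exact_mod_cast hb0.ne'
  have hb'c : (b' : ℂ) ≠ 0 := by exact_mod_cast hb'0.ne'
  obtain ⟨_, hp'q'⟩ := norm_one_pair (hσ.2.2.2 χ' hχ'z) (hτ.2.2.2 η' hη'z) hp'p' hq'q'
  rcases hp'q' with h | ⟨ε', hε', hQ', hin'⟩
  · rw [h] at hE
    have h2 : (a' : ℂ) * ((b' : ℂ) * ε) = 0 := by linear_combination hE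
    have h3 : ε = 0 := by
      rcases mul_eq_zero.mp h2 with h | h
      · exact absurd h ha'c
      · rcases mul_eq_zero.mp h with h | h
        · exact absurd h hb'c
        · exact h
    rcases hε with h4 | h4 <;> rw [h4] at h3 <;> norm_num at h3
  · rw [hin'] at hE
    have hq1 : τ η 1 = ε * σ χ 1 := by rw [hQ]; simp
    have hq'1 : τ η' 1 = ε' * σ χ' 1 := by rw [hQ']; simp
    rw [hq1, hq'1] at hv2
    have hpos : ((a' * b' + a * b : ℕ) : ℂ) ≠ 0 := by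
      have : 0 < a' * b' + a * b := by positivity
      exact_mod_cast this.ne'
    have hpos2 : ((a' * b + a * b' : ℕ) : ℂ) ≠ 0 := by
      have : 0 < a' * b + a * b' := by positivity
      exact_mod_cast this.ne'
    push_cast at hpos hpos2
    rcases hε with h3 | h3 <;> rcases hε' with h4 | h4 <;> rw [h3, h4] at hE hv2
    · exact hpos (by linear_combination hE)
    · apply mul_ne_zero hpos2 hp1
      linear_combination (b : ℂ) * hv1 + (a : ℂ) * hv2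
    · apply mul_ne_zero hpos2 hp1
      linear_combination (b : ℂ) * hv1 - (a : ℂ) * hv2
    · exact hpos (by linear_combination -hE)

/-- Coherence of the union of two disjoint coherent sets linked by one compatible difference. -/
theorem coherent_union (S X Y : Set (L → ℂ)) (hirr : ∀ ξ ∈ S, IsIrrCharacter L ξ)
    (hXS : X ⊆ S) (hYS : Y ⊆ S) (hXY : Disjoint X Y)
    (hX2 : ∃ a ∈ X, ∃ b ∈ X, a ≠ b) (hY2 : ∃ a ∈ Y, ∃ b ∈ Y, a ≠ b)
    (α : (L → ℂ) → (G → ℂ)) (hα : IsLinearIsometryOn (zspanOn S {1}ᶜ) α)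
    (hα1 : ∀ θ ∈ zspanOn S ({1}ᶜ : Set L), α θ 1 = 0)
    (σ τ : (L → ℂ) → (G → ℂ)) (hσ : IsLinearIsometryOn (zspan X) σ)
    (hσα : ∀ θ ∈ zspanOn X ({1}ᶜ : Set L), σ θ = α θ)
    (hτ : IsLinearIsometryOn (zspan Y) τ)
    (hτα : ∀ θ ∈ zspanOn Y ({1}ᶜ : Set L), τ θ = α θ)
    (hex : ∃ χ₀ ∈ X, ∃ η₀ ∈ Y,
      α (χ₀ 1 • η₀ - η₀ 1 • χ₀) = χ₀ 1 • τ η₀ - η₀ 1 • σ χ₀) :
    IsCoherent (X ∪ Y) ({1}ᶜ : Set L) α := by
  have hXirr : ∀ ξ ∈ X, IsIrrCharacter L ξ := fun ξ h => hirr ξ (hXS h)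
  have hYirr : ∀ ξ ∈ Y, IsIrrCharacter L ξ := fun ξ h => hirr ξ (hYS h)
  have hXYS : X ∪ Y ⊆ S := Set.union_subset hXS hYS
  have h0 := sigma_tau_orth S X Y hirr hXS hYS hXY hX2 hY2 α hα hα1 σ τ hσ hσα hτ hτα
  refine ⟨?_, glueMap X Y σ τ, glueMap_isometry hXirr hYirr hXY hσ hτ h0, ?_⟩
  · obtain ⟨χ, hχ, χ', hχ', hne⟩ := hX2
    obtain ⟨a, ha0, ha⟩ := irr_degree (hXirr χ hχ)
    obtain ⟨a', ha'0, ha'⟩ := irr_degree (hXirr χ' hχ')
    refine ⟨crossComb a a' χ χ',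
      zspanOn_mono Set.subset_union_left (crossComb_mem_zspanOn hχ hχ' a a' ha ha'), ?_⟩
    intro h
    have h1 : classInner (crossComb a a' χ χ') χ = (a' : ℂ) := by
      unfold crossComb
      rw [Cfsg.Agent.Lib.Helper25.classInner_add_left, classInner_zsmul_left,
        classInner_zsmul_left, classInner_irr (hXirr χ hχ) (hXirr χ hχ), if_pos rfl,
        classInner_irr (hXirr χ' hχ') (hXirr χ hχ), if_neg hne.symm]
      push_cast; ring
    rw [h, Cfsg.Agent.Lib.Helper25.classInner_zero_left] at h1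
    have : (a' : ℂ) ≠ 0 := by exact_mod_cast ha'0.ne'
    exact this h1.symm
  · intro θ hθ
    obtain ⟨hθz, hθ1⟩ := mem_zspanOn_one.mp hθ
    obtain ⟨x, hx, y, hy, rfl⟩ := zspan_union_decomp hθz
    rw [glueMap_apply σ τ hXirr hYirr hXY hx hy]
    obtain ⟨m, hm⟩ := zspan_apply_one_int hXirr hx
    have hy1 : y 1 = -(m : ℂ) := by
      rw [Pi.add_apply, hm] at hθ1
      linear_combination hθ1
    obtain ⟨χ₀, hχ₀, η₀, hη₀, hlink⟩ := hex
    obtain ⟨a₀, ha₀0, ha₀⟩ := irr_degree (hXirr χ₀ hχ₀)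
    obtain ⟨b₀, hb₀0, hb₀⟩ := irr_degree (hYirr η₀ hη₀)
    have hχ₀z := subset_zspan hχ₀
    have hη₀z := subset_zspan hη₀
    -- the linking element with integer scalars
    have hγeq : χ₀ 1 • η₀ - η₀ 1 • χ₀ = ((a₀ : ℤ) • η₀) - ((b₀ : ℤ) • χ₀) := by
      rw [ha₀, hb₀]
      funext g
      simp only [Pi.sub_apply, Pi.smul_apply]
      simp only [smul_eq_mul, zsmul_eq_mul, Int.cast_natCast]
    have hγα : α (((a₀ : ℤ) • η₀) - ((b₀ : ℤ) • χ₀)) =
        ((a₀ : ℤ) • τ η₀) - ((b₀ : ℤ) • σ χ₀) := by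
      rw [← hγeq, hlink, ha₀, hb₀]
      funext g
      simp only [Pi.sub_apply, Pi.smul_apply]
      simp only [smul_eq_mul, zsmul_eq_mul, Int.cast_natCast]
    have hγmem : ((a₀ : ℤ) • η₀) - ((b₀ : ℤ) • χ₀) ∈ zspanOn S ({1}ᶜ : Set L) := by
      rw [mem_zspanOn_one]
      refine ⟨zspan_sub (zspan_zsmul (zspan_mono hYS hη₀z) _)
        (zspan_zsmul (zspan_mono hXS hχ₀z) _), ?_⟩
      rw [Pi.sub_apply, Pi.smul_apply, Pi.smul_apply, ha₀, hb₀]
      simp only [zsmul_eq_mul, Int.cast_natCast]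
      ring
    -- the two corrected parts
    have hx'mem : (((a₀ : ℤ) * (b₀ : ℤ)) • x) - ((m * (b₀ : ℤ)) • χ₀) ∈
        zspanOn X ({1}ᶜ : Set L) := by
      rw [mem_zspanOn_one]
      refine ⟨zspan_sub (zspan_zsmul hx _) (zspan_zsmul hχ₀z _), ?_⟩
      rw [Pi.sub_apply, Pi.smul_apply, Pi.smul_apply, ha₀, hm]
      simp only [zsmul_eq_mul]
      push_cast
      ring
    have hy'mem : (((a₀ : ℤ) * (b₀ : ℤ)) • y) + ((m * (a₀ : ℤ)) • η₀) ∈
        zspanOn Y ({1}ᶜ : Set L) := by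
      rw [mem_zspanOn_one]
      refine ⟨zspan_add (zspan_zsmul hy _) (zspan_zsmul hη₀z _), ?_⟩
      rw [Pi.add_apply, Pi.smul_apply, Pi.smul_apply, hb₀, hy1]
      simp only [zsmul_eq_mul]
      push_cast
      ring
    have hnegS : ∀ f ∈ zspanOn S ({1}ᶜ : Set L), -f ∈ zspanOn S ({1}ᶜ : Set L) :=
      fun f hf => zspanOn_neg hf
    have hnegX : ∀ f ∈ zspan X, -f ∈ zspan X := fun f hf => zspan_neg hf
    -- images of the corrected parts
    have hσx' : α ((((a₀ : ℤ) * (b₀ : ℤ)) • x) - ((m * (b₀ : ℤ)) • χ₀)) =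
        (((a₀ : ℤ) * (b₀ : ℤ)) • σ x) - ((m * (b₀ : ℤ)) • σ χ₀) := by
      rw [← hσα _ hx'mem, Cfsg.Agent.Lib.Helper25.isometryOn_map_sub hσ hnegX
        (zspan_zsmul hx _) (zspan_zsmul hχ₀z _), hσ.2.1 x hx, hσ.2.1 χ₀ hχ₀z]
    have hτy' : α ((((a₀ : ℤ) * (b₀ : ℤ)) • y) + ((m * (a₀ : ℤ)) • η₀)) =
        (((a₀ : ℤ) * (b₀ : ℤ)) • τ y) + ((m * (a₀ : ℤ)) • τ η₀) := by
      rw [← hτα _ hy'mem, hτ.1 _ (zspan_zsmul hy _) _ (zspan_zsmul hη₀z _),
        hτ.2.1 y hy, hτ.2.1 η₀ hη₀z]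
    -- the decomposition of a multiple of `x + y`
    have hdecomp : ((a₀ : ℤ) * (b₀ : ℤ)) • (x + y) =
        (((((a₀ : ℤ) * (b₀ : ℤ)) • x) - ((m * (b₀ : ℤ)) • χ₀)) +
          ((((a₀ : ℤ) * (b₀ : ℤ)) • y) + ((m * (a₀ : ℤ)) • η₀))) +
          ((-m) • (((a₀ : ℤ) • η₀) - ((b₀ : ℤ) • χ₀))) := by
      funext g
      simp only [Pi.add_apply, Pi.sub_apply, Pi.smul_apply]
      simp only [zsmul_eq_mul]
      push_cast
      ring
    have hθS : x + y ∈ zspanOn S ({1}ᶜ : Set L) := zspanOn_mono hXYS hθ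
    have hx'S := zspanOn_mono hXS hx'mem
    have hy'S := zspanOn_mono hYS hy'mem
    have hmain : ((a₀ : ℤ) * (b₀ : ℤ)) • α (x + y) =
        ((a₀ : ℤ) * (b₀ : ℤ)) • (σ x + τ y) := by
      rw [← hα.2.1 (x + y) hθS, hdecomp,
        hα.1 _ (zspanOn_add hx'S hy'S) _ (zspanOn_zsmul hγmem _),
        hα.1 _ hx'S _ hy'S, hα.2.1 _ hγmem, hσx', hτy', hγα]
      funext g
      simp only [Pi.add_apply, Pi.sub_apply, Pi.smul_apply]
      simp only [zsmul_eq_mul]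
      push_cast
      ring
    have hne : ((a₀ : ℤ) * (b₀ : ℤ)) ≠ 0 := by
      have : 0 < a₀ * b₀ := by positivity
      exact_mod_cast this.ne'
    funext g
    have hg := congrFun hmain g
    simp only [Pi.smul_apply, zsmul_eq_mul] at hg
    have hnec : (((a₀ : ℤ) * (b₀ : ℤ) : ℤ) : ℂ) ≠ 0 := by exact_mod_cast hne
    exact (mul_left_cancel₀ hnec hg).symm

end union

end Cfsg.Agent.Lib.Helper3
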