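import Mathlib
import Cfsg.Prelude.Def_Characters
import Cfsg.Agent.Lib.Helper3.IndAlg
import Cfsg.Agent.Lib.Helper79.Basic
import Cfsg.Agent.S0147

set_option autoImplicit false

/-!
# The ℤ-span of characters induced from a class of subgroups
-/

namespace Cfsg.Agent.Lib.Helper3

open Cfsg

universe u

variable {G : Type u} [Group G]

theorem indFun_congr_subgroup [Fintype G] {K₁ K₂ : Subgroup G} (h : K₁ = K₂) (θ₁ : K₁ → ℂ)
    (θ₂ : K₂ → ℂ) (hθ : ∀ (x : G) (h1 : x ∈ K₁) (h2 : x ∈ K₂), θ₁ ⟨x, h1⟩ = θ₂ ⟨x, h2⟩) :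
    indFun K₁ θ₁ = indFun K₂ θ₂ := by
  subst h
  congr 1
  funext x
  exact hθ x.1 x.2 x.2

/-- Transport of a function on a subgroup `K` of a subgroup `H` to the image of `K` in `G`. -/
noncomputable def mapSubtypeFun (H : Subgroup G) (K : Subgroup H) (θ : K → ℂ) :
    K.map H.subtype → ℂ :=
  fun y => θ ((K.equivMapOfInjective H.subtype H.subtype_injective).symm y)

theorem mapSubtypeFun_apply (H : Subgroup G) (K : Subgroup H) (θ : K → ℂ) (x : H) (hx : x ∈ K)
    (hx' : (x : G) ∈ K.map H.subtype) :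
    mapSubtypeFun H K θ ⟨(x : G), hx'⟩ = θ ⟨x, hx⟩ := by
  unfold mapSubtypeFun
  congr 1
  rw [MulEquiv.symm_apply_eq]
  apply Subtype.ext
  rw [Subgroup.coe_equivMapOfInjective_apply]
  rfl

theorem isCharacter_mapSubtypeFun (H : Subgroup G) (K : Subgroup H) {θ : K → ℂ}
    (hθ : IsCharacter K θ) : IsCharacter (K.map H.subtype) (mapSubtypeFun H K θ) :=
  Cfsg.Agent.Lib.Helper79.isCharacter_comp hθ
    (K.equivMapOfInjective H.subtype H.subtype_injective).symm.toMonoidHom

/-- Transitivity of induction, in `map` form. -/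
theorem indFun_indFun_map [Fintype G] (H : Subgroup G) [Fintype H] (K : Subgroup H) (θ : K → ℂ) :
    indFun H (indFun K θ) = indFun (K.map H.subtype) (mapSubtypeFun H K θ) := by
  classical
  have hle : K.map H.subtype ≤ H := by rintro _ ⟨x, -, rfl⟩; exact x.2
  rw [← Cfsg.Agent.S0147.result (K.map H.subtype) H hle (mapSubtypeFun H K θ)]
  congr 1
  apply indFun_congr_subgroup
  · ext x
    rw [Subgroup.mem_subgroupOf]
    constructor
    · intro hx
      exact Subgroup.mem_map_of_mem _ hx
    · rintro ⟨y, hy, hyx⟩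
      have : y = x := Subtype.ext hyx
      rwa [← this]
  · intro x h1 h2
    exact (mapSubtypeFun_apply H K θ x h1 _).symm

section Span

variable (P : ∀ (E : Type u) [Group E], Prop)

/-- The ℤ-span of the characters of `G` induced from characters of subgroups satisfying `P`. -/
def indSpan (G : Type u) [Group G] [Fintype G] : AddSubgroup (G → ℂ) :=
  AddSubgroup.closure {f | ∃ (E : Subgroup G) (ψ : E → ℂ), P E ∧ IsCharacter E ψ ∧
    f = indFun E ψ}

variable {P}

theorem indFun_mem_indSpan [Fintype G] {E : Subgroup G} {ψ : E → ℂ} (hE : P E)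
    (hψ : IsCharacter E ψ) : indFun E ψ ∈ indSpan P G :=
  AddSubgroup.subset_closure ⟨E, ψ, hE, hψ, rfl⟩

theorem indSpan_mono [Fintype G] {Q : ∀ (E : Type u) [Group E], Prop}
    (h : ∀ (E : Subgroup G), P E → Q E) : indSpan P G ≤ indSpan Q G := by
  apply AddSubgroup.closure_mono
  rintro f ⟨E, ψ, hE, hψ, rfl⟩
  exact ⟨E, ψ, h E hE, hψ, rfl⟩

theorem intCast_smul_mem_indSpan [Fintype G] {f : G → ℂ} (hf : f ∈ indSpan P G) (n : ℤ) :
    (n : ℂ) • f ∈ indSpan P G := by
  have : (n : ℂ) • f = n • f := by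
    funext g
    simp
  rw [this]
  exact AddSubgroup.zsmul_mem _ hf n

/-- The span is closed under multiplication by characters of `G`. -/
theorem mul_mem_indSpan [Fintype G] {f : G → ℂ} (hf : f ∈ indSpan P G) {χ : G → ℂ}
    (hχ : IsCharacter G χ) : f * χ ∈ indSpan P G := by
  induction hf using AddSubgroup.closure_induction with
  | mem f hf =>
    obtain ⟨E, ψ, hE, hψ, rfl⟩ := hf
    rw [← indFun_mul_restrict E ψ (IsCharacter.isClassFunction hχ)]
    exact indFun_mem_indSpan hE (IsCharacter.mul hψ (IsCharacter.restrict hχ E))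
  | zero => rw [zero_mul]; exact AddSubgroup.zero_mem _
  | add f g _ _ hf hg => rw [add_mul]; exact AddSubgroup.add_mem _ hf hg
  | neg f _ hf => rw [neg_mul]; exact AddSubgroup.neg_mem _ hf

/-- Induction maps the span for a subgroup into the span for the group. -/
theorem indFun_mem_indSpan_of_mem [Fintype G]
    (hP : ∀ (E E' : Type u) [Group E] [Group E'], (E ≃* E') → P E → P E')
    (H : Subgroup G) [Fintype H] {f : H → ℂ} (hf : f ∈ indSpan P H) :
    indFun H f ∈ indSpan P G := by
  induction hf using AddSubgroup.closure_induction with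
  | mem f hf =>
    obtain ⟨K, ψ, hK, hψ, rfl⟩ := hf
    rw [indFun_indFun_map]
    exact indFun_mem_indSpan
      (hP _ _ (K.equivMapOfInjective H.subtype H.subtype_injective) hK)
      (isCharacter_mapSubtypeFun H K hψ)
  | zero => rw [indFun_zero]; exact AddSubgroup.zero_mem _
  | add f g _ _ hf hg => rw [indFun_add]; exact AddSubgroup.add_mem _ hf hg
  | neg f _ hf =>
    have : indFun H (-f) = -indFun H f := by
      have h := indFun_smul H (-1 : ℂ) f
      simpa using h
    rw [this]; exact AddSubgroup.neg_mem _ hf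

/-- If the trivial character of `H` is in the span for `H`, then every character induced from
`H` is in the span for `G`. -/
theorem indFun_mem_indSpan_of_one_mem [Fintype G]
    (hP : ∀ (E E' : Type u) [Group E] [Group E'], (E ≃* E') → P E → P E')
    (H : Subgroup G) [Fintype H] (h1 : (fun _ : H => (1 : ℂ)) ∈ indSpan P H) {ψ : H → ℂ}
    (hψ : IsCharacter H ψ) : indFun H ψ ∈ indSpan P G := by
  apply indFun_mem_indSpan_of_mem hP
  have := mul_mem_indSpan h1 hψ
  have h2 : (fun _ : H => (1 : ℂ)) * ψ = ψ := by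
    funext h; simp
  rwa [h2] at this

/-- If the trivial character is in the span, so is every character. -/
theorem mem_indSpan_of_one_mem [Fintype G] (h1 : (fun _ : G => (1 : ℂ)) ∈ indSpan P G)
    {ψ : G → ℂ} (hψ : IsCharacter G ψ) : ψ ∈ indSpan P G := by
  have := mul_mem_indSpan h1 hψ
  have h2 : (fun _ : G => (1 : ℂ)) * ψ = ψ := by
    funext h; simp
  rwa [h2] at this

end Span

end Cfsg.Agent.Lib.Helper3
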