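import Mathlib
import Cfsg.Prelude.Def_Characters
import Cfsg.Agent.Lib.Helper3.ElemSpan
import Cfsg.Agent.Lib.Helper3.ProperInduced
import Cfsg.Agent.Lib.Helper25.Ind
import Cfsg.Agent.S0873

set_option autoImplicit false

/-!
# Quasi-elementary groups: the trivial character is an integral combination of characters
induced from elementary subgroups
-/

namespace Cfsg.Agent.Lib.Helper3

open Cfsg

universe u

/-- `G` is `p`-quasi-elementary: it has a normal cyclic subgroup of order prime to `p` and of
index a power of `p`. -/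
def IsQuasiElem (p : ℕ) (G : Type u) [Group G] : Prop :=
  ∃ C : Subgroup G, C.Normal ∧ IsCyclic C ∧ Nat.Coprime (Nat.card C) p ∧ ∃ k : ℕ, C.index = p ^ k

theorem IsQuasiElem.subgroup {G : Type u} [Group G] [Finite G] {p : ℕ} (hp : p.Prime)
    (h : IsQuasiElem p G) (T : Subgroup G) : IsQuasiElem p T := by
  obtain ⟨C, hCn, hCc, hcop, k, hk⟩ := h
  refine ⟨C.subgroupOf T, hCn.subgroupOf T, ?_, ?_, ?_⟩
  · rw [← Subgroup.inf_subgroupOf_right]
    have h1 : IsCyclic ↥(C ⊓ T) := Subgroup.isCyclic_of_le (inf_le_left : C ⊓ T ≤ C)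
    exact (Subgroup.subgroupOfEquivOfLe (inf_le_right : C ⊓ T ≤ T)).isCyclic.mpr h1
  · have h1 : Nat.card (C.subgroupOf T) = Nat.card ↥(C ⊓ T) := by
      rw [← Subgroup.inf_subgroupOf_right]
      exact Nat.card_congr (Subgroup.subgroupOfEquivOfLe (inf_le_right : C ⊓ T ≤ T)).toEquiv
    rw [h1]
    exact Nat.Coprime.coprime_dvd_left (Subgroup.card_dvd_of_le inf_le_left) hcop
  · have h1 : (C.subgroupOf T).index ∣ p ^ k := by
      rw [← hk]
      exact Subgroup.relIndex_dvd_index_of_normal C T
    obtain ⟨j, -, hj⟩ := (Nat.dvd_prime_pow hp).mp h1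
    exact ⟨j, hj⟩

theorem IsElementary.of_mulEquiv {p : ℕ} {E E' : Type u} [Group E] [Group E'] (e : E ≃* E')
    (h : IsElementary p E) : IsElementary p E' := by
  obtain ⟨x, hxc, hcop, k, hk⟩ := h
  refine ⟨e x, ?_, ?_, k, ?_⟩
  · rw [Subgroup.mem_center_iff] at hxc ⊢
    intro y
    obtain ⟨y, rfl⟩ := e.surjective y
    rw [← map_mul, ← map_mul, hxc y]
  · rw [MulEquiv.orderOf_eq]
    exact hcop
  · have h1 : Subgroup.zpowers (e x) = (Subgroup.zpowers x).map (e : E →* E') := by
      rw [MonoidHom.map_zpowers]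
      rfl
    rw [h1, Subgroup.index_map_equiv, hk]

variable {G : Type u} [Group G]

/-- Structure of a `p`-quasi-elementary group: the cyclic normal subgroup and a Sylow
`p`-subgroup generate the group, and `C_C(P) P` is `p`-elementary. -/
theorem exists_elementary_of_quasiElem [Finite G] (p : ℕ) [hp : Fact p.Prime] (C : Subgroup G)
    [C.Normal] [hCc : IsCyclic C] (hcop : Nat.Coprime (Nat.card C) p) (k : ℕ)
    (hk : C.index = p ^ k) (P : Sylow p G) :
    C ⊔ (P : Subgroup G) = ⊤ ∧ ∃ E : Subgroup G, IsElementary p E ∧ (P : Subgroup G) ≤ E ∧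
      C ⊓ Subgroup.centralizer ((P : Subgroup G) : Set G) ≤ E := by
  classical
  have hcardG : Nat.card G = Nat.card C * p ^ k := by rw [← hk, Subgroup.card_mul_index]
  obtain ⟨j, hj⟩ := IsPGroup.iff_card.mp P.isPGroup'
  have hjk : j = k := by
    apply le_antisymm
    · have h1 : p ^ j ∣ Nat.card C * p ^ k := by
        rw [← hcardG, ← hj]; exact Subgroup.card_subgroup_dvd_card _
      have h2 : Nat.Coprime (p ^ j) (Nat.card C) := (Nat.Coprime.pow_right j hcop).symm
      have h3 := h2.dvd_of_dvd_mul_left h1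
      exact (Nat.pow_dvd_pow_iff_le_right hp.out.one_lt).mp h3
    · have h1 : p ^ k ∣ Nat.card G := by rw [hcardG]; exact dvd_mul_left _ _
      have h2 := P.pow_dvd_card_of_pow_dvd_card h1
      rw [hj] at h2
      exact (Nat.pow_dvd_pow_iff_le_right hp.out.one_lt).mp h2
  have hcardP : Nat.card (P : Subgroup G) = p ^ k := by rw [← hjk]; exact hj
  refine ⟨?_, ?_⟩
  · apply Subgroup.IsComplement'.sup_eq_top
    apply Subgroup.isComplement'_of_coprime
    · rw [hcardP, hcardG]
    · rw [hcardP]; exact Nat.Coprime.pow_right k hcop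
  · set Z : Subgroup G := C ⊓ Subgroup.centralizer ((P : Subgroup G) : Set G) with hZ
    have hZc : IsCyclic Z := Subgroup.isCyclic_of_le (inf_le_left : Z ≤ C)
    obtain ⟨x, hx⟩ := (Z.isCyclic_iff_exists_zpowers_eq_top).mp hZc
    have hxZ : x ∈ Z := by rw [← hx]; exact Subgroup.mem_zpowers x
    have hxC : x ∈ C := (inf_le_left : Z ≤ C) hxZ
    have hxP : x ∈ Subgroup.centralizer ((P : Subgroup G) : Set G) :=
      (inf_le_right : Z ≤ _) hxZ
    refine ⟨Z ⊔ (P : Subgroup G), ?_, le_sup_right, le_sup_left⟩
    have hxE : x ∈ Z ⊔ (P : Subgroup G) := (le_sup_left : Z ≤ _) hxZ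
    have hcent : Z ⊔ (P : Subgroup G) ≤ Subgroup.centralizer ({x} : Set G) := by
      apply sup_le
      · rw [← hx]
        intro z hz
        obtain ⟨i, rfl⟩ := Subgroup.mem_zpowers_iff.mp hz
        rw [Subgroup.mem_centralizer_iff]
        intro y hy
        rw [Set.mem_singleton_iff] at hy
        subst hy
        exact (Commute.zpow_right (Commute.refl y) i).eq
      · intro u hu
        rw [Subgroup.mem_centralizer_iff]
        intro y hy
        rw [Set.mem_singleton_iff] at hy
        subst hy
        rw [Subgroup.mem_centralizer_iff] at hxP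
        exact (hxP u hu).symm
    refine ⟨⟨x, hxE⟩, ?_, ?_, ?_⟩
    · rw [Subgroup.mem_center_iff]
      intro e
      apply Subtype.ext
      have := hcent e.2
      rw [Subgroup.mem_centralizer_iff] at this
      exact (this x rfl).symm
    · rw [Subgroup.orderOf_mk]
      exact Nat.Coprime.coprime_dvd_left (Subgroup.orderOf_dvd_natCard C hxC) hcop
    · -- index is a power of p
      set E : Subgroup G := Z ⊔ (P : Subgroup G) with hE
      have hcomm : ∀ (z : Z) (u : (P : Subgroup G)), Commute (Z.subtype z) ((P : Subgroup G).subtype u) := by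
        intro z u
        have := (inf_le_right : Z ≤ _) z.2
        rw [Subgroup.mem_centralizer_iff] at this
        exact (this u u.2).symm
      have hrange : (MonoidHom.noncommCoprod Z.subtype (P : Subgroup G).subtype hcomm).range = E := by
        rw [MonoidHom.noncommCoprod_range, Subgroup.range_subtype, Subgroup.range_subtype]
      have hdvd : Nat.card E ∣ Nat.card Z * p ^ k := by
        have h1 := Subgroup.card_range_dvd
          (MonoidHom.noncommCoprod Z.subtype (P : Subgroup G).subtype hcomm)
        rw [hrange, Nat.card_prod, hcardP] at h1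
        exact h1
      have hzp : Nat.card (Subgroup.zpowers (⟨x, hxE⟩ : E)) = Nat.card Z := by
        rw [Nat.card_zpowers, Subgroup.orderOf_mk, ← Nat.card_zpowers, hx]
      have h2 := Subgroup.index_mul_card (Subgroup.zpowers (⟨x, hxE⟩ : E))
      rw [hzp] at h2
      rw [← h2] at hdvd
      have hZpos : 0 < Nat.card Z := Nat.card_pos
      have h3 : (Subgroup.zpowers (⟨x, hxE⟩ : E)).index ∣ p ^ k := by
        rw [mul_comm (Nat.card Z)] at hdvd
        exact Nat.dvd_of_mul_dvd_mul_right hZpos hdvd
      obtain ⟨i, -, hi⟩ := (Nat.dvd_prime_pow hp.out).mp h3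
      exact ⟨i, hi⟩


open Cfsg.Agent.Lib.Helper79 in
/-- In a quasi-elementary group `G = C ⋊ P`, with `E ⊇ C_C(P) P`, the only linear constituent of
`(1_E)^G` is the trivial character. -/
theorem linear_constituent_trivial [Fintype G] (p : ℕ) [Fact p.Prime] (C P E : Subgroup G)
    [hCn : C.Normal] (hP : IsPGroup p P) (hcop : Nat.Coprime (Nat.card C) p)
    (hCP : C ⊔ P = ⊤) (hPE : P ≤ E) (hZE : C ⊓ Subgroup.centralizer (P : Set G) ≤ E)
    {lam : G → ℂ} (hlam : IsIrrCharacter G lam) (h1 : lam 1 = 1)
    (hne : classInner (indFun E (fun _ => (1 : ℂ))) lam ≠ 0) : lam = fun _ => 1 := by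
  classical
  have hlamc : IsCharacter G lam := IsIrrCharacter.isCharacter hlam
  obtain ⟨φ, hφ⟩ := exists_monoidHom_of_isCharacter_of_one hlamc h1
  rw [Cfsg.Agent.Lib.Helper25.frobenius_reciprocity E _ lam
    (IsCharacter.isClassFunction hlamc)] at hne
  have hirr1 : IsIrrCharacter E (fun _ : E => (1 : ℂ)) := by
    have := isIrrCharacter_of_monoidHom (1 : E →* ℂˣ)
    simpa using this
  have hirr2 : IsIrrCharacter E (fun e : E => lam e) := by
    have := isIrrCharacter_of_monoidHom (φ.comp E.subtype)
    have h2 : (fun e : E => lam e) = fun e : E => (((φ.comp E.subtype) e : ℂˣ) : ℂ) := by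
      funext e
      rw [hφ]
      rfl
    rw [h2]
    exact this
  rw [classInner_irr hirr1 hirr2] at hne
  have hE1 : ∀ e ∈ E, lam e = 1 := by
    intro e he
    by_contra hcon
    apply hne
    rw [if_neg]
    intro heq
    apply hcon
    exact (congrFun heq ⟨e, he⟩).symm
  -- apply S0873 to the restriction to C
  have hC1 : (fun c : C => lam c) = fun _ => 1 := by
    apply Cfsg.Agent.S0873.result p C P hP hcop hCP (fun c : C => lam c)
      ⟨IsCharacter.restrict hlamc C, by simpa using h1⟩
    · intro g c
      exact IsCharacter.isClassFunction hlamc c g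
    · intro c hc
      exact hE1 c (hZE ⟨c.2, hc⟩)
  have hker : (⊤ : Subgroup G) ≤ φ.ker := by
    rw [← hCP]
    apply sup_le
    · intro c hc
      rw [MonoidHom.mem_ker]
      apply Units.ext
      rw [← hφ]
      exact congrFun hC1 ⟨c, hc⟩
    · intro u hu
      rw [MonoidHom.mem_ker]
      apply Units.ext
      rw [← hφ]
      exact hE1 u (hPE hu)
  funext g
  rw [hφ]
  have := hker (Subgroup.mem_top g)
  rw [MonoidHom.mem_ker] at this
  rw [this]
  rfl

theorem isIrrCharacter_one_fun {H : Type u} [Group H] :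
    IsIrrCharacter H (fun _ : H => (1 : ℂ)) := by
  have := Cfsg.Agent.Lib.Helper79.isIrrCharacter_of_monoidHom (1 : H →* ℂˣ)
  simpa using this

/-- **Key step of Brauer's theorem**: for a `p`-quasi-elementary group, the trivial character is
a ℤ-combination of characters induced from `p`-elementary subgroups. -/
theorem one_mem_indSpan_of_isQuasiElem (p : ℕ) [hp : Fact p.Prime] :
    ∀ (n : ℕ) (G : Type u) [Group G] [Fintype G], Nat.card G = n → IsQuasiElem p G →
      (fun _ : G => (1 : ℂ)) ∈ indSpan (fun E [Group E] => IsElementary p E) G := by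
  intro n
  induction n using Nat.strong_induction_on with
  | _ n ih =>
    intro G _ _ hn hQE
    classical
    have hPiso : ∀ (E E' : Type u) [Group E] [Group E'], (E ≃* E') →
        IsElementary p E → IsElementary p E' := fun E E' _ _ e h => IsElementary.of_mulEquiv e h
    obtain ⟨C, hCn, hCc, hcop, k, hk⟩ := hQE
    haveI := hCn
    haveI := hCc
    have P : Sylow p G := default
    obtain ⟨hCP, E, hE, hPE, hZE⟩ := exists_elementary_of_quasiElem p C hcop k hk P
    have hCab : ∀ a ∈ C, ∀ b ∈ C, a * b = b * a := by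
      intro a ha b hb
      have : IsMulCommutative C := IsCyclic.isMulCommutative
      have := (isMulCommutative_iff.mp this) ⟨a, ha⟩ ⟨b, hb⟩
      exact congrArg Subtype.val this
    -- f = (1_E)^G
    set f : G → ℂ := indFun E (fun _ => (1 : ℂ)) with hf
    have hfmem : f ∈ indSpan (fun E [Group E] => IsElementary p E) G :=
      indFun_mem_indSpan hE IsCharacter.one
    have hfchar : IsCharacter G f := isCharacter_indFun E IsCharacter.one
    haveI : Fintype (IrrCharacter G) := Fintype.ofFinite _
    obtain ⟨m, hm, hfsum⟩ := IsCharacter.exists_mult hfchar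
    -- the trivial character
    have hirr1 : IsIrrCharacter G (fun _ : G => (1 : ℂ)) := isIrrCharacter_one_fun
    set ψ₀ : IrrCharacter G := ⟨fun _ => 1, hirr1⟩ with hψ₀
    have hm0 : m ψ₀ = 1 := by
      have h1 := hm ψ₀
      rw [hf, Cfsg.Agent.Lib.Helper25.frobenius_reciprocity E _ _
        (IsCharacter.isClassFunction (IsIrrCharacter.isCharacter hirr1))] at h1
      have hirrE : IsIrrCharacter E (fun _ : E => (1 : ℂ)) := isIrrCharacter_one_fun
      have h2 : classInner (fun _ : E => (1 : ℂ)) (fun h : E => (ψ₀ : G → ℂ) h) = 1 := by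
        have := classInner_irr hirrE hirrE
        rw [if_pos rfl] at this
        exact this
      rw [h2] at h1
      exact_mod_cast h1.symm
    -- every other term lies in the span
    have hterm : ∀ ψ : IrrCharacter G, ψ ≠ ψ₀ →
        (m ψ : ℂ) • (ψ : G → ℂ) ∈ indSpan (fun E [Group E] => IsElementary p E) G := by
      intro ψ hψne
      by_cases hmψ : m ψ = 0
      · rw [hmψ]; simp only [Nat.cast_zero, zero_smul]; exact AddSubgroup.zero_mem _
      · have hne : classInner f (ψ : G → ℂ) ≠ 0 := by
          rw [hm ψ]; exact_mod_cast hmψ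
        have hdeg : (ψ : G → ℂ) 1 ≠ 1 := by
          intro h1
          apply hψne
          apply Subtype.ext
          exact linear_constituent_trivial p C P E P.isPGroup' hcop hCP hPE hZE ψ.2 h1 hne
        obtain ⟨T, ψ', hT, hψ', hind⟩ := exists_proper_induced p C hCab ⟨k, hk⟩ ψ.2 hdeg
        have hTlt : Nat.card T < n := by
          rw [← hn]
          have h1 := T.card_mul_index
          have h2 : T.index ≠ 1 := fun h => hT (Subgroup.index_eq_one.mp h)
          have h3 : T.index ≠ 0 := Subgroup.index_ne_zero_of_finite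
          have h5 : 0 < Nat.card T := Nat.card_pos
          have h4 : 2 ≤ T.index := by omega
          nlinarith
        have hTQE : IsQuasiElem p T :=
          IsQuasiElem.subgroup hp.out ⟨C, hCn, hCc, hcop, k, hk⟩ T
        have h1T := ih (Nat.card T) hTlt T rfl hTQE
        have := indFun_mem_indSpan_of_one_mem hPiso T h1T (IsIrrCharacter.isCharacter hψ')
        rw [← hind] at this
        have h2 : (m ψ : ℂ) • (ψ : G → ℂ) = ((m ψ : ℤ) : ℂ) • (ψ : G → ℂ) := by
          push_cast; rfl
        rw [h2]
        exact intCast_smul_mem_indSpan this _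
    -- conclude
    have hsplit : f = (fun _ : G => (1 : ℂ)) +
        ∑ ψ ∈ Finset.univ.erase ψ₀, (m ψ : ℂ) • (ψ : G → ℂ) := by
      conv_lhs => rw [hfsum]
      rw [← Finset.add_sum_erase Finset.univ _ (Finset.mem_univ ψ₀), hm0]
      simp [hψ₀]
    have h1eq : (fun _ : G => (1 : ℂ)) =
        f - ∑ ψ ∈ Finset.univ.erase ψ₀, (m ψ : ℂ) • (ψ : G → ℂ) := by
      rw [hsplit]; simp
    rw [h1eq]
    apply AddSubgroup.sub_mem _ hfmem
    apply AddSubgroup.sum_mem
    intro ψ hψ
    exact hterm ψ (Finset.ne_of_mem_erase hψ)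

end Cfsg.Agent.Lib.Helper3
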