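import Mathlib
import Cfsg.Prelude.Def_Characters
import Cfsg.Agent.Lib.Helper3.QElem
import Cfsg.Agent.S0872

set_option autoImplicit false

/-!
# Brauer's induction theorem
-/

namespace Cfsg.Agent.Lib.Helper3

open Cfsg

universe u

variable {G : Type u} [Group G]

/-- The subgroup form of quasi-elementarity (as in S0872) gives `IsQuasiElem` of the subgroup
as a group. -/
theorem isQuasiElem_of_subgroup_form {p : ℕ} {H C : Subgroup G} (hCH : C ≤ H)
    (hHN : H ≤ Subgroup.normalizer (C : Set G)) (hCc : IsCyclic C)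
    (hcop : Nat.Coprime (Nat.card C) p) (hidx : ∃ k : ℕ, C.relIndex H = p ^ k) :
    IsQuasiElem p H := by
  refine ⟨C.subgroupOf H, (Subgroup.normal_subgroupOf_iff_le_normalizer hCH).mpr hHN, ?_, ?_, ?_⟩
  · exact (Subgroup.subgroupOfEquivOfLe hCH).isCyclic.mpr hCc
  · rw [Nat.card_congr (Subgroup.subgroupOfEquivOfLe hCH).toEquiv]
    exact hcop
  · exact hidx

theorem isElementary_iso {p : ℕ} : ∀ (E E' : Type u) [Group E] [Group E'], (E ≃* E') →
    IsElementary p E → IsElementary p E' := fun _ _ _ _ e h => IsElementary.of_mulEquiv e h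

/-- **Brauer's induction theorem, `p`-local form**: some integer prime to `p` times the trivial
character is a ℤ-combination of characters induced from `p`-elementary subgroups. -/
theorem exists_int_mem_indSpan_elementary [Fintype G] (p : ℕ) [hp : Fact p.Prime] :
    ∃ m : ℤ, ¬ (p : ℤ) ∣ m ∧
      (fun _ : G => (m : ℂ)) ∈ indSpan (fun E [Group E] => IsElementary p E) G := by
  classical
  obtain ⟨m, a, hm, ha, hsum⟩ := Cfsg.Agent.S0872.result (G := G) p hp.out
  refine ⟨m, hm, ?_⟩
  rw [hsum]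
  apply AddSubgroup.sum_mem
  intro H _
  by_cases haH : a H = 0
  · rw [haH]; simp only [Int.cast_zero, zero_smul]; exact AddSubgroup.zero_mem _
  · obtain ⟨C, hCH, hHN, hCc, hcop, hidx⟩ := ha H haH
    have hQE : IsQuasiElem p H := isQuasiElem_of_subgroup_form hCH hHN hCc hcop hidx
    have h1 := one_mem_indSpan_of_isQuasiElem p (Nat.card H) H rfl hQE
    exact intCast_smul_mem_indSpan
      (indFun_mem_indSpan_of_one_mem isElementary_iso H h1 IsCharacter.one) _

/-- The additive map `ℤ → (G → ℂ)`, `m ↦ (fun _ => m)`. -/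
def constHom (G : Type u) : ℤ →+ (G → ℂ) where
  toFun m := fun _ => (m : ℂ)
  map_zero' := by funext g; simp
  map_add' a b := by funext g; simp

/-- **Brauer's induction theorem**: the trivial character is a ℤ-combination of characters
induced from elementary subgroups. -/
theorem one_mem_indSpan_elementary [Fintype G] :
    (fun _ : G => (1 : ℂ)) ∈
      indSpan (fun E [Group E] => ∃ p : ℕ, p.Prime ∧ IsElementary p E) G := by
  classical
  set S := indSpan (fun E [Group E] => ∃ p : ℕ, p.Prime ∧ IsElementary p E) G with hS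
  -- the ideal of integers `m` with `m • 1 ∈ S`
  let J : Ideal ℤ := (S.comap (constHom G)).toIntSubmodule
  have hJ : ∀ m : ℤ, m ∈ J ↔ (fun _ : G => (m : ℂ)) ∈ S := fun m => Iff.rfl
  have hloc : ∀ p : ℕ, p.Prime → ∃ m : ℤ, ¬ (p : ℤ) ∣ m ∧ m ∈ J := by
    intro p hp
    haveI : Fact p.Prime := ⟨hp⟩
    obtain ⟨m, hm, hmem⟩ := exists_int_mem_indSpan_elementary (G := G) p
    refine ⟨m, hm, (hJ m).mpr ?_⟩
    exact indSpan_mono (fun E hE => ⟨p, hp, hE⟩) hmem
  have hprinc : Submodule.IsPrincipal J := inferInstance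
  obtain ⟨d, hd⟩ := hprinc
  have hd1 : d.natAbs = 1 := by
    by_contra hne
    obtain ⟨q, hq, hqd⟩ := Int.exists_prime_and_dvd hne
    have hqn : q.natAbs.Prime := Int.prime_iff_natAbs_prime.mp hq
    obtain ⟨m, hm, hmJ⟩ := hloc q.natAbs hqn
    apply hm
    rw [hd, Ideal.submodule_span_eq, Ideal.mem_span_singleton] at hmJ
    have : (q.natAbs : ℤ) ∣ d := Int.natAbs_dvd.mpr hqd
    exact this.trans hmJ
  have h1J : (1 : ℤ) ∈ J := by
    rw [hd, Ideal.submodule_span_eq, Ideal.mem_span_singleton]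
    exact Int.natAbs_dvd_natAbs.mp (by rw [hd1]; exact one_dvd _)
  have := (hJ 1).mp h1J
  simpa using this


/-- Elements of `indSpan` are given by lists. -/
theorem exists_list_of_mem_indSpan [Fintype G] {P : ∀ (E : Type u) [Group E], Prop} {f : G → ℂ}
    (hf : f ∈ indSpan P G) :
    ∃ l : List ((E : Subgroup G) × ((E → ℂ) × ℤ)),
      (∀ t ∈ l, P t.1 ∧ IsCharacter t.1 t.2.1) ∧
      f = (l.map fun t => (t.2.2 : ℂ) • indFun t.1 t.2.1).sum := by
  induction hf using AddSubgroup.closure_induction with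
  | mem f hf =>
    obtain ⟨E, ψ, hE, hψ, rfl⟩ := hf
    refine ⟨[⟨E, (ψ, 1)⟩], ?_, ?_⟩
    · intro t ht
      rw [List.mem_singleton] at ht
      subst ht
      exact ⟨hE, hψ⟩
    · simp
  | zero => exact ⟨[], by simp, by simp⟩
  | add f g _ _ hf hg =>
    obtain ⟨l₁, h₁, rfl⟩ := hf
    obtain ⟨l₂, h₂, rfl⟩ := hg
    refine ⟨l₁ ++ l₂, ?_, ?_⟩
    · intro t ht
      rcases List.mem_append.mp ht with h | h
      · exact h₁ t h
      · exact h₂ t h
    · rw [List.map_append, List.sum_append]
  | neg f _ hf =>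
    obtain ⟨l, h, rfl⟩ := hf
    refine ⟨l.map (fun t => ⟨t.1, (t.2.1, -t.2.2)⟩), ?_, ?_⟩
    · intro t ht
      rw [List.mem_map] at ht
      obtain ⟨t', ht', rfl⟩ := ht
      exact h t' ht'
    · rw [List.sum_neg, List.map_map, List.map_map]
      congr 1
      apply List.map_congr_left
      intro t _
      simp

/-- Closure properties of generalized characters. -/
theorem IsGeneralizedCharacter.zero : IsGeneralizedCharacter G (0 : G → ℂ) :=
  ⟨0, 0, IsCharacter.zero, IsCharacter.zero, by simp⟩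

theorem IsGeneralizedCharacter.add {θ θ' : G → ℂ} (h : IsGeneralizedCharacter G θ)
    (h' : IsGeneralizedCharacter G θ') : IsGeneralizedCharacter G (θ + θ') := by
  obtain ⟨χ, ψ, hχ, hψ, rfl⟩ := h
  obtain ⟨χ', ψ', hχ', hψ', rfl⟩ := h'
  exact ⟨χ + χ', ψ + ψ', IsCharacter.add hχ hχ', IsCharacter.add hψ hψ', by ring⟩

theorem IsGeneralizedCharacter.neg {θ : G → ℂ} (h : IsGeneralizedCharacter G θ) :
    IsGeneralizedCharacter G (-θ) := by
  obtain ⟨χ, ψ, hχ, hψ, rfl⟩ := h
  exact ⟨ψ, χ, hψ, hχ, by ring⟩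

theorem IsGeneralizedCharacter.of_isCharacter {θ : G → ℂ} (h : IsCharacter G θ) :
    IsGeneralizedCharacter G θ :=
  ⟨θ, 0, h, IsCharacter.zero, by simp⟩

theorem IsGeneralizedCharacter.mul_isCharacter {θ φ : G → ℂ} (h : IsGeneralizedCharacter G θ)
    (hφ : IsCharacter G φ) : IsGeneralizedCharacter G (φ * θ) := by
  obtain ⟨χ, ψ, hχ, hψ, rfl⟩ := h
  exact ⟨φ * χ, φ * ψ, IsCharacter.mul hφ hχ, IsCharacter.mul hφ hψ, by ring⟩

theorem IsGeneralizedCharacter.indFun [Fintype G] (H : Subgroup G) {θ : H → ℂ}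
    (h : IsGeneralizedCharacter H θ) : IsGeneralizedCharacter G (indFun H θ) := by
  obtain ⟨χ, ψ, hχ, hψ, rfl⟩ := h
  exact ⟨_, _, isCharacter_indFun H hχ, isCharacter_indFun H hψ, indFun_sub H χ ψ⟩

/-- If `f ∈ indSpan P G` and `θ` is a class function whose restriction to every subgroup
satisfying `P` is a generalized character, then `f * θ` is a generalized character. -/
theorem isGeneralizedCharacter_mul_of_mem_indSpan [Fintype G]
    {P : ∀ (E : Type u) [Group E], Prop} {f : G → ℂ} (hf : f ∈ indSpan P G) {θ : G → ℂ}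
    (hθ : IsClassFunction G θ)
    (hE : ∀ E : Subgroup G, P E → IsGeneralizedCharacter E (fun e : E => θ e)) :
    IsGeneralizedCharacter G (f * θ) := by
  induction hf using AddSubgroup.closure_induction with
  | mem f hf =>
    obtain ⟨E, ψ, hPE, hψ, rfl⟩ := hf
    rw [← indFun_mul_restrict E ψ hθ]
    apply IsGeneralizedCharacter.indFun
    exact IsGeneralizedCharacter.mul_isCharacter (hE E hPE) hψ
  | zero => rw [zero_mul]; exact IsGeneralizedCharacter.zero
  | add f g _ _ hf hg => rw [add_mul]; exact IsGeneralizedCharacter.add hf hg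
  | neg f _ hf => rw [neg_mul]; exact IsGeneralizedCharacter.neg hf

/-- **Brauer's characterization of characters.** -/
theorem isGeneralizedCharacter_of_forall_elementary [Fintype G] {θ : G → ℂ}
    (hθ : IsClassFunction G θ)
    (hE : ∀ (E : Subgroup G) (p : ℕ), p.Prime → IsElementary p E →
      IsGeneralizedCharacter E (fun e : E => θ e)) : IsGeneralizedCharacter G θ := by
  have h := isGeneralizedCharacter_mul_of_mem_indSpan (one_mem_indSpan_elementary (G := G)) hθ
    (fun E ⟨p, hp, hpE⟩ => hE E p hp hpE)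
  have h2 : (fun _ : G => (1 : ℂ)) * θ = θ := by funext g; simp
  rwa [h2] at h

end Cfsg.Agent.Lib.Helper3
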