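import Mathlib
import Cfsg.Prelude.Def_Characters
import Cfsg.Agent.Lib.Helper25.Ind

set_option autoImplicit false

/-!
Induction from a subgroup `C` of a function supported on a set `X` with the
"two-coset TI property": `g⁻¹ x g ∈ X` forces `g ∈ C ∪ sC`.
-/

namespace Cfsg.Agent.Lib.Helper3

open Cfsg
open Cfsg.Agent.Lib.Helper25
open scoped ComplexConjugate

variable {G : Type*} [Group G] [Fintype G]

/-- Induced function vanishes at elements not conjugate into the support. -/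
theorem indFun_eq_zero_of_forall_not_mem (C : Subgroup G) (X : Set G) (φ : C → ℂ)
    (hφ0 : ∀ c : C, (c : G) ∉ X → φ c = 0) (g : G) (hg : ∀ y : G, y⁻¹ * g * y ∉ X) :
    indFun C φ g = 0 := by
  rw [indFun_apply]
  rw [Finset.sum_eq_zero, mul_zero]
  intro y _
  by_cases hy : y⁻¹ * g * y ∈ C
  · rw [extendByZero_of_mem C φ hy]
    exact hφ0 ⟨_, hy⟩ (hg y)
  · exact extendByZero_of_not_mem C φ hy

/-- The value on `X` of a function induced from `C`, supported on a subset `X` of `C` with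
`g⁻¹ x g ∈ X → g ∈ C ∪ sC`. -/
theorem indFun_TI_two (C : Subgroup G) (s : G) (hsC : s ∉ C)
    (hs : ∀ c : G, c ∈ C → s⁻¹ * c * s ∈ C) (X : Set G) (hX : ∀ x ∈ X, x ∈ C)
    (hTI : ∀ x ∈ X, ∀ g : G, g⁻¹ * x * g ∈ X → g ∈ C ∨ s⁻¹ * g ∈ C)
    (φ : C → ℂ) (hφcl : IsClassFunction C φ) (hφ0 : ∀ c : C, (c : G) ∉ X → φ c = 0)
    (x : G) (hx : x ∈ X) :
    indFun C φ x = extendByZero C φ x + extendByZero C φ (s⁻¹ * x * s) := by
  classical
  have hxC : x ∈ C := hX x hx
  have hxsC : s⁻¹ * x * s ∈ C := hs x hxC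
  set E := extendByZero C φ with hE
  set E₁ : G → ℂ := extendByZero C (fun _ => (1 : ℂ)) with hE₁
  have hpt : ∀ g : G, E (g⁻¹ * x * g) = E₁ g * E x + E₁ (s⁻¹ * g) * E (s⁻¹ * x * s) := by
    intro g
    by_cases hgC : g ∈ C
    · have hsg : s⁻¹ * g ∉ C := by
        intro h
        apply hsC
        have : s = g * (s⁻¹ * g)⁻¹ := by group
        rw [this]
        exact C.mul_mem hgC (C.inv_mem h)
      have h1 : E₁ g = 1 := by rw [hE₁, extendByZero_of_mem C _ hgC]
      have h2 : E₁ (s⁻¹ * g) = 0 := by rw [hE₁, extendByZero_of_not_mem C _ hsg]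
      rw [h1, h2, one_mul, zero_mul, add_zero]
      have hmem : g⁻¹ * x * g ∈ C := C.mul_mem (C.mul_mem (C.inv_mem hgC) hxC) hgC
      rw [hE, extendByZero_of_mem C φ hmem, extendByZero_of_mem C φ hxC]
      have := hφcl ⟨x, hxC⟩ (⟨g, hgC⟩ : C)⁻¹
      rw [← this]
      congr 1
      apply Subtype.ext
      simp
    · by_cases hsg : s⁻¹ * g ∈ C
      · have h1 : E₁ g = 0 := by rw [hE₁, extendByZero_of_not_mem C _ hgC]
        have h2 : E₁ (s⁻¹ * g) = 1 := by rw [hE₁, extendByZero_of_mem C _ hsg]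
        rw [h1, h2, one_mul, zero_mul, zero_add]
        have heq : g⁻¹ * x * g = (s⁻¹ * g)⁻¹ * (s⁻¹ * x * s) * (s⁻¹ * g) := by group
        have hmem : g⁻¹ * x * g ∈ C := by
          rw [heq]
          exact C.mul_mem (C.mul_mem (C.inv_mem hsg) hxsC) hsg
        rw [hE, extendByZero_of_mem C φ hmem, extendByZero_of_mem C φ hxsC]
        have := hφcl ⟨s⁻¹ * x * s, hxsC⟩ (⟨s⁻¹ * g, hsg⟩ : C)⁻¹
        rw [← this]
        congr 1
        apply Subtype.ext
        simp only [Subgroup.coe_mul, Subgroup.coe_inv, inv_inv]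
        exact heq
      · have h1 : E₁ g = 0 := by rw [hE₁, extendByZero_of_not_mem C _ hgC]
        have h2 : E₁ (s⁻¹ * g) = 0 := by rw [hE₁, extendByZero_of_not_mem C _ hsg]
        rw [h1, h2, zero_mul, zero_mul, add_zero]
        have hnX : g⁻¹ * x * g ∉ X := by
          intro h
          rcases hTI x hx g h with h' | h'
          · exact hgC h'
          · exact hsg h'
        by_cases hmem : g⁻¹ * x * g ∈ C
        · rw [hE, extendByZero_of_mem C φ hmem]
          exact hφ0 ⟨_, hmem⟩ hnX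
        · rw [hE, extendByZero_of_not_mem C φ hmem]
  have hsum1 : ∑ g : G, E₁ g = (Nat.card C : ℂ) := by
    rw [hE₁, sum_extendByZero]
    simp [Nat.card_eq_fintype_card]
  have hsum2 : ∑ g : G, E₁ (s⁻¹ * g) = (Nat.card C : ℂ) := by
    rw [← hsum1]
    exact Fintype.sum_equiv (Equiv.mulLeft s⁻¹) _ _ (fun _ => rfl)
  rw [indFun_apply]
  rw [Finset.sum_congr rfl (fun g _ => hpt g), Finset.sum_add_distrib, ← Finset.sum_mul,
    ← Finset.sum_mul, hsum1, hsum2]
  have hne : (Nat.card C : ℂ) ≠ 0 := card_ne_zero_complex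
  field_simp

end Cfsg.Agent.Lib.Helper3
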