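import Mathlib
import Cfsg.Agent.Lib.Helper3.TIFN
import Cfsg.Agent.Lib.Helper78.CNChar4
import Cfsg.Agent.Lib.Helper64.TwoClassesA

set_option autoImplicit false
set_option linter.style.haveILetI false
set_option linter.unusedSectionVars false

/-!
Counting exceptional characters: in the coherent T.I./Frobenius-normalizer situation the number of
relevant characters of `N_G(K)` equals the number of conjugacy classes of `G` meeting `K ∖ {1}`, so
the number of non-exceptional irreducible characters is at least one more than the number of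
classes avoiding `K`.
-/

namespace Cfsg.Agent.Lib.Helper3.ExcGen

open Cfsg Cfsg.Agent.Lib.Helper3 Cfsg.Agent.Lib.Helper78.CNChar
open scoped ComplexConjugate

variable {G : Type*} [Group G] [Fintype G] {K : Subgroup G}
  [Fintype ↥(Subgroup.normalizer (K : Set G))]
  {S : Set (↥(Subgroup.normalizer (K : Set G)) → ℂ)}
  {star : (↥(Subgroup.normalizer (K : Set G)) → ℂ) → (G → ℂ)}

/-- The members of `S`, as a subtype of the irreducible characters. -/
abbrev JJ (S : Set (↥(Subgroup.normalizer (K : Set G)) → ℂ)) : Type _ :=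
  {χ : IrrCharacter ↥(Subgroup.normalizer (K : Set G)) //
    (χ : ↥(Subgroup.normalizer (K : Set G)) → ℂ) ∈ S}

noncomputable instance : Fintype (JJ S) := Fintype.ofFinite _

/-- Sums over `JJ S` as sums over all irreducible characters. -/
theorem sum_JJ [Fintype (IrrCharacter ↥(Subgroup.normalizer (K : Set G)))]
    (f : (↥(Subgroup.normalizer (K : Set G)) → ℂ) → ℂ) :
    ∑ ξ : JJ S, f (ξ.1 : ↥(Subgroup.normalizer (K : Set G)) → ℂ) =
      ∑ χ : IrrCharacter ↥(Subgroup.normalizer (K : Set G)),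
        (open Classical in if (χ : ↥(Subgroup.normalizer (K : Set G)) → ℂ) ∈ S then
          f (χ : ↥(Subgroup.normalizer (K : Set G)) → ℂ) else 0) := by
  classical
  rw [← Finset.sum_subtype (Finset.univ.filter
      (fun χ : IrrCharacter ↥(Subgroup.normalizer (K : Set G)) =>
        (χ : ↥(Subgroup.normalizer (K : Set G)) → ℂ) ∈ S)) (by simp)
      (fun χ => f (χ : ↥(Subgroup.normalizer (K : Set G)) → ℂ)), Finset.sum_filter]

theorem mem_iff_rel (c : CohCtx K S star) (χ : IrrCharacter ↥(Subgroup.normalizer (K : Set G))) :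
    (χ : ↥(Subgroup.normalizer (K : Set G)) → ℂ) ∈ S ↔
      ∃ x ∈ K.subgroupOf (Subgroup.normalizer (K : Set G)),
        (χ : ↥(Subgroup.normalizer (K : Set G)) → ℂ) x ≠
          (χ : ↥(Subgroup.normalizer (K : Set G)) → ℂ) 1 :=
  ⟨fun h => c.rel h, fun h => c.mem_of_irr_rel χ.2 h⟩

/-- Column orthogonality for the relevant characters. -/
theorem sum_rel_normSq (c : CohCtx K S star) (x : ↥(Subgroup.normalizer (K : Set G)))
    (hx : (x : G) ∈ K) :
    ∑ ξ : JJ S, (ξ.1 : ↥(Subgroup.normalizer (K : Set G)) → ℂ) x *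
        conj ((ξ.1 : ↥(Subgroup.normalizer (K : Set G)) → ℂ) x) =
      (Nat.card (Subgroup.centralizer ({x} : Set ↥(Subgroup.normalizer (K : Set G)))) : ℂ) -
        ((K.subgroupOf (Subgroup.normalizer (K : Set G))).index : ℂ) := by
  classical
  haveI : (K.subgroupOf (Subgroup.normalizer (K : Set G))).Normal := Subgroup.normal_in_normalizer
  haveI : Fintype ↥(K.subgroupOf (Subgroup.normalizer (K : Set G))) := Fintype.ofFinite _
  haveI : Fintype (IrrCharacter ↥(Subgroup.normalizer (K : Set G))) := Fintype.ofFinite _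
  have hco := column_orthogonality x x
  rw [if_pos (IsConj.refl x)] at hco
  have h1 := (sum_sq_nonrelevant_and_relevant
    (K.subgroupOf (Subgroup.normalizer (K : Set G)))).1
  rw [sum_JJ (fun χ => χ x * conj (χ x)), ← hco, ← h1, ← Finset.sum_sub_distrib]
  apply Finset.sum_congr rfl
  intro χ _
  by_cases hχ : (χ : ↥(Subgroup.normalizer (K : Set G)) → ℂ) ∈ S
  · rw [if_pos hχ, if_pos ((mem_iff_rel c χ).mp hχ), sub_zero]
  · have hnr : ¬ ∃ k ∈ K.subgroupOf (Subgroup.normalizer (K : Set G)),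
        (χ : ↥(Subgroup.normalizer (K : Set G)) → ℂ) k ≠
          (χ : ↥(Subgroup.normalizer (K : Set G)) → ℂ) 1 := fun h => hχ ((mem_iff_rel c χ).mpr h)
    rw [if_neg hχ, if_neg hnr]
    push Not at hnr
    have hx1 := hnr x (Subgroup.mem_subgroupOf.mpr hx)
    rw [hx1, IsCharacter.conj_one (IsIrrCharacter.isCharacter χ.2)]
    ring

/-- Sum of the degrees squared of the relevant characters. -/
theorem sum_rel_deg_sq (c : CohCtx K S star) :
    ∑ ξ : JJ S, (ξ.1 : ↥(Subgroup.normalizer (K : Set G)) → ℂ) 1 *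
        conj ((ξ.1 : ↥(Subgroup.normalizer (K : Set G)) → ℂ) 1) =
      ((Nat.card ↥(K.subgroupOf (Subgroup.normalizer (K : Set G))) : ℂ) - 1) *
        ((K.subgroupOf (Subgroup.normalizer (K : Set G))).index : ℂ) := by
  classical
  haveI : (K.subgroupOf (Subgroup.normalizer (K : Set G))).Normal := Subgroup.normal_in_normalizer
  haveI : Fintype ↥(K.subgroupOf (Subgroup.normalizer (K : Set G))) := Fintype.ofFinite _
  haveI : Fintype (IrrCharacter ↥(Subgroup.normalizer (K : Set G))) := Fintype.ofFinite _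
  have h1 := (sum_sq_nonrelevant_and_relevant
    (K.subgroupOf (Subgroup.normalizer (K : Set G)))).2
  rw [sum_JJ (fun χ => χ 1 * conj (χ 1)), ← h1]
  apply Finset.sum_congr rfl
  intro χ _
  by_cases hχ : (χ : ↥(Subgroup.normalizer (K : Set G)) → ℂ) ∈ S
  · rw [if_pos hχ, if_pos ((mem_iff_rel c χ).mp hχ),
      IsCharacter.conj_one (IsIrrCharacter.isCharacter χ.2)]
    ring
  · have hnr : ¬ ∃ k ∈ K.subgroupOf (Subgroup.normalizer (K : Set G)),
        (χ : ↥(Subgroup.normalizer (K : Set G)) → ℂ) k ≠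
          (χ : ↥(Subgroup.normalizer (K : Set G)) → ℂ) 1 := fun h => hχ ((mem_iff_rel c χ).mpr h)
    rw [if_neg hχ, if_neg hnr]

/-- Double counting: the sum of the centralizer orders over `K ∖ {1}`. -/
theorem sum_delta_card_centralizer (c : CohCtx K S star) :
    ∑ x : ↥(Subgroup.normalizer (K : Set G)), delta K x *
        (Nat.card (Subgroup.centralizer ({x} : Set ↥(Subgroup.normalizer (K : Set G)))) : ℂ) =
      (Nat.card (JJ S) : ℂ) * (Nat.card ↥(Subgroup.normalizer (K : Set G)) : ℂ) := by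
  classical
  have h1 : ∑ x : ↥(Subgroup.normalizer (K : Set G)), delta K x *
      ∑ ξ : JJ S, (ξ.1 : ↥(Subgroup.normalizer (K : Set G)) → ℂ) x *
        conj ((ξ.1 : ↥(Subgroup.normalizer (K : Set G)) → ℂ) x) =
      ∑ x : ↥(Subgroup.normalizer (K : Set G)), delta K x *
        ((Nat.card (Subgroup.centralizer ({x} : Set ↥(Subgroup.normalizer (K : Set G)))) : ℂ) -
        ((K.subgroupOf (Subgroup.normalizer (K : Set G))).index : ℂ)) := by
    apply sum_delta_congr
    intro x hx _
    exact sum_rel_normSq c x hx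
  have h2 : ∑ x : ↥(Subgroup.normalizer (K : Set G)), delta K x *
      ∑ ξ : JJ S, (ξ.1 : ↥(Subgroup.normalizer (K : Set G)) → ℂ) x *
        conj ((ξ.1 : ↥(Subgroup.normalizer (K : Set G)) → ℂ) x) =
      ∑ ξ : JJ S, ((Nat.card ↥(Subgroup.normalizer (K : Set G)) : ℂ) -
        (ξ.1 : ↥(Subgroup.normalizer (K : Set G)) → ℂ) 1 *
          conj ((ξ.1 : ↥(Subgroup.normalizer (K : Set G)) → ℂ) 1)) := by
    simp only [Finset.mul_sum]
    rw [Finset.sum_comm]
    apply Finset.sum_congr rfl
    intro ξ _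
    exact sum_delta_normSq_mem c ξ.2
  rw [h2, Finset.sum_sub_distrib, sum_rel_deg_sq c] at h1
  simp only [mul_sub, Finset.sum_sub_distrib, ← Finset.sum_mul, sum_delta] at h1
  simp only [Finset.sum_const, Finset.card_univ, nsmul_eq_mul] at h1
  rw [Nat.card_eq_fintype_card (α := JJ S)]
  linear_combination -h1

/-- The order of the centralizer is a class function. -/
theorem card_centralizer_conj (g h : G) :
    Nat.card (Subgroup.centralizer ({h * g * h⁻¹} : Set G)) =
      Nat.card (Subgroup.centralizer ({g} : Set G)) := by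
  apply Nat.card_congr
  refine
    { toFun := fun y => ⟨h⁻¹ * y.1 * h, ?_⟩
      invFun := fun z => ⟨h * z.1 * h⁻¹, ?_⟩
      left_inv := ?_
      right_inv := ?_ }
  · have hy := y.2
    rw [Subgroup.mem_centralizer_iff] at hy ⊢
    intro x hx
    rw [Set.mem_singleton_iff] at hx
    subst hx
    have h1 := hy (h * x * h⁻¹) (Set.mem_singleton _)
    calc x * (h⁻¹ * y.1 * h) = h⁻¹ * ((h * x * h⁻¹) * y.1) * h := by group
      _ = h⁻¹ * (y.1 * (h * x * h⁻¹)) * h := by rw [h1]
      _ = h⁻¹ * y.1 * h * x := by group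
  · have hz := z.2
    rw [Subgroup.mem_centralizer_iff] at hz ⊢
    intro x hx
    rw [Set.mem_singleton_iff] at hx
    subst hx
    have h1 := hz g (Set.mem_singleton _)
    calc h * g * h⁻¹ * (h * z.1 * h⁻¹) = h * (g * z.1) * h⁻¹ := by group
      _ = h * (z.1 * g) * h⁻¹ := by rw [h1]
      _ = h * z.1 * h⁻¹ * (h * g * h⁻¹) := by group
  · intro y
    apply Subtype.ext
    show h * (h⁻¹ * y.1 * h) * h⁻¹ = y.1
    group
  · intro z
    apply Subtype.ext
    show h⁻¹ * (h * z.1 * h⁻¹) * h = z.1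
    group

/-- Centralizers of nonidentity elements of `K` are the same in `N_G(K)` and in `G`. -/
theorem card_centralizer_normalizer (hC : ∀ k ∈ K, k ≠ 1 → Subgroup.centralizer ({k} : Set G) ≤ K)
    (x : ↥(Subgroup.normalizer (K : Set G))) (hx : (x : G) ∈ K) (hx1 : x ≠ 1) :
    Nat.card (Subgroup.centralizer ({x} : Set ↥(Subgroup.normalizer (K : Set G)))) =
      Nat.card (Subgroup.centralizer ({(x : G)} : Set G)) := by
  have hx1' : (x : G) ≠ 1 := fun h => hx1 (Subtype.ext h)
  apply Nat.card_congr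
  refine
    { toFun := fun y => ⟨(y.1 : G), ?_⟩
      invFun := fun z => ⟨⟨z.1, Subgroup.le_normalizer (hC _ hx hx1' z.2)⟩, ?_⟩
      left_inv := fun y => rfl
      right_inv := fun z => rfl }
  · have hy := y.2
    rw [Subgroup.mem_centralizer_iff] at hy ⊢
    intro g hg
    rw [Set.mem_singleton_iff] at hg
    subst hg
    have h1 := hy x (Set.mem_singleton _)
    exact congrArg Subtype.val h1
  · have hz := z.2
    rw [Subgroup.mem_centralizer_iff] at hz ⊢
    intro g hg
    rw [Set.mem_singleton_iff] at hg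
    subst hg
    apply Subtype.ext
    exact hz (g : G) (Set.mem_singleton _)

/-- The sum of the centralizer orders over the conjugates of `K ∖ {1}`. -/
theorem sum_conjSet_card_centralizer (c : CohCtx K S star) :
    ∑ g : G, (open Classical in if g ∈ conjSet K then
        (Nat.card (Subgroup.centralizer ({g} : Set G)) : ℂ) else 0) =
      (Nat.card G : ℂ) * (Nat.card (JJ S) : ℂ) := by
  classical
  have hF : IsClassFunction G (fun g => (Nat.card (Subgroup.centralizer ({g} : Set G)) : ℂ)) := by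
    intro g h
    simp only [card_centralizer_conj g h]
  have h1 := sum_indDelta_mul K _ hF
  have h2 : ∑ x : ↥(Subgroup.normalizer (K : Set G)), delta K x *
      (Nat.card (Subgroup.centralizer ({(x : G)} : Set G)) : ℂ) =
      ∑ x : ↥(Subgroup.normalizer (K : Set G)), delta K x *
        (Nat.card (Subgroup.centralizer ({x} : Set ↥(Subgroup.normalizer (K : Set G)))) : ℂ) := by
    apply sum_delta_congr
    intro x hx hx1
    rw [card_centralizer_normalizer c.hC x hx hx1]
  rw [h2, sum_delta_card_centralizer c] at h1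
  have hN : (Nat.card ↥(Subgroup.normalizer (K : Set G)) : ℂ) ≠ 0 := by
    exact_mod_cast Nat.card_pos.ne'
  have h3 : ∑ g : G, (if g ∈ conjSet K then
      (Nat.card (Subgroup.centralizer ({g} : Set G)) : ℂ) else 0) =
      ∑ g : G, indFun (Subgroup.normalizer (K : Set G)) (delta K) g *
        (Nat.card (Subgroup.centralizer ({g} : Set G)) : ℂ) := by
    apply Finset.sum_congr rfl
    intro g _
    rw [indDelta_apply K c.hTI c.hlt c.hC g]
    by_cases hg : g ∈ conjSet K
    · rw [if_pos hg, if_pos hg, one_mul]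
    · rw [if_neg hg, if_neg hg, zero_mul]
  rw [h3, h1]
  field_simp

open Cfsg.Agent.Lib.Helper64.PiClasses Cfsg.Agent.Lib.Helper64.TwoClasses in
/-- counting pairs fibrewise -/
theorem card_pairs {α β : Type*} [Fintype α] [Fintype β] (P : α → Prop) (R : α → β → Prop)
    [DecidablePred P] [∀ a, DecidablePred (R a)] :
    Nat.card {p : α × β // P p.1 ∧ R p.1 p.2} =
      ∑ a : α, if P a then Nat.card {b : β // R a b} else 0 := by
  classical
  rw [Nat.card_eq_fintype_card, Fintype.card_subtype, Finset.card_filter,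
    ← Finset.univ_product_univ, Finset.sum_product]
  apply Finset.sum_congr rfl
  intro a _
  by_cases ha : P a
  · rw [if_pos ha, Nat.card_eq_fintype_card, Fintype.card_subtype, Finset.card_filter]
    apply Finset.sum_congr rfl
    intro b _
    simp [ha]
  · rw [if_neg ha]
    apply Finset.sum_eq_zero
    intro b _
    simp [ha]

open Cfsg.Agent.Lib.Helper64.PiClasses Cfsg.Agent.Lib.Helper64.TwoClasses in
/-- The number of classes of `G` meeting `K ∖ {1}` equals the number of relevant characters. -/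
theorem kQ_conjSet (c : CohCtx K S star) :
    kQ (fun g : G => g ∈ conjSet K) = Nat.card (JJ S) := by
  classical
  have hQ : ∀ x g : G, x ∈ conjSet K → g * x * g⁻¹ ∈ conjSet K := by
    rintro x g ⟨hx1, y, hy⟩
    refine ⟨?_, y * g⁻¹, ?_⟩
    · intro h
      apply hx1
      calc x = g⁻¹ * (g * x * g⁻¹) * g := by group
        _ = 1 := by rw [h]; group
    · have e : y * g⁻¹ * (g * x * g⁻¹) * (y * g⁻¹)⁻¹ = y * x * y⁻¹ := by group
      rw [e]
      exact hy
  have h1 := card_commPairs (fun g : G => g ∈ conjSet K) hQ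
  rw [card_pairs (fun g : G => g ∈ conjSet K) (fun g h : G => Commute g h)] at h1
  have h2 : ((∑ g : G, if g ∈ conjSet K then Nat.card {h : G // Commute g h} else 0 : ℕ) : ℂ) =
      ∑ g : G, (if g ∈ conjSet K then
        (Nat.card (Subgroup.centralizer ({g} : Set G)) : ℂ) else 0) := by
    push_cast
    apply Finset.sum_congr rfl
    intro g _
    by_cases hg : g ∈ conjSet K
    · rw [if_pos hg, if_pos hg, card_commute_eq]
    · rw [if_neg hg, if_neg hg]
  rw [sum_conjSet_card_centralizer c] at h2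
  rw [h1] at h2
  have hG : (Nat.card G : ℂ) ≠ 0 := by exact_mod_cast Nat.card_pos.ne'
  have h3 : ((kQ (fun g : G => g ∈ conjSet K) : ℕ) : ℂ) = (Nat.card (JJ S) : ℂ) := by
    push_cast at h2
    have : (Nat.card G : ℂ) * (kQ (fun g : G => g ∈ conjSet K) : ℂ) =
        (Nat.card G : ℂ) * (Nat.card (JJ S) : ℂ) := by linear_combination h2
    exact mul_left_cancel₀ hG this
  exact_mod_cast h3

open Cfsg.Agent.Lib.Helper64.PiClasses Cfsg.Agent.Lib.Helper64.TwoClasses in
/-- The class number of `G` in the coherent situation. -/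
theorem card_conjClasses_eq (c : CohCtx K S star) :
    Nat.card (ConjClasses G) =
      kQ (fun g : G => ∀ y : G, y * g * y⁻¹ ∉ K) + 1 + Nat.card (JJ S) := by
  classical
  have hA : ∀ x g : G, (∀ y : G, y * x * y⁻¹ ∉ K) ↔ (∀ y : G, y * (g * x * g⁻¹) * y⁻¹ ∉ K) := by
    intro x g
    constructor
    · intro h y
      have := h (y * g)
      have e : y * g * x * (y * g)⁻¹ = y * (g * x * g⁻¹) * y⁻¹ := by group
      rwa [e] at this
    · intro h y
      have := h (y * g⁻¹)
      have e : y * g⁻¹ * (g * x * g⁻¹) * (y * g⁻¹)⁻¹ = y * x * y⁻¹ := by group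
      rwa [e] at this
  have h1 := kQ_split (fun _ : G => True) (fun g : G => ∀ y : G, y * g * y⁻¹ ∉ K)
    (fun _ _ _ => trivial) hA
  have h2 := kQ_split (fun x : G => True ∧ ¬ ∀ y : G, y * x * y⁻¹ ∉ K) (fun x : G => x = 1)
    (fun x g hx => ⟨trivial, fun h => hx.2 ((hA x g).mpr h)⟩)
    (fun x g => by
      constructor
      · intro h; rw [h]; group
      · intro h
        calc x = g⁻¹ * (g * x * g⁻¹) * g := by group
          _ = 1 := by rw [h]; group)
  have h3 : kQ (fun x : G => (True ∧ ¬ ∀ y : G, y * x * y⁻¹ ∉ K) ∧ x = 1) = 1 := by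
    unfold kQ
    rw [Nat.card_eq_one_iff_unique]
    constructor
    · constructor
      rintro ⟨c1, h1⟩ ⟨c2, h2⟩
      apply Subtype.ext
      obtain ⟨x1, rfl⟩ := ConjClasses.mk_surjective c1
      obtain ⟨x2, rfl⟩ := ConjClasses.mk_surjective c2
      show ConjClasses.mk x1 = ConjClasses.mk x2
      have e1 := (h1 x1 ConjClasses.mem_carrier_mk).2
      have e2 := (h2 x2 ConjClasses.mem_carrier_mk).2
      rw [e1, e2]
    · refine ⟨⟨ConjClasses.mk 1, ?_⟩⟩
      intro x hx
      rw [ConjClasses.mem_carrier_iff_mk_eq, ConjClasses.mk_eq_mk_iff_isConj] at hx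
      have hx1 : x = 1 := by
        rw [isConj_iff] at hx
        obtain ⟨c', hc'⟩ := hx
        calc x = c'⁻¹ * (c' * x * c'⁻¹) * c' := by group
          _ = 1 := by rw [hc']; group
      refine ⟨⟨trivial, ?_⟩, hx1⟩
      intro h
      apply h 1
      rw [hx1]
      simp
  have h4 : kQ (fun x : G => (True ∧ ¬ ∀ y : G, y * x * y⁻¹ ∉ K) ∧ ¬ x = 1) =
      kQ (fun g : G => g ∈ conjSet K) := by
    apply le_antisymm
    · apply kQ_mono
      rintro x ⟨⟨-, h⟩, hx1⟩
      push Not at h
      exact ⟨hx1, h⟩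
    · apply kQ_mono
      rintro x ⟨hx1, y, hy⟩
      exact ⟨⟨trivial, fun h => h y hy⟩, hx1⟩
  have h5 : kQ (fun x : G => True ∧ ∀ y : G, y * x * y⁻¹ ∉ K) =
      kQ (fun g : G => ∀ y : G, y * g * y⁻¹ ∉ K) := by
    apply le_antisymm
    · exact kQ_mono (fun x h => h.2)
    · exact kQ_mono (fun x h => ⟨trivial, h⟩)
  rw [← kQ_true, h1, h2, h3, h4, h5, kQ_conjSet c]
  ring

/-- The exceptional characters (as a predicate on functions). -/
def Exc (S : Set (↥(Subgroup.normalizer (K : Set G)) → ℂ))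
    (star : (↥(Subgroup.normalizer (K : Set G)) → ℂ) → (G → ℂ)) (ψ : G → ℂ) : Prop :=
  ∃ χ ∈ S, ψ = star χ ∨ ψ = -star χ

/-- There are at most as many exceptional characters as relevant characters. -/
theorem card_exc_le (c : CohCtx K S star) :
    Nat.card {ψ : IrrCharacter G // Exc S star (ψ : G → ℂ)} ≤ Nat.card (JJ S) := by
  classical
  have hch : ∀ ψ : {ψ : IrrCharacter G // Exc S star (ψ : G → ℂ)},
      ∃ ξ : JJ S, (ψ.1 : G → ℂ) = star (ξ.1 : ↥(Subgroup.normalizer (K : Set G)) → ℂ) ∨
        (ψ.1 : G → ℂ) = -star (ξ.1 : ↥(Subgroup.normalizer (K : Set G)) → ℂ) := by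
    rintro ⟨ψ, χ, hχ, h⟩
    exact ⟨⟨⟨χ, c.irr hχ⟩, hχ⟩, h⟩
  choose f hf using hch
  apply Nat.card_le_card_of_injective f
  intro ψ ψ' hff
  apply Subtype.ext
  apply Subtype.ext
  have h1 := hf ψ
  have h2 := hf ψ'
  rw [hff] at h1
  have hinner := classInner_irr ψ.1.2 ψ'.1.2
  have hnorm := classInner_irr ψ'.1.2 ψ'.1.2
  rw [if_pos rfl] at hnorm
  rcases h1 with h1 | h1 <;> rcases h2 with h2 | h2
  · rw [h1, h2]
  · exfalso
    have e : (ψ.1 : G → ℂ) = -(ψ'.1 : G → ℂ) := by rw [h1, h2, neg_neg]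
    rw [e] at hinner
    have e2 : classInner (-(ψ'.1 : G → ℂ)) (ψ'.1 : G → ℂ) = -1 := by
      have : (-(ψ'.1 : G → ℂ)) = (-1 : ℂ) • (ψ'.1 : G → ℂ) := by simp
      rw [this, classInner_smul_left, hnorm]
      ring
    rw [e2] at hinner
    by_cases hh : -(ψ'.1 : G → ℂ) = (ψ'.1 : G → ℂ)
    · rw [if_pos hh] at hinner
      norm_num at hinner
    · rw [if_neg hh] at hinner
      norm_num at hinner
  · exfalso
    have e : (ψ.1 : G → ℂ) = -(ψ'.1 : G → ℂ) := by rw [h1, h2]
    rw [e] at hinner
    have e2 : classInner (-(ψ'.1 : G → ℂ)) (ψ'.1 : G → ℂ) = -1 := by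
      have : (-(ψ'.1 : G → ℂ)) = (-1 : ℂ) • (ψ'.1 : G → ℂ) := by simp
      rw [this, classInner_smul_left, hnorm]
      ring
    rw [e2] at hinner
    by_cases hh : -(ψ'.1 : G → ℂ) = (ψ'.1 : G → ℂ)
    · rw [if_pos hh] at hinner
      norm_num at hinner
    · rw [if_neg hh] at hinner
      norm_num at hinner
  · rw [h1, h2]

open Cfsg.Agent.Lib.Helper64.PiClasses in
/-- **Counting non-exceptional characters**: there are at least one more of them than classes
of `G` avoiding `K`. -/
theorem card_nonexc_ge (c : CohCtx K S star) :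
    kQ (fun g : G => ∀ y : G, y * g * y⁻¹ ∉ K) + 1 ≤
      Nat.card {ψ : IrrCharacter G // ¬ Exc S star (ψ : G → ℂ)} := by
  classical
  have h1 := card_conjClasses_eq c
  have h2 := card_exc_le c
  have h3 : Nat.card (IrrCharacter G) = Nat.card (ConjClasses G) := card_irrCharacter
  haveI : Fintype (IrrCharacter G) := Fintype.ofFinite _
  have h4 : Nat.card {ψ : IrrCharacter G // Exc S star (ψ : G → ℂ)} +
      Nat.card {ψ : IrrCharacter G // ¬ Exc S star (ψ : G → ℂ)} = Nat.card (IrrCharacter G) := by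
    rw [Nat.card_eq_fintype_card, Nat.card_eq_fintype_card, Nat.card_eq_fintype_card]
    exact Fintype.card_subtype_compl (fun ψ : IrrCharacter G => Exc S star (ψ : G → ℂ)) ▸
      (by
        have := Fintype.card_subtype_le (fun ψ : IrrCharacter G => Exc S star (ψ : G → ℂ))
        omega)
  omega

end Cfsg.Agent.Lib.Helper3.ExcGen
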