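import Mathlib
import Cfsg.Agent.Lib.Helper3.ExcCount
import Cfsg.Agent.Lib.Helper25.Coherence2
import Cfsg.Agent.Lib.Helper25.InnerTools

set_option autoImplicit false
set_option linter.style.haveILetI false
set_option linter.unusedSectionVars false

/-!
Bessel's inequality for `rho = ((1_K)^N - ξ₁)^G` with respect to all irreducible characters:
a bound for the values of the non-exceptional characters on `K ∖ {1}`.
-/

namespace Cfsg.Agent.Lib.Helper3.ExcGen

open Cfsg Cfsg.Agent.Lib.Helper3 Cfsg.Agent.Lib.Helper78.CNChar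
open scoped ComplexConjugate

variable {G : Type*} [Group G] [Fintype G] {K : Subgroup G}
  [Fintype ↥(Subgroup.normalizer (K : Set G))]
  {S : Set (↥(Subgroup.normalizer (K : Set G)) → ℂ)}
  {star : (↥(Subgroup.normalizer (K : Set G)) → ℂ) → (G → ℂ)}

/-- The non-exceptional irreducible characters form a finite type. -/
noncomputable instance instFintypeNonExc :
    Fintype {ψ : IrrCharacter G // ¬ Exc S star (ψ : G → ℂ)} := Fintype.ofFinite _

/-- `star ξ` is orthogonal to the non-exceptional irreducible characters. -/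
theorem classInner_star_nonexc (c : CohCtx K S star)
    {ξ : ↥(Subgroup.normalizer (K : Set G)) → ℂ} (hξ : ξ ∈ S) {ψ : G → ℂ}
    (hψ : IsIrrCharacter G ψ) (hne : ¬ Exc S star ψ) : classInner (star ξ) ψ = 0 := by
  obtain ⟨ε, μ, hε, hμ, hstar⟩ := c.star_signed hξ
  rw [hstar, classInner_smul_left, classInner_irr hμ hψ]
  by_cases h : μ = ψ
  · exfalso
    apply hne
    refine ⟨ξ, hξ, ?_⟩
    rcases hε with hε | hε
    · left
      rw [hstar, hε, one_smul, h]
    · right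
      rw [hstar, hε, ← h]
      simp
  · rw [if_neg h, mul_zero]

/-- Bessel's inequality for `rho` against all exceptional and non-exceptional characters. -/
theorem bessel_rho (c : CohCtx K S star) (m : ℤ)
    (hm : ∀ χ ∈ S, ∀ k : ↥(Subgroup.normalizer (K : Set G)), (k : G) ∈ K → k ≠ 1 →
      star χ k - χ k = (m : ℂ) * χ 1 /
        ((K.subgroupOf (Subgroup.normalizer (K : Set G))).index : ℂ))
    {ξ₁ : ↥(Subgroup.normalizer (K : Set G)) → ℂ} (hξ₁ : ξ₁ ∈ S)
    (hdeg : ξ₁ 1 = ((K.subgroupOf (Subgroup.normalizer (K : Set G))).index : ℂ))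
    (u₀ : G) (hu : u₀ ∈ K) (hu1 : u₀ ≠ 1) :
    (∑ ψ : {ψ : IrrCharacter G // ¬ Exc S star (ψ : G → ℂ)},
        Complex.normSq ((ψ.1 : G → ℂ) u₀)) +
      ∑ ξ : JJ S, Complex.normSq ((m : ℂ) * (ξ.1 : ↥(Subgroup.normalizer (K : Set G)) → ℂ) 1 /
        ((K.subgroupOf (Subgroup.normalizer (K : Set G))).index : ℂ) -
          (open Classical in
            if (ξ.1 : ↥(Subgroup.normalizer (K : Set G)) → ℂ) = ξ₁ then 1 else 0)) ≤
      ((K.subgroupOf (Subgroup.normalizer (K : Set G))).index : ℝ) + 1 := by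
  classical
  let u : (JJ S ⊕ {ψ : IrrCharacter G // ¬ Exc S star (ψ : G → ℂ)}) → G → ℂ := fun i =>
    match i with
    | Sum.inl ξ => star (ξ.1 : ↥(Subgroup.normalizer (K : Set G)) → ℂ)
    | Sum.inr ψ => (ψ.1 : G → ℂ)
  have hu' : ∀ i ∈ (Finset.univ : Finset (JJ S ⊕ {ψ : IrrCharacter G // ¬ Exc S star (ψ : G → ℂ)})),
      ∀ j ∈ (Finset.univ : Finset (JJ S ⊕ {ψ : IrrCharacter G // ¬ Exc S star (ψ : G → ℂ)})),
      classInner (u i) (u j) = if i = j then (((fun _ => 1 :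
        (JJ S ⊕ {ψ : IrrCharacter G // ¬ Exc S star (ψ : G → ℂ)}) → ℕ) i : ℕ) : ℂ) else 0 := by
    intro i _ j _
    rcases i with ξ | ψ <;> rcases j with ξ' | ψ'
    · simp only [u]
      rw [c.hstar.2.2.1 _ (Submodule.subset_span ξ.2) _ (Submodule.subset_span ξ'.2),
        classInner_irr ξ.1.2 ξ'.1.2]
      by_cases h : ξ = ξ'
      · subst h
        simp
      · have h' : (ξ.1 : ↥(Subgroup.normalizer (K : Set G)) → ℂ) ≠
            (ξ'.1 : ↥(Subgroup.normalizer (K : Set G)) → ℂ) :=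
          fun hh => h (Subtype.ext (Subtype.ext hh))
        rw [if_neg h', if_neg (fun hh => h (Sum.inl.inj hh))]
    · simp only [u, reduceCtorEq, if_false]
      exact classInner_star_nonexc c ξ.2 ψ'.1.2 ψ'.2
    · simp only [u, reduceCtorEq, if_false]
      rw [classInner_conj_symm, classInner_star_nonexc c ξ'.2 ψ.1.2 ψ.2, map_zero]
    · simp only [u]
      rw [classInner_irr ψ.1.2 ψ'.1.2]
      by_cases h : ψ = ψ'
      · subst h
        simp
      · have h' : (ψ.1 : G → ℂ) ≠ (ψ'.1 : G → ℂ) :=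
          fun hh => h (Subtype.ext (Subtype.ext hh))
        rw [if_neg h', if_neg (fun hh => h (Sum.inr.inj hh))]
  have hB := Cfsg.Agent.Lib.Helper25.bessel_orthogonal Finset.univ u (fun _ => 1)
    (fun _ _ => one_ne_zero) hu' (rho K ξ₁)
  have hnn := Cfsg.Agent.Lib.Helper25.classInner_self_re_nonneg
    (rho K ξ₁ - ∑ i ∈ (Finset.univ : Finset (JJ S ⊕ {ψ : IrrCharacter G // ¬ Exc S star (ψ : G → ℂ)})),
      (classInner (rho K ξ₁) (u i) / ((fun _ => 1 :
        (JJ S ⊕ {ψ : IrrCharacter G // ¬ Exc S star (ψ : G → ℂ)}) → ℕ) i : ℕ)) • u i)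
  rw [hB, classInner_rho_rho c hξ₁ hdeg] at hnn
  have hterm : ∀ i : JJ S ⊕ {ψ : IrrCharacter G // ¬ Exc S star (ψ : G → ℂ)},
      classInner (rho K ξ₁) (u i) * conj (classInner (rho K ξ₁) (u i)) /
        (((fun _ => 1 : (JJ S ⊕ {ψ : IrrCharacter G // ¬ Exc S star (ψ : G → ℂ)}) → ℕ) i : ℕ) : ℂ) =
      ((Complex.normSq (classInner (u i) (rho K ξ₁)) : ℝ) : ℂ) := by
    intro i
    rw [Nat.cast_one, div_one, Complex.mul_conj, classInner_conj_symm (rho K ξ₁) (u i),
      Complex.normSq_conj]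
  rw [Finset.sum_congr rfl (fun i _ => hterm i), ← Complex.ofReal_sum] at hnn
  have hre : ((((K.subgroupOf (Subgroup.normalizer (K : Set G))).index : ℂ) + 1) -
      ((∑ i : JJ S ⊕ {ψ : IrrCharacter G // ¬ Exc S star (ψ : G → ℂ)},
        Complex.normSq (classInner (u i) (rho K ξ₁)) : ℝ) : ℂ)).re =
      ((K.subgroupOf (Subgroup.normalizer (K : Set G))).index : ℝ) + 1 -
        ∑ i : JJ S ⊕ {ψ : IrrCharacter G // ¬ Exc S star (ψ : G → ℂ)},
          Complex.normSq (classInner (u i) (rho K ξ₁)) := by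
    simp
  rw [hre, Fintype.sum_sum_type] at hnn
  have h1 : ∀ ξ : JJ S, classInner (u (Sum.inl ξ)) (rho K ξ₁) =
      (m : ℂ) * (ξ.1 : ↥(Subgroup.normalizer (K : Set G)) → ℂ) 1 /
        ((K.subgroupOf (Subgroup.normalizer (K : Set G))).index : ℂ) -
          (if (ξ.1 : ↥(Subgroup.normalizer (K : Set G)) → ℂ) = ξ₁ then 1 else 0) := by
    intro ξ
    exact classInner_star_rho c m hm ξ.2 hξ₁ hdeg
  have h2 : ∀ ψ : {ψ : IrrCharacter G // ¬ Exc S star (ψ : G → ℂ)},
      classInner (u (Sum.inr ψ)) (rho K ξ₁) = (ψ.1 : G → ℂ) u₀ := by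
    intro ψ
    obtain ⟨C, hC⟩ := c.const_of_not_exceptional ψ.1.2 ψ.2
    have := classInner_const_rho c hξ₁ hdeg (ψ.1 : G → ℂ)
      (IsCharacter.isClassFunction (IsIrrCharacter.isCharacter ψ.1.2)) C hC
    show classInner (ψ.1 : G → ℂ) (rho K ξ₁) = _
    rw [this, hC u₀ hu hu1]
  simp only [h1, h2] at hnn
  linarith

end Cfsg.Agent.Lib.Helper3.ExcGen
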