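import Mathlib
import Cfsg.Agent.Lib.Helper3.ExcBessel
import Cfsg.Agent.Lib.Helper25.CohAbelian
import Cfsg.Agent.Lib.Helper25.CharUtil

set_option autoImplicit false
set_option linter.style.haveILetI false
set_option linter.unusedSectionVars false

/-!
The permutation character `(1_K)^N` of a Frobenius-type normalizer with abelian quotient `N / K`
is the sum of the linear characters of `N` trivial on `K`.
-/

namespace Cfsg.Agent.Lib.Helper3.ExcGen

open Cfsg Cfsg.Agent.Lib.Helper3 Cfsg.Agent.Lib.Helper78.CNChar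
open scoped ComplexConjugate

variable {G : Type*} [Group G] [Fintype G] {K : Subgroup G}
  [Fintype ↥(Subgroup.normalizer (K : Set G))]
  {S : Set (↥(Subgroup.normalizer (K : Set G)) → ℂ)}
  {star : (↥(Subgroup.normalizer (K : Set G)) → ℂ) → (G → ℂ)}

/-- Irreducible characters outside `S` are constant on `K`. -/
theorem nonrel_const (c : CohCtx K S star) {ψ : ↥(Subgroup.normalizer (K : Set G)) → ℂ} (hψ : IsIrrCharacter ↥(Subgroup.normalizer (K : Set G)) ψ) (hS : ψ ∉ S)
    (k : ↥(Subgroup.normalizer (K : Set G))) (hk : (k : G) ∈ K) : ψ k = ψ 1 := by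
  by_contra hne
  exact hS (c.mem_of_irr_rel hψ ⟨k, Subgroup.mem_subgroupOf.mpr hk, hne⟩)

/-- Irreducible characters outside `S` are linear when `N / K` is abelian. -/
theorem nonrel_linear (c : CohCtx K S star)
    (hcomm : ∀ x y : ↥(Subgroup.normalizer (K : Set G)), ((x * y * x⁻¹ * y⁻¹ : ↥(Subgroup.normalizer (K : Set G))) : G) ∈ K)
    {ψ : ↥(Subgroup.normalizer (K : Set G)) → ℂ} (hψ : IsIrrCharacter ↥(Subgroup.normalizer (K : Set G)) ψ) (hS : ψ ∉ S) : ψ 1 = 1 :=
  Cfsg.Agent.Lib.Helper25.degree_one_of_commutators hψ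
    (fun g k => nonrel_const c hψ hS _ (hcomm g k))

/-- Irreducible characters outside `S` take the value `1` on `K`. -/
theorem nonrel_apply (c : CohCtx K S star)
    (hcomm : ∀ x y : ↥(Subgroup.normalizer (K : Set G)), ((x * y * x⁻¹ * y⁻¹ : ↥(Subgroup.normalizer (K : Set G))) : G) ∈ K)
    {ψ : ↥(Subgroup.normalizer (K : Set G)) → ℂ} (hψ : IsIrrCharacter ↥(Subgroup.normalizer (K : Set G)) ψ) (hS : ψ ∉ S) (k : ↥(Subgroup.normalizer (K : Set G))) (hk : (k : G) ∈ K) : ψ k = 1 := by
  rw [nonrel_const c hψ hS k hk, nonrel_linear c hcomm hψ hS]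

theorem classInner_perm_nonrel (c : CohCtx K S star)
    (hcomm : ∀ x y : ↥(Subgroup.normalizer (K : Set G)), ((x * y * x⁻¹ * y⁻¹ : ↥(Subgroup.normalizer (K : Set G))) : G) ∈ K)
    {ψ : ↥(Subgroup.normalizer (K : Set G)) → ℂ} (hψ : IsIrrCharacter ↥(Subgroup.normalizer (K : Set G)) ψ) (hS : ψ ∉ S) : classInner (perm K) ψ = 1 := by
  haveI : Fintype ↥(K.subgroupOf (Subgroup.normalizer (K : Set G))) := Fintype.ofFinite _
  rw [classInner_perm_left K ψ (IsCharacter.isClassFunction (IsIrrCharacter.isCharacter hψ))]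
  have h1 : ∀ k : ↥(K.subgroupOf (Subgroup.normalizer (K : Set G))), conj (ψ k) = 1 := by
    intro k
    rw [nonrel_apply c hcomm hψ hS k (Subgroup.mem_subgroupOf.mp k.2), map_one]
  rw [Finset.sum_congr rfl (fun k _ => h1 k)]
  simp only [Finset.sum_const, Finset.card_univ, nsmul_eq_mul, mul_one,
    Nat.card_eq_fintype_card]
  have : (Fintype.card ↥(K.subgroupOf (Subgroup.normalizer (K : Set G))) : ℂ) ≠ 0 := by
    exact_mod_cast Fintype.card_ne_zero
  exact inv_mul_cancel₀ this

/-- Decomposition of `(1_K)^N`. -/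
theorem perm_eq_sum [Fintype (IrrCharacter ↥(Subgroup.normalizer (K : Set G)))] (c : CohCtx K S star)
    (hcomm : ∀ x y : ↥(Subgroup.normalizer (K : Set G)), ((x * y * x⁻¹ * y⁻¹ : ↥(Subgroup.normalizer (K : Set G))) : G) ∈ K) :
    perm K = ∑ ψ : IrrCharacter ↥(Subgroup.normalizer (K : Set G)),
      (open Classical in if (ψ : ↥(Subgroup.normalizer (K : Set G)) → ℂ) ∈ S then (0 : ↥(Subgroup.normalizer (K : Set G)) → ℂ) else (ψ : ↥(Subgroup.normalizer (K : Set G)) → ℂ)) := by
  classical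
  obtain ⟨m, hm, hsum⟩ := IsCharacter.exists_mult (perm_isCharacter K)
  conv_lhs => rw [hsum]
  apply Finset.sum_congr rfl
  intro ψ _
  by_cases hS : (ψ : ↥(Subgroup.normalizer (K : Set G)) → ℂ) ∈ S
  · have h0 : (m ψ : ℂ) = 0 := by rw [← hm ψ, classInner_perm_mem c hS]
    rw [if_pos hS, h0, zero_smul]
  · have h1 : (m ψ : ℂ) = 1 := by rw [← hm ψ, classInner_perm_nonrel c hcomm ψ.2 hS]
    rw [if_neg hS, h1, one_smul]

/-- Inner products with `(1_K)^N`. -/
theorem classInner_perm_eq_sum [Fintype (IrrCharacter ↥(Subgroup.normalizer (K : Set G)))] (c : CohCtx K S star)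
    (hcomm : ∀ x y : ↥(Subgroup.normalizer (K : Set G)), ((x * y * x⁻¹ * y⁻¹ : ↥(Subgroup.normalizer (K : Set G))) : G) ∈ K) (Z : ↥(Subgroup.normalizer (K : Set G)) → ℂ) :
    classInner (perm K) Z = ∑ ψ : IrrCharacter ↥(Subgroup.normalizer (K : Set G)),
      (open Classical in if (ψ : ↥(Subgroup.normalizer (K : Set G)) → ℂ) ∈ S then 0 else classInner (ψ : ↥(Subgroup.normalizer (K : Set G)) → ℂ) Z) := by
  classical
  conv_lhs => rw [perm_eq_sum c hcomm]
  rw [classInner_sum_left]
  apply Finset.sum_congr rfl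
  intro ψ _
  by_cases hS : (ψ : ↥(Subgroup.normalizer (K : Set G)) → ℂ) ∈ S
  · rw [if_pos hS, if_pos hS, classInner_zero_left]
  · rw [if_neg hS, if_neg hS]

/-- The inner product of `(1_K)^N` with a function constant on `K ∖ {1}`. -/
theorem classInner_perm_const (Z : ↥(Subgroup.normalizer (K : Set G)) → ℂ) (hZ : IsClassFunction ↥(Subgroup.normalizer (K : Set G)) Z) (C : ℂ)
    (hC : ∀ x : ↥(Subgroup.normalizer (K : Set G)), (x : G) ∈ K → x ≠ 1 → Z x = C) :
    (Nat.card K : ℂ) * classInner (perm K) Z = conj (Z 1) + ((Nat.card K : ℂ) - 1) * conj C := by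
  classical
  haveI : Fintype ↥(K.subgroupOf (Subgroup.normalizer (K : Set G))) := Fintype.ofFinite _
  have hcard : Nat.card ↥(K.subgroupOf (Subgroup.normalizer (K : Set G))) = Nat.card K :=
    Nat.card_congr (Subgroup.subgroupOfEquivOfLe Subgroup.le_normalizer).toEquiv
  rw [classInner_perm_left K Z hZ, hcard]
  have hne : (Nat.card K : ℂ) ≠ 0 := by
    have : 0 < Nat.card K := Nat.card_pos
    exact_mod_cast this.ne'
  rw [← mul_assoc, mul_inv_cancel₀ hne, one_mul]
  have h1 : ∀ k : ↥(K.subgroupOf (Subgroup.normalizer (K : Set G))), conj (Z k) =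
      conj C + (if k = 1 then conj (Z 1) - conj C else 0) := by
    intro k
    by_cases hk : k = 1
    · rw [if_pos hk, hk]
      simp
    · rw [if_neg hk, add_zero, hC k (Subgroup.mem_subgroupOf.mp k.2)
        (fun h => hk (Subtype.ext h))]
  rw [Finset.sum_congr rfl (fun k _ => h1 k), Finset.sum_add_distrib, Finset.sum_ite_eq'
    Finset.univ (1 : ↥(K.subgroupOf (Subgroup.normalizer (K : Set G)))), if_pos (Finset.mem_univ _)]
  simp only [Finset.sum_const, Finset.card_univ, nsmul_eq_mul]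
  rw [← Nat.card_eq_fintype_card, hcard]
  ring

end Cfsg.Agent.Lib.Helper3.ExcGen
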