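import Mathlib
import Cfsg.Agent.Lib.Helper3.FeitA

set_option autoImplicit false
set_option linter.style.haveILetI false
set_option linter.unusedSectionVars false

/-!
Abstract data for Feit's inequality, and the analysis of the irreducible characters of `G` whose
restriction to `K` contains the principal character.
-/

namespace Cfsg.Agent.Lib.Helper3.ExcGen

open Cfsg Cfsg.Agent.Lib.Helper3 Cfsg.Agent.Lib.Helper78.CNChar
open scoped ComplexConjugate

variable {G : Type*} [Group G] [Fintype G] {K : Subgroup G}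
  [Fintype ↥(Subgroup.normalizer (K : Set G))]
  {S : Set (↥(Subgroup.normalizer (K : Set G)) → ℂ)}
  {star : (↥(Subgroup.normalizer (K : Set G)) → ℂ) → (G → ℂ)}

open Cfsg.Agent.Lib.Helper64.PiClasses in
/-- The data needed for Feit's inequality. -/
structure FData (K : Subgroup G) [Fintype ↥(Subgroup.normalizer (K : Set G))] (S : Set (↥(Subgroup.normalizer (K : Set G)) → ℂ)) (θ : G → ℂ) (h e : ℕ) : Prop where
  comm : ∀ x y : ↥(Subgroup.normalizer (K : Set G)), ((x * y * x⁻¹ * y⁻¹ : ↥(Subgroup.normalizer (K : Set G))) : G) ∈ K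
  cardK : Nat.card K = h
  idx : (K.subgroupOf (Subgroup.normalizer (K : Set G))).index = e
  idxG : (Subgroup.normalizer (K : Set G)).index = h + 1
  θirr : IsIrrCharacter G θ
  one_cases : ∀ χ : G → ℂ, IsIrrCharacter G χ →
    classInner (fun _ : ↥(Subgroup.normalizer (K : Set G)) => (1 : ℂ)) (fun x : ↥(Subgroup.normalizer (K : Set G)) => χ x) ≠ 0 → χ = (fun _ => 1) ∨ χ = θ
  θK : ∀ u ∈ K, u ≠ 1 → θ u = 0
  ind_lin : ∀ μ : ↥(Subgroup.normalizer (K : Set G)) → ℂ, IsIrrCharacter ↥(Subgroup.normalizer (K : Set G)) μ → μ 1 = 1 →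
    (∀ u : ↥(Subgroup.normalizer (K : Set G)), (u : G) ∈ K → μ u = 1) → μ ≠ (fun _ => 1) →
    IsIrrCharacter G (indFun (Subgroup.normalizer (K : Set G)) μ) ∧
      ∀ u ∈ K, u ≠ 1 → indFun (Subgroup.normalizer (K : Set G)) μ u = 1
  classes : e ≤ kQ (fun g : G => ∀ y : G, y * g * y⁻¹ ∉ K)
  lt : 2 * e + 2 ≤ h

variable {θ : G → ℂ} {h e : ℕ}

/-- An irreducible character of `G` whose restriction to `K` contains the principal character is
the principal character, `θ`, or induced from a nonprincipal linear character of `N / K`. -/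
theorem A_cases (c : CohCtx K S star) (d : FData K S θ h e) {χ : G → ℂ} (hχ : IsIrrCharacter G χ)
    (hA : classInner (perm K) (fun x : ↥(Subgroup.normalizer (K : Set G)) => χ x) ≠ 0) :
    χ = (fun _ => 1) ∨ χ = θ ∨ ∃ μ : ↥(Subgroup.normalizer (K : Set G)) → ℂ, IsIrrCharacter ↥(Subgroup.normalizer (K : Set G)) μ ∧ μ ∉ S ∧ μ ≠ (fun _ => 1) ∧
      χ = indFun (Subgroup.normalizer (K : Set G)) μ := by
  classical
  haveI : Fintype (IrrCharacter ↥(Subgroup.normalizer (K : Set G))) := Fintype.ofFinite _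
  rw [classInner_perm_eq_sum c d.comm] at hA
  obtain ⟨ψ, -, hψ⟩ := Finset.exists_ne_zero_of_sum_ne_zero hA
  by_cases hS : (ψ : ↥(Subgroup.normalizer (K : Set G)) → ℂ) ∈ S
  · rw [if_pos hS] at hψ
    exact absurd rfl hψ
  rw [if_neg hS] at hψ
  by_cases h1 : (ψ : ↥(Subgroup.normalizer (K : Set G)) → ℂ) = fun _ => 1
  · rw [h1] at hψ
    rcases d.one_cases χ hχ hψ with h | h
    · exact Or.inl h
    · exact Or.inr (Or.inl h)
  · right; right
    refine ⟨ψ, ψ.2, hS, h1, ?_⟩
    have hirr := (d.ind_lin ψ ψ.2 (nonrel_linear c d.comm ψ.2 hS)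
      (fun u hu => nonrel_apply c d.comm ψ.2 hS u hu) h1).1
    rw [← Cfsg.Agent.Lib.Helper25.frobenius_reciprocity _ _ _
      (IsCharacter.isClassFunction (IsIrrCharacter.isCharacter hχ)),
      classInner_irr hirr hχ] at hψ
    by_contra hne
    rw [if_neg (fun h => hne h.symm)] at hψ
    exact hψ rfl

/-- Such a character is constant on `K ∖ {1}`, with value `0` or `1`. -/
theorem A_const (c : CohCtx K S star) (d : FData K S θ h e) {χ : G → ℂ} (hχ : IsIrrCharacter G χ)
    (hA : classInner (perm K) (fun x : ↥(Subgroup.normalizer (K : Set G)) => χ x) ≠ 0) :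
    (χ = θ ∧ ∀ u ∈ K, u ≠ 1 → χ u = 0) ∨ (∀ u ∈ K, u ≠ 1 → χ u = 1) := by
  rcases A_cases c d hχ hA with h | h | ⟨μ, hμ, hS, h1, h⟩
  · right
    intro u _ _
    rw [h]
  · left
    refine ⟨h, ?_⟩
    rw [h]
    exact d.θK
  · right
    rw [h]
    exact (d.ind_lin μ hμ (nonrel_linear c d.comm hμ hS)
      (fun u hu => nonrel_apply c d.comm hμ hS u hu) h1).2

end Cfsg.Agent.Lib.Helper3.ExcGen
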