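import Mathlib
import Cfsg.Agent.Lib.Helper3.FeitB

set_option autoImplicit false
set_option linter.style.haveILetI false
set_option linter.unusedSectionVars false

/-!
Feit's inequality, abstract form: the non-exceptional characters, and `m = 0`.
-/

namespace Cfsg.Agent.Lib.Helper3.ExcGen

open Cfsg Cfsg.Agent.Lib.Helper3 Cfsg.Agent.Lib.Helper78.CNChar
open scoped ComplexConjugate

variable {G : Type*} [Group G] [Fintype G] {K : Subgroup G}
  [Fintype ↥(Subgroup.normalizer (K : Set G))]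
  {S : Set (↥(Subgroup.normalizer (K : Set G)) → ℂ)}
  {star : (↥(Subgroup.normalizer (K : Set G)) → ℂ) → (G → ℂ)}
  {θ : G → ℂ} {h e : ℕ}

omit [Fintype G] [Fintype ↥(Subgroup.normalizer (K : Set G))] in
theorem restrict_isClassFunction {χ : G → ℂ} (hχ : IsClassFunction G χ) :
    IsClassFunction ↥(Subgroup.normalizer (K : Set G)) (fun x : ↥(Subgroup.normalizer (K : Set G)) => χ x) := by
  intro g k
  show χ ((k * g * k⁻¹ : ↥(Subgroup.normalizer (K : Set G))) : G) = χ g
  simpa using hχ (g : G) (k : G)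

omit [Fintype G] [Fintype ↥(Subgroup.normalizer (K : Set G))] in
theorem card_subgroupOf_normalizer :
    Nat.card ↥(K.subgroupOf (Subgroup.normalizer (K : Set G))) = Nat.card K :=
  Nat.card_congr (Subgroup.subgroupOfEquivOfLe Subgroup.le_normalizer).toEquiv

/-- A non-exceptional character vanishing on `K ∖ {1}` is `θ`. -/
theorem nonexc_zero (c : CohCtx K S star) (d : FData K S θ h e) {χ : G → ℂ}
    (hχ : IsIrrCharacter G χ) (hne : ¬ Exc S star χ) {u₀ : G} (hu : u₀ ∈ K) (hu1 : u₀ ≠ 1)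
    (h0 : χ u₀ = 0) : χ = θ := by
  obtain ⟨C, hC⟩ := c.const_of_not_exceptional hχ hne
  have hC0 : C = 0 := by rw [← hC u₀ hu hu1, h0]
  have hcl := restrict_isClassFunction (K := K)
    (IsCharacter.isClassFunction (IsIrrCharacter.isCharacter hχ))
  have hform := classInner_perm_const (K := K) (fun x : ↥(Subgroup.normalizer (K : Set G)) => χ x) hcl C
    (fun x hx hx1 => hC x hx (fun h => hx1 (Subtype.ext h)))
  rw [hC0, map_zero, mul_zero, add_zero] at hform
  have hχ1 : χ 1 ≠ 0 := by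
    obtain ⟨n, hn, hn'⟩ := Cfsg.Agent.Lib.Helper25.irr_degree hχ
    rw [hn']
    exact_mod_cast hn.ne'
  have hA : classInner (perm K) (fun x : ↥(Subgroup.normalizer (K : Set G)) => χ x) ≠ 0 := by
    intro hA
    rw [hA, mul_zero] at hform
    apply hχ1
    have h2 := congrArg conj hform
    simpa using h2.symm
  rcases A_const c d hχ hA with ⟨h', -⟩ | h'
  · exact h'
  · exfalso
    have h3 := h' u₀ hu hu1
    rw [h0] at h3
    exact zero_ne_one h3

/-- The value of a non-exceptional character on `K ∖ {1}` is a rational integer. -/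
theorem nonexc_int (c : CohCtx K S star) {χ : G → ℂ}
    (hχ : IsIrrCharacter G χ) (hne : ¬ Exc S star χ) {u₀ : G} (hu : u₀ ∈ K) (hu1 : u₀ ≠ 1) :
    ∃ z : ℤ, χ u₀ = (z : ℂ) := by
  obtain ⟨C, hC⟩ := c.const_of_not_exceptional hχ hne
  have hcl := restrict_isClassFunction (K := K)
    (IsCharacter.isClassFunction (IsIrrCharacter.isCharacter hχ))
  have hform := classInner_perm_const (K := K) (fun x : ↥(Subgroup.normalizer (K : Set G)) => χ x) hcl C
    (fun x hx hx1 => hC x hx (fun h => hx1 (Subtype.ext h)))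
  obtain ⟨a, ha⟩ := Cfsg.Agent.Lib.Helper25.classInner_char_nat (perm_isCharacter K)
    (IsCharacter.restrict (IsIrrCharacter.isCharacter hχ) (Subgroup.normalizer (K : Set G)))
  obtain ⟨n, hn⟩ := Cfsg.Agent.Lib.Helper25.char_degree (IsIrrCharacter.isCharacter hχ)
  rw [ha] at hform
  have hform' : (Nat.card K : ℂ) * (a : ℂ) = (n : ℂ) + ((Nat.card K : ℂ) - 1) * C := by
    have h2 := congrArg conj hform
    simpa [hn] using h2
  have hK2 : 1 < Nat.card K := by
    rw [Finite.one_lt_card_iff_nontrivial]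
    exact ⟨⟨⟨u₀, hu⟩, 1, fun h => hu1 (congrArg Subtype.val h)⟩⟩
  have hK2' : ((Nat.card K : ℂ) - 1) ≠ 0 := by
    have : ((Nat.card K : ℕ) : ℂ) ≠ 1 := by
      exact_mod_cast hK2.ne'
    exact sub_ne_zero.mpr this
  set q : ℚ := ((Nat.card K : ℚ) * a - n) / ((Nat.card K : ℚ) - 1) with hq
  have hqC : ((q : ℚ) : ℂ) = C := by
    rw [hq]
    push_cast
    rw [div_eq_iff hK2']
    linear_combination hform'
  have hint : IsIntegral ℤ ((q : ℚ) : ℂ) := by
    rw [hqC, ← hC u₀ hu hu1]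
    exact IsCharacter.isIntegral (IsIrrCharacter.isCharacter hχ) u₀
  obtain ⟨z, hz⟩ := int_of_isIntegral_ratCast hint
  refine ⟨z, ?_⟩
  rw [hC u₀ hu hu1, ← hqC, ← hz]
  push_cast
  rfl

open Cfsg.Agent.Lib.Helper64.PiClasses in
/-- Lower bound for the sum of the squares of the values of non-exceptional characters. -/
theorem sum_nonexc_ge (c : CohCtx K S star) (d : FData K S θ h e) {u₀ : G} (hu : u₀ ∈ K)
    (hu1 : u₀ ≠ 1) :
    (e : ℝ) ≤ ∑ ψ : {ψ : IrrCharacter G // ¬ Exc S star (ψ : G → ℂ)},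
      Complex.normSq ((ψ.1 : G → ℂ) u₀) := by
  classical
  set Z := Finset.univ.filter
    (fun ψ : {ψ : IrrCharacter G // ¬ Exc S star (ψ : G → ℂ)} => (ψ.1 : G → ℂ) u₀ = 0) with hZdef
  have hZ : Z.card ≤ 1 := by
    rw [Finset.card_le_one]
    intro a ha b hb
    have h1 := nonexc_zero c d a.1.2 a.2 hu hu1 (Finset.mem_filter.mp ha).2
    have h2 := nonexc_zero c d b.1.2 b.2 hu hu1 (Finset.mem_filter.mp hb).2
    exact Subtype.ext (Subtype.ext (h1.trans h2.symm))
  have hterm : ∀ ψ : {ψ : IrrCharacter G // ¬ Exc S star (ψ : G → ℂ)},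
      (if ψ ∉ Z then (1 : ℝ) else 0) ≤ Complex.normSq ((ψ.1 : G → ℂ) u₀) := by
    intro ψ
    by_cases hψ : ψ ∈ Z
    · rw [if_neg (not_not.mpr hψ)]
      exact Complex.normSq_nonneg _
    · rw [if_pos hψ]
      have hne0 : (ψ.1 : G → ℂ) u₀ ≠ 0 := by
        intro h0
        exact hψ (Finset.mem_filter.mpr ⟨Finset.mem_univ _, h0⟩)
      obtain ⟨z, hz⟩ := nonexc_int c ψ.1.2 ψ.2 hu hu1
      rw [hz] at hne0 ⊢
      have hz0 : z ≠ 0 := by
        intro h
        apply hne0
        rw [h]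
        simp
      have h1 : (1 : ℤ) ≤ z * z := by
        rcases lt_or_gt_of_ne hz0 with h | h
        · nlinarith
        · nlinarith
      have h2 : Complex.normSq ((z : ℂ)) = ((z * z : ℤ) : ℝ) := by
        rw [← Complex.ofReal_intCast, Complex.normSq_ofReal]
        push_cast
        ring
      rw [h2]
      exact_mod_cast h1
  have hsum : ∑ ψ : {ψ : IrrCharacter G // ¬ Exc S star (ψ : G → ℂ)},
      (if ψ ∉ Z then (1 : ℝ) else 0) =
      ((Finset.univ.filter
        (fun ψ : {ψ : IrrCharacter G // ¬ Exc S star (ψ : G → ℂ)} => ψ ∉ Z)).card : ℝ) := by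
    rw [Finset.sum_boole]
  have hcard : Fintype.card {ψ : IrrCharacter G // ¬ Exc S star (ψ : G → ℂ)} ≤
      (Finset.univ.filter
        (fun ψ : {ψ : IrrCharacter G // ¬ Exc S star (ψ : G → ℂ)} => ψ ∉ Z)).card + Z.card := by
    rw [← Finset.card_univ]
    refine le_trans (Finset.card_le_card ?_) (Finset.card_union_le _ _)
    intro ψ _
    by_cases hψ : ψ ∈ Z
    · exact Finset.mem_union_right _ hψ
    · exact Finset.mem_union_left _ (Finset.mem_filter.mpr ⟨Finset.mem_univ _, hψ⟩)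
  have hge := card_nonexc_ge c
  rw [Nat.card_eq_fintype_card] at hge
  have hcl := d.classes
  have hfin : e ≤ (Finset.univ.filter
      (fun ψ : {ψ : IrrCharacter G // ¬ Exc S star (ψ : G → ℂ)} => ψ ∉ Z)).card := by
    omega
  calc (e : ℝ) ≤ ((Finset.univ.filter
        (fun ψ : {ψ : IrrCharacter G // ¬ Exc S star (ψ : G → ℂ)} => ψ ∉ Z)).card : ℝ) := by
        exact_mod_cast hfin
    _ = ∑ ψ : {ψ : IrrCharacter G // ¬ Exc S star (ψ : G → ℂ)},
        (if ψ ∉ Z then (1 : ℝ) else 0) := hsum.symm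
    _ ≤ _ := Finset.sum_le_sum (fun ψ _ => hterm ψ)

end Cfsg.Agent.Lib.Helper3.ExcGen
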