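import Mathlib
import Cfsg.Agent.Lib.Helper3.FeitC

set_option autoImplicit false
set_option linter.style.haveILetI false
set_option linter.unusedSectionVars false

/-!
Feit's inequality, abstract form: `m = 0`.
-/

namespace Cfsg.Agent.Lib.Helper3.ExcGen

open Cfsg Cfsg.Agent.Lib.Helper3 Cfsg.Agent.Lib.Helper78.CNChar
open scoped ComplexConjugate

variable {G : Type*} [Group G] [Fintype G] {K : Subgroup G}
  [Fintype ↥(Subgroup.normalizer (K : Set G))]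
  {S : Set (↥(Subgroup.normalizer (K : Set G)) → ℂ)}
  {star : (↥(Subgroup.normalizer (K : Set G)) → ℂ) → (G → ℂ)}
  {θ : G → ℂ} {h e : ℕ}

/-- The contribution of the exceptional characters to Bessel's inequality. -/
theorem sum_xi_eq (c : CohCtx K S star) (m : ℤ) {ξ₁ : ↥(Subgroup.normalizer (K : Set G)) → ℂ} (hξ₁ : ξ₁ ∈ S)
    (hdeg : ξ₁ 1 = ((K.subgroupOf (Subgroup.normalizer (K : Set G))).index : ℂ)) :
    ((∑ ξ : JJ S, Complex.normSq ((m : ℂ) * (ξ.1 : ↥(Subgroup.normalizer (K : Set G)) → ℂ) 1 / ((K.subgroupOf (Subgroup.normalizer (K : Set G))).index : ℂ) -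
        (open Classical in if (ξ.1 : ↥(Subgroup.normalizer (K : Set G)) → ℂ) = ξ₁ then 1 else 0)) : ℝ) : ℂ) =
      (m : ℂ) ^ 2 * ((Nat.card ↥(K.subgroupOf (Subgroup.normalizer (K : Set G))) : ℂ) - 1) / ((K.subgroupOf (Subgroup.normalizer (K : Set G))).index : ℂ) - 2 * (m : ℂ) + 1 := by
  classical
  have hE : ((K.subgroupOf (Subgroup.normalizer (K : Set G))).index : ℂ) ≠ 0 := by
    have : (K.subgroupOf (Subgroup.normalizer (K : Set G))).index ≠ 0 := Subgroup.index_ne_zero_of_finite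
    exact_mod_cast this
  set j₁ : JJ S := ⟨⟨ξ₁, c.irr hξ₁⟩, hξ₁⟩ with hj₁
  have hterm : ∀ ξ : JJ S,
      ((Complex.normSq ((m : ℂ) * (ξ.1 : ↥(Subgroup.normalizer (K : Set G)) → ℂ) 1 / ((K.subgroupOf (Subgroup.normalizer (K : Set G))).index : ℂ) -
        (if (ξ.1 : ↥(Subgroup.normalizer (K : Set G)) → ℂ) = ξ₁ then 1 else 0)) : ℝ) : ℂ) =
      (m : ℂ) ^ 2 / ((K.subgroupOf (Subgroup.normalizer (K : Set G))).index : ℂ) ^ 2 *
        ((ξ.1 : ↥(Subgroup.normalizer (K : Set G)) → ℂ) 1 * conj ((ξ.1 : ↥(Subgroup.normalizer (K : Set G)) → ℂ) 1)) -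
      2 * (m : ℂ) / ((K.subgroupOf (Subgroup.normalizer (K : Set G))).index : ℂ) * (if ξ = j₁ then (ξ.1 : ↥(Subgroup.normalizer (K : Set G)) → ℂ) 1 else 0) +
      (if ξ = j₁ then 1 else 0) := by
    intro ξ
    have hc1 : conj ((ξ.1 : ↥(Subgroup.normalizer (K : Set G)) → ℂ) 1) = (ξ.1 : ↥(Subgroup.normalizer (K : Set G)) → ℂ) 1 :=
      IsCharacter.conj_one (IsIrrCharacter.isCharacter ξ.1.2)
    rw [← Complex.mul_conj]
    have hiff : ((ξ.1 : ↥(Subgroup.normalizer (K : Set G)) → ℂ) = ξ₁) ↔ ξ = j₁ := by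
      constructor
      · intro h
        exact Subtype.ext (Subtype.ext h)
      · intro h
        rw [h]
    by_cases hξ : ξ = j₁
    · rw [if_pos (hiff.mpr hξ), if_pos hξ, if_pos hξ]
      simp only [map_sub, map_div₀, map_mul, map_intCast, map_natCast, hc1,
        map_one]
      field_simp
      ring
    · rw [if_neg (fun h => hξ (hiff.mp h)), if_neg hξ, if_neg hξ]
      simp only [map_sub, map_div₀, map_mul, map_intCast, map_natCast, hc1,
        map_zero]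
      field_simp
      ring
  rw [Complex.ofReal_sum, Finset.sum_congr rfl (fun ξ _ => hterm ξ), Finset.sum_add_distrib,
    Finset.sum_sub_distrib, ← Finset.mul_sum, ← Finset.mul_sum, sum_rel_deg_sq c,
    Finset.sum_ite_eq' Finset.univ j₁, Finset.sum_ite_eq' Finset.univ j₁,
    if_pos (Finset.mem_univ _), if_pos (Finset.mem_univ _)]
  show _ - 2 * (m : ℂ) / ((K.subgroupOf (Subgroup.normalizer (K : Set G))).index : ℂ) * ξ₁ 1 + 1 = _
  rw [hdeg]
  field_simp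

/-- The integer `m` of the coherence context vanishes. -/
theorem m_eq_zero (c : CohCtx K S star) (d : FData K S θ h e) (m : ℤ)
    (hm : ∀ χ ∈ S, ∀ k : ↥(Subgroup.normalizer (K : Set G)), (k : G) ∈ K → k ≠ 1 →
      star χ k - χ k = (m : ℂ) * χ 1 / ((K.subgroupOf (Subgroup.normalizer (K : Set G))).index : ℂ))
    {ξ₁ : ↥(Subgroup.normalizer (K : Set G)) → ℂ} (hξ₁ : ξ₁ ∈ S) (hdeg : ξ₁ 1 = ((K.subgroupOf (Subgroup.normalizer (K : Set G))).index : ℂ))
    {u₀ : G} (hu : u₀ ∈ K) (hu1 : u₀ ≠ 1) : m = 0 := by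
  classical
  have hB := bessel_rho c m hm hξ₁ hdeg u₀ hu hu1
  have hL := sum_nonexc_ge c d hu hu1
  have hX := sum_xi_eq c m hξ₁ hdeg
  rw [card_subgroupOf_normalizer, d.cardK, d.idx] at hX
  rw [d.idx] at hB
  have he0 : (0 : ℝ) < (e : ℝ) := by
    have h1 : (K.subgroupOf (Subgroup.normalizer (K : Set G))).index ≠ 0 := Subgroup.index_ne_zero_of_finite
    rw [d.idx] at h1
    exact_mod_cast Nat.pos_of_ne_zero h1
  have hX' : (∑ ξ : JJ S, Complex.normSq ((m : ℂ) * (ξ.1 : ↥(Subgroup.normalizer (K : Set G)) → ℂ) 1 / (e : ℂ) -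
      (if (ξ.1 : ↥(Subgroup.normalizer (K : Set G)) → ℂ) = ξ₁ then 1 else 0)) : ℝ) =
      (m : ℝ) ^ 2 * ((h : ℝ) - 1) / (e : ℝ) - 2 * (m : ℝ) + 1 := by
    apply Complex.ofReal_injective
    rw [hX]
    push_cast
    rfl
  rw [hX'] at hB
  have hlt := d.lt
  have hh : (2 * (e : ℝ) + 2) ≤ (h : ℝ) := by exact_mod_cast hlt
  have h1 : (m : ℝ) ^ 2 * ((h : ℝ) - 1) / (e : ℝ) ≤ 2 * (m : ℝ) := by linarith
  rw [div_le_iff₀ he0] at h1
  have h2 : (m : ℝ) ^ 2 * (2 * (e : ℝ) + 1) ≤ 2 * (m : ℝ) * (e : ℝ) := by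
    have h3 : (m : ℝ) ^ 2 * (2 * (e : ℝ) + 1) ≤ (m : ℝ) ^ 2 * ((h : ℝ) - 1) := by
      apply mul_le_mul_of_nonneg_left _ (sq_nonneg _)
      linarith
    linarith
  have h3 : m ^ 2 * (2 * (e : ℤ) + 1) ≤ 2 * m * (e : ℤ) := by exact_mod_cast h2
  have he0' : (0 : ℤ) < (e : ℤ) := by exact_mod_cast he0
  by_contra hm0
  rcases lt_or_gt_of_ne hm0 with h4 | h4
  · nlinarith [sq_nonneg m]
  · have h5 : m ≤ m ^ 2 := by nlinarith
    have h6 : m * (2 * (e : ℤ) + 1) ≤ m ^ 2 * (2 * (e : ℤ) + 1) :=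
      mul_le_mul_of_nonneg_right h5 (by positivity)
    nlinarith

end Cfsg.Agent.Lib.Helper3.ExcGen
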