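import Mathlib
import Cfsg.Agent.Lib.Helper3.FeitD

set_option autoImplicit false
set_option linter.style.haveILetI false
set_option linter.unusedSectionVars false

/-!
Feit's inequality, abstract form: the exceptional character `Λ = star ξ₁` restricts to `ξ₁`.
-/

namespace Cfsg.Agent.Lib.Helper3.ExcGen

open Cfsg Cfsg.Agent.Lib.Helper3 Cfsg.Agent.Lib.Helper78.CNChar
open scoped ComplexConjugate

variable {G : Type*} [Group G] [Fintype G] {K : Subgroup G}
  [Fintype ↥(Subgroup.normalizer (K : Set G))]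
  {S : Set (↥(Subgroup.normalizer (K : Set G)) → ℂ)}
  {star : (↥(Subgroup.normalizer (K : Set G)) → ℂ) → (G → ℂ)}
  {θ : G → ℂ} {h e : ℕ}

/-- `S` has at least two members. -/
theorem exists_two (c : CohCtx K S star) (d : FData K S θ h e) {ξ₁ : ↥(Subgroup.normalizer (K : Set G)) → ℂ} (hξ₁ : ξ₁ ∈ S)
    (hdeg : ξ₁ 1 = ((K.subgroupOf (Subgroup.normalizer (K : Set G))).index : ℂ)) : ∃ χ ∈ S, ∃ ξ ∈ S, χ ≠ ξ := by
  classical
  by_contra hcon
  push Not at hcon
  have hsum := sum_rel_deg_sq c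
  set j₁ : JJ S := ⟨⟨ξ₁, c.irr hξ₁⟩, hξ₁⟩ with hj₁
  have hall : ∀ ξ : JJ S, ξ = j₁ := fun ξ => Subtype.ext (Subtype.ext (hcon _ ξ.2 _ hξ₁))
  rw [Finset.sum_eq_single j₁ (fun b _ hb => absurd (hall b) hb)
    (fun h => absurd (Finset.mem_univ _) h)] at hsum
  have hsum' : ξ₁ 1 * conj (ξ₁ 1) =
      ((Nat.card ↥(K.subgroupOf (Subgroup.normalizer (K : Set G))) : ℂ) - 1) * ((K.subgroupOf (Subgroup.normalizer (K : Set G))).index : ℂ) := hsum
  rw [hdeg, Complex.conj_natCast, card_subgroupOf_normalizer, d.cardK, d.idx] at hsum'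
  have h1 : ((e * e + e : ℕ) : ℂ) = ((h * e : ℕ) : ℂ) := by
    push_cast
    linear_combination hsum'
  have h2 : e * e + e = h * e := by exact_mod_cast h1
  have he0 : 0 < e := by
    have h1 : (K.subgroupOf (Subgroup.normalizer (K : Set G))).index ≠ 0 := Subgroup.index_ne_zero_of_finite
    rw [d.idx] at h1
    exact Nat.pos_of_ne_zero h1
  have h3 : (e + 1) * e = h * e := by rw [← h2]; ring
  have h4 := Nat.eq_of_mul_eq_mul_right he0 h3
  have := d.lt
  omega

/-- When `m = 0`, `star ξ₁` is an irreducible character agreeing with `ξ₁` on `K`. -/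
theorem star_xi_irr (c : CohCtx K S star) (d : FData K S θ h e)
    (hstar_eq : ∀ χ ∈ S, ∀ k : ↥(Subgroup.normalizer (K : Set G)), (k : G) ∈ K → k ≠ 1 → star χ k = χ k)
    {ξ₁ : ↥(Subgroup.normalizer (K : Set G)) → ℂ} (hξ₁ : ξ₁ ∈ S) (hdeg : ξ₁ 1 = ((K.subgroupOf (Subgroup.normalizer (K : Set G))).index : ℂ)) :
    IsIrrCharacter G (star ξ₁) ∧ ∀ k : ↥(Subgroup.normalizer (K : Set G)), (k : G) ∈ K → star ξ₁ k = ξ₁ k := by
  classical
  obtain ⟨ε, μ, hε, hμ, hstar⟩ := c.star_signed hξ₁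
  have htwo := exists_two c d hξ₁ hdeg
  have hA : classInner (perm K) (fun x : ↥(Subgroup.normalizer (K : Set G)) => μ x) = 0 := by
    by_contra hA
    rcases A_const c d hμ hA with ⟨-, h0⟩ | h1
    · exact c.not_const_star htwo hξ₁ 0 (fun k hk hk1 => by
        rw [hstar, Pi.smul_apply, h0 k hk hk1, smul_zero])
    · exact c.not_const_star htwo hξ₁ ε (fun k hk hk1 => by
        rw [hstar, Pi.smul_apply, h1 k hk hk1, smul_eq_mul, mul_one])
  haveI : Fintype ↥(K.subgroupOf (Subgroup.normalizer (K : Set G))) := Fintype.ofFinite _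
  haveI : (K.subgroupOf (Subgroup.normalizer (K : Set G))).Normal := Subgroup.normal_in_normalizer
  have hsumμ : ∑ k : ↥(K.subgroupOf (Subgroup.normalizer (K : Set G))), μ ((k : ↥(Subgroup.normalizer (K : Set G))) : G) = 0 := by
    rw [classInner_perm_left K _ (restrict_isClassFunction
      (IsCharacter.isClassFunction (IsIrrCharacter.isCharacter hμ)))] at hA
    have hne : (Nat.card ↥(K.subgroupOf (Subgroup.normalizer (K : Set G))) : ℂ)⁻¹ ≠ 0 := by
      apply inv_ne_zero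
      have : 0 < Nat.card ↥(K.subgroupOf (Subgroup.normalizer (K : Set G))) := Nat.card_pos
      exact_mod_cast this.ne'
    have h1 := (mul_eq_zero.mp hA).resolve_left hne
    rw [← map_sum] at h1
    exact (map_eq_zero (starRingEnd ℂ)).mp h1
  have hsumstar : ∑ k : ↥(K.subgroupOf (Subgroup.normalizer (K : Set G))), star ξ₁ ((k : ↥(Subgroup.normalizer (K : Set G))) : G) = 0 := by
    rw [hstar]
    simp only [Pi.smul_apply, smul_eq_mul]
    rw [← Finset.mul_sum, hsumμ, mul_zero]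
  have hsumξ : ∑ k : ↥(K.subgroupOf (Subgroup.normalizer (K : Set G))), ξ₁ (k : ↥(Subgroup.normalizer (K : Set G))) = 0 :=
    sum_eq_zero_of_relevant _ (c.irr hξ₁) (c.rel hξ₁)
  have hpt : ∀ k : ↥(K.subgroupOf (Subgroup.normalizer (K : Set G))), star ξ₁ ((k : ↥(Subgroup.normalizer (K : Set G))) : G) =
      ξ₁ (k : ↥(Subgroup.normalizer (K : Set G))) + (if k = 1 then star ξ₁ 1 - ξ₁ 1 else 0) := by
    intro k
    by_cases hk : k = 1
    · rw [if_pos hk, hk]
      simp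
    · rw [if_neg hk, add_zero]
      exact hstar_eq ξ₁ hξ₁ k (Subgroup.mem_subgroupOf.mp k.2) (fun h => hk (Subtype.ext h))
  rw [Finset.sum_congr rfl (fun k _ => hpt k), Finset.sum_add_distrib, hsumξ, zero_add,
    Finset.sum_ite_eq' Finset.univ (1 : ↥(K.subgroupOf (Subgroup.normalizer (K : Set G)))), if_pos (Finset.mem_univ _)] at hsumstar
  have hstar1 : star ξ₁ 1 = ξ₁ 1 := sub_eq_zero.mp hsumstar
  obtain ⟨n, hn, hμ1⟩ := Cfsg.Agent.Lib.Helper25.irr_degree hμ
  have hε1 : ε = 1 := by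
    rcases hε with h' | h'
    · exact h'
    · exfalso
      rw [hstar, h', hdeg, Pi.smul_apply, hμ1] at hstar1
      have h2 : ((-(n : ℤ) : ℤ) : ℂ) = (((K.subgroupOf (Subgroup.normalizer (K : Set G))).index : ℤ) : ℂ) := by
        push_cast
        simpa using hstar1
      have h3 := Int.cast_injective h2
      omega
  refine ⟨by rw [hstar, hε1, one_smul]; exact hμ, ?_⟩
  intro k hk
  by_cases hk1 : k = 1
  · rw [hk1]
    simpa using hstar1
  · exact hstar_eq ξ₁ hξ₁ k hk hk1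

/-- An irreducible character of `G` agreeing with `ξ₁` on `K` restricts to `ξ₁` on `N`. -/
theorem restrict_eq (c : CohCtx K S star) {Λ : G → ℂ} (hΛ : IsIrrCharacter G Λ)
    {ξ₁ : ↥(Subgroup.normalizer (K : Set G)) → ℂ} (hξ₁ : ξ₁ ∈ S) (hK : ∀ k : ↥(Subgroup.normalizer (K : Set G)), (k : G) ∈ K → Λ k = ξ₁ k) :
    (fun x : ↥(Subgroup.normalizer (K : Set G)) => Λ x) = ξ₁ := by
  classical
  haveI : Fintype (IrrCharacter ↥(Subgroup.normalizer (K : Set G))) := Fintype.ofFinite _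
  have hres := IsCharacter.restrict (IsIrrCharacter.isCharacter hΛ)
    (Subgroup.normalizer (K : Set G))
  obtain ⟨n, hn, hsum⟩ := IsCharacter.exists_mult hres
  set j₁ : IrrCharacter ↥(Subgroup.normalizer (K : Set G)) := ⟨ξ₁, c.irr hξ₁⟩ with hj₁
  have hin : classInner (fun x : ↥(Subgroup.normalizer (K : Set G)) => Λ x) ξ₁ = 1 := by
    have h1 : classInner (fun x : ↥(Subgroup.normalizer (K : Set G)) => Λ x) ξ₁ = classInner ξ₁ ξ₁ := by
      unfold classInner
      congr 1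
      apply Finset.sum_congr rfl
      intro x _
      show Λ (x : G) * conj (ξ₁ x) = ξ₁ x * conj (ξ₁ x)
      by_cases hx : (x : G) ∈ K
      · rw [hK x hx]
      · rw [c.vanish hξ₁ x hx, map_zero, mul_zero, mul_zero]
    rw [h1, classInner_irr (c.irr hξ₁) (c.irr hξ₁), if_pos rfl]
  have hn1 : n j₁ = 1 := by
    have h1 := hn j₁
    rw [hin] at h1
    exact_mod_cast h1.symm
  have hdegs : ∀ ψ : IrrCharacter ↥(Subgroup.normalizer (K : Set G)), ∃ t : ℕ, 0 < t ∧ (ψ : ↥(Subgroup.normalizer (K : Set G)) → ℂ) 1 = (t : ℂ) :=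
    fun ψ => Cfsg.Agent.Lib.Helper25.irr_degree ψ.2
  choose dg hdg0 hdg using hdegs
  have h1 : (fun x : ↥(Subgroup.normalizer (K : Set G)) => Λ x) 1 = ∑ ψ : IrrCharacter ↥(Subgroup.normalizer (K : Set G)), (n ψ : ℂ) * (ψ : ↥(Subgroup.normalizer (K : Set G)) → ℂ) 1 := by
    conv_lhs => rw [hsum]
    simp [Finset.sum_apply]
  have hΛ1 : (fun x : ↥(Subgroup.normalizer (K : Set G)) => Λ x) 1 = ξ₁ 1 := by
    have := hK 1 (by simp)
    simpa using this
  have hnat : dg j₁ = ∑ ψ : IrrCharacter ↥(Subgroup.normalizer (K : Set G)), n ψ * dg ψ := by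
    have h2 : ((dg j₁ : ℕ) : ℂ) = ((∑ ψ : IrrCharacter ↥(Subgroup.normalizer (K : Set G)), n ψ * dg ψ : ℕ) : ℂ) := by
      push_cast
      rw [← hdg j₁]
      show ξ₁ 1 = _
      rw [← hΛ1, h1]
      apply Finset.sum_congr rfl
      intro ψ _
      rw [hdg ψ]
    exact_mod_cast h2
  have hzero : ∀ ψ : IrrCharacter ↥(Subgroup.normalizer (K : Set G)), ψ ≠ j₁ → n ψ = 0 := by
    intro ψ hψ
    have hsplit := Finset.add_sum_erase Finset.univ (fun ψ : IrrCharacter ↥(Subgroup.normalizer (K : Set G)) => n ψ * dg ψ)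
      (Finset.mem_univ j₁)
    rw [← hnat, hn1, one_mul] at hsplit
    have h0 : ∑ ψ ∈ Finset.univ.erase j₁, n ψ * dg ψ = 0 := by omega
    have h3 := (Finset.sum_eq_zero_iff.mp h0) ψ (Finset.mem_erase.mpr ⟨hψ, Finset.mem_univ _⟩)
    rcases Nat.mul_eq_zero.mp h3 with h' | h'
    · exact h'
    · exact absurd h' (hdg0 ψ).ne'
  rw [hsum, Finset.sum_eq_single j₁ (fun ψ _ hψ => by rw [hzero ψ hψ]; simp)
    (fun h => absurd (Finset.mem_univ _) h), hn1]
  simp [hj₁]

end Cfsg.Agent.Lib.Helper3.ExcGen
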