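import Mathlib
import Cfsg.Agent.Lib.Helper3.FeitE

set_option autoImplicit false
set_option linter.style.haveILetI false
set_option linter.unusedSectionVars false

/-!
Feit's inequality, abstract form: the final contradiction from `Λ * conj Λ`.
-/

namespace Cfsg.Agent.Lib.Helper3.ExcGen

open Cfsg Cfsg.Agent.Lib.Helper3 Cfsg.Agent.Lib.Helper78.CNChar
open scoped ComplexConjugate

variable {G : Type*} [Group G] [Fintype G] {K : Subgroup G}
  [Fintype ↥(Subgroup.normalizer (K : Set G))]
  {S : Set (↥(Subgroup.normalizer (K : Set G)) → ℂ)}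
  {star : (↥(Subgroup.normalizer (K : Set G)) → ℂ) → (G → ℂ)}
  {θ : G → ℂ} {h e : ℕ}

omit [Fintype ↥(Subgroup.normalizer (K : Set G))] in
theorem indFun_at_one (N : Subgroup G) (ϑ : N → ℂ) :
    indFun N ϑ 1 = (N.index : ℂ) * ϑ 1 := by
  rw [Cfsg.Agent.Lib.Helper25.indFun_apply]
  have h1 : ∀ x : G, extendByZero N ϑ (x⁻¹ * 1 * x) = ϑ 1 := by
    intro x
    have hmem : x⁻¹ * 1 * x ∈ N := by simp
    rw [Cfsg.Agent.Lib.Helper25.extendByZero_of_mem N ϑ hmem]
    congr 1
    apply Subtype.ext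
    simp
  rw [Finset.sum_congr rfl (fun x _ => h1 x), Finset.sum_const, Finset.card_univ,
    ← Nat.card_eq_fintype_card, nsmul_eq_mul, ← Subgroup.card_mul_index N]
  have hN : (Nat.card N : ℂ) ≠ 0 := by exact_mod_cast Nat.card_pos.ne'
  push_cast
  field_simp

/-- `⟨Λ conj Λ, ind μ⟩ = 1` for the linear characters `μ` of `N / K`. -/
theorem classInner_sq_ind (c : CohCtx K S star) (d : FData K S θ h e) {Λ : G → ℂ}
    (hΛ : IsIrrCharacter G Λ) {ξ₁ : ↥(Subgroup.normalizer (K : Set G)) → ℂ} (hξ₁ : ξ₁ ∈ S)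
    (hres : (fun x : ↥(Subgroup.normalizer (K : Set G)) => Λ x) = ξ₁) {μ : ↥(Subgroup.normalizer (K : Set G)) → ℂ} (hμ : IsIrrCharacter ↥(Subgroup.normalizer (K : Set G)) μ) (hS : μ ∉ S) :
    classInner (Λ * fun g => conj (Λ g)) (indFun (Subgroup.normalizer (K : Set G)) μ) = 1 := by
  have hΛc := IsIrrCharacter.isCharacter hΛ
  have hcl : IsClassFunction G (Λ * fun g => conj (Λ g)) :=
    IsCharacter.isClassFunction (IsCharacter.mul hΛc (IsCharacter.conj hΛc))
  rw [Cfsg.Agent.Lib.Helper25.frobenius_reciprocity' _ _ _ hcl]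
  have h1 : classInner (fun x : ↥(Subgroup.normalizer (K : Set G)) => (Λ * fun g => conj (Λ g)) x) μ = classInner ξ₁ ξ₁ := by
    unfold classInner
    congr 1
    apply Finset.sum_congr rfl
    intro x _
    have hx' : Λ (x : G) = ξ₁ x := congrFun hres x
    show Λ (x : G) * conj (Λ (x : G)) * conj (μ x) = ξ₁ x * conj (ξ₁ x)
    rw [hx']
    by_cases hx : (x : G) ∈ K
    · rw [nonrel_apply c d.comm hμ hS x hx, map_one, mul_one]
    · rw [c.vanish hξ₁ x hx, zero_mul, zero_mul]
  rw [h1, classInner_irr (c.irr hξ₁) (c.irr hξ₁), if_pos rfl]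

/-- `⟨Λ conj Λ, 1⟩ = 1`. -/
theorem classInner_sq_one {Λ : G → ℂ} (hΛ : IsIrrCharacter G Λ) :
    classInner (Λ * fun g => conj (Λ g)) (fun _ : G => (1 : ℂ)) = 1 := by
  have h1 : classInner (Λ * fun g => conj (Λ g)) (fun _ : G => (1 : ℂ)) = classInner Λ Λ := by
    unfold classInner
    congr 1
    apply Finset.sum_congr rfl
    intro x _
    show Λ x * conj (Λ x) * conj (1 : ℂ) = Λ x * conj (Λ x)
    rw [map_one, mul_one]
  rw [h1, classInner_irr hΛ hΛ, if_pos rfl]

/-- The inner product of `(1_K)^N` with the restriction of `ind μ₀` is `2`. -/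
theorem classInner_perm_ind (c : CohCtx K S star) (d : FData K S θ h e)
    {μ : ↥(Subgroup.normalizer (K : Set G)) → ℂ} (hμ : IsIrrCharacter ↥(Subgroup.normalizer (K : Set G)) μ) (hS : μ ∉ S) (h1 : μ ≠ fun _ => 1) :
    classInner (perm K) (fun x : ↥(Subgroup.normalizer (K : Set G)) => indFun (Subgroup.normalizer (K : Set G)) μ x) = 2 := by
  have hind := d.ind_lin μ hμ (nonrel_linear c d.comm hμ hS)
    (fun u hu => nonrel_apply c d.comm hμ hS u hu) h1
  have hcl := restrict_isClassFunction (K := K)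
    (IsCharacter.isClassFunction (IsIrrCharacter.isCharacter hind.1))
  have hform := classInner_perm_const (K := K)
    (fun x : ↥(Subgroup.normalizer (K : Set G)) => indFun (Subgroup.normalizer (K : Set G)) μ x) hcl 1
    (fun x hx hx1 => hind.2 x hx (fun h' => hx1 (Subtype.ext h')))
  have hone : indFun (Subgroup.normalizer (K : Set G)) μ ((1 : ↥(Subgroup.normalizer (K : Set G))) : G) =
      ((h : ℂ) + 1) := by
    rw [Subgroup.coe_one, indFun_at_one, d.idxG,
      nonrel_linear c d.comm hμ hS]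
    push_cast
    ring
  have hform' : (Nat.card K : ℂ) * classInner (perm K)
      (fun x : ↥(Subgroup.normalizer (K : Set G)) => indFun (Subgroup.normalizer (K : Set G)) μ x) =
      conj (indFun (Subgroup.normalizer (K : Set G)) μ ((1 : ↥(Subgroup.normalizer (K : Set G))) : G)) +
        ((Nat.card K : ℂ) - 1) * conj (1 : ℂ) := hform
  rw [hone, d.cardK] at hform'
  have hh0 : (h : ℂ) ≠ 0 := by
    have := d.lt
    have h2 : h ≠ 0 := by omega
    exact_mod_cast h2
  have h3 : (h : ℂ) * classInner (perm K)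
      (fun x : ↥(Subgroup.normalizer (K : Set G)) => indFun (Subgroup.normalizer (K : Set G)) μ x) = (h : ℂ) * 2 := by
    rw [hform']
    simp only [map_add, map_one, Complex.conj_natCast]
    ring
  exact mul_left_cancel₀ hh0 h3

end Cfsg.Agent.Lib.Helper3.ExcGen
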