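import Mathlib
import Cfsg.Agent.Lib.Helper3.FeitF

set_option autoImplicit false
set_option linter.style.haveILetI false
set_option linter.unusedSectionVars false

/-!
Feit's inequality, abstract form: counting the constituents of `Λ * conj Λ`.
-/

namespace Cfsg.Agent.Lib.Helper3.ExcGen

open Cfsg Cfsg.Agent.Lib.Helper3 Cfsg.Agent.Lib.Helper78.CNChar
open scoped ComplexConjugate

variable {G : Type*} [Group G] [Fintype G] {K : Subgroup G}
  [Fintype ↥(Subgroup.normalizer (K : Set G))]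
  {S : Set (↥(Subgroup.normalizer (K : Set G)) → ℂ)}
  {star : (↥(Subgroup.normalizer (K : Set G)) → ℂ) → (G → ℂ)}
  {θ : G → ℂ} {h e : ℕ}

/-- The number of irreducible characters of `N` trivial on `K` is `e`. -/
theorem card_nonrel [Fintype (IrrCharacter ↥(Subgroup.normalizer (K : Set G)))] (c : CohCtx K S star) (d : FData K S θ h e) :
    (open Classical in
      (Finset.univ.filter (fun ψ : IrrCharacter ↥(Subgroup.normalizer (K : Set G)) => (ψ : ↥(Subgroup.normalizer (K : Set G)) → ℂ) ∉ S)).card) = e := by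
  classical
  have h1 := congrFun (perm_eq_sum c d.comm) 1
  rw [perm_of_mem K (by simp), d.idx, Finset.sum_apply] at h1
  have h2 : ∀ ψ : IrrCharacter ↥(Subgroup.normalizer (K : Set G)),
      (if (ψ : ↥(Subgroup.normalizer (K : Set G)) → ℂ) ∈ S then (0 : ↥(Subgroup.normalizer (K : Set G)) → ℂ) else (ψ : ↥(Subgroup.normalizer (K : Set G)) → ℂ)) 1 =
      if (ψ : ↥(Subgroup.normalizer (K : Set G)) → ℂ) ∉ S then (1 : ℂ) else 0 := by
    intro ψ
    by_cases hS : (ψ : ↥(Subgroup.normalizer (K : Set G)) → ℂ) ∈ S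
    · rw [if_pos hS, if_neg (not_not.mpr hS)]
      rfl
    · rw [if_neg hS, if_pos hS, nonrel_linear c d.comm ψ.2 hS]
  rw [Finset.sum_congr rfl (fun ψ _ => h2 ψ), Finset.sum_boole] at h1
  exact_mod_cast h1.symm

/-- At most two linear characters of `N / K` induce the same character of `G`. -/
theorem fiber_le_two [Fintype (IrrCharacter ↥(Subgroup.normalizer (K : Set G)))] (c : CohCtx K S star) (d : FData K S θ h e)
    {μ : ↥(Subgroup.normalizer (K : Set G)) → ℂ} (hμ : IsIrrCharacter ↥(Subgroup.normalizer (K : Set G)) μ) (hS : μ ∉ S) (h1 : μ ≠ fun _ => 1)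
    (T : Finset (IrrCharacter ↥(Subgroup.normalizer (K : Set G))))
    (hT : ∀ ψ ∈ T, (ψ : ↥(Subgroup.normalizer (K : Set G)) → ℂ) ∉ S ∧
      indFun (Subgroup.normalizer (K : Set G)) (ψ : ↥(Subgroup.normalizer (K : Set G)) → ℂ) =
        indFun (Subgroup.normalizer (K : Set G)) μ) : T.card ≤ 2 := by
  classical
  have hind := d.ind_lin μ hμ (nonrel_linear c d.comm hμ hS)
    (fun u hu => nonrel_apply c d.comm hμ hS u hu) h1
  have hX := classInner_perm_ind c d hμ hS h1
  rw [classInner_perm_eq_sum c d.comm] at hX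
  have hXcl := IsCharacter.isClassFunction (IsIrrCharacter.isCharacter hind.1)
  have hXres := IsCharacter.restrict (IsIrrCharacter.isCharacter hind.1)
    (Subgroup.normalizer (K : Set G))
  have hnat : ∀ ψ : IrrCharacter ↥(Subgroup.normalizer (K : Set G)), ∃ t : ℕ,
      (if (ψ : ↥(Subgroup.normalizer (K : Set G)) → ℂ) ∈ S then 0 else classInner (ψ : ↥(Subgroup.normalizer (K : Set G)) → ℂ)
        (fun x : ↥(Subgroup.normalizer (K : Set G)) => indFun (Subgroup.normalizer (K : Set G)) μ x)) = (t : ℂ) := by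
    intro ψ
    by_cases hψ : (ψ : ↥(Subgroup.normalizer (K : Set G)) → ℂ) ∈ S
    · exact ⟨0, by rw [if_pos hψ]; simp⟩
    · rw [if_neg hψ]
      exact Cfsg.Agent.Lib.Helper25.classInner_char_nat (IsIrrCharacter.isCharacter ψ.2) hXres
  choose t ht using hnat
  rw [Finset.sum_congr rfl (fun ψ _ => ht ψ)] at hX
  have hsum : ∑ ψ : IrrCharacter ↥(Subgroup.normalizer (K : Set G)), t ψ = 2 := by
    exact_mod_cast hX
  have hone : ∀ ψ ∈ T, t ψ = 1 := by
    intro ψ hψ
    obtain ⟨hψS, hψind⟩ := hT ψ hψ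
    have h2 := ht ψ
    rw [if_neg hψS, ← Cfsg.Agent.Lib.Helper25.frobenius_reciprocity _ _ _ hXcl, hψind,
      classInner_irr hind.1 hind.1, if_pos rfl] at h2
    exact_mod_cast h2.symm
  calc T.card = ∑ ψ ∈ T, 1 := by simp
    _ = ∑ ψ ∈ T, t ψ := Finset.sum_congr rfl (fun ψ hψ => (hone ψ hψ).symm)
    _ ≤ ∑ ψ : IrrCharacter ↥(Subgroup.normalizer (K : Set G)), t ψ :=
      Finset.sum_le_sum_of_subset (Finset.subset_univ T)
    _ = 2 := hsum

end Cfsg.Agent.Lib.Helper3.ExcGen
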