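import Mathlib
import Cfsg.Agent.Lib.Helper3.FeitG

set_option autoImplicit false
set_option linter.style.haveILetI false
set_option linter.unusedSectionVars false

/-!
Feit's inequality, abstract form: the final theorem.
-/

namespace Cfsg.Agent.Lib.Helper3.ExcGen

open Cfsg Cfsg.Agent.Lib.Helper3 Cfsg.Agent.Lib.Helper78.CNChar
open scoped ComplexConjugate

variable {G : Type*} [Group G] [Fintype G] {K : Subgroup G}
  [Fintype ↥(Subgroup.normalizer (K : Set G))]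
  {S : Set (↥(Subgroup.normalizer (K : Set G)) → ℂ)}
  {star : (↥(Subgroup.normalizer (K : Set G)) → ℂ) → (G → ℂ)}
  {θ : G → ℂ} {h e : ℕ}

set_option maxHeartbeats 1600000 in
/-- **Feit's inequality**, abstract form: the data `FData` is incompatible with coherence. -/
theorem feit_abstract (c : CohCtx K S star) (d : FData K S θ h e) {ξ₁ : ↥(Subgroup.normalizer (K : Set G)) → ℂ} (hξ₁ : ξ₁ ∈ S)
    (hdeg : ξ₁ 1 = ((K.subgroupOf (Subgroup.normalizer (K : Set G))).index : ℂ)) {u₀ : G} (hu : u₀ ∈ K) (hu1 : u₀ ≠ 1) : False := by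
  classical
  haveI : Fintype (IrrCharacter ↥(Subgroup.normalizer (K : Set G))) := Fintype.ofFinite _
  haveI : Fintype (IrrCharacter G) := Fintype.ofFinite _
  obtain ⟨m, hm⟩ := c.exists_m
  have hm0 := m_eq_zero c d m hm hξ₁ hdeg hu hu1
  have hstar_eq : ∀ χ ∈ S, ∀ k : ↥(Subgroup.normalizer (K : Set G)), (k : G) ∈ K → k ≠ 1 → star χ k = χ k := by
    intro χ hχ k hk hk1
    have h1 := hm χ hχ k hk hk1
    rw [hm0] at h1
    simp only [Int.cast_zero, zero_mul, zero_div] at h1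
    exact sub_eq_zero.mp h1
  obtain ⟨hΛ, hΛK⟩ := star_xi_irr c d hstar_eq hξ₁ hdeg
  have hres := restrict_eq c hΛ hξ₁ hΛK
  have hΛc := IsIrrCharacter.isCharacter hΛ
  have hΨ : IsCharacter G (star ξ₁ * fun g => conj (star ξ₁ g)) :=
    IsCharacter.mul hΛc (IsCharacter.conj hΛc)
  obtain ⟨a, ha, hΨsum⟩ := IsCharacter.exists_mult hΨ
  have hdegs : ∀ χ : IrrCharacter G, ∃ t : ℕ, 0 < t ∧ (χ : G → ℂ) 1 = (t : ℂ) :=
    fun χ => Cfsg.Agent.Lib.Helper25.irr_degree χ.2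
  choose dg hdg0 hdg using hdegs
  have hΛ1 : star ξ₁ 1 = (e : ℂ) := by
    have h1 := congrFun hres 1
    rw [hdeg, d.idx] at h1
    simpa using h1
  have hΨ1 : ((e * e : ℕ) : ℂ) = ((∑ χ : IrrCharacter G, a χ * dg χ : ℕ) : ℂ) := by
    have h1 := congrFun hΨsum 1
    rw [Finset.sum_apply] at h1
    simp only [Pi.mul_apply, Pi.smul_apply, smul_eq_mul] at h1
    rw [hΛ1, Complex.conj_natCast] at h1
    push_cast
    rw [h1]
    apply Finset.sum_congr rfl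
    intro χ _
    rw [hdg χ]
  have hΨ1' : e * e = ∑ χ : IrrCharacter G, a χ * dg χ := by exact_mod_cast hΨ1
  set jN1 : IrrCharacter ↥(Subgroup.normalizer (K : Set G)) := ⟨fun _ => 1, isIrrCharacter_const_one⟩ with hjN1def
  set jG1 : IrrCharacter G := ⟨fun _ => 1, isIrrCharacter_const_one⟩ with hjG1def
  have hjN1 : (jN1 : ↥(Subgroup.normalizer (K : Set G)) → ℂ) ∉ S := fun hmem => mem_ne_one c hmem rfl
  set 𝓛 := (Finset.univ.filter (fun ψ : IrrCharacter ↥(Subgroup.normalizer (K : Set G)) => (ψ : ↥(Subgroup.normalizer (K : Set G)) → ℂ) ∉ S)).erase jN1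
    with h𝓛def
  have hjmem : jN1 ∈ Finset.univ.filter (fun ψ : IrrCharacter ↥(Subgroup.normalizer (K : Set G)) => (ψ : ↥(Subgroup.normalizer (K : Set G)) → ℂ) ∉ S) :=
    Finset.mem_filter.mpr ⟨Finset.mem_univ _, hjN1⟩
  have h𝓛card : 𝓛.card + 1 = e := by
    rw [h𝓛def, Finset.card_erase_of_mem hjmem]
    have h1 := card_nonrel c d
    have h2 : (Finset.univ.filter (fun ψ : IrrCharacter ↥(Subgroup.normalizer (K : Set G)) => (ψ : ↥(Subgroup.normalizer (K : Set G)) → ℂ) ∉ S)).card = e := by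
      convert h1 using 2
    have h3 : 0 < (Finset.univ.filter (fun ψ : IrrCharacter ↥(Subgroup.normalizer (K : Set G)) => (ψ : ↥(Subgroup.normalizer (K : Set G)) → ℂ) ∉ S)).card :=
      Finset.card_pos.mpr ⟨jN1, hjmem⟩
    omega
  have mem𝓛 : ∀ ψ ∈ 𝓛, (ψ : ↥(Subgroup.normalizer (K : Set G)) → ℂ) ∉ S ∧ (ψ : ↥(Subgroup.normalizer (K : Set G)) → ℂ) ≠ fun _ => 1 := by
    intro ψ hψ
    obtain ⟨hne, hf⟩ := Finset.mem_erase.mp hψ
    refine ⟨(Finset.mem_filter.mp hf).2, ?_⟩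
    intro h1
    exact hne (Subtype.ext h1)
  have hirr : ∀ ψ ∈ 𝓛,
      IsIrrCharacter G (indFun (Subgroup.normalizer (K : Set G)) (ψ : ↥(Subgroup.normalizer (K : Set G)) → ℂ)) := by
    intro ψ hψ
    exact (d.ind_lin ψ ψ.2 (nonrel_linear c d.comm ψ.2 (mem𝓛 ψ hψ).1)
      (fun u hu => nonrel_apply c d.comm ψ.2 (mem𝓛 ψ hψ).1 u hu) (mem𝓛 ψ hψ).2).1
  let f : IrrCharacter ↥(Subgroup.normalizer (K : Set G)) → IrrCharacter G := fun ψ =>
    if hi : IsIrrCharacter G (indFun (Subgroup.normalizer (K : Set G)) (ψ : ↥(Subgroup.normalizer (K : Set G)) → ℂ)) then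
      ⟨indFun (Subgroup.normalizer (K : Set G)) (ψ : ↥(Subgroup.normalizer (K : Set G)) → ℂ), hi⟩ else jG1
  have hf : ∀ ψ ∈ 𝓛, (f ψ : G → ℂ) =
      indFun (Subgroup.normalizer (K : Set G)) (ψ : ↥(Subgroup.normalizer (K : Set G)) → ℂ) := by
    intro ψ hψ
    simp only [f]
    rw [dif_pos (hirr ψ hψ)]
  have hfiber : ∀ χ ∈ 𝓛.image f, (𝓛.filter (fun ψ => f ψ = χ)).card ≤ 2 := by
    intro χ hχ
    obtain ⟨μ₀, hμ₀, rfl⟩ := Finset.mem_image.mp hχ
    apply fiber_le_two c d μ₀.2 (mem𝓛 μ₀ hμ₀).1 (mem𝓛 μ₀ hμ₀).2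
    intro ψ hψ
    obtain ⟨hψ𝓛, hψf⟩ := Finset.mem_filter.mp hψ
    refine ⟨(mem𝓛 ψ hψ𝓛).1, ?_⟩
    rw [← hf ψ hψ𝓛, ← hf μ₀ hμ₀, hψf]
  have hcard𝓛 : 𝓛.card ≤ 2 * (𝓛.image f).card := Finset.card_le_mul_card_image 𝓛 2 hfiber
  have h𝒟deg : ∀ χ ∈ 𝓛.image f, a χ = 1 ∧ dg χ = h + 1 := by
    intro χ hχ
    obtain ⟨μ₀, hμ₀, rfl⟩ := Finset.mem_image.mp hχ
    constructor
    · have h1 := ha (f μ₀)
      rw [hf μ₀ hμ₀, classInner_sq_ind c d hΛ hξ₁ hres μ₀.2 (mem𝓛 μ₀ hμ₀).1] at h1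
      exact_mod_cast h1.symm
    · have h1 := hdg (f μ₀)
      rw [hf μ₀ hμ₀, indFun_at_one, d.idxG, nonrel_linear c d.comm μ₀.2 (mem𝓛 _ hμ₀).1] at h1
      have h2 : ((h + 1 : ℕ) : ℂ) = (dg (f μ₀) : ℂ) := by
        rw [← h1]
        simp
      exact_mod_cast h2.symm
  have hdg1 : dg jG1 = 1 := by
    have h2 := hdg jG1
    have h3 : ((1 : ℕ) : ℂ) = (dg jG1 : ℂ) := by
      rw [← h2]
      simp [hjG1def]
    exact_mod_cast h3.symm
  have hjG1 : jG1 ∉ 𝓛.image f := by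
    intro hmem
    have h1 := (h𝒟deg jG1 hmem).2
    have := d.lt
    omega
  have ha1 : a jG1 = 1 := by
    have h1 := ha jG1
    have h2 : classInner (star ξ₁ * fun g => conj (star ξ₁ g)) (jG1 : G → ℂ) = 1 :=
      classInner_sq_one hΛ
    rw [h2] at h1
    exact_mod_cast h1.symm
  have hlow : 1 + (𝓛.image f).card * (h + 1) ≤ e * e := by
    rw [hΨ1']
    calc 1 + (𝓛.image f).card * (h + 1) = ∑ χ ∈ insert jG1 (𝓛.image f), a χ * dg χ := by
          rw [Finset.sum_insert hjG1, ha1, hdg1, Finset.sum_congr rfl (fun χ hχ => by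
            rw [(h𝒟deg χ hχ).1, (h𝒟deg χ hχ).2]), Finset.sum_const, smul_eq_mul]
          ring
      _ ≤ ∑ χ : IrrCharacter G, a χ * dg χ :=
          Finset.sum_le_sum_of_subset (Finset.subset_univ _)
  have he2 : 2 ≤ e := by
    have h0 : (K.subgroupOf (Subgroup.normalizer (K : Set G))).index ≠ 0 := Subgroup.index_ne_zero_of_finite
    have h1 : (K.subgroupOf (Subgroup.normalizer (K : Set G))).index ≠ 1 := by
      intro h1
      rw [Subgroup.index_eq_one, Subgroup.subgroupOf_eq_top] at h1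
      exact c.hlt.not_ge h1
    rw [d.idx] at h0 h1
    omega
  have hlt := d.lt
  have h5 : 𝓛.card * (2 * 𝓛.card + 5) ≤ 2 * (𝓛.image f).card * (h + 1) :=
    Nat.mul_le_mul hcard𝓛 (by omega)
  have h6 : e = 𝓛.card + 1 := h𝓛card.symm
  rw [h6] at hlow he2
  nlinarith

end Cfsg.Agent.Lib.Helper3.ExcGen
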