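import Mathlib
import Cfsg.Prelude.Def_OddOrderChar
import Cfsg.Agent.Lib.Helper3.TIFN
import Cfsg.Agent.Lib.Helper25.NormTwo
import Cfsg.Agent.Lib.Helper79.Ito
import Cfsg.Agent.Lib.Helper3.Brauer

set_option autoImplicit false
set_option linter.style.haveILetI false

/-!
Abelian T.I. subgroups with Frobenius normalizer (Isaacs, Theorem 7.16): coherence of the relevant
characters.
-/

namespace Cfsg.Agent.Lib.Helper3

open Cfsg
open scoped ComplexConjugate

theorem irrCharacter_inner {G : Type*} [Group G] [Fintype G] (x y : IrrCharacter G) :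
    classInner (x : G → ℂ) (y : G → ℂ) = if x = y then 1 else 0 := by
  rw [classInner_irr x.2 y.2]
  by_cases h : x = y
  · rw [if_pos h, if_pos (congrArg Subtype.val h)]
  · rw [if_neg h, if_neg (fun h' => h (Subtype.ext h'))]

open Classical in
/-- The combinatorial core of coherence for a family of differences: if the `D χ ξ` are additive
generalized characters vanishing at `1` with the inner products of the differences of an
orthonormal family, then they are (up to one sign) differences of irreducible characters. -/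
theorem coherent_of_differences {G : Type*} [Group G] [Fintype G] {R : Type*}
    (D : R → R → (G → ℂ))
    (hadd : ∀ χ ξ η, D χ ξ + D ξ η = D χ η)
    (hgc : ∀ χ ξ, IsGeneralizedCharacter G (D χ ξ))
    (hone : ∀ χ ξ, D χ ξ 1 = 0)
    (hinner : ∀ χ ξ η, χ ≠ ξ → χ ≠ η →
      classInner (D χ ξ) (D χ η) = if ξ = η then 2 else 1) :
    ∃ (ε : ℂ) (f : R → IrrCharacter G), (ε = 1 ∨ ε = -1) ∧ Function.Injective f ∧
      ∀ χ ξ, D χ ξ = ε • ((f χ : G → ℂ) - (f ξ : G → ℂ)) := by
  classical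
  haveI : Nonempty (IrrCharacter G) := ⟨⟨fun _ => 1, isIrrCharacter_const_one⟩⟩
  have hself : ∀ χ, D χ χ = 0 := by
    intro χ
    have := hadd χ χ χ
    exact add_eq_left.mp this
  -- injectivity is automatic
  have hinj : ∀ (ε : ℂ) (f : R → IrrCharacter G),
      (∀ χ ξ, D χ ξ = ε • ((f χ : G → ℂ) - (f ξ : G → ℂ))) → Function.Injective f := by
    intro ε f hD χ ξ hfe
    by_contra hne
    have h := hinner χ ξ ξ hne hne
    rw [if_pos rfl, hD χ ξ, hfe, sub_self, smul_zero,
      Cfsg.Agent.Lib.Helper25.classInner_zero_left] at h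
    norm_num at h
  by_cases hex : ∃ χ₁ χ₂ : R, χ₁ ≠ χ₂
  swap
  · push Not at hex
    refine ⟨1, fun _ => Classical.arbitrary _, Or.inl rfl, fun χ ξ _ => hex χ ξ, ?_⟩
    intro χ ξ
    rw [hex χ ξ, hself]; simp
  obtain ⟨χ₁, χ₂, h12⟩ := hex
  have hdec : ∀ ξ, ξ ≠ χ₁ → ∃ a b : IrrCharacter G, a ≠ b ∧
      D χ₁ ξ = (a : G → ℂ) - (b : G → ℂ) := by
    intro ξ hξ
    have hn : classInner (D χ₁ ξ) (D χ₁ ξ) = 2 := by
      rw [hinner χ₁ ξ ξ hξ.symm hξ.symm, if_pos rfl]
    obtain ⟨μ₁, μ₂, h1, h2, hne, he⟩ :=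
      Cfsg.Agent.Lib.Helper25.genChar_norm_two (hgc χ₁ ξ) hn (hone χ₁ ξ)
    exact ⟨⟨μ₁, h1⟩, ⟨μ₂, h2⟩, fun h => hne (congrArg Subtype.val h), he⟩
  choose! a b hab using hdec
  have hP : ∀ ξ η, ξ ≠ χ₁ → η ≠ χ₁ → ξ ≠ η → a ξ = a η ∨ b ξ = b η := by
    intro ξ η hξ hη hne
    by_contra hcon
    push Not at hcon
    have h := hinner χ₁ ξ η hξ.symm hη.symm
    rw [if_neg hne, (hab ξ hξ).2, (hab η hη).2,
      Cfsg.Agent.Lib.Helper25.classInner_sub_left,
      Cfsg.Agent.Lib.Helper25.classInner_sub_right,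
      Cfsg.Agent.Lib.Helper25.classInner_sub_right,
      irrCharacter_inner, irrCharacter_inner, irrCharacter_inner, irrCharacter_inner,
      if_neg hcon.1, if_neg hcon.2] at h
    split_ifs at h <;> norm_num at h
  -- the differences from the base point
  have hbase : ∀ χ ξ, D χ ξ = D χ₁ ξ - D χ₁ χ := by
    intro χ ξ
    rw [← hadd χ₁ χ ξ]; abel
  by_cases hA : ∀ ξ, ξ ≠ χ₁ → a ξ = a χ₂
  · -- common positive part
    have hg : ∀ ξ, D χ₁ ξ = (a χ₂ : G → ℂ) -
        ((if ξ = χ₁ then a χ₂ else b ξ : IrrCharacter G) : G → ℂ) := by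
      intro ξ
      by_cases hξ : ξ = χ₁
      · rw [if_pos hξ, hξ, hself, sub_self]
      · rw [if_neg hξ, (hab ξ hξ).2, hA ξ hξ]
    have hD : ∀ χ ξ, D χ ξ = (1 : ℂ) • (((if χ = χ₁ then a χ₂ else b χ : IrrCharacter G) : G → ℂ) -
        ((if ξ = χ₁ then a χ₂ else b ξ : IrrCharacter G) : G → ℂ)) := by
      intro χ ξ
      rw [hbase, hg ξ, hg χ, one_smul]; abel
    exact ⟨1, fun ξ => if ξ = χ₁ then a χ₂ else b ξ, Or.inl rfl, hinj _ _ hD, hD⟩
  · -- common negative part
    push Not at hA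
    obtain ⟨j₁, hj₁, hj₁a⟩ := hA
    have hj₁2 : j₁ ≠ χ₂ := fun h => hj₁a (by rw [h])
    have hb1 : b j₁ = b χ₂ := (hP j₁ χ₂ hj₁ h12.symm hj₁2).resolve_left hj₁a
    have hB : ∀ ξ, ξ ≠ χ₁ → b ξ = b χ₂ := by
      intro l hl
      by_cases hl2 : l = χ₂
      · rw [hl2]
      by_cases hl1 : l = j₁
      · rw [hl1, hb1]
      rcases hP l χ₂ hl h12.symm hl2 with h | h
      · rcases hP l j₁ hl hj₁ hl1 with h' | h'
        · exact absurd (h'.symm.trans h) hj₁a
        · rw [h', hb1]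
      · exact h
    have hg : ∀ ξ, D χ₁ ξ =
        ((if ξ = χ₁ then b χ₂ else a ξ : IrrCharacter G) : G → ℂ) - (b χ₂ : G → ℂ) := by
      intro ξ
      by_cases hξ : ξ = χ₁
      · rw [if_pos hξ, hξ, hself, sub_self]
      · rw [if_neg hξ, (hab ξ hξ).2, hB ξ hξ]
    have hD : ∀ χ ξ, D χ ξ = (-1 : ℂ) • (((if χ = χ₁ then b χ₂ else a χ : IrrCharacter G) : G → ℂ) -
        ((if ξ = χ₁ then b χ₂ else a ξ : IrrCharacter G) : G → ℂ)) := by
      intro χ ξ
      rw [hbase, hg ξ, hg χ, neg_one_smul]; abel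
    exact ⟨-1, fun ξ => if ξ = χ₁ then b χ₂ else a ξ, Or.inr rfl, hinj _ _ hD, hD⟩

section ab

variable {G : Type*} [Group G] [Fintype G] (K : Subgroup G)

/-- When `K` is abelian, the relevant irreducible characters of the normalizer have degree
`|N : K|`. -/
theorem tifn_abelian_degree [Fintype ↥(Subgroup.normalizer (K : Set G))]
    (hC : ∀ k ∈ K, k ≠ 1 → Subgroup.centralizer ({k} : Set G) ≤ K)
    (hab : ∀ a ∈ K, ∀ b ∈ K, a * b = b * a)
    {χ : ↥(Subgroup.normalizer (K : Set G)) → ℂ}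
    (hχ : IsIrrCharacter ↥(Subgroup.normalizer (K : Set G)) χ)
    (hrel : ∃ k ∈ K.subgroupOf (Subgroup.normalizer (K : Set G)), χ k ≠ χ 1) :
    χ 1 = ((K.subgroupOf (Subgroup.normalizer (K : Set G))).index : ℂ) := by
  haveI : (K.subgroupOf (Subgroup.normalizer (K : Set G))).Normal := Subgroup.normal_in_normalizer
  haveI : Fintype ↥(K.subgroupOf (Subgroup.normalizer (K : Set G))) := Fintype.ofFinite _
  obtain ⟨f, hf⟩ := index_dvd_degree_of_relevant
    (K.subgroupOf (Subgroup.normalizer (K : Set G))) (tifn_hF K hC) hχ hrel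
  have hab' : ∀ a ∈ K.subgroupOf (Subgroup.normalizer (K : Set G)),
      ∀ b ∈ K.subgroupOf (Subgroup.normalizer (K : Set G)), a * b = b * a := by
    intro a ha b hb
    apply Subtype.ext
    exact hab a (Subgroup.mem_subgroupOf.mp ha) b (Subgroup.mem_subgroupOf.mp hb)
  have hdvd : (K.subgroupOf (Subgroup.normalizer (K : Set G))).index * f ∣
      (K.subgroupOf (Subgroup.normalizer (K : Set G))).index :=
    Cfsg.Agent.Lib.Helper79.ito_aux _ _ rfl
      (K.subgroupOf (Subgroup.normalizer (K : Set G))) hab' χ hχ _ hf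
  have hpos : 0 < (K.subgroupOf (Subgroup.normalizer (K : Set G))).index :=
    Nat.pos_of_ne_zero Subgroup.index_ne_zero_of_finite
  have hf1 : f = 1 := by
    have h1 : (K.subgroupOf (Subgroup.normalizer (K : Set G))).index * f ∣
        (K.subgroupOf (Subgroup.normalizer (K : Set G))).index * 1 := by simpa using hdvd
    exact Nat.dvd_one.mp (Nat.dvd_of_mul_dvd_mul_left hpos h1)
  rw [hf, hf1, mul_one]

/-- Isaacs (7.16)-type coherence for an abelian T.I. subgroup with Frobenius normalizer. -/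
theorem tifn_abelian_coherent
    (hTI : ∀ g : G, g ∉ Subgroup.normalizer (K : Set G) → ∀ k ∈ K, g * k * g⁻¹ ∈ K → k = 1)
    (hlt : K < Subgroup.normalizer (K : Set G))
    (hC : ∀ k ∈ K, k ≠ 1 → Subgroup.centralizer ({k} : Set G) ≤ K)
    (hab : ∀ a ∈ K, ∀ b ∈ K, a * b = b * a) :
    ∃ (ε : ℂ) (f : {χ : IrrCharacter (Subgroup.normalizer (K : Set G)) //
        ∃ k : Subgroup.normalizer (K : Set G), (k : G) ∈ K ∧
          (χ : ↥(Subgroup.normalizer (K : Set G)) → ℂ) k ≠
            (χ : ↥(Subgroup.normalizer (K : Set G)) → ℂ) 1} → IrrCharacter G),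
      (ε = 1 ∨ ε = -1) ∧ Function.Injective f ∧ ∀ χ ξ,
        indFun (Subgroup.normalizer (K : Set G))
          ((χ.1 : ↥(Subgroup.normalizer (K : Set G)) → ℂ) -
            (ξ.1 : ↥(Subgroup.normalizer (K : Set G)) → ℂ)) =
          ε • ((f χ : G → ℂ) - (f ξ : G → ℂ)) := by
  classical
  haveI : Fintype ↥(Subgroup.normalizer (K : Set G)) := Fintype.ofFinite _
  haveI : (K.subgroupOf (Subgroup.normalizer (K : Set G))).Normal := Subgroup.normal_in_normalizer
  haveI : Fintype ↥(K.subgroupOf (Subgroup.normalizer (K : Set G))) := Fintype.ofFinite _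
  have hrel : ∀ χ : {χ : IrrCharacter (Subgroup.normalizer (K : Set G)) //
        ∃ k : Subgroup.normalizer (K : Set G), (k : G) ∈ K ∧
          (χ : ↥(Subgroup.normalizer (K : Set G)) → ℂ) k ≠
            (χ : ↥(Subgroup.normalizer (K : Set G)) → ℂ) 1},
      ∃ k ∈ K.subgroupOf (Subgroup.normalizer (K : Set G)),
        (χ.1 : ↥(Subgroup.normalizer (K : Set G)) → ℂ) k ≠
          (χ.1 : ↥(Subgroup.normalizer (K : Set G)) → ℂ) 1 := by
    intro χ
    obtain ⟨k, hk, hne⟩ := χ.2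
    exact ⟨k, Subgroup.mem_subgroupOf.mpr hk, hne⟩
  have hdeg := fun χ : {χ : IrrCharacter (Subgroup.normalizer (K : Set G)) //
        ∃ k : Subgroup.normalizer (K : Set G), (k : G) ∈ K ∧
          (χ : ↥(Subgroup.normalizer (K : Set G)) → ℂ) k ≠
            (χ : ↥(Subgroup.normalizer (K : Set G)) → ℂ) 1} =>
    tifn_abelian_degree K hC hab χ.1.2 (hrel χ)
  have hvan : ∀ χ : {χ : IrrCharacter (Subgroup.normalizer (K : Set G)) //
        ∃ k : Subgroup.normalizer (K : Set G), (k : G) ∈ K ∧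
          (χ : ↥(Subgroup.normalizer (K : Set G)) → ℂ) k ≠
            (χ : ↥(Subgroup.normalizer (K : Set G)) → ℂ) 1},
      ∀ x : ↥(Subgroup.normalizer (K : Set G)), (x : G) ∉ K →
        (χ.1 : ↥(Subgroup.normalizer (K : Set G)) → ℂ) x = 0 := by
    intro χ x hx
    exact eq_zero_of_relevant_of_not_mem _ (tifn_hF K hC) χ.1.2 (hrel χ) x
      (fun h => hx (Subgroup.mem_subgroupOf.mp h))
  have hres : ∀ χ ξ : {χ : IrrCharacter (Subgroup.normalizer (K : Set G)) //
        ∃ k : Subgroup.normalizer (K : Set G), (k : G) ∈ K ∧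
          (χ : ↥(Subgroup.normalizer (K : Set G)) → ℂ) k ≠
            (χ : ↥(Subgroup.normalizer (K : Set G)) → ℂ) 1},
      ∀ x : ↥(Subgroup.normalizer (K : Set G)),
        indFun (Subgroup.normalizer (K : Set G))
          ((χ.1 : ↥(Subgroup.normalizer (K : Set G)) → ℂ) -
            (ξ.1 : ↥(Subgroup.normalizer (K : Set G)) → ℂ)) x =
        ((χ.1 : ↥(Subgroup.normalizer (K : Set G)) → ℂ) -
            (ξ.1 : ↥(Subgroup.normalizer (K : Set G)) → ℂ)) x := by
    intro χ ξ
    apply (Cfsg.Agent.S0850.result K hTI hlt hC).2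
    · intro g h
      simp only [Pi.sub_apply]
      rw [IsCharacter.isClassFunction (IsIrrCharacter.isCharacter χ.1.2) g h,
        IsCharacter.isClassFunction (IsIrrCharacter.isCharacter ξ.1.2) g h]
    · intro x hx
      simp only [Pi.sub_apply]
      rw [hvan χ x hx, hvan ξ x hx, sub_zero]
    · simp only [Pi.sub_apply]
      rw [hdeg χ, hdeg ξ, sub_self]
  apply coherent_of_differences (fun χ ξ : {χ : IrrCharacter (Subgroup.normalizer (K : Set G)) //
        ∃ k : Subgroup.normalizer (K : Set G), (k : G) ∈ K ∧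
          (χ : ↥(Subgroup.normalizer (K : Set G)) → ℂ) k ≠
            (χ : ↥(Subgroup.normalizer (K : Set G)) → ℂ) 1} =>
      indFun (Subgroup.normalizer (K : Set G))
          ((χ.1 : ↥(Subgroup.normalizer (K : Set G)) → ℂ) -
            (ξ.1 : ↥(Subgroup.normalizer (K : Set G)) → ℂ)))
  · intro χ ξ η
    show indFun _ _ + indFun _ _ = indFun _ _
    rw [← Cfsg.Agent.Lib.Helper25.indFun_add, sub_add_sub_cancel]
  · intro χ ξ
    exact IsGeneralizedCharacter.indFun _ ⟨_, _, IsIrrCharacter.isCharacter χ.1.2,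
      IsIrrCharacter.isCharacter ξ.1.2, rfl⟩
  · intro χ ξ
    have := hres χ ξ 1
    simp only [Pi.sub_apply, OneMemClass.coe_one] at this
    show indFun _ _ 1 = 0
    rw [this, hdeg χ, hdeg ξ, sub_self]
  · intro χ ξ η hξ hη
    show classInner (indFun _ _) (indFun _ _) = _
    rw [Cfsg.Agent.Lib.Helper25.frobenius_reciprocity' _ _ _
      (Cfsg.Agent.Lib.Helper25.indFun_isClassFunction _ _)]
    have e1 : (fun h : ↥(Subgroup.normalizer (K : Set G)) =>
        indFun (Subgroup.normalizer (K : Set G))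
          ((χ.1 : ↥(Subgroup.normalizer (K : Set G)) → ℂ) -
            (ξ.1 : ↥(Subgroup.normalizer (K : Set G)) → ℂ)) h) =
        ((χ.1 : ↥(Subgroup.normalizer (K : Set G)) → ℂ) -
            (ξ.1 : ↥(Subgroup.normalizer (K : Set G)) → ℂ)) := funext (hres χ ξ)
    rw [e1, Cfsg.Agent.Lib.Helper25.classInner_sub_left,
      Cfsg.Agent.Lib.Helper25.classInner_sub_right,
      Cfsg.Agent.Lib.Helper25.classInner_sub_right,
      irrCharacter_inner, irrCharacter_inner, irrCharacter_inner, irrCharacter_inner,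
      if_pos rfl, if_neg (fun h => hη (Subtype.ext h)), if_neg (fun h => hξ (Subtype.ext h).symm)]
    by_cases h : ξ = η
    · rw [if_pos h, if_pos (congrArg Subtype.val h)]; norm_num
    · rw [if_neg h, if_neg (fun h' => h (Subtype.ext h'))]; norm_num

end ab

end Cfsg.Agent.Lib.Helper3
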