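import Mathlib
import Cfsg.Agent.Lib.Helper25.FeitSibley
import Cfsg.Agent.Lib.Helper78.CNChar8
import Cfsg.Agent.S1519

set_option autoImplicit false
set_option linter.style.haveILetI false
set_option linter.unusedSectionVars false

/-!
Coherence input for Feit's inequality: the Feit–Sibley theorem with the non-abelian information
kept, and the existence of a relevant character of degree `e`.
-/

namespace Cfsg.Agent.Lib.Helper3.ZassFeit

open Cfsg Cfsg.Agent.Lib.Helper25 Cfsg.Agent.Lib.Helper78.CNChar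
open scoped commutatorElement

variable {G : Type*} [Group G] [Fintype G]

set_option maxHeartbeats 1000000 in
/-- The Feit–Sibley theorem, recording that the exceptional `2`-group is non-abelian. -/
theorem master' (K L : Subgroup G) [Fintype L]
    (hN : Subgroup.normalizer (K : Set G) = L) (hK1 : K ≠ ⊥)
    (hTI : IsTISubset (K : Set G)) (hlt : K < L)
    (hC : ∀ k ∈ K, k ≠ 1 → Subgroup.centralizer ({k} : Set G) ≤ K) :
    Nat.card K = (K.subgroupOf L).index + 1 ∨
    ((∃ m : ℕ, Nat.card K = 2 ^ m) ∧ (¬ ∀ a ∈ K, ∀ b ∈ K, a * b = b * a) ∧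
      (⁅K, K⁆.subgroupOf K).index ≤ 4 * (K.subgroupOf L).index ^ 2 + 1) ∨
    IsCoherent {χ : L → ℂ | IsIrrCharacter L χ ∧ ∃ k : L, (k : G) ∈ K ∧ χ k ≠ χ 1} {1}ᶜ
      (fun α : L → ℂ => indFun L α) := by
  classical
  by_cases hab : ∀ a ∈ K, ∀ b ∈ K, a * b = b * a
  · have hKL : K ≤ L := hlt.le
    have hHn : ∀ x ∈ L, ∀ h ∈ K, x * h * x⁻¹ ∈ K := by
      intro x hx h hh
      rw [← hN] at hx
      exact (Subgroup.mem_normalizer_iff.mp hx h).mp hh
    have hfrob : ∀ h ∈ K, h ≠ 1 → L ⊓ Subgroup.centralizer ({h} : Set G) ≤ K :=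
      fun h hh h1 => inf_le_right.trans (hC h hh h1)
    obtain ⟨hirr, hbridge⟩ := frobC_induced_eq_relevant K L hlt hK1 hHn hfrob
    set H := K.subgroupOf L with hH
    haveI hHnorm : H.Normal := ⟨fun n hn g => by
      rw [hH, Subgroup.mem_subgroupOf] at hn ⊢
      have := hHn g g.2 n hn
      simpa using this⟩
    have hH1 : H ≠ ⊥ := by
      intro h
      apply hK1
      rw [eq_bot_iff]
      intro x hx
      have : (⟨x, hKL hx⟩ : L) ∈ H := Subgroup.mem_subgroupOf.mpr hx
      rw [h, Subgroup.mem_bot] at this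
      rw [Subgroup.mem_bot]
      exact congrArg Subtype.val this
    have hH2 : H ≠ ⊤ := by
      intro h
      rw [hH, Subgroup.subgroupOf_eq_top] at h
      exact hlt.not_ge h
    have hC' : ∀ h ∈ H, h ≠ 1 → Subgroup.centralizer ({h} : Set L) ≤ H := by
      intro h hh h1 x hx
      rw [hH, Subgroup.mem_subgroupOf]
      apply hC (h : G) (Subgroup.mem_subgroupOf.mp hh) (fun h' => h1 (Subtype.ext h'))
      rw [Subgroup.mem_centralizer_iff] at hx ⊢
      intro y hy
      rw [Set.mem_singleton_iff] at hy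
      rw [hy]
      have := hx h (Set.mem_singleton h)
      exact congrArg Subtype.val this
    have hcardHK : Nat.card H = Nat.card K :=
      Nat.card_congr (Subgroup.subgroupOfEquivOfLe hKL).toEquiv
    obtain ⟨hτiso, hτ1⟩ := ti_isometryOn K L hTI hN
    rw [hbridge] at hτiso hτ1
    have hsetEq : {χ : L → ℂ | IsIrrCharacter L χ ∧ ∃ k : L, (k : G) ∈ K ∧ χ k ≠ χ 1} =
        {χ : L → ℂ | IsIrrCharacter L χ ∧ ∃ h ∈ H, χ h ≠ χ 1} := by
      ext χ
      simp only [Set.mem_ofPred_eq]
      constructor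
      · rintro ⟨h1, z, hz, hne⟩
        exact ⟨h1, z, Subgroup.mem_subgroupOf.mpr hz, hne⟩
      · rintro ⟨h1, z, hz, hne⟩
        exact ⟨h1, z, Subgroup.mem_subgroupOf.mp hz, hne⟩
    by_cases he : Nat.card H = H.index + 1
    · left
      rw [← hcardHK, he]
    · right; right
      rw [hsetEq] at hτiso hτ1 ⊢
      rcases Cfsg.Agent.S1535.result H hH1 hH2 hC' he (fun α : L → ℂ => indFun L α) hτiso hτ1
        with hcoh | ⟨p, hp, ⟨m, hm⟩, hna, hidx⟩
      · exact hcoh
      · exfalso
        apply hna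
        refine ⟨⟨fun a b => ?_⟩⟩
        apply Subtype.ext
        apply Subtype.ext
        have := hab (a : L) (Subgroup.mem_subgroupOf.mp a.2) (b : L)
          (Subgroup.mem_subgroupOf.mp b.2)
        simpa using this
  · rcases feit_sibley_master K L hN hK1 hTI hlt hC with h1 | ⟨h2, h3⟩ | h4
    · exact Or.inl h1.2.1
    · exact Or.inr (Or.inl ⟨h2, hab, h3⟩)
    · exact Or.inr (Or.inr h4)

/-- A relevant character of degree `e`. -/
theorem exists_rel_deg (K : Subgroup G) [Fintype ↥(Subgroup.normalizer (K : Set G))]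
    (hK1 : K ≠ ⊥) (hnil : Group.IsNilpotent K) (hlt : K < Subgroup.normalizer (K : Set G))
    (hC : ∀ k ∈ K, k ≠ 1 → Subgroup.centralizer ({k} : Set G) ≤ K) :
    ∃ ξ ∈ relSet K, ξ 1 = ((K.subgroupOf (Subgroup.normalizer (K : Set G))).index : ℂ) := by
  classical
  have hHn : ∀ x ∈ Subgroup.normalizer (K : Set G), ∀ h ∈ K, x * h * x⁻¹ ∈ K := by
    intro x hx h hh
    exact (Subgroup.mem_normalizer_iff.mp hx h).mp hh
  have hfrob : ∀ h ∈ K, h ≠ 1 →
      Subgroup.normalizer (K : Set G) ⊓ Subgroup.centralizer ({h} : Set G) ≤ K :=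
    fun h hh h1 => inf_le_right.trans (hC h hh h1)
  obtain ⟨-, hbridge⟩ := frobC_induced_eq_relevant K (Subgroup.normalizer (K : Set G)) hlt hK1
    hHn hfrob
  haveI : (K.subgroupOf (Subgroup.normalizer (K : Set G))).Normal :=
    Subgroup.normal_in_normalizer
  haveI hsolvK : Group.IsSolvable K := by
    haveI := hnil
    infer_instance
  have hsolv : Group.IsSolvable ↥(K.subgroupOf (Subgroup.normalizer (K : Set G))) :=
    Group.isSolvable_of_isSolvable_injective
      (f := (Subgroup.subgroupOfEquivOfLe hlt.le).toMonoidHom)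
      (Subgroup.subgroupOfEquivOfLe hlt.le).injective
  have hbot : (⊥ : Subgroup ↥(Subgroup.normalizer (K : Set G))) <
      K.subgroupOf (Subgroup.normalizer (K : Set G)) := by
    rw [bot_lt_iff_ne_bot]
    intro h
    apply hK1
    rw [eq_bot_iff]
    intro x hx
    have : (⟨x, hlt.le hx⟩ : ↥(Subgroup.normalizer (K : Set G))) ∈
        K.subgroupOf (Subgroup.normalizer (K : Set G)) := Subgroup.mem_subgroupOf.mpr hx
    rw [h, Subgroup.mem_bot] at this
    rw [Subgroup.mem_bot]
    exact congrArg Subtype.val this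
  obtain ⟨χ, hχ, hdeg⟩ := Cfsg.Agent.S1519.exists_linear_mem
    (K.subgroupOf (Subgroup.normalizer (K : Set G))) hsolv ⊥ hbot
  rw [hbridge] at hχ
  exact ⟨χ, hχ, hdeg⟩

end Cfsg.Agent.Lib.Helper3.ZassFeit
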