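import Mathlib
import Cfsg.Agent.Lib.Helper3.ZassCount

set_option autoImplicit false
set_option linter.style.haveILetI false
set_option linter.unusedSectionVars false

/-! Pairs of involutions in a simple Zassenhaus group with two point stabiliser of odd order:
a lower bound for the number of pairs whose product is fixed point free. -/

namespace Cfsg.Agent.Lib.Helper3.ZassOdd

open Cfsg MulAction
open Cfsg.Agent.Lib.Helper97.Zass

variable {G Ω : Type*} [Group G] [MulAction G Ω] [Fintype Ω]
variable [Fintype G] [DecidableEq G] [DecidableEq Ω]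

/-- the points on which two elements agree -/
def coin (x x' : G) : Finset Ω := Finset.univ.filter (fun c : Ω => x' • c = x • c)

theorem mem_coin {x x' : G} {c : Ω} : c ∈ coin x x' ↔ x' • c = x • c := by
  rw [coin, Finset.mem_filter]; simp

theorem sum_card_coin :
    ∑ p ∈ invs G ×ˢ invs G, (coin (Ω := Ω) p.1 p.2).card =
      ∑ c : Ω, ∑ d : Ω, invCount G c d ^ 2 := by
  simp only [coin, Finset.card_filter]
  rw [Finset.sum_comm]
  apply Finset.sum_congr rfl
  intro c _
  rw [← Finset.card_filter]
  rw [Finset.card_eq_sum_card_fiberwise (f := fun p : G × G => p.1 • c) (t := Finset.univ)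
    (fun _ _ => Finset.mem_univ _)]
  apply Finset.sum_congr rfl
  intro d _
  have : ((invs G ×ˢ invs G).filter (fun p : G × G => p.2 • c = p.1 • c)).filter
      (fun p : G × G => p.1 • c = d) =
      ((invs G).filter (fun x => x • c = d)) ×ˢ ((invs G).filter (fun x => x • c = d)) := by
    ext p
    simp only [Finset.mem_filter, Finset.mem_product]
    constructor
    · rintro ⟨⟨⟨h1, h2⟩, h3⟩, h4⟩
      exact ⟨⟨h1, h4⟩, ⟨h2, h3.trans h4⟩⟩
    · rintro ⟨⟨h1, h4⟩, ⟨h2, h3⟩⟩
      exact ⟨⟨⟨h1, h2⟩, h3.trans h4.symm⟩, h4⟩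
  rw [this, Finset.card_product, invCount, pow_two]

/-- pairs of involutions with fixed point free product -/
def fpfPairs (G : Type*) (Ω : Type*) [Group G] [MulAction G Ω] [Fintype Ω] [Fintype G]
    [DecidableEq G] [DecidableEq Ω] : Finset (G × G) :=
  (invs G ×ˢ invs G).filter (fun p => ∀ c : Ω, (p.1 * p.2) • c ≠ c)

/-- pairs of distinct involutions with a common fixed point -/
def cfPairs (G : Type*) (Ω : Type*) [Group G] [MulAction G Ω] [Fintype Ω] [Fintype G]
    [DecidableEq G] [DecidableEq Ω] : Finset (G × G) :=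
  (invs G ×ˢ invs G).filter (fun p => p.1 ≠ p.2 ∧ ∃ c : Ω, p.1 • c = c ∧ p.2 • c = c)

theorem card_cfPairs_add_le :
    (cfPairs G Ω).card + ∑ c : Ω, invCount G c c ≤ ∑ c : Ω, invCount G c c ^ 2 := by
  -- `cfPairs ⊆ ⋃_c offDiag (I_c)`
  have h1 : cfPairs G Ω ⊆ Finset.univ.biUnion
      (fun c : Ω => ((invs G).filter (fun x => x • c = c)).offDiag) := by
    intro p hp
    rw [cfPairs, Finset.mem_filter, Finset.mem_product] at hp
    obtain ⟨⟨h1, h2⟩, hne, c, hc1, hc2⟩ := hp
    rw [Finset.mem_biUnion]
    refine ⟨c, Finset.mem_univ _, ?_⟩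
    rw [Finset.mem_offDiag, Finset.mem_filter, Finset.mem_filter]
    exact ⟨⟨h1, hc1⟩, ⟨h2, hc2⟩, hne⟩
  have h2 := (Finset.card_le_card h1).trans Finset.card_biUnion_le
  simp only [Finset.offDiag_card] at h2
  have h3 : ∑ c : Ω, invCount G c c ^ 2 =
      ∑ c : Ω, ((invCount G c c * invCount G c c - invCount G c c) + invCount G c c) := by
    apply Finset.sum_congr rfl
    intro c _
    rw [pow_two]
    have : invCount G c c ≤ invCount G c c * invCount G c c := Nat.le_mul_self _
    omega
  rw [h3, Finset.sum_add_distrib]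
  exact Nat.add_le_add_right h2 _

/-- the key pointwise inequality -/
theorem pair_ineq {x x' : G} (hx : x ∈ invs G) (hx' : x' ∈ invs G) (hne : x ≠ x') :
    2 ≤ 2 * (if (x, x') ∈ fpfPairs G Ω then 1 else 0) + (coin (Ω := Ω) x x').card +
      (if (x, x') ∈ cfPairs G Ω then 1 else 0) := by
  have hx2 := (mem_invs.mp hx).2
  have hx'2 := (mem_invs.mp hx').2
  by_cases hf : (x, x') ∈ fpfPairs G Ω
  · rw [if_pos hf]; omega
  · rw [if_neg hf]
    rw [fpfPairs, Finset.mem_filter, Finset.mem_product] at hf
    push Not at hf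
    obtain ⟨c, hc⟩ := hf ⟨hx, hx'⟩
    have hc' : x' • c = x • c := by
      have h := congrArg (fun z => x • z) hc
      simp only at h
      rw [← mul_smul, ← mul_assoc, hx2, one_mul] at h
      exact h
    have hcm : c ∈ coin x x' := mem_coin.mpr hc'
    have hdm : x • c ∈ coin x x' := by
      rw [mem_coin, ← hc', ← mul_smul, hx'2, one_smul, hc', ← mul_smul, hx2, one_smul]
    by_cases hcd : x • c = c
    · have : (x, x') ∈ cfPairs G Ω := by
        rw [cfPairs, Finset.mem_filter, Finset.mem_product]
        exact ⟨⟨hx, hx'⟩, hne, c, hcd, hc'.trans hcd⟩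
      rw [if_pos this]
      have : 0 < (coin (Ω := Ω) x x').card := Finset.card_pos.mpr ⟨c, hcm⟩
      omega
    · have : 1 < (coin (Ω := Ω) x x').card :=
        Finset.one_lt_card.mpr ⟨x • c, hdm, c, hcm, hcd⟩
      omega

/-- the general lower bound for the number of pairs with fixed point free product -/
theorem fpfPairs_ineq :
    2 * (invs G).card ^ 2 + Fintype.card Ω * (invs G).card + ∑ c : Ω, invCount G c c ≤
      2 * (fpfPairs G Ω).card + ∑ c : Ω, ∑ d : Ω, invCount G c d ^ 2 +
        ∑ c : Ω, invCount G c c ^ 2 + 2 * (invs G).card := by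
  set T := invs G ×ˢ invs G with hT
  have hmain : ∑ p ∈ T, (if p.1 = p.2 then Fintype.card Ω else 2) ≤
      ∑ p ∈ T, (2 * (if p ∈ fpfPairs G Ω then 1 else 0) + (coin (Ω := Ω) p.1 p.2).card +
        (if p ∈ cfPairs G Ω then 1 else 0)) := by
    apply Finset.sum_le_sum
    rintro ⟨x, x'⟩ hp
    rw [hT, Finset.mem_product] at hp
    by_cases hxx : x = x'
    · simp only [hxx, if_true]
      have : coin (Ω := Ω) x' x' = Finset.univ := by
        ext c; simp [mem_coin]
      rw [this, Finset.card_univ]
      omega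
    · simp only [hxx, if_false]
      exact pair_ineq hp.1 hp.2 hxx
  have hL : ∑ p ∈ T, (if p.1 = p.2 then Fintype.card Ω else 2) + 2 * (invs G).card =
      2 * (invs G).card ^ 2 + Fintype.card Ω * (invs G).card := by
    rw [Finset.sum_ite, Finset.sum_const, Finset.sum_const, smul_eq_mul, smul_eq_mul]
    have h1 : (T.filter (fun p : G × G => p.1 = p.2)).card = (invs G).card := by
      apply Finset.card_nbij' (fun p => p.1) (fun x => (x, x))
      · intro p hp
        rw [Finset.mem_coe, Finset.mem_filter, hT, Finset.mem_product] at hp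
        exact hp.1.1
      · intro x hx
        rw [Finset.mem_coe, Finset.mem_filter, hT, Finset.mem_product]
        exact ⟨⟨hx, hx⟩, rfl⟩
      · intro p hp
        rw [Finset.mem_coe, Finset.mem_filter] at hp
        exact Prod.ext rfl hp.2
      · intro x _
        rfl
    have h2 : (T.filter (fun p : G × G => ¬ p.1 = p.2)).card + (invs G).card =
        (invs G).card ^ 2 := by
      have h3 := Finset.card_filter_add_card_filter_not (s := T) (fun p : G × G => p.1 = p.2)
      rw [h1, hT, Finset.card_product] at h3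
      rw [pow_two, ← h3, add_comm]
    rw [h1]
    have : (T.filter (fun p : G × G => ¬ p.1 = p.2)).card * 2 + 2 * (invs G).card =
        2 * (invs G).card ^ 2 := by rw [← h2]; ring
    rw [mul_comm ((invs G).card) (Fintype.card Ω)]
    omega
  have hR : ∑ p ∈ T, (2 * (if p ∈ fpfPairs G Ω then 1 else 0) + (coin (Ω := Ω) p.1 p.2).card +
        (if p ∈ cfPairs G Ω then 1 else 0)) =
      2 * (fpfPairs G Ω).card + ∑ c : Ω, ∑ d : Ω, invCount G c d ^ 2 + (cfPairs G Ω).card := by
    rw [Finset.sum_add_distrib, Finset.sum_add_distrib, ← Finset.mul_sum, sum_card_coin]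
    congr 1
    · congr 2
      rw [← Finset.card_filter]
      congr 1
      rw [Finset.filter_mem_eq_inter, Finset.inter_eq_right, fpfPairs]
      exact Finset.filter_subset _ _
    · rw [← Finset.card_filter]
      congr 1
      rw [Finset.filter_mem_eq_inter, Finset.inter_eq_right, cfPairs]
      exact Finset.filter_subset _ _
  have hcf := card_cfPairs_add_le (G := G) (Ω := Ω)
  rw [hR] at hmain
  omega

end Cfsg.Agent.Lib.Helper3.ZassOdd
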