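import Mathlib
import Cfsg.Agent.Lib.Helper3.ZassPairs

set_option autoImplicit false
set_option linter.style.haveILetI false
set_option linter.unusedSectionVars false

/-! Conjugacy classes avoiding the Frobenius kernel in a simple Zassenhaus group with two point
stabiliser of odd order. -/

namespace Cfsg.Agent.Lib.Helper3.ZassOdd

open Cfsg MulAction
open Cfsg.Agent.Lib.Helper97.Zass

variable {G Ω : Type*} [Group G] [MulAction G Ω] [Fintype Ω]
variable [Fintype G] [DecidableEq G] [DecidableEq Ω]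

/-- the classes of products of pairs of involutions: fibres have at most `|G|` elements -/
theorem card_fpfPairs_le [DecidableEq (ConjClasses G)] :
    (fpfPairs G Ω).card ≤ Fintype.card G *
      ((fpfPairs G Ω).image (fun p : G × G => ConjClasses.mk (p.1 * p.2))).card := by
  apply Finset.card_le_mul_card_image
  intro C hC
  rw [Finset.mem_image] at hC
  obtain ⟨p₀, hp₀, hC⟩ := hC
  rw [← Finset.card_univ]
  have hp₀' := hp₀
  rw [fpfPairs, Finset.mem_filter, Finset.mem_product, mem_invs, mem_invs] at hp₀'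
  obtain ⟨⟨⟨-, hx₀2⟩, ⟨-, hx₀'2⟩⟩, -⟩ := hp₀'
  set x₀ := p₀.1 with hx₀
  set x₀' := p₀.2 with hx₀'
  set g₀ := x₀ * x₀' with hg₀
  have hx₀inv : x₀⁻¹ = x₀ := inv_eq_of_mul_eq_one_left hx₀2
  have hx₀'inv : x₀'⁻¹ = x₀' := inv_eq_of_mul_eq_one_left hx₀'2
  have hinvg₀ : x₀ * g₀ * x₀⁻¹ = g₀⁻¹ := by
    rw [hg₀, mul_inv_rev, hx₀inv, hx₀'inv, ← mul_assoc, hx₀2, one_mul]
  classical
  let wfun : G → G := fun g => if h : ∃ w : G, w * g₀ * w⁻¹ = g then Classical.choose h else 1
  have hwfun : ∀ g : G, (∃ w : G, w * g₀ * w⁻¹ = g) → wfun g * g₀ * (wfun g)⁻¹ = g := by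
    intro g h
    simp only [wfun, dif_pos h]
    exact Classical.choose_spec h
  have hkey : ∀ p ∈ (fpfPairs G Ω).filter (fun p : G × G => ConjClasses.mk (p.1 * p.2) = C),
      (p.1 * wfun (p.1 * p.2) * x₀) * g₀ * (p.1 * wfun (p.1 * p.2) * x₀)⁻¹ = p.1 * p.2 := by
    intro p hp
    rw [Finset.mem_filter, fpfPairs, Finset.mem_filter, Finset.mem_product, mem_invs, mem_invs]
      at hp
    obtain ⟨⟨⟨⟨-, hx2⟩, ⟨-, hx'2⟩⟩, -⟩, hpC⟩ := hp
    have hconj : ∃ w : G, w * g₀ * w⁻¹ = p.1 * p.2 := by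
      rw [← hC, ConjClasses.mk_eq_mk_iff_isConj, isConj_comm, isConj_iff] at hpC
      exact hpC
    have hw := hwfun _ hconj
    set w := wfun (p.1 * p.2) with hwdef
    have hxinv : p.1⁻¹ = p.1 := inv_eq_of_mul_eq_one_left hx2
    have hx'inv : p.2⁻¹ = p.2 := inv_eq_of_mul_eq_one_left hx'2
    calc (p.1 * w * x₀) * g₀ * (p.1 * w * x₀)⁻¹
        = p.1 * (w * (x₀ * g₀ * x₀⁻¹) * w⁻¹) * p.1⁻¹ := by group
      _ = p.1 * (w * g₀ * w⁻¹)⁻¹ * p.1⁻¹ := by rw [hinvg₀]; group
      _ = p.1 * (p.1 * p.2)⁻¹ * p.1⁻¹ := by rw [hw]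
      _ = p.1 * p.2 := by
        rw [mul_inv_rev, hxinv, hx'inv, mul_assoc, mul_assoc, hx2, mul_one]
  apply Finset.card_le_card_of_injOn (fun p : G × G => p.1 * wfun (p.1 * p.2) * x₀)
  · intro p _
    exact Finset.mem_coe.mpr (Finset.mem_univ _)
  · intro p hp q hq hpq
    have hpq' : p.1 * wfun (p.1 * p.2) * x₀ = q.1 * wfun (q.1 * q.2) * x₀ := hpq
    have h1 := hkey p hp
    have h2 := hkey q hq
    rw [hpq'] at h1
    have hg : p.1 * p.2 = q.1 * q.2 := h1.symm.trans h2
    rw [hg] at hpq'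
    have hfst : p.1 = q.1 := by
      have := mul_right_cancel hpq'
      exact mul_right_cancel this
    rw [hfst] at hg
    exact Prod.ext hfst (mul_left_cancel hg)


/-- classes of non-identity elements of `E`: fibres have at most two elements -/
theorem card_twoStab_classes [DecidableEq (ConjClasses G)] (hZ : Cfsg.IsZassenhausGroup G Ω)
    [IsSimpleGroup G] {a b : Ω} (hab : a ≠ b) (hodd : Odd (Nat.card (twoStab G a b))) :
    (Finset.univ.filter (fun x : G => (x • a = a ∧ x • b = b) ∧ x ≠ 1)).card ≤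
      2 * ((Finset.univ.filter (fun x : G => (x • a = a ∧ x • b = b) ∧ x ≠ 1)).image
        ConjClasses.mk).card := by
  have hy := hyp_of_zass hZ
  have hcomm := twoStab_comm hZ hab hodd
  apply Finset.card_le_mul_card_image
  intro C hC
  rw [Finset.mem_image] at hC
  obtain ⟨y, hy', rfl⟩ := hC
  rw [Finset.mem_filter] at hy'
  obtain ⟨-, hyE, hy1⟩ := hy'
  have hsub : (Finset.univ.filter (fun x : G => (x • a = a ∧ x • b = b) ∧ x ≠ 1)).filter
      (fun x => ConjClasses.mk x = ConjClasses.mk y) ⊆ {y, y⁻¹} := by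
    intro y' hy''
    rw [Finset.mem_filter, Finset.mem_filter] at hy''
    obtain ⟨⟨-, hy'E, hy'1⟩, hcl⟩ := hy''
    rw [ConjClasses.mk_eq_mk_iff_isConj, isConj_comm, isConj_iff] at hcl
    obtain ⟨g, hg⟩ := hcl
    have hyE' : y ∈ twoStab G a b := mem_twoStab.mpr hyE
    have hy'E' : g * y * g⁻¹ ∈ twoStab G a b := by rw [hg]; exact mem_twoStab.mpr hy'E
    rw [Finset.mem_insert, Finset.mem_singleton]
    rcases Cfsg.Agent.S0879.preserve_of_conj_mem hy.h3 hab hy1 hyE' hy'E' with ⟨hga, hgb⟩ | ⟨hga, hgb⟩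
    · left
      have hgE : g ∈ twoStab G a b := mem_twoStab.mpr ⟨hga, hgb⟩
      rw [← hg, hcomm g hgE y hyE', mul_assoc, mul_inv_cancel, mul_one]
    · right
      have hgg := swap_mul_self hZ hab hodd hga hgb
      rw [← hg]
      exact conj_eq_inv hZ hab hodd hga hgb hgg y hyE'
  exact (Finset.card_le_card hsub).trans Finset.card_le_two

/-- **At least `e` conjugacy classes avoid the Frobenius kernel.** -/
theorem card_avoiding [DecidableEq (ConjClasses G)] (hZ : Cfsg.IsZassenhausGroup G Ω)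
    [IsSimpleGroup G] {a b : Ω} (hab : a ≠ b) (hodd : Odd (Nat.card (twoStab G a b)))
    (hlt : 2 * Nat.card (twoStab G a b) + 2 < Fintype.card Ω) (H : Subgroup G)
    (hHa : H ≤ MulAction.stabilizer G a)
    (hHfix : ∀ u ∈ H, u ≠ 1 → ∀ c : Ω, u • c = c → c = a)
    [DecidablePred (fun C : ConjClasses G => ∀ g : G, ConjClasses.mk g = C → g ∉ H)] :
    Nat.card (twoStab G a b) ≤
      (Finset.univ.filter (fun C : ConjClasses G => ∀ g : G, ConjClasses.mk g = C → g ∉ H)).card := by
  have hy := hyp_of_zass hZ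
  have hn3 := three_le_card hy
  set e := Nat.card (twoStab G a b) with he
  set n := Fintype.card Ω with hn
  set Ef1 := Finset.univ.filter (fun x : G => (x • a = a ∧ x • b = b) ∧ x ≠ 1) with hEf1
  set A2 := Ef1.image ConjClasses.mk with hA2
  set Af := (fpfPairs G Ω).image (fun p : G × G => ConjClasses.mk (p.1 * p.2)) with hAf
  have hodd' : ∀ c d : Ω, c ≠ d → Odd (Nat.card (twoStab G c d)) := by
    intro c d hcd
    rw [card_twoStab_eq_of_ne hy hab hcd]; exact hodd
  -- the classes in `A2` and `Af` avoid `H`, and are different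
  have hA2sub : A2 ⊆ Finset.univ.filter
      (fun C : ConjClasses G => ∀ g : G, ConjClasses.mk g = C → g ∉ H) := by
    intro C hC
    rw [hA2, Finset.mem_image] at hC
    obtain ⟨y, hy', rfl⟩ := hC
    rw [hEf1, Finset.mem_filter] at hy'
    obtain ⟨-, ⟨hya, hyb⟩, hy1⟩ := hy'
    rw [Finset.mem_filter]
    refine ⟨Finset.mem_univ _, ?_⟩
    intro g hg hgH
    rw [ConjClasses.mk_eq_mk_iff_isConj, isConj_comm, isConj_iff] at hg
    obtain ⟨w, hw⟩ := hg
    have hg1 : g ≠ 1 := by
      intro h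
      apply hy1
      calc y = w⁻¹ * (w * y * w⁻¹) * w := by group
        _ = 1 := by rw [hw, h]; group
    have h1 : g • (w • a) = w • a := by
      rw [← hw, mul_smul, mul_smul, inv_smul_smul, hya]
    have h2 : g • (w • b) = w • b := by
      rw [← hw, mul_smul, mul_smul, inv_smul_smul, hyb]
    have h3 := hHfix g hgH hg1 _ h1
    have h4 := hHfix g hgH hg1 _ h2
    exact hab (smul_left_cancel w (h3.trans h4.symm))
  have hAfsub : Af ⊆ Finset.univ.filter
      (fun C : ConjClasses G => ∀ g : G, ConjClasses.mk g = C → g ∉ H) := by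
    intro C hC
    rw [hAf, Finset.mem_image] at hC
    obtain ⟨p, hp, rfl⟩ := hC
    rw [fpfPairs, Finset.mem_filter] at hp
    rw [Finset.mem_filter]
    refine ⟨Finset.mem_univ _, ?_⟩
    intro g hg hgH
    rw [ConjClasses.mk_eq_mk_iff_isConj, isConj_iff] at hg
    obtain ⟨w, hw⟩ := hg
    have hga : g • a = a := hHa hgH
    apply hp.2 (w • a)
    rw [← hw, mul_smul, mul_smul, inv_smul_smul, hga]
  have hdisj : Disjoint A2 Af := by
    rw [Finset.disjoint_left]
    intro C hC2 hCf
    rw [hA2, Finset.mem_image] at hC2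
    obtain ⟨y, hy', rfl⟩ := hC2
    rw [hEf1, Finset.mem_filter] at hy'
    rw [hAf, Finset.mem_image] at hCf
    obtain ⟨p, hp, hpC⟩ := hCf
    rw [fpfPairs, Finset.mem_filter] at hp
    rw [ConjClasses.mk_eq_mk_iff_isConj, isConj_comm, isConj_iff] at hpC
    obtain ⟨w, hw⟩ := hpC
    apply hp.2 (w • a)
    rw [← hw, mul_smul, mul_smul, inv_smul_smul, hy'.2.1.1]
  have hunion : A2.card + Af.card ≤ (Finset.univ.filter
      (fun C : ConjClasses G => ∀ g : G, ConjClasses.mk g = C → g ∉ H)).card := by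
    rw [← Finset.card_union_of_disjoint hdisj]
    exact Finset.card_le_card (Finset.union_subset hA2sub hAfsub)
  -- cardinalities
  have hE1 : Ef1.card + 1 = e := by
    have h1 : Finset.univ.filter (fun x : G => x • a = a ∧ x • b = b) = insert 1 Ef1 := by
      ext x
      rw [Finset.mem_insert, hEf1, Finset.mem_filter, Finset.mem_filter]
      constructor
      · rintro ⟨-, hx⟩
        by_cases hx1 : x = 1
        · exact Or.inl hx1
        · exact Or.inr ⟨Finset.mem_univ _, hx, hx1⟩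
      · rintro (h | h)
        · rw [h]; exact ⟨Finset.mem_univ _, one_smul _ _, one_smul _ _⟩
        · exact ⟨Finset.mem_univ _, h.2.1⟩
    have h2 : (1 : G) ∉ Ef1 := by
      rw [hEf1, Finset.mem_filter]; exact fun h => h.2.2 rfl
    rw [he, card_twoStab_eq_filter, h1, Finset.card_insert_of_notMem h2]
  have hA2card : Ef1.card ≤ 2 * A2.card := card_twoStab_classes hZ hab hodd
  have hAfcard : (fpfPairs G Ω).card ≤ Fintype.card G * Af.card := card_fpfPairs_le
  have hG : Fintype.card G = e * (n - 1) * n := by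
    rw [← Nat.card_eq_fintype_card, card_eq hy hab]
  have hineq := fpfPairs_ineq (G := G) (Ω := Ω)
  obtain ⟨hev, hod⟩ := card_invs hZ hab hodd
  rw [← hn, ← he] at hev hod
  rw [← hn] at hineq
  have hne : ∀ c d : Ω, c ≠ d → invCount G c d = e := by
    intro c d hcd
    rw [invCount_of_ne hZ hcd (hodd' c d hcd), card_twoStab_eq_of_ne hy hab hcd]
  obtain ⟨m, hm⟩ := hodd
  suffices hsuff : m + 1 ≤ Af.card by omega
  by_contra hcon
  push Not at hcon
  have hAfm : Af.card ≤ m := by omega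
  have hPf : ((fpfPairs G Ω).card : ℤ) ≤ (e : ℤ) * ((n : ℤ) - 1) * n * m := by
    have h1 : (fpfPairs G Ω).card ≤ e * (n - 1) * n * m := by
      rw [hG] at hAfcard
      exact hAfcard.trans (Nat.mul_le_mul_left _ hAfm)
    have h2 : ((e * (n - 1) * n * m : ℕ) : ℤ) = (e : ℤ) * ((n : ℤ) - 1) * n * m := by
      push_cast [Nat.cast_sub (show 1 ≤ n by omega)]
      ring
    rw [← h2]
    exact_mod_cast h1
  have hem : (e : ℤ) = 2 * m + 1 := by exact_mod_cast hm
  have hnpos : (0 : ℤ) < n := by exact_mod_cast (show 0 < n by omega)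
  have hn1pos : (0 : ℤ) < (n : ℤ) - 1 := by
    have : (3 : ℤ) ≤ n := by exact_mod_cast hn3
    linarith
  have hepos : (0 : ℤ) < e := by rw [hem]; positivity
  have hX : (0 : ℤ) < (e : ℤ) * ((n : ℤ) - 1) * n := by positivity
  rcases Nat.even_or_odd n with hpar | hpar
  · obtain ⟨hJ, h0⟩ := hev hpar
    have hdiag : ∑ c : Ω, invCount G c c = 0 := by
      rw [Finset.sum_congr rfl (fun c _ => h0 c), Finset.sum_const_zero]
    have hdiag2 : ∑ c : Ω, invCount G c c ^ 2 = 0 := by
      rw [Finset.sum_congr rfl (fun c _ => by rw [h0 c]), Finset.sum_const]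
      simp
    have hsq : ∑ c : Ω, ∑ d : Ω, invCount G c d ^ 2 = n * ((n - 1) * e ^ 2) := by
      have : ∀ c : Ω, ∑ d : Ω, invCount G c d ^ 2 = (n - 1) * e ^ 2 := by
        intro c
        rw [← Finset.add_sum_erase Finset.univ _ (Finset.mem_univ c), h0 c,
          Finset.sum_congr rfl (fun d hd => by
            rw [hne c d (Ne.symm (Finset.ne_of_mem_erase hd))]),
          Finset.sum_const, Finset.card_erase_of_mem (Finset.mem_univ c), Finset.card_univ,
          smul_eq_mul, ← hn]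
        ring
      rw [Finset.sum_congr rfl (fun c _ => this c), Finset.sum_const, Finset.card_univ,
        smul_eq_mul]
    rw [hdiag, hdiag2, hsq, hJ] at hineq
    have hineqZ : (2 : ℤ) * (((n : ℤ) - 1) * e) ^ 2 + n * (((n : ℤ) - 1) * e) + 0 ≤
        2 * ((fpfPairs G Ω).card : ℤ) + n * (((n : ℤ) - 1) * e ^ 2) + 0 +
          2 * (((n : ℤ) - 1) * e) := by
      have := hineq
      zify [show 1 ≤ n by omega] at this
      linarith
    have hltZ : (2 : ℤ) * e + 2 < n := by exact_mod_cast hlt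
    nlinarith [hineqZ, hPf, hX, hltZ, hem, mul_pos hepos hn1pos]
  · obtain ⟨hJ, hI⟩ := hod hpar
    have hall : ∀ c d : Ω, invCount G c d = e := by
      intro c d
      by_cases hcd : c = d
      · rw [hcd]; exact hI d
      · exact hne c d hcd
    have hdiag : ∑ c : Ω, invCount G c c = n * e := by
      rw [Finset.sum_congr rfl (fun c _ => hall c c), Finset.sum_const, Finset.card_univ,
        smul_eq_mul]
    have hdiag2 : ∑ c : Ω, invCount G c c ^ 2 = n * e ^ 2 := by
      rw [Finset.sum_congr rfl (fun c _ => by rw [hall c c]), Finset.sum_const, Finset.card_univ,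
        smul_eq_mul]
    have hsq : ∑ c : Ω, ∑ d : Ω, invCount G c d ^ 2 = n * (n * e ^ 2) := by
      have : ∀ c : Ω, ∑ d : Ω, invCount G c d ^ 2 = n * e ^ 2 := by
        intro c
        rw [Finset.sum_congr rfl (fun d _ => by rw [hall c d]), Finset.sum_const, Finset.card_univ,
          smul_eq_mul]
      rw [Finset.sum_congr rfl (fun c _ => this c), Finset.sum_const, Finset.card_univ,
        smul_eq_mul]
    rw [hdiag, hdiag2, hsq, hJ] at hineq
    have hineqZ : (2 : ℤ) * ((n : ℤ) * e) ^ 2 + n * ((n : ℤ) * e) + n * e ≤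
        2 * ((fpfPairs G Ω).card : ℤ) + n * ((n : ℤ) * e ^ 2) + n * e ^ 2 +
          2 * ((n : ℤ) * e) := by
      exact_mod_cast hineq
    nlinarith [hineqZ, hPf, hX, hem, mul_pos hepos hn1pos]

end Cfsg.Agent.Lib.Helper3.ZassOdd
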