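import Mathlib
import Cfsg.Agent.Lib.Helper3.ZassFeit2
import Cfsg.Agent.Lib.Helper3.ZassFeit3
import Cfsg.Agent.Lib.Helper3.FeitH
import Cfsg.Agent.Lib.Helper12.PermChar
import Cfsg.Agent.S0157
import Cfsg.Agent.S0884

set_option autoImplicit false
set_option linter.style.haveILetI false
set_option linter.unusedSectionVars false

/-!
Feit's inequality for simple Zassenhaus groups with two-point stabilizer of odd order.
-/

namespace Cfsg.Agent.Lib.Helper3.ZassFeit

open Cfsg MulAction
open Cfsg.Agent.Lib.Helper97.Zass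
open Cfsg.Agent.Lib.Helper3.ZassOdd
open Cfsg.Agent.Lib.Helper3.ExcGen
open Cfsg.Agent.Lib.Helper78.CNChar
open scoped ComplexConjugate commutatorElement

variable {G Ω : Type*} [Group G] [Fintype G] [MulAction G Ω] [Fintype Ω]

/-- Constituents of the permutation character of a doubly transitive action. -/
theorem one_cases_aux (h2 : IsMultiplyPretransitive G Ω 2) [IsPretransitive G Ω]
    (hcard : 2 ≤ Nat.card Ω) (a : Ω) (N : Subgroup G) [Fintype N]
    (hN : ∀ x, x ∈ N ↔ x • a = a) {χ : G → ℂ} (hχ : IsIrrCharacter G χ)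
    (hne : classInner (fun _ : N => (1 : ℂ)) (fun x : N => χ x) ≠ 0) :
    χ = (fun _ => 1) ∨ χ = fun g => (Nat.card (fixedBy Ω g) : ℂ) - 1 := by
  classical
  have hθ : IsIrrCharacter G (fun g => (Nat.card (fixedBy Ω g) : ℂ) - 1) :=
    (Cfsg.Agent.S0157.result Ω hcard).mpr h2
  have hπ := Cfsg.Agent.Lib.Helper12.PermChar.classInner_perm a χ
    (fun g k => IsCharacter.isClassFunction (IsIrrCharacter.isCharacter hχ) g k)
  have hmem : ∀ x, x ∈ Cfsg.Agent.Lib.Helper12.PermChar.Hset G a ↔ x ∈ N := by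
    intro x
    rw [Cfsg.Agent.Lib.Helper12.PermChar.mem_Hset, hN]
  have hsum : ∑ g ∈ Cfsg.Agent.Lib.Helper12.PermChar.Hset G a, conj (χ g) =
      ∑ x : N, conj (χ x) :=
    Finset.sum_subtype (Cfsg.Agent.Lib.Helper12.PermChar.Hset G a) hmem (fun g => conj (χ g))
  have hcardN : (Cfsg.Agent.Lib.Helper12.PermChar.Hset G a).card = Nat.card N := by
    rw [Nat.card_eq_fintype_card]
    exact (Fintype.card_of_subtype (Cfsg.Agent.Lib.Helper12.PermChar.Hset G a) hmem).symm
  have h1 : classInner (fun _ : N => (1 : ℂ)) (fun x : N => χ x) =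
      classInner (fun g : G => (Nat.card (fixedBy Ω g) : ℂ)) χ := by
    rw [hπ, hsum, hcardN]
    unfold classInner
    simp
  rw [h1] at hne
  have hπeq : (fun g : G => (Nat.card (fixedBy Ω g) : ℂ)) =
      (fun _ => (1 : ℂ)) + fun g => (Nat.card (fixedBy Ω g) : ℂ) - 1 := by
    funext g
    simp
  rw [hπeq, classInner_add_left, classInner_irr isIrrCharacter_const_one hχ,
    classInner_irr hθ hχ] at hne
  by_cases h3 : (fun _ : G => (1 : ℂ)) = χ
  · exact Or.inl h3.symm
  · by_cases h4 : (fun g => (Nat.card (fixedBy Ω g) : ℂ) - 1) = χ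
    · exact Or.inr h4.symm
    · rw [if_neg h3, if_neg h4, add_zero] at hne
      exact absurd rfl hne

/-- Transport of the irreducibility of induced linear characters to a subgroup equal to the
stabilizer. -/
theorem ind_lin_aux (hZ : IsZassenhausGroup G Ω) {a b : Ω} (hab : a ≠ b) [IsSimpleGroup G]
    (hodd : Odd (Nat.card (twoStab G a b))) {H : Subgroup G} (k : Ker G a H)
    (N : Subgroup G) (hN : N = stabilizer G a) (μ : N → ℂ) (hμ : IsIrrCharacter N μ)
    (hμ1 : μ 1 = 1) (hμH : ∀ u : N, (u : G) ∈ H → μ u = 1) (hμne : μ ≠ fun _ => 1) :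
    IsIrrCharacter G (indFun N μ) ∧ ∀ u ∈ H, u ≠ 1 → indFun N μ u = 1 := by
  subst hN
  exact Cfsg.Agent.Lib.Helper69.Zass.induced_linear_irreducible hZ hab hodd H k.le k.card k.fix μ
    ⟨IsIrrCharacter.isCharacter hμ, hμ1⟩ hμH hμne

open Cfsg.Agent.Lib.Helper64.PiClasses in
/-- The data for Feit's inequality in a simple Zassenhaus group. -/
theorem fdata (hZ : IsZassenhausGroup G Ω) {a b : Ω} (hab : a ≠ b) [IsSimpleGroup G]
    (hodd : Odd (Nat.card (twoStab G a b))) {H : Subgroup G} (k : Ker G a H)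
    [Fintype ↥(Subgroup.normalizer (H : Set G))]
    (hlt : 2 * Nat.card (twoStab G a b) + 2 < Fintype.card Ω) :
    FData H (relSet H) (fun g => (Nat.card (fixedBy Ω g) : ℂ) - 1) (Fintype.card Ω - 1)
      (Nat.card (twoStab G a b)) := by
  classical
  have hy := hyp_of_zass hZ
  have hnorm := k.normalizer_eq hy
  have hpt : MulAction.IsPretransitive G Ω := by
    refine ⟨fun c d => ?_⟩
    by_cases hcd : c = d
    · exact ⟨1, by rw [one_smul, hcd]⟩
    · obtain ⟨c', hc'⟩ := exists_ne hy c
      obtain ⟨d', hd'⟩ := exists_ne hy d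
      obtain ⟨g', hg'c, -⟩ := hy.h2 (Ne.symm hc') (Ne.symm hd')
      exact ⟨g', hg'c⟩
  have hn3 := three_le_card hy
  have hmemN : ∀ x, x ∈ Subgroup.normalizer (H : Set G) ↔ x • a = a := by
    intro x
    rw [hnorm, mem_stabilizer_iff]
  refine ⟨?_, ?_, ?_, ?_, ?_, ?_, ?_, ?_, ?_, ?_⟩
  · intro x y
    have hx : (x : G) • a = a := (hmemN _).mp x.2
    have hy' : (y : G) • a = a := (hmemN _).mp y.2
    have := k.commutator_mem hZ hab hodd hx hy'
    simpa using this
  · exact k.card_eq
  · exact k.index_eq hy hab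
  · rw [hnorm, MulAction.index_stabilizer_of_transitive, Nat.card_eq_fintype_card (α := Ω)]
    omega
  · exact (Cfsg.Agent.S0157.result Ω (by rw [Nat.card_eq_fintype_card]; omega)).mpr hZ.2.1
  · intro χ hχ hne
    exact one_cases_aux hZ.2.1 (by rw [Nat.card_eq_fintype_card]; omega) a _ hmemN hχ hne
  · intro u hu hu1
    have hset : fixedBy Ω u = {a} := by
      ext c
      rw [mem_fixedBy, Set.mem_singleton_iff]
      constructor
      · exact k.fix u hu hu1 c
      · intro hc
        rw [hc]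
        exact k.le hu
    rw [hset]
    simp
  · intro μ hμ hμ1 hμH hμne
    exact ind_lin_aux hZ hab hodd k _ hnorm μ hμ hμ1 hμH hμne
  · have h884 := Cfsg.Agent.S0884.result hZ hab (Fintype.card Ω - 1)
      (Nat.card (twoStab G a b)) (by omega) rfl hodd (by omega) H k.le k.card k.fix
    refine le_trans h884 (le_of_eq ?_)
    unfold kQ
    apply Nat.card_congr
    apply Equiv.subtypeEquivRight
    intro C
    constructor
    · intro hC x hx y
      apply hC
      rw [ConjClasses.mem_carrier_iff_mk_eq] at hx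
      rw [← hx]
      exact ConjClasses.mk_eq_mk_iff_isConj.mpr (isConj_iff.mpr ⟨y, rfl⟩).symm
    · intro hC g hg
      have := hC g (by rw [ConjClasses.mem_carrier_iff_mk_eq]; exact hg) 1
      simpa using this
  · omega

end Cfsg.Agent.Lib.Helper3.ZassFeit
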