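import Mathlib
import Cfsg.Agent.Lib.Helper3.ZassFeit4
import Cfsg.Agent.S0339

set_option autoImplicit false
set_option linter.style.haveILetI false
set_option linter.unusedSectionVars false

/-!
Feit's inequality for Zassenhaus groups with two-point stabilizer of odd order: the simple case,
and the reduction to it.
-/

namespace Cfsg.Agent.Lib.Helper3.ZassFeit

open Cfsg MulAction
open Cfsg.Agent.Lib.Helper97.Zass
open Cfsg.Agent.Lib.Helper3.ZassOdd
open Cfsg.Agent.Lib.Helper3.ExcGen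
open Cfsg.Agent.Lib.Helper78.CNChar
open scoped ComplexConjugate commutatorElement

/-- The simple case. -/
theorem simple_case {G Ω : Type*} [Group G] [Fintype G] [MulAction G Ω] [Fintype Ω]
    (hZ : IsZassenhausGroup G Ω) {a b : Ω} (hab : a ≠ b) [IsSimpleGroup G]
    (hodd : Odd (Nat.card (twoStab G a b))) {H : Subgroup G} (k : Ker G a H)
    (hlt : 2 * Nat.card (twoStab G a b) + 2 < Fintype.card Ω) :
    (∃ m : ℕ, Nat.card H = 2 ^ m) ∧ (¬ ∀ x ∈ H, ∀ y ∈ H, x * y = y * x) ∧
      (⁅H, H⁆.subgroupOf H).index ≤ 4 * (Nat.card (twoStab G a b)) ^ 2 + 1 := by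
  classical
  have hy := hyp_of_zass hZ
  haveI : Fintype ↥(Subgroup.normalizer (H : Set G)) := Fintype.ofFinite _
  have hidx := k.index_eq hy hab
  rcases master' H (Subgroup.normalizer (H : Set G)) rfl (k.ne_bot hy) (k.tiSubset hy)
    (k.lt_normalizer hy) (k.cent_le hy) with h1 | h2 | h3
  · exfalso
    rw [hidx, k.card_eq] at h1
    omega
  · rw [hidx] at h2
    exact h2
  · exfalso
    obtain ⟨star, c⟩ := exists_cohCtx_of_isCoherent (k.ti hy) (k.lt_normalizer hy)
      (k.cent_le hy) h3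
    obtain ⟨ξ₁, hξ₁, hdeg⟩ := exists_rel_deg H (k.ne_bot hy) (k.nilpotent hy)
      (k.lt_normalizer hy) (k.cent_le hy)
    obtain ⟨u₀, hu, hu1⟩ := k.exists_ne_one hy
    exact feit_abstract c (fdata hZ hab hodd k hlt) hξ₁ hdeg hu hu1

/-- The general case: reduction to the simple normal subgroup generated by the elements fixing
exactly one point. -/
theorem general_case {G Ω : Type*} [Group G] [Finite G] [MulAction G Ω] [Fintype Ω]
    (hZ : IsZassenhausGroup G Ω) {a b : Ω} (hab : a ≠ b)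
    (hodd : Odd (Nat.card (twoStab G a b))) {H : Subgroup G} (k : Ker G a H)
    (hlt : 2 * Nat.card (twoStab G a b) + 2 < Fintype.card Ω) :
    (∃ m : ℕ, Nat.card H = 2 ^ m) ∧ (¬ ∀ x ∈ H, ∀ y ∈ H, x * y = y * x) ∧
      (⁅H, H⁆.subgroupOf H).index ≤ 4 * (Nat.card (twoStab G a b)) ^ 2 + 1 := by
  classical
  have hy := hyp_of_zass hZ
  set X : Set G := {x | ∃ δ : Ω, x • δ = δ ∧ ∀ c, x • c = c → c = δ} with hX
  set T := Subgroup.closure X with hT
  have hXconj : ∀ g x : G, x ∈ X → g * x * g⁻¹ ∈ X := by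
    rintro g x ⟨δ, hδ, hu⟩
    refine ⟨g • δ, by rw [mul_smul, mul_smul, inv_smul_smul, hδ], ?_⟩
    intro c hc
    have h1 : x • (g⁻¹ • c) = g⁻¹ • c := by
      rw [mul_smul, mul_smul] at hc
      have h3 := congrArg (fun z => g⁻¹ • z) hc
      simpa [inv_smul_smul] using h3
    have h2 := hu _ h1
    rw [← h2, smul_inv_smul]
  haveI hTn : T.Normal := by
    refine ⟨fun n hn g => ?_⟩
    refine Subgroup.closure_induction (p := fun x _ => g * x * g⁻¹ ∈ T) ?_ ?_ ?_ ?_ hn
    · intro x hx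
      exact Subgroup.subset_closure (hXconj g x hx)
    · simp
    · intro x y _ _ hx hy'
      have h1 : g * (x * y) * g⁻¹ = (g * x * g⁻¹) * (g * y * g⁻¹) := by group
      rw [h1]
      exact T.mul_mem hx hy'
    · intro x _ hx
      have h1 : g * x⁻¹ * g⁻¹ = (g * x * g⁻¹)⁻¹ := by group
      rw [h1]
      exact T.inv_mem hx
  have hHT : H ≤ T := by
    intro u hu
    by_cases hu1 : u = 1
    · rw [hu1]
      exact T.one_mem
    · exact Subgroup.subset_closure ⟨a, k.le hu, k.fix u hu hu1⟩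
  have hT1 : T ≠ ⊥ := by
    intro h
    apply k.ne_bot hy
    rw [eq_bot_iff, ← h]
    exact hHT
  have hZT : IsZassenhausGroup ↥T Ω := Cfsg.Agent.S0339.result hZ T hT1
  haveI : Fintype ↥T := Fintype.ofFinite _
  have hnt : Nontrivial ↥T := (Subgroup.nontrivial_iff_ne_bot T).mpr hT1
  haveI hsimple : IsSimpleGroup ↥T := by
    refine { toNontrivial := hnt, eq_bot_or_eq_top_of_normal := ?_ }
    intro M hM
    by_cases hM1 : M = ⊥
    · exact Or.inl hM1
    right
    have hyT := hyp_of_zass hZT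
    obtain ⟨hcore, -⟩ := core hyT M hM1
    have hXM : X ⊆ (M.map T.subtype : Set G) := by
      rintro x ⟨δ, hδ, hu⟩
      have hxT : x ∈ T := Subgroup.subset_closure ⟨δ, hδ, hu⟩
      have hxM : (⟨x, hxT⟩ : ↥T) ∈ M := hcore ⟨x, hxT⟩ δ hδ hu
      exact ⟨⟨x, hxT⟩, hxM, rfl⟩
    have hTM : T ≤ M.map T.subtype := (Subgroup.closure_le _).mpr hXM
    rw [eq_top_iff]
    intro z _
    obtain ⟨w, hw, hwz⟩ := hTM z.2
    have h1 : w = z := Subtype.ext hwz
    rwa [← h1]
  -- the data for `T`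
  have hmapE : (twoStab ↥T a b).map T.subtype ≤ twoStab G a b := by
    rintro x ⟨z, hz, rfl⟩
    have hz' := mem_twoStab.mp hz
    exact mem_twoStab.mpr ⟨hz'.1, hz'.2⟩
  have hcardE : Nat.card ((twoStab ↥T a b).map T.subtype) = Nat.card (twoStab ↥T a b) :=
    Subgroup.card_map_of_injective (Subgroup.subtype_injective T)
  have hdvd : Nat.card (twoStab ↥T a b) ∣ Nat.card (twoStab G a b) := by
    rw [← hcardE]
    exact Subgroup.card_dvd_of_le hmapE
  have hodd₀ : Odd (Nat.card (twoStab ↥T a b)) := by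
    rcases hodd with ⟨r, hr⟩
    by_contra hne
    rw [Nat.not_odd_iff_even] at hne
    have h2 : 2 ∣ Nat.card (twoStab G a b) := dvd_trans hne.two_dvd hdvd
    omega
  have hle₀ : Nat.card (twoStab ↥T a b) ≤ Nat.card (twoStab G a b) :=
    Nat.le_of_dvd Nat.card_pos hdvd
  have k₀ : Ker ↥T a (H.subgroupOf T) := by
    refine ⟨?_, ?_, ?_⟩
    · intro x hx
      rw [mem_stabilizer_iff]
      exact k.le (Subgroup.mem_subgroupOf.mp hx)
    · rw [Nat.card_congr (Subgroup.subgroupOfEquivOfLe hHT).toEquiv]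
      exact k.card
    · intro u hu hu1 c hc
      exact k.fix (u : G) (Subgroup.mem_subgroupOf.mp hu) (fun h => hu1 (Subtype.ext h)) c hc
  obtain ⟨⟨m, hm⟩, hna, hidx⟩ := simple_case hZT hab hodd₀ k₀ (by omega)
  refine ⟨⟨m, ?_⟩, ?_, ?_⟩
  · rw [← hm]
    exact (Nat.card_congr (Subgroup.subgroupOfEquivOfLe hHT).toEquiv).symm
  · intro hab'
    apply hna
    intro x hx y hy'
    apply Subtype.ext
    exact hab' (x : G) (Subgroup.mem_subgroupOf.mp hx) (y : G) (Subgroup.mem_subgroupOf.mp hy')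
  · have hmapH : (H.subgroupOf T).map T.subtype = H := Subgroup.map_subgroupOf_eq_of_le hHT
    have hmapC : (⁅H.subgroupOf T, H.subgroupOf T⁆ : Subgroup ↥T).map T.subtype = ⁅H, H⁆ := by
      rw [Subgroup.map_commutator, hmapH]
    have hrel : (⁅H, H⁆ : Subgroup G).relIndex H =
        (⁅H.subgroupOf T, H.subgroupOf T⁆ : Subgroup ↥T).relIndex (H.subgroupOf T) := by
      have h1 := Subgroup.relIndex_map_map_of_injective
        (⁅H.subgroupOf T, H.subgroupOf T⁆ : Subgroup ↥T) (H.subgroupOf T)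
        (Subgroup.subtype_injective T)
      rw [hmapC, hmapH] at h1
      exact h1
    show (⁅H, H⁆ : Subgroup G).relIndex H ≤ _
    rw [hrel]
    refine le_trans hidx ?_
    have := Nat.pow_le_pow_left hle₀ 2
    omega

end Cfsg.Agent.Lib.Helper3.ZassFeit
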