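import Mathlib
import Cfsg.Agent.Lib.Helper3.ZassFeit5
import Cfsg.Agent.S0741

set_option autoImplicit false
set_option linter.style.haveILetI false
set_option linter.unusedSectionVars false

/-!
# Zassenhaus' theorem: group theoretic reductions
-/

namespace Cfsg.Agent.Lib.Helper3.ZT

open Cfsg MulAction
open Cfsg.Agent.Lib.Helper97.Zass
open Cfsg.Agent.Lib.Helper3.ZassOdd
open Cfsg.Agent.Lib.Helper3.ZassFeit

/-- a regular normal subgroup of the point stabilizer has `n - 1` elements -/
theorem card_of_reg {G Ω : Type*} [Group G] [Finite G] [MulAction G Ω] [Fintype Ω] {a b : Ω}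
    (hab : a ≠ b) {F : Subgroup G} (hFle : F ≤ stabilizer G a)
    (hreg : ∀ y z : Ω, y ≠ a → z ≠ a → ∃! u : F, (u : G) • y = z) :
    Nat.card F + 1 = Fintype.card Ω := by
  classical
  haveI : Fintype F := Fintype.ofFinite _
  have hne : ∀ u : F, (u : G) • b ≠ a := by
    intro u h
    have h1 : (u : G) • a = a := hFle u.2
    exact hab (smul_left_cancel (u : G) (h.trans h1.symm)).symm
  have hinj : Function.Injective (fun u : F => (u : G) • b) := by
    intro u v huv
    have huv' : (u : G) • b = (v : G) • b := huv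
    exact (hreg b ((v : G) • b) hab.symm (hne v)).unique huv' rfl
  have himg : Finset.univ.image (fun u : F => (u : G) • b) = Finset.univ.erase a := by
    ext z
    rw [Finset.mem_image, Finset.mem_erase]
    constructor
    · rintro ⟨u, -, rfl⟩
      exact ⟨hne u, Finset.mem_univ _⟩
    · rintro ⟨hz, -⟩
      obtain ⟨u, hu, -⟩ := hreg b z hab.symm hz
      exact ⟨u, Finset.mem_univ _, hu⟩
  have h1 := congrArg Finset.card himg
  rw [Finset.card_image_of_injective _ hinj, Finset.card_univ,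
    Finset.card_erase_of_mem (Finset.mem_univ _), Finset.card_univ] at h1
  have hpos : 0 < Fintype.card Ω := Fintype.card_pos_iff.mpr ⟨a⟩
  rw [Nat.card_eq_fintype_card]
  omega

/-- The normal simple Zassenhaus subgroup generated by the elements fixing exactly one point. -/
theorem exists_simple_normal {G Ω : Type*} [Group G] [Finite G] [MulAction G Ω] [Fintype Ω]
    (hZ : IsZassenhausGroup G Ω) {a : Ω} {H : Subgroup G} (k : Ker G a H) :
    ∃ T : Subgroup G, H ≤ T ∧ IsZassenhausGroup ↥T Ω ∧ IsSimpleGroup ↥T := by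
  classical
  have hy := hyp_of_zass hZ
  set X : Set G := {x | ∃ δ : Ω, x • δ = δ ∧ ∀ c, x • c = c → c = δ} with hX
  set T := Subgroup.closure X with hT
  have hXconj : ∀ g x : G, x ∈ X → g * x * g⁻¹ ∈ X := by
    rintro g x ⟨δ, hδ, hu⟩
    refine ⟨g • δ, by rw [mul_smul, mul_smul, inv_smul_smul, hδ], ?_⟩
    intro c hc
    have h1 : x • (g⁻¹ • c) = g⁻¹ • c := by
      rw [mul_smul, mul_smul] at hc
      have h3 := congrArg (fun z => g⁻¹ • z) hc
      simpa [inv_smul_smul] using h3
    have h2 := hu _ h1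
    rw [← h2, smul_inv_smul]
  haveI hTn : T.Normal := by
    refine ⟨fun n hn g => ?_⟩
    refine Subgroup.closure_induction (p := fun x _ => g * x * g⁻¹ ∈ T) ?_ ?_ ?_ ?_ hn
    · intro x hx
      exact Subgroup.subset_closure (hXconj g x hx)
    · simp
    · intro x y _ _ hx hy'
      have h1 : g * (x * y) * g⁻¹ = (g * x * g⁻¹) * (g * y * g⁻¹) := by group
      rw [h1]
      exact T.mul_mem hx hy'
    · intro x _ hx
      have h1 : g * x⁻¹ * g⁻¹ = (g * x * g⁻¹)⁻¹ := by group
      rw [h1]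
      exact T.inv_mem hx
  have hHT : H ≤ T := by
    intro u hu
    by_cases hu1 : u = 1
    · rw [hu1]
      exact T.one_mem
    · exact Subgroup.subset_closure ⟨a, k.le hu, k.fix u hu hu1⟩
  have hT1 : T ≠ ⊥ := by
    intro h
    apply k.ne_bot hy
    rw [eq_bot_iff, ← h]
    exact hHT
  have hZT : IsZassenhausGroup ↥T Ω := Cfsg.Agent.S0339.result hZ T hT1
  have hnt : Nontrivial ↥T := (Subgroup.nontrivial_iff_ne_bot T).mpr hT1
  refine ⟨T, hHT, hZT, ?_⟩
  refine { toNontrivial := hnt, eq_bot_or_eq_top_of_normal := ?_ }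
  intro M hM
  by_cases hM1 : M = ⊥
  · exact Or.inl hM1
  right
  have hyT := hyp_of_zass hZT
  obtain ⟨hcore, -⟩ := core hyT M hM1
  have hXM : X ⊆ (M.map T.subtype : Set G) := by
    rintro x ⟨δ, hδ, hu⟩
    have hxT : x ∈ T := Subgroup.subset_closure ⟨δ, hδ, hu⟩
    have hxM : (⟨x, hxT⟩ : ↥T) ∈ M := hcore ⟨x, hxT⟩ δ hδ hu
    exact ⟨⟨x, hxT⟩, hxM, rfl⟩
  have hTM : T ≤ M.map T.subtype := (Subgroup.closure_le _).mpr hXM
  rw [eq_top_iff]
  intro z _
  obtain ⟨w, hw, hwz⟩ := hTM z.2
  have h1 : w = z := Subtype.ext hwz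
  rwa [← h1]

/-- A Zassenhaus group with abelian kernel and two point stabilizer of odd order `(n - 2) / 2` is
simple. -/
theorem simple_of_abelian {G Ω : Type*} [Group G] [Finite G] [MulAction G Ω] [Fintype Ω]
    (hZ : IsZassenhausGroup G Ω) {a b : Ω} (hab : a ≠ b)
    (hodd : Odd (Nat.card (twoStab G a b))) {H : Subgroup G} (k : Ker G a H)
    (hcomm : ∀ x ∈ H, ∀ y ∈ H, x * y = y * x)
    (h2e : 2 * Nat.card (twoStab G a b) + 2 = Fintype.card Ω) : IsSimpleGroup G := by
  classical
  have hy := hyp_of_zass hZ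
  obtain ⟨T, hHT, hZT, hsimple⟩ := exists_simple_normal hZ k
  haveI := hsimple
  haveI : Fintype ↥T := Fintype.ofFinite _
  have hyT := hyp_of_zass hZT
  have hmapE : (twoStab ↥T a b).map T.subtype ≤ twoStab G a b := by
    rintro x ⟨z, hz, rfl⟩
    have hz' := mem_twoStab.mp hz
    exact mem_twoStab.mpr ⟨hz'.1, hz'.2⟩
  have hcardE : Nat.card ((twoStab ↥T a b).map T.subtype) = Nat.card (twoStab ↥T a b) :=
    Subgroup.card_map_of_injective (Subgroup.subtype_injective T)
  have hdvd : Nat.card (twoStab ↥T a b) ∣ Nat.card (twoStab G a b) := by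
    rw [← hcardE]
    exact Subgroup.card_dvd_of_le hmapE
  have hodd₀ : Odd (Nat.card (twoStab ↥T a b)) := by
    rcases hodd with ⟨r, hr⟩
    by_contra hne
    rw [Nat.not_odd_iff_even] at hne
    have h2 : 2 ∣ Nat.card (twoStab G a b) := dvd_trans hne.two_dvd hdvd
    omega
  have hle₀ : Nat.card (twoStab ↥T a b) ≤ Nat.card (twoStab G a b) :=
    Nat.le_of_dvd Nat.card_pos hdvd
  have k₀ : Ker ↥T a (H.subgroupOf T) := by
    refine ⟨?_, ?_, ?_⟩
    · intro x hx
      rw [mem_stabilizer_iff]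
      exact k.le (Subgroup.mem_subgroupOf.mp hx)
    · rw [Nat.card_congr (Subgroup.subgroupOfEquivOfLe hHT).toEquiv]
      exact k.card
    · intro u hu hu1 c hc
      exact k.fix (u : G) (Subgroup.mem_subgroupOf.mp hu) (fun h => hu1 (Subtype.ext h)) c hc
  have hge : Fintype.card Ω ≤ 2 * Nat.card (twoStab ↥T a b) + 2 := by
    by_contra hlt
    push Not at hlt
    obtain ⟨-, hna, -⟩ := simple_case hZT hab hodd₀ k₀ hlt
    apply hna
    intro x hx y hy'
    apply Subtype.ext
    exact hcomm (x : G) (Subgroup.mem_subgroupOf.mp hx) (y : G) (Subgroup.mem_subgroupOf.mp hy')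
  have heq : Nat.card (twoStab ↥T a b) = Nat.card (twoStab G a b) := by omega
  have hcT := card_eq hyT hab
  have hcG := card_eq hy hab
  rw [heq, ← hcG] at hcT
  have htop : T = ⊤ := Subgroup.eq_top_of_card_eq T hcT
  haveI : Nontrivial G := by
    obtain ⟨u, hu, hu1⟩ := k.exists_ne_one hy
    exact ⟨⟨u, 1, hu1⟩⟩
  refine IsSimpleGroup.isSimpleGroup_of_surjective T.subtype ?_
  intro g
  exact ⟨⟨g, by rw [htop]; exact Subgroup.mem_top g⟩, rfl⟩

/-- The lower bound for the order of the two point stabilizer when the kernel is abelian. -/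
theorem bound_of_abelian {G Ω : Type*} [Group G] [Finite G] [MulAction G Ω] [Fintype Ω]
    (hZ : IsZassenhausGroup G Ω) {a b : Ω} (hab : a ≠ b) {H : Subgroup G} (k : Ker G a H)
    (hcomm : ∀ x ∈ H, ∀ y ∈ H, x * y = y * x) :
    Fintype.card Ω ≤ 2 * Nat.card (twoStab G a b) + 2 := by
  by_cases heven : Even (Nat.card (twoStab G a b))
  · have h1 : Fintype.card Ω - 2 ≤ 2 * Nat.card (twoStab G a b) :=
      Cfsg.Agent.S0741.result hZ hab heven
    omega
  · by_contra hlt
    push Not at hlt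
    obtain ⟨-, hna, -⟩ := general_case hZ hab (Nat.not_even_iff_odd.mp heven) k hlt
    exact hna hcomm

end Cfsg.Agent.Lib.Helper3.ZT
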