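import Mathlib

set_option autoImplicit false
set_option linter.style.haveILetI false
set_option linter.unusedSectionVars false

/-!
# Zassenhaus' theorem: the field

A commuting group `E` of automorphisms of a finite abelian group `V`, semiregular on the nonzero
elements, with `|V| = 2|E| + 1`, is the group of nonzero squares of a field structure on `V`.
-/

namespace Cfsg.Agent.Lib.Helper3.ZT

/-- an irreducibility criterion by counting -/
theorem irr_of_semireg {V : Type*} [AddCommGroup V] [Finite V] {E : Type*} [Group E] [Finite E]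
    (ρ : E →* AddMonoid.End V)
    (hsemi : ∀ h : E, ∀ x : V, x ≠ 0 → ρ h x = x → h = 1)
    (hcard : 2 * Nat.card E + 1 = Nat.card V) (W : AddSubgroup V)
    (hW : ∀ h : E, ∀ w ∈ W, ρ h w ∈ W) : W = ⊥ ∨ W = ⊤ := by
  by_cases hbot : W = ⊥
  · exact Or.inl hbot
  right
  have hinv : ∀ h : E, ∀ x : V, ρ h⁻¹ (ρ h x) = x := by
    intro h x
    have : ρ h⁻¹ * ρ h = 1 := by rw [← map_mul, inv_mul_cancel, map_one]
    exact congrArg (fun f : AddMonoid.End V => f x) this
  obtain ⟨w, hw, hw0⟩ : ∃ w ∈ W, w ≠ 0 := by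
    by_contra hcon
    push Not at hcon
    exact hbot ((AddSubgroup.eq_bot_iff_forall W).mpr hcon)
  let f : Option E → W := fun o => o.elim 0 (fun h => ⟨ρ h w, hW h w hw⟩)
  have hf : Function.Injective f := by
    intro o₁ o₂ h12
    have hne : ∀ h : E, ρ h w ≠ 0 := by
      intro h h0
      apply hw0
      rw [← hinv h w, h0, map_zero]
    rcases o₁ with _ | h₁ <;> rcases o₂ with _ | h₂
    · rfl
    · exfalso
      have := congrArg Subtype.val h12
      exact hne h₂ this.symm
    · exfalso
      have := congrArg Subtype.val h12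
      exact hne h₁ this
    · have h3 : ρ h₁ w = ρ h₂ w := congrArg Subtype.val h12
      have h4 : ρ (h₂⁻¹ * h₁) w = w := by
        rw [map_mul]
        show ρ h₂⁻¹ (ρ h₁ w) = w
        rw [h3, hinv]
      have h5 := hsemi _ w hw0 h4
      have : h₁ = h₂ := by
        calc h₁ = h₂ * (h₂⁻¹ * h₁) := by group
          _ = h₂ := by rw [h5, mul_one]
      rw [this]
  have h1 : Nat.card E + 1 ≤ Nat.card W := by
    rw [← Finite.card_option]
    exact Nat.card_le_card_of_injective f hf
  obtain ⟨k, hk⟩ := AddSubgroup.card_addSubgroup_dvd_card W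
  have hk1 : k = 1 := by
    rcases Nat.lt_or_ge k 2 with h2 | h2
    · have hpos : 0 < Nat.card V := Nat.card_pos
      rcases Nat.eq_zero_or_pos k with h0 | h0
      · rw [h0, mul_zero] at hk
        omega
      · omega
    · exfalso
      have : Nat.card W * 2 ≤ Nat.card W * k := Nat.mul_le_mul_left _ h2
      omega
  rw [hk1, mul_one] at hk
  exact AddSubgroup.eq_top_of_card_eq W hk.symm

/-- The field. -/
theorem exists_field {V : Type*} [AddCommGroup V] [Finite V] {E : Type*} [Group E] [Finite E]
    (ρ : E →* AddMonoid.End V)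
    (hcomm : ∀ h k : E, ρ h * ρ k = ρ k * ρ h)
    (hsemi : ∀ h : E, ∀ x : V, x ≠ 0 → ρ h x = x → h = 1)
    (hcard : 2 * Nat.card E + 1 = Nat.card V) :
    ∃ (K : Type) (_ : Field K) (_ : Fintype K) (ι : K ≃+ V),
      ∀ h : E, ∃ s : K, s ≠ 0 ∧ ∀ x : K, ρ h (ι x) = ι (s * s * x) := by
  classical
  have hirr := irr_of_semireg ρ hsemi hcard
  -- a nonzero vector
  obtain ⟨v₀, hv₀⟩ : ∃ v₀ : V, v₀ ≠ 0 := by
    by_contra hcon
    push Not at hcon
    haveI : Subsingleton V := ⟨fun a b => by rw [hcon a, hcon b]⟩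
    have : Nat.card V = 1 := Nat.card_unique
    have hpos : 0 < Nat.card E := Nat.card_pos
    omega
  -- the ring
  set S : Subring (AddMonoid.End V) := Subring.closure (Set.range ρ) with hS
  have hcomm' : ∀ x ∈ Set.range ρ, ∀ y ∈ Set.range ρ, x * y = y * x := by
    rintro x ⟨h, rfl⟩ y ⟨k, rfl⟩
    exact hcomm h k
  have hmc : IsMulCommutative S := Subring.isMulCommutative_closure hcomm'
  letI : CommRing S := { (inferInstance : Ring S) with mul_comm := fun a b => hmc.is_comm.comm a b }
  haveI : Finite (AddMonoid.End V) := Finite.of_injective (fun f : AddMonoid.End V => (f : V → V))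
    DFunLike.coe_injective
  haveI : Fintype S := Fintype.ofFinite S
  have hρS : ∀ h : E, ρ h ∈ S := fun h => Subring.subset_closure ⟨h, rfl⟩
  let σ : E →* S := ρ.codRestrict S.toSubmonoid hρS
  have hσ : ∀ h : E, ((σ h : S) : AddMonoid.End V) = ρ h := fun h => rfl
  -- nonzero elements are injective
  have hinj : ∀ r : S, r ≠ 0 → Function.Injective (r : AddMonoid.End V) := by
    intro r hr
    have hker : ∀ h : E, ∀ w ∈ AddMonoidHom.ker (r : V →+ V), ρ h w ∈ AddMonoidHom.ker (r : V →+ V) := by
      intro h w hw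
      rw [AddMonoidHom.mem_ker] at hw ⊢
      have h1 : r * σ h = σ h * r := mul_comm _ _
      have h2 := congrArg (fun s : S => (s : AddMonoid.End V) w) h1
      simp only [Subring.coe_mul, hσ] at h2
      show (r : AddMonoid.End V) (ρ h w) = 0
      have h3 : ((r : AddMonoid.End V) * ρ h) w = (r : AddMonoid.End V) (ρ h w) := rfl
      have h4 : (ρ h * (r : AddMonoid.End V)) w = ρ h ((r : AddMonoid.End V) w) := rfl
      rw [← h3, h2, h4]
      have h5 : (r : AddMonoid.End V) w = 0 := hw
      rw [h5, map_zero]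
    rcases hirr _ hker with h1 | h1
    · exact (AddMonoidHom.ker_eq_bot_iff (r : V →+ V)).mp h1
    · exfalso
      apply hr
      apply Subtype.ext
      apply AddMonoidHom.ext
      intro v
      have : v ∈ AddMonoidHom.ker (r : V →+ V) := by rw [h1]; exact AddSubgroup.mem_top v
      exact this
  haveI : Nontrivial S := by
    refine ⟨⟨1, 0, ?_⟩⟩
    intro h10
    have := congrArg (fun s : S => (s : AddMonoid.End V) v₀) h10
    exact hv₀ this
  haveI : NoZeroDivisors S := by
    refine ⟨?_⟩
    intro r s hrs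
    by_cases hr : r = 0
    · exact Or.inl hr
    right
    apply Subtype.ext
    apply AddMonoidHom.ext
    intro v
    have h1 := congrArg (fun s : S => (s : AddMonoid.End V) v) hrs
    have h2 : (r : AddMonoid.End V) ((s : AddMonoid.End V) v) = (r : AddMonoid.End V) 0 := by
      rw [map_zero]
      exact h1
    exact hinj r hr h2
  haveI : IsDomain S := NoZeroDivisors.to_isDomain S
  letI : Field S := Fintype.fieldOfDomain S
  -- the evaluation map
  let ι₀ : S →+ V :=
    { toFun := fun r => (r : AddMonoid.End V) v₀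
      map_zero' := rfl
      map_add' := fun _ _ => rfl }
  have hι₀inj : Function.Injective ι₀ := by
    rw [injective_iff_map_eq_zero]
    intro r hr
    by_contra hr0
    have h1 : (r : AddMonoid.End V) v₀ = (r : AddMonoid.End V) 0 := by
      rw [map_zero]
      exact hr
    exact hv₀ (hinj r hr0 h1)
  have hι₀mul : ∀ (h : E) (r : S), ρ h (ι₀ r) = ι₀ (σ h * r) := fun h r => rfl
  have hι₀surj : Function.Surjective ι₀ := by
    rw [← AddMonoidHom.range_eq_top]
    have hinv : ∀ h : E, ∀ w ∈ ι₀.range, ρ h w ∈ ι₀.range := by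
      rintro h w ⟨r, rfl⟩
      exact ⟨σ h * r, (hι₀mul h r).symm⟩
    rcases hirr _ hinv with h1 | h1
    · exfalso
      have h2 : v₀ ∈ ι₀.range := ⟨1, rfl⟩
      rw [h1, AddSubgroup.mem_bot] at h2
      exact hv₀ h2
    · exact h1
  let ι₁ : S ≃+ V := AddEquiv.ofBijective ι₀ ⟨hι₀inj, hι₀surj⟩
  have hcardS : Fintype.card S = 2 * Nat.card E + 1 := by
    rw [hcard, ← Nat.card_eq_fintype_card]
    exact Nat.card_congr ι₁.toEquiv
  -- squares
  have hchar : ringChar S ≠ 2 := by
    intro h2
    rw [FiniteField.even_card_iff_char_two] at h2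
    omega
  have hsq : ∀ h : E, σ h ≠ 0 ∧ IsSquare (σ h) := by
    intro h
    have h0 : σ h ≠ 0 := by
      intro h0
      have h1 : σ h * σ h⁻¹ = 1 := by rw [← map_mul, mul_inv_cancel, map_one]
      rw [h0, zero_mul] at h1
      exact zero_ne_one h1
    refine ⟨h0, ?_⟩
    rw [FiniteField.isSquare_iff hchar h0, hcardS]
    have : (2 * Nat.card E + 1) / 2 = Nat.card E := by omega
    rw [this, ← map_pow, pow_card_eq_one', map_one]
  -- the field in the lowest universe
  obtain ⟨p, hp⟩ := CharP.exists S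
  obtain ⟨n, hpp, hn⟩ := FiniteField.card S p
  haveI : Fact p.Prime := ⟨hpp⟩
  letI : Fintype (GaloisField p n) := Fintype.ofFinite _
  have hcK : Fintype.card (GaloisField p n) = Fintype.card S := by
    rw [hn, ← Nat.card_eq_fintype_card]
    exact GaloisField.card p n n.ne_zero
  let φ : GaloisField p n ≃+* S := FiniteField.ringEquivOfCardEq hcK
  refine ⟨GaloisField p n, inferInstance, Fintype.ofFinite _, φ.toAddEquiv.trans ι₁, ?_⟩
  intro h
  obtain ⟨h0, a, ha⟩ := hsq h
  refine ⟨φ.symm a, ?_, ?_⟩
  · intro hs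
    have : a = 0 := by
      have h1 := congrArg φ hs
      rwa [RingEquiv.apply_symm_apply, map_zero] at h1
    rw [this, mul_zero] at ha
    exact h0 ha
  · intro x
    show ρ h (ι₀ (φ x)) = ι₀ (φ (φ.symm a * φ.symm a * x))
    rw [hι₀mul, map_mul φ, map_mul φ, RingEquiv.apply_symm_apply, ha]

end Cfsg.Agent.Lib.Helper3.ZT
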