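import Mathlib
import Cfsg.Agent.Lib.Helper3.ZT1

set_option autoImplicit false
set_option linter.style.haveILetI false
set_option linter.unusedSectionVars false

/-!
# Zassenhaus' theorem: the structure equation in the model
-/

namespace Cfsg.Agent.Lib.Helper3.ZT

open OnePoint

variable {V : Type*} [AddCommGroup V] {Γ : Subgroup (Equiv.Perm (OnePoint V))}
  {t : Equiv.Perm (OnePoint V)}

/-- the element interchanging `0` and `∞` in the structure equation of `u` -/
def mu (t : Equiv.Perm (OnePoint V)) (u : V) : Equiv.Perm (OnePoint V) :=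
  trans (-(lin t u)) * t * trans u * t * trans (-(lin t u))

/-- the element of the two point stabilizer in the structure equation of `u` -/
def hh (t : Equiv.Perm (OnePoint V)) (u : V) : Equiv.Perm (OnePoint V) := t * mu t u

theorem Mod0.mu_mem (m : Mod0 Γ t) (u : V) : mu t u ∈ Γ :=
  Γ.mul_mem (Γ.mul_mem (Γ.mul_mem (Γ.mul_mem (m.trans_mem _) m.t_mem) (m.trans_mem _)) m.t_mem)
    (m.trans_mem _)

theorem Mod0.mu_infty (m : Mod0 Γ t) {u : V} (hu : u ≠ 0) :
    mu t u ∞ = ((0 : V) : OnePoint V) := by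
  unfold mu
  simp only [Equiv.Perm.mul_apply]
  rw [trans_infty, m.t_infty, trans_coe, add_zero, m.t_coe hu, trans_coe, neg_add_cancel]

theorem Mod0.mu_zero (m : Mod0 Γ t) (hsp : ∀ x : V, x ≠ 0 → lin t (-x) = -lin t x) {u : V}
    (hu : u ≠ 0) : mu t u ((0 : V) : OnePoint V) = ∞ := by
  unfold mu
  simp only [Equiv.Perm.mul_apply]
  have h1 : lin t u ≠ 0 := m.tau_ne_zero hu
  have h2 : -lin t u ≠ 0 := neg_ne_zero.mpr h1
  rw [trans_coe, add_zero, m.t_coe h2, hsp _ h1, m.tau_tau hu, trans_coe, add_neg_cancel,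
    m.t_zero, trans_infty]

theorem Mod0.t_mu (m : Mod0 Γ t) (u : V) : t * hh t u = mu t u := by
  unfold hh
  rw [← mul_assoc, m.t_sq, one_mul]

theorem Mod0.hh_mem (m : Mod0 Γ t) (hsp : ∀ x : V, x ≠ 0 → lin t (-x) = -lin t x) {u : V}
    (hu : u ≠ 0) : hh t u ∈ Estab Γ := by
  refine ⟨Γ.mul_mem m.t_mem (m.mu_mem u), ?_, ?_⟩
  · unfold hh
    rw [Equiv.Perm.mul_apply, m.mu_infty hu, m.t_zero]
  · unfold hh
    rw [Equiv.Perm.mul_apply, m.mu_zero hsp hu, m.t_infty]

theorem struct_aux {P : Type*} [Group P] (t a b : P) (ht : t * t = 1) :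
    t * b * t = a * t * (t * (a⁻¹ * t * b * t * a⁻¹)) * a := by
  have h1 : a * t * (t * (a⁻¹ * t * b * t * a⁻¹)) * a
      = a * (t * t) * a⁻¹ * t * b * t * (a⁻¹ * a) := by
    simp only [mul_assoc]
  rw [h1, ht, inv_mul_cancel, mul_one, mul_one, mul_inv_cancel, one_mul]

theorem Mod0.struct_eq (m : Mod0 Γ t) (u : V) :
    t * trans u * t = trans (lin t u) * t * hh t u * trans (lin t u) := by
  have h := struct_aux t (trans (lin t u)) (trans u) m.t_sq
  rw [← trans_neg] at h
  rw [h]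
  simp only [hh, mu, mul_assoc]

/-- the key formula -/
theorem Mod0.key_formula (m : Mod0 Γ t) (hsp : ∀ x : V, x ≠ 0 → lin t (-x) = -lin t x) {u : V}
    (hu : u ≠ 0) (hinv : t * hh t u * t = (hh t u)⁻¹) {x : V} (hx : x ≠ 0)
    (hAx : lin t u + x ≠ 0) :
    lin t (u + lin t x) = lin t u + lin (hh t u)⁻¹ (lin t (lin t u + x)) := by
  have hE := m.hh_mem hsp hu
  have h1 := congrArg (fun f : Equiv.Perm (OnePoint V) => f (x : OnePoint V)) (m.struct_eq u)
  simp only [Equiv.Perm.mul_apply] at h1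
  have h3 : lin (hh t u) (lin t u + x) ≠ 0 := by
    intro h0
    exact hAx ((lin_eq_zero_iff hE).mp h0)
  rw [m.t_coe hx, trans_coe, trans_coe, lin_spec hE.2.1, m.t_coe h3, trans_coe] at h1
  have h4 := congrArg val h1
  rw [val_coe] at h4
  have h5 : val (t ((u + lin t x : V) : OnePoint V)) = lin t (u + lin t x) := rfl
  rw [h5] at h4
  rw [h4, m.tau_lin hE hAx, hinv]

/-- the key formula, second form -/
theorem Mod0.key_formula' (m : Mod0 Γ t) (hsp : ∀ x : V, x ≠ 0 → lin t (-x) = -lin t x) {u : V}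
    (hu : u ≠ 0) (hinv : t * hh t u * t = (hh t u)⁻¹) {v : V} (hv : v ≠ 0)
    (huv : u + v ≠ 0) :
    lin t (u + v) = lin t u + lin (hh t u)⁻¹ (lin t (lin t u + lin t v)) := by
  have h1 : lin t u + lin t v ≠ 0 := by
    intro h0
    have h2 : lin t v = lin t (-u) := by
      rw [hsp u hu]
      exact eq_neg_of_add_eq_zero_right h0
    have h3 := m.tau_injective hv (neg_ne_zero.mpr hu) h2
    apply huv
    rw [h3, add_neg_cancel]
  have h2 := m.key_formula hsp hu hinv (m.tau_ne_zero hv) h1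
  rw [m.tau_tau hv] at h2
  exact h2

/-- `u ↦ hh t u` is injective up to sign -/
theorem Mod0.hh_inj (m : Mod0 Γ t) (hsp : ∀ x : V, x ≠ 0 → lin t (-x) = -lin t x)
    (hinv : ∀ u : V, u ≠ 0 → t * hh t u * t = (hh t u)⁻¹) {u v : V} (hu : u ≠ 0) (hv : v ≠ 0)
    (h : hh t u = hh t v) : u = v ∨ u = -v := by
  by_cases huv : u + v = 0
  · right
    exact eq_neg_of_add_eq_zero_left huv
  · left
    have h1 := m.key_formula' hsp hu (hinv u hu) hv huv
    have hvu : v + u ≠ 0 := by rwa [add_comm]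
    have h2 := m.key_formula' hsp hv (hinv v hv) hu hvu
    rw [add_comm v u, add_comm (lin t v) (lin t u), ← h, h1] at h2
    exact m.tau_injective hu hv (add_right_cancel h2)

end Cfsg.Agent.Lib.Helper3.ZT
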