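import Mathlib
import Cfsg.Agent.Lib.Helper3.ZT2

set_option autoImplicit false
set_option linter.style.haveILetI false
set_option linter.unusedSectionVars false

/-!
# Zassenhaus' theorem: two point stabilizer of even order, and the inversion of `E` by `t`
-/

namespace Cfsg.Agent.Lib.Helper3.ZT

open OnePoint

variable {V : Type*} [AddCommGroup V] {Γ : Subgroup (Equiv.Perm (OnePoint V))}
  {t : Equiv.Perm (OnePoint V)}

instance instFiniteOnePoint [Finite V] : Finite (OnePoint V) :=
  inferInstanceAs (Finite (Option V))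

theorem Mod0.lin_inj_left (m : Mod0 Γ t) {h k : Equiv.Perm (OnePoint V)} (hh : h ∈ Estab Γ)
    (hk : k ∈ Estab Γ) {x : V} (hx : x ≠ 0) (he : lin h x = lin k x) : h = k := by
  have h1 : lin (k⁻¹ * h) x = x := by
    rw [lin_mul hh, he, lin_inv_lin hk]
  have h2 := m.semireg ((Estab Γ).mul_mem ((Estab Γ).inv_mem hk) hh) hx h1
  calc h = k * (k⁻¹ * h) := by group
    _ = k := by rw [h2, mul_one]

theorem Mod0.inv_lin (m : Mod0 Γ t) {j : Equiv.Perm (OnePoint V)} (hj : j ∈ Estab Γ) (hj1 : j ≠ 1)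
    (hjj : j * j = 1) (x : V) : lin j x = -x := by
  by_contra hne
  have h1 : x + lin j x ≠ 0 := fun h0 => hne (eq_neg_of_add_eq_zero_right h0)
  have h2 : lin j (x + lin j x) = x + lin j x := by
    rw [m.lin_add hj, ← lin_mul hj, hjj, lin_one, add_comm]
  exact hj1 (m.semireg hj h1 h2)

theorem Mod0.j_comm (m : Mod0 Γ t) {j : Equiv.Perm (OnePoint V)} (hj : j ∈ Estab Γ)
    (hjx : ∀ x, lin j x = -x) {h : Equiv.Perm (OnePoint V)} (hh : h ∈ Estab Γ) :
    j * h = h * j := by
  apply E_ext ((Estab Γ).mul_mem hj hh) ((Estab Γ).mul_mem hh hj)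
  intro x
  rw [lin_mul hh, lin_mul hj, hjx, hjx, m.lin_neg hh]

theorem Mod0.tjt (m : Mod0 Γ t) {j : Equiv.Perm (OnePoint V)} (hj : j ∈ Estab Γ) (hj1 : j ≠ 1)
    (hjj : j * j = 1) : t * j * t = j := by
  have h1 := m.tht_mem hj
  apply E_ext h1 hj
  intro x
  have h2 : t * j * t ≠ 1 := by
    intro h
    apply hj1
    calc j = (t * t) * j * (t * t) := by rw [m.t_sq, one_mul, mul_one]
      _ = t * (t * j * t) * t := by simp only [mul_assoc]
      _ = 1 := by rw [h, mul_one, m.t_sq]
  have h3 : (t * j * t) * (t * j * t) = 1 := by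
    calc (t * j * t) * (t * j * t) = t * j * (t * t) * j * t := by simp only [mul_assoc]
      _ = t * (j * j) * t := by rw [m.t_sq, mul_one, mul_assoc t j j]
      _ = 1 := by rw [hjj, mul_one, m.t_sq]
  rw [m.inv_lin h1 h2 h3 x, m.inv_lin hj hj1 hjj x]

theorem j_trans {j : Equiv.Perm (OnePoint V)} (hj : j ∈ Estab Γ)
    (hjx : ∀ x, lin j x = -x) (v : V) : j * trans v * j = (trans v)⁻¹ := by
  rw [← trans_neg]
  ext p
  induction p using OnePoint.rec with
  | infty =>
    rw [Equiv.Perm.mul_apply, Equiv.Perm.mul_apply, hj.2.1, trans_infty, hj.2.1, trans_infty]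
  | coe x =>
    rw [Equiv.Perm.mul_apply, Equiv.Perm.mul_apply, lin_spec hj.2.1, hjx, trans_coe,
      lin_spec hj.2.1, hjx, trans_coe, neg_add, neg_neg]

theorem conj_aux {P : Type*} [Group P] (j t a b : P) (hjj : j * j = 1) (htt : t * t = 1)
    (hjt : j * t = t * j) (ha : j * a * j = a⁻¹) (hb : j * b * j = b⁻¹) :
    j * (a * t * b * t * a) * j = (a * t * b * t * a)⁻¹ := by
  have hti : t⁻¹ = t := inv_eq_of_mul_eq_one_left htt
  have hmul : ∀ x y : P, (j * x * j) * (j * y * j) = j * (x * y) * j := by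
    intro x y
    calc (j * x * j) * (j * y * j) = j * x * (j * j) * y * j := by simp only [mul_assoc]
      _ = j * (x * y) * j := by rw [hjj, mul_one]; simp only [mul_assoc]
  have h1 : j * (a * t * b * t * a) * j
      = (j * a * j) * (j * t * j) * (j * b * j) * (j * t * j) * (j * a * j) := by
    rw [hmul, hmul, hmul, hmul]
  have h2 : j * t * j = t := by rw [hjt, mul_assoc, hjj, mul_one]
  rw [h1, ha, hb, h2]
  simp only [mul_inv_rev, hti, mul_assoc]

/-- The case of a two point stabilizer of even order. -/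
theorem Mod0.even_case [Finite V] (m : Mod0 Γ t) (he : Even (Nat.card (Estab Γ))) :
    (∀ x : V, x ≠ 0 → lin t (-x) = -lin t x) ∧
      ∀ u : V, u ≠ 0 → t * hh t u * t = (hh t u)⁻¹ := by
  haveI : Fact (Nat.Prime 2) := ⟨Nat.prime_two⟩
  obtain ⟨j₀, hj₀⟩ := exists_prime_orderOf_dvd_card' (G := Estab Γ) 2 he.two_dvd
  set j : Equiv.Perm (OnePoint V) := (j₀ : Equiv.Perm (OnePoint V)) with hjdef
  have hj : j ∈ Estab Γ := j₀.2
  have hj1 : j ≠ 1 := by
    intro h
    have : j₀ = 1 := Subtype.ext h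
    rw [this, orderOf_one] at hj₀
    omega
  have hjj : j * j = 1 := by
    have h1 := pow_orderOf_eq_one j₀
    rw [hj₀, pow_two] at h1
    exact congrArg Subtype.val h1
  have hjx := m.inv_lin hj hj1 hjj
  have htjt := m.tjt hj hj1 hjj
  have hsp : ∀ x : V, x ≠ 0 → lin t (-x) = -lin t x := by
    intro x hx
    rw [← hjx x, m.tau_lin hj hx, htjt, hjx]
  refine ⟨hsp, ?_⟩
  intro u hu
  have hjt : j * t = t * j := by
    calc j * t = (t * j * t) * t := by rw [htjt]
      _ = t * j * (t * t) := by simp only [mul_assoc]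
      _ = t * j := by rw [m.t_sq, mul_one]
  have h1 : j * mu t u * j = (mu t u)⁻¹ :=
    conj_aux j t (trans (-(lin t u))) (trans u) hjj m.t_sq hjt (j_trans hj hjx _)
      (j_trans hj hjx _)
  have hE := m.hh_mem hsp hu
  have h2 : j * mu t u * j = mu t u := by
    rw [← m.t_mu u]
    calc j * (t * hh t u) * j = (j * t) * (hh t u * j) := by simp only [mul_assoc]
      _ = (t * j) * (j * hh t u) := by rw [hjt, m.j_comm hj hjx hE]
      _ = t * (j * j) * hh t u := by simp only [mul_assoc]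
      _ = t * hh t u := by rw [hjj, mul_one]
  have h3 : mu t u * mu t u = 1 := by
    have : (mu t u)⁻¹ = mu t u := by rw [← h1, h2]
    calc mu t u * mu t u = (mu t u)⁻¹ * mu t u := by rw [this]
      _ = 1 := inv_mul_cancel _
  rw [← m.t_mu u] at h3
  apply eq_inv_of_mul_eq_one_left
  calc t * hh t u * t * hh t u = (t * hh t u) * (t * hh t u) := by simp only [mul_assoc]
    _ = 1 := h3

/-- If `t` inverts all the `hh t u`, it inverts the two point stabilizer. -/
theorem Mod0.inv_all [Finite V] (m : Mod0 Γ t)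
    (hsp : ∀ x : V, x ≠ 0 → lin t (-x) = -lin t x)
    (hinv : ∀ u : V, u ≠ 0 → t * hh t u * t = (hh t u)⁻¹) :
    ∀ h ∈ Estab Γ, t * h * t = h⁻¹ := by
  classical
  haveI : Fintype V := Fintype.ofFinite V
  haveI : Fintype (Estab Γ) := Fintype.ofFinite _
  let f : V → Estab Γ := fun u => if hu : u ≠ 0 then ⟨hh t u, m.hh_mem hsp hu⟩ else 1
  have hf : ∀ u : V, u ≠ 0 → ((f u : Estab Γ) : Equiv.Perm (OnePoint V)) = hh t u := by
    intro u hu
    simp only [f, dif_pos hu]
  set s : Finset V := Finset.univ.erase 0 with hs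
  have hscard : s.card = Fintype.card V - 1 := by
    rw [hs, Finset.card_erase_of_mem (Finset.mem_univ _), Finset.card_univ]
  have hfib : ∀ b ∈ s.image f, (s.filter fun a => f a = b).card ≤ 2 := by
    intro b hb
    obtain ⟨a₀, ha₀, rfl⟩ := Finset.mem_image.mp hb
    have ha₀0 : a₀ ≠ 0 := (Finset.mem_erase.mp ha₀).1
    have hsub : (s.filter fun a => f a = f a₀) ⊆ {a₀, -a₀} := by
      intro a ha
      rw [Finset.mem_filter] at ha
      have ha0 : a ≠ 0 := (Finset.mem_erase.mp ha.1).1
      have h1 : hh t a = hh t a₀ := by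
        rw [← hf a ha0, ← hf a₀ ha₀0, ha.2]
      rcases m.hh_inj hsp hinv ha0 ha₀0 h1 with h2 | h2
      · rw [h2]; exact Finset.mem_insert_self _ _
      · rw [h2]; exact Finset.mem_insert_of_mem (Finset.mem_singleton_self _)
    exact (Finset.card_le_card hsub).trans Finset.card_le_two
  have h1 := Finset.card_le_mul_card_image s 2 hfib
  have hcard := m.card
  rw [Nat.card_eq_fintype_card, Nat.card_eq_fintype_card] at hcard
  have h2 : (s.image f).card ≤ Fintype.card (Estab Γ) := Finset.card_le_univ _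
  have h3 : s.image f = Finset.univ := by
    apply Finset.eq_univ_of_card
    omega
  intro h hh'
  have h4 : (⟨h, hh'⟩ : Estab Γ) ∈ s.image f := by rw [h3]; exact Finset.mem_univ _
  obtain ⟨u, hu, hfu⟩ := Finset.mem_image.mp h4
  have hu0 : u ≠ 0 := (Finset.mem_erase.mp hu).1
  have h5 : hh t u = h := by
    rw [← hf u hu0, hfu]
  rw [← h5]
  exact hinv u hu0

end Cfsg.Agent.Lib.Helper3.ZT
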