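import Mathlib
import Cfsg.Agent.Lib.Helper3.ZT3

set_option autoImplicit false
set_option linter.style.haveILetI false
set_option linter.unusedSectionVars false

/-!
# Zassenhaus' theorem: two point stabilizer of odd order, inverted by `t`
-/

namespace Cfsg.Agent.Lib.Helper3.ZT

open OnePoint

variable {V : Type*} [AddCommGroup V] {Γ : Subgroup (Equiv.Perm (OnePoint V))}
  {t : Equiv.Perm (OnePoint V)}

/-- in a group of odd order only the identity squares to the identity -/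
theorem eq_one_of_sq_of_odd [Finite V] {h : Equiv.Perm (OnePoint V)} (hh : h ∈ Estab Γ)
    (ho : Odd (Nat.card (Estab Γ))) (h2 : h * h = 1) : h = 1 := by
  obtain ⟨r, hr⟩ := ho
  have h1 : (⟨h, hh⟩ : Estab Γ) ^ Nat.card (Estab Γ) = 1 := pow_card_eq_one'
  have h3 : h ^ Nat.card (Estab Γ) = 1 := by
    have := congrArg Subtype.val h1
    rw [SubmonoidClass.coe_pow] at this
    exact this
  rw [hr, pow_succ, pow_mul, pow_two, h2, one_pow, one_mul] at h3
  exact h3

/-- in a group of odd order every element is a square -/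
theorem exists_sqrt_of_odd [Finite V] {h : Equiv.Perm (OnePoint V)} (hh : h ∈ Estab Γ)
    (ho : Odd (Nat.card (Estab Γ))) : ∃ k ∈ Estab Γ, k * k = h := by
  obtain ⟨r, hr⟩ := ho
  have h1 : (⟨h, hh⟩ : Estab Γ) ^ Nat.card (Estab Γ) = 1 := pow_card_eq_one'
  have h3 : h ^ Nat.card (Estab Γ) = 1 := by
    have := congrArg Subtype.val h1
    rw [SubmonoidClass.coe_pow] at this
    exact this
  refine ⟨h ^ (r + 1), (Estab Γ).pow_mem hh _, ?_⟩
  rw [← pow_add]
  have : r + 1 + (r + 1) = Nat.card (Estab Γ) + 1 := by omega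
  rw [this, pow_succ, h3, one_mul]

theorem Mod0.eq_zero_of_add_self [Finite V] (m : Mod0 Γ t) {x : V} (hx : x + x = 0) : x = 0 := by
  have h1 : Nat.card V • x = 0 := card_nsmul_eq_zero'
  rw [← m.card, add_nsmul, mul_nsmul, two_nsmul, hx, nsmul_zero, zero_add,
    one_nsmul] at h1
  exact h1

/-- an element of `Γ` fixing `∞`, of order at most two, is trivial if `E` has odd order -/
theorem Mod0.eq_one_of_fix_of_sq [Finite V] (m : Mod0 Γ t) (ho : Odd (Nat.card (Estab Γ)))
    {γ : Equiv.Perm (OnePoint V)} (hγ : γ ∈ Γ) (hinf : γ ∞ = ∞) (h2 : γ * γ = 1) : γ = 1 := by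
  set v := lin γ 0 with hv
  set h := trans (-v) * γ with hh
  have hE : h ∈ Estab Γ := m.decomp hγ hinf
  have hγe : γ = trans v * h := decomp_eq γ
  have h3 : γ (γ ((0 : V) : OnePoint V)) = ((0 : V) : OnePoint V) := by
    have := congrArg (fun f : Equiv.Perm (OnePoint V) => f ((0 : V) : OnePoint V)) h2
    simpa using this
  have h4 : v + lin h v = 0 := by
    rw [lin_spec hinf] at h3
    rw [hγe, Equiv.Perm.mul_apply, lin_spec hE.2.1, trans_coe] at h3
    have h5 := coe_inj' h3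
    rw [← hγe] at h5
    exact h5
  have h5 : lin h v = -v := eq_neg_of_add_eq_zero_right h4
  have hv0 : v = 0 := by
    by_contra hv0
    have h6 : lin (h * h) v = v := by
      rw [lin_mul hE, h5, m.lin_neg hE, h5, neg_neg]
    have h7 := m.semireg ((Estab Γ).mul_mem hE hE) hv0 h6
    have h8 := eq_one_of_sq_of_odd hE ho h7
    rw [h8, lin_one] at h5
    apply hv0
    apply m.eq_zero_of_add_self
    nth_rewrite 2 [h5]
    exact add_neg_cancel v
  rw [hv0, trans_zero, one_mul] at hγe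
  rw [hγe] at h2 ⊢
  exact eq_one_of_sq_of_odd hE ho h2

/-- `t` has no fixed point if `E` has odd order -/
theorem Mod0.tau_ne_self [Finite V] (m : Mod0 Γ t) (ho : Odd (Nat.card (Estab Γ))) {y : V}
    (hy : y ≠ 0) : lin t y ≠ y := by
  intro hfix
  have hty : t (y : OnePoint V) = (y : OnePoint V) := by rw [m.t_coe hy, hfix]
  set c := t * trans (-y) with hc
  have hcy : c (y : OnePoint V) = ∞ := by
    rw [hc, Equiv.Perm.mul_apply, trans_coe, neg_add_cancel, m.t_zero]
  have hcinv : c⁻¹ ∞ = (y : OnePoint V) := by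
    rw [Equiv.Perm.inv_eq_iff_eq, hcy]
  have hcΓ : c ∈ Γ := Γ.mul_mem m.t_mem (m.trans_mem _)
  have h1 : c * t * c⁻¹ = 1 := by
    apply m.eq_one_of_fix_of_sq ho (Γ.mul_mem (Γ.mul_mem hcΓ m.t_mem) (Γ.inv_mem hcΓ))
    · rw [Equiv.Perm.mul_apply, Equiv.Perm.mul_apply, hcinv, hty, hcy]
    · calc c * t * c⁻¹ * (c * t * c⁻¹) = c * (t * t) * c⁻¹ := by group
        _ = 1 := by rw [m.t_sq, mul_one, mul_inv_cancel]
  have h2 : t = 1 := by
    calc t = c⁻¹ * (c * t * c⁻¹) * c := by group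
      _ = 1 := by rw [h1, mul_one, inv_mul_cancel]
  have h3 := m.t_zero
  rw [h2, Equiv.Perm.one_apply] at h3
  exact coe_ne_infty _ h3

/-- the two orbits of `E` on the nonzero vectors -/
theorem Mod0.orbits [Finite V] (m : Mod0 Γ t) (ho : Odd (Nat.card (Estab Γ))) {x y : V}
    (hx : x ≠ 0) (hy : y ≠ 0) : ∃ h ∈ Estab Γ, y = lin h x ∨ y = -lin h x := by
  classical
  haveI : Fintype V := Fintype.ofFinite V
  haveI : Fintype (Estab Γ) := Fintype.ofFinite _
  set s₁ : Finset V := Finset.univ.image (fun h : Estab Γ => lin (h : Equiv.Perm (OnePoint V)) x)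
    with hs₁
  set s₂ : Finset V := Finset.univ.image (fun h : Estab Γ => -lin (h : Equiv.Perm (OnePoint V)) x)
    with hs₂
  have hc₁ : s₁.card = Fintype.card (Estab Γ) := by
    rw [hs₁, Finset.card_image_of_injective, Finset.card_univ]
    intro h k hhk
    exact Subtype.ext (m.lin_inj_left h.2 k.2 hx hhk)
  have hc₂ : s₂.card = Fintype.card (Estab Γ) := by
    rw [hs₂, Finset.card_image_of_injective, Finset.card_univ]
    intro h k hhk
    exact Subtype.ext (m.lin_inj_left h.2 k.2 hx (neg_injective hhk))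
  have hdisj : Disjoint s₁ s₂ := by
    rw [Finset.disjoint_left]
    intro z hz₁ hz₂
    obtain ⟨h, -, rfl⟩ := Finset.mem_image.mp hz₁
    obtain ⟨k, -, hk⟩ := Finset.mem_image.mp hz₂
    -- `lin h x = - lin k x`
    set g : Equiv.Perm (OnePoint V) := (k : Equiv.Perm (OnePoint V))⁻¹ * h with hg
    have hgE : g ∈ Estab Γ := (Estab Γ).mul_mem ((Estab Γ).inv_mem k.2) h.2
    have h1 : lin g x = -x := by
      rw [hg, lin_mul h.2, ← hk, m.lin_neg ((Estab Γ).inv_mem k.2), lin_inv_lin k.2]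
    have h2 : lin (g * g) x = x := by
      rw [lin_mul hgE, h1, m.lin_neg hgE, h1, neg_neg]
    have h3 := eq_one_of_sq_of_odd hgE ho (m.semireg ((Estab Γ).mul_mem hgE hgE) hx h2)
    rw [h3, lin_one] at h1
    apply hx
    apply m.eq_zero_of_add_self
    nth_rewrite 2 [h1]
    exact add_neg_cancel x
  have hsub : s₁ ∪ s₂ ⊆ Finset.univ.erase 0 := by
    intro z hz
    rw [Finset.mem_erase]
    refine ⟨?_, Finset.mem_univ _⟩
    rcases Finset.mem_union.mp hz with hz | hz
    · obtain ⟨h, -, rfl⟩ := Finset.mem_image.mp hz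
      intro h0
      exact hx ((lin_eq_zero_iff h.2).mp h0)
    · obtain ⟨h, -, rfl⟩ := Finset.mem_image.mp hz
      intro h0
      exact hx ((lin_eq_zero_iff h.2).mp (neg_eq_zero.mp h0))
  have hcard := m.card
  rw [Nat.card_eq_fintype_card, Nat.card_eq_fintype_card] at hcard
  have hcu : (s₁ ∪ s₂).card = 2 * Fintype.card (Estab Γ) := by
    rw [Finset.card_union_of_disjoint hdisj, hc₁, hc₂, two_mul]
  have hce : (Finset.univ.erase (0 : V)).card = 2 * Fintype.card (Estab Γ) := by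
    rw [Finset.card_erase_of_mem (Finset.mem_univ _), Finset.card_univ]
    omega
  have heq : s₁ ∪ s₂ = Finset.univ.erase 0 :=
    Finset.eq_of_subset_of_card_le hsub (by rw [hcu, hce])
  have hy' : y ∈ s₁ ∪ s₂ := by
    rw [heq, Finset.mem_erase]
    exact ⟨hy, Finset.mem_univ _⟩
  rcases Finset.mem_union.mp hy' with hz | hz
  · obtain ⟨h, -, rfl⟩ := Finset.mem_image.mp hz
    exact ⟨h, h.2, Or.inl rfl⟩
  · obtain ⟨h, -, rfl⟩ := Finset.mem_image.mp hz
    exact ⟨h, h.2, Or.inr rfl⟩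

/-- The case of a two point stabilizer of odd order inverted by `t`. -/
theorem Mod0.odd_case [Finite V] (m : Mod0 Γ t) (ho : Odd (Nat.card (Estab Γ)))
    (hI : ∀ h ∈ Estab Γ, t * h * t = h⁻¹) : ∀ x : V, x ≠ 0 → lin t (-x) = -lin t x := by
  intro x hx
  obtain ⟨h, hE, hy | hy⟩ := m.orbits ho hx (m.tau_ne_zero hx)
  · exfalso
    obtain ⟨k, hk, hkk⟩ := exists_sqrt_of_odd hE ho
    have hy0 : lin k x ≠ 0 := fun h0 => hx ((lin_eq_zero_iff hk).mp h0)
    apply m.tau_ne_self ho hy0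
    rw [m.tau_lin hk hx, hI k hk, hy, ← hkk, lin_mul hk, lin_inv_lin hk]
  · have hEi := (Estab Γ).inv_mem hE
    have h1 : -x = lin h⁻¹ (lin t x) := by
      rw [hy, m.lin_neg hEi, lin_inv_lin hE]
    rw [h1, m.tau_lin hEi (m.tau_ne_zero hx), hI _ hEi, inv_inv, m.tau_tau hx, hy, neg_neg]

/-- The main result on the model, first part. -/
theorem Mod0.main [Finite V] (m : Mod0 Γ t)
    (hc : Even (Nat.card (Estab Γ)) ∨ ∀ h ∈ Estab Γ, t * h * t = h⁻¹) :
    (∀ h ∈ Estab Γ, t * h * t = h⁻¹) ∧ (∀ x : V, x ≠ 0 → lin t (-x) = -lin t x) ∧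
      ∀ u : V, u ≠ 0 → ∃ h ∈ Estab Γ, ∀ v : V, v ≠ 0 → u + v ≠ 0 →
        lin t (u + v) = lin t u + lin h (lin t (lin t u + lin t v)) := by
  have key : (∀ x : V, x ≠ 0 → lin t (-x) = -lin t x) ∧
      ∀ u : V, u ≠ 0 → t * hh t u * t = (hh t u)⁻¹ := by
    by_cases he : Even (Nat.card (Estab Γ))
    · exact m.even_case he
    · have hI : ∀ h ∈ Estab Γ, t * h * t = h⁻¹ := by
        rcases hc with hc | hc
        · exact absurd hc he
        · exact hc
      have hsp := m.odd_case (Nat.not_even_iff_odd.mp he) hI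
      exact ⟨hsp, fun u hu => hI _ (m.hh_mem hsp hu)⟩
  obtain ⟨hsp, hinv⟩ := key
  refine ⟨m.inv_all hsp hinv, hsp, ?_⟩
  intro u hu
  refine ⟨(hh t u)⁻¹, (Estab Γ).inv_mem (m.hh_mem hsp hu), ?_⟩
  intro v hv huv
  exact m.key_formula' hsp hu (hinv u hu) hv huv

end Cfsg.Agent.Lib.Helper3.ZT
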