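import Mathlib

set_option autoImplicit false
set_option linter.style.haveILetI false
set_option linter.unusedSectionVars false

/-!
# Zassenhaus' theorem: the functional equation of the inversion
-/

namespace Cfsg.Agent.Lib.Helper3.ZT

/-- The functional equation `τ (u + v) = τ u + s_u ^ 2 * τ (τ u + τ v)` forces `τ w = - c ^ 2 / w`. -/
theorem tau_formula {K : Type*} [Field K] (h2 : (2 : K) ≠ 0) (τ : K → K)
    (hτ0 : ∀ x : K, x ≠ 0 → τ x ≠ 0) (hττ : ∀ x : K, x ≠ 0 → τ (τ x) = x)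
    (hsp : ∀ x : K, x ≠ 0 → τ (-x) = -τ x)
    (hkey : ∀ u : K, u ≠ 0 → ∃ s : K, s ≠ 0 ∧ ∀ v : K, v ≠ 0 → u + v ≠ 0 →
      τ (u + v) = τ u + s * s * τ (τ u + τ v)) :
    ∃ c : K, c ≠ 0 ∧ ∀ w : K, w ≠ 0 → τ w = -(c * c) / w := by
  choose! s hs0 hs using hkey
  have hinj : ∀ x y : K, x ≠ 0 → y ≠ 0 → τ x = τ y → x = y := by
    intro x y hx hy h
    rw [← hττ x hx, ← hττ y hy, h]
  have hdbl : ∀ x : K, x ≠ 0 → x + x ≠ 0 := by
    intro x hx h
    rw [← two_mul] at h
    rcases mul_eq_zero.mp h with h | h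
    · exact h2 h
    · exact hx h
  -- `a u = a (-u)`
  have hneg : ∀ u : K, u ≠ 0 → s (-u) * s (-u) = s u * s u := by
    intro u hu
    have hu' : -u ≠ 0 := neg_ne_zero.mpr hu
    have h1 := hs u hu u hu (hdbl u hu)
    have h3 := hs (-u) hu' (-u) hu' (hdbl _ hu')
    have hz : τ (τ u + τ u) ≠ 0 := hτ0 _ (hdbl _ (hτ0 u hu))
    rw [← neg_add, hsp _ (hdbl u hu), hsp u hu, ← neg_add, hsp _ (hdbl _ (hτ0 u hu))] at h3
    have h4 : s (-u) * s (-u) * τ (τ u + τ u) = s u * s u * τ (τ u + τ u) := by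
      linear_combination h1 + h3
    exact mul_right_cancel₀ hz h4
  -- the symmetric identity
  have hD : ∀ x y : K, x ≠ 0 → y ≠ 0 → x + y ≠ 0 →
      (s (τ x) * s (τ x) - s (τ y) * s (τ y)) * τ (x + y) = y - x := by
    intro x y hx hy hxy
    have hsum : τ x + τ y ≠ 0 := by
      intro h0
      have h1 : τ y = τ (-x) := by
        rw [hsp x hx]
        exact eq_neg_of_add_eq_zero_right h0
      have h3 := hinj y (-x) hy (neg_ne_zero.mpr hx) h1
      apply hxy
      rw [h3, add_neg_cancel]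
    have h1 := hs (τ x) (hτ0 x hx) (τ y) (hτ0 y hy) hsum
    have hsum' : τ y + τ x ≠ 0 := by rwa [add_comm]
    have h3 := hs (τ y) (hτ0 y hy) (τ x) (hτ0 x hx) hsum'
    rw [hττ x hx, hττ y hy] at h1 h3
    rw [add_comm (τ y) (τ x), add_comm y x, h1] at h3
    linear_combination h3
  -- `w * τ w` is constant
  have hP : ∀ x y : K, x ≠ 0 → y ≠ 0 → x + y ≠ 0 → x - y ≠ 0 →
      (x + y) * τ (x + y) = (x - y) * τ (x - y) := by
    intro x y hx hy hxy hxy'
    have hy' : -y ≠ 0 := neg_ne_zero.mpr hy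
    have h1 := hD x y hx hy hxy
    have h3 := hD x (-y) hx hy' (by rwa [← sub_eq_add_neg])
    rw [hsp y hy, hneg _ (hτ0 y hy), ← sub_eq_add_neg] at h3
    set d := s (τ x) * s (τ x) - s (τ y) * s (τ y) with hd
    have hd0 : d ≠ 0 := by
      intro h0
      rw [h0, zero_mul] at h1
      apply hxy'
      linear_combination h1
    have h4 : d * ((x + y) * τ (x + y)) = d * ((x - y) * τ (x - y)) := by
      linear_combination (x + y) * h1 - (x - y) * h3
    exact mul_left_cancel₀ hd0 h4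
  have hconst : ∀ w : K, w ≠ 0 → w * τ w = τ 1 := by
    intro w hw
    by_cases hw1 : w = 1
    · rw [hw1, one_mul]
    by_cases hw2 : w = -1
    · rw [hw2, hsp 1 one_ne_zero]
      ring
    have hx : (w + 1) / 2 ≠ 0 := by
      intro h0
      apply hw2
      have := (div_eq_zero_iff.mp h0).resolve_right h2
      exact eq_neg_of_add_eq_zero_left this
    have hy : (w - 1) / 2 ≠ 0 := by
      intro h0
      apply hw1
      have := (div_eq_zero_iff.mp h0).resolve_right h2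
      exact sub_eq_zero.mp this
    have e1 : (w + 1) / 2 + (w - 1) / 2 = w := by field_simp; ring
    have e2 : (w + 1) / 2 - (w - 1) / 2 = 1 := by field_simp; ring
    have h1 := hP ((w + 1) / 2) ((w - 1) / 2) hx hy (by rw [e1]; exact hw)
      (by rw [e2]; exact one_ne_zero)
    rw [e1, e2, one_mul] at h1
    exact h1
  have hτ1 : τ 1 ≠ 0 := hτ0 1 one_ne_zero
  have hτw : ∀ w : K, w ≠ 0 → τ w = τ 1 / w := by
    intro w hw
    rw [eq_div_iff hw, mul_comm]
    exact hconst w hw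
  refine ⟨s 1, hs0 1 one_ne_zero, ?_⟩
  have h1 := hs 1 one_ne_zero 1 one_ne_zero (hdbl 1 one_ne_zero)
  have h11 : (1 : K) + 1 ≠ 0 := hdbl 1 one_ne_zero
  have h3 : τ 1 + τ 1 ≠ 0 := hdbl _ hτ1
  rw [hτw _ h11, hτw _ h3] at h1
  have h4 : s 1 * s 1 = -τ 1 := by
    have h5 : (1 : K) + 1 = 2 := by norm_num
    have h6 : τ 1 + τ 1 = 2 * τ 1 := by ring
    rw [h5, h6] at h1
    field_simp at h1
    linear_combination -h1
  intro w hw
  rw [hτw w hw, h4, neg_neg]

end Cfsg.Agent.Lib.Helper3.ZT
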