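import Mathlib
import Cfsg.Agent.Lib.Helper3.ZT4
import Cfsg.Agent.Lib.Helper3.ZT6
import Cfsg.Agent.Lib.Helper21.SL2Recognize

set_option autoImplicit false
set_option linter.style.haveILetI false
set_option linter.unusedSectionVars false

/-!
# Zassenhaus' theorem: the model over a field consists of Moebius transformations
-/

namespace Cfsg.Agent.Lib.Helper3.ZT

open OnePoint Matrix
open Cfsg.Agent.Lib.Helper21

variable {K : Type*} [Field K] [DecidableEq K] {Γ : Subgroup (Equiv.Perm (OnePoint K))}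
  {t : Equiv.Perm (OnePoint K)}

/-- a permutation of the projective line induced by an element of `SL(2,K)` -/
def IsMob (γ : Equiv.Perm (OnePoint K)) : Prop :=
  ∃ A : SpecialLinearGroup (Fin 2) K, ∀ p, γ p = slSmul A p

theorem isMob_mul {γ δ : Equiv.Perm (OnePoint K)} (h1 : IsMob γ) (h2 : IsMob δ) :
    IsMob (γ * δ) := by
  obtain ⟨A, hA⟩ := h1
  obtain ⟨B, hB⟩ := h2
  refine ⟨A * B, fun p => ?_⟩
  rw [Equiv.Perm.mul_apply, hB, hA, slSmul_mul]

theorem isMob_trans (v : K) : IsMob (trans v) := by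
  have hdet : det !![(1 : K), v; 0, 1] = 1 := by simp [det_fin_two]
  refine ⟨⟨!![1, v; 0, 1], hdet⟩, fun p => ?_⟩
  induction p using OnePoint.rec with
  | infty =>
    rw [slSmul_mk_infty, if_pos rfl, trans_infty]
  | coe k =>
    rw [slSmul_mk_coe, trans_coe]
    have h1 : (0 : K) * k + 1 ≠ 0 := by simp
    rw [if_neg h1]
    congr 1
    rw [zero_mul, zero_add, div_one, one_mul, add_comm]

theorem isMob_diag {γ : Equiv.Perm (OnePoint K)} (hinf : γ ∞ = ∞) (s : K) (hs : s ≠ 0)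
    (h : ∀ x, lin γ x = s * s * x) : IsMob γ := by
  have hdet : det !![s, 0; 0, s⁻¹] = 1 := by simp [det_fin_two, hs]
  refine ⟨⟨!![s, 0; 0, s⁻¹], hdet⟩, fun p => ?_⟩
  induction p using OnePoint.rec with
  | infty =>
    rw [slSmul_mk_infty, if_pos rfl, hinf]
  | coe k =>
    rw [slSmul_mk_coe, lin_spec hinf, h]
    have h1 : (0 : K) * k + s⁻¹ ≠ 0 := by
      rw [zero_mul, zero_add]
      exact inv_ne_zero hs
    rw [if_neg h1]
    congr 1
    rw [zero_mul, zero_add, add_zero, div_inv_eq_mul]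
    ring

theorem Mod0.isMob_t (m : Mod0 Γ t) (c : K) (hc : c ≠ 0)
    (hτ : ∀ w : K, w ≠ 0 → lin t w = -(c * c) / w) : IsMob t := by
  have hdet : det !![0, -c; c⁻¹, 0] = 1 := by simp [det_fin_two, hc]
  refine ⟨⟨!![0, -c; c⁻¹, 0], hdet⟩, fun p => ?_⟩
  induction p using OnePoint.rec with
  | infty =>
    rw [slSmul_mk_infty, if_neg (inv_ne_zero hc), m.t_infty, zero_div]
  | coe k =>
    rw [slSmul_mk_coe]
    by_cases hk : k = 0
    · have h1 : c⁻¹ * k + 0 = 0 := by rw [hk, mul_zero, add_zero]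
      rw [if_pos h1, hk, m.t_zero]
    · have h1 : c⁻¹ * k + 0 ≠ 0 := by
        rw [add_zero]
        exact mul_ne_zero (inv_ne_zero hc) hk
      rw [if_neg h1, m.t_coe hk, hτ k hk]
      congr 1
      rw [zero_mul, zero_add, add_zero, div_eq_div_iff hk (mul_ne_zero (inv_ne_zero hc) hk)]
      have h5 : c * c⁻¹ = 1 := mul_inv_cancel₀ hc
      linear_combination (-c * k) * h5

/-- All elements of the model are Moebius transformations. -/
theorem Mod0.all_mob [Finite K] (m : Mod0 Γ t) (h2 : (2 : K) ≠ 0)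
    (hc : Even (Nat.card (Estab Γ)) ∨ ∀ h ∈ Estab Γ, t * h * t = h⁻¹)
    (hsq : ∀ h ∈ Estab Γ, ∃ s : K, s ≠ 0 ∧ ∀ x : K, lin h x = s * s * x) :
    ∀ γ ∈ Γ, IsMob γ := by
  obtain ⟨-, hsp, hkey⟩ := m.main hc
  have hkey' : ∀ u : K, u ≠ 0 → ∃ s : K, s ≠ 0 ∧ ∀ v : K, v ≠ 0 → u + v ≠ 0 →
      lin t (u + v) = lin t u + s * s * lin t (lin t u + lin t v) := by
    intro u hu
    obtain ⟨h, hE, hf⟩ := hkey u hu
    obtain ⟨s, hs0, hs⟩ := hsq h hE
    refine ⟨s, hs0, fun v hv huv => ?_⟩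
    rw [hf v hv huv, hs]
  obtain ⟨c, hc0, hτ⟩ := tau_formula h2 (lin t) (fun x hx => m.tau_ne_zero hx)
    (fun x hx => m.tau_tau hx) hsp hkey'
  have ht := m.isMob_t c hc0 hτ
  have hfix : ∀ γ ∈ Γ, γ ∞ = ∞ → IsMob γ := by
    intro γ hγ hinf
    have hE := m.decomp hγ hinf
    obtain ⟨s, hs0, hs⟩ := hsq _ hE
    rw [decomp_eq γ]
    exact isMob_mul (isMob_trans _) (isMob_diag hE.2.1 s hs0 hs)
  intro γ hγ
  by_cases hinf : γ ∞ = ∞
  · exact hfix γ hγ hinf
  · set w := val (γ ∞) with hw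
    have hγw : γ ∞ = ((w : K) : OnePoint K) := (coe_val hinf).symm
    set γ' := t * trans (-w) * γ with hγ'
    have h1 : γ' ∈ Γ := Γ.mul_mem (Γ.mul_mem m.t_mem (m.trans_mem _)) hγ
    have h3 : γ' ∞ = ∞ := by
      rw [hγ', Equiv.Perm.mul_apply, Equiv.Perm.mul_apply, hγw, trans_coe, neg_add_cancel,
        m.t_zero]
    have h4 : γ = trans w * t * γ' := by
      rw [hγ', trans_neg]
      calc γ = trans w * (t * t) * (trans w)⁻¹ * γ := by
            rw [m.t_sq, mul_one, mul_inv_cancel, one_mul]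
        _ = trans w * t * (t * (trans w)⁻¹ * γ) := by simp only [mul_assoc]
    rw [h4]
    exact isMob_mul (isMob_mul (isMob_trans _) ht) (hfix γ' h1 h3)

end Cfsg.Agent.Lib.Helper3.ZT
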