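import Mathlib
import Cfsg.Agent.Lib.Helper3.ZT7
import Cfsg.Agent.Lib.Helper14.PSL2Klein2

set_option autoImplicit false
set_option linter.style.haveILetI false
set_option linter.unusedSectionVars false

/-!
# Zassenhaus' theorem: recognition of `PSL(2,K)` among the groups of Moebius transformations
-/

namespace Cfsg.Agent.Lib.Helper3.ZT

open OnePoint Matrix
open Cfsg.Agent.Lib.Helper21

variable {K : Type*} [Field K] [DecidableEq K]

/-- the Moebius action of `SL(2,K)` as a homomorphism -/
def slPerm : SpecialLinearGroup (Fin 2) K →* Equiv.Perm (OnePoint K) where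
  toFun A :=
    { toFun := slSmul A
      invFun := slSmul A⁻¹
      left_inv := fun p => by rw [← slSmul_mul, inv_mul_cancel, slSmul_one]
      right_inv := fun p => by rw [← slSmul_mul, mul_inv_cancel, slSmul_one] }
  map_one' := by
    ext p
    exact slSmul_one p
  map_mul' A B := by
    ext p
    exact slSmul_mul A B p

theorem slPerm_apply (A : SpecialLinearGroup (Fin 2) K) (p : OnePoint K) :
    slPerm A p = slSmul A p := rfl

theorem ker_slPerm :
    (slPerm : SpecialLinearGroup (Fin 2) K →* _).ker = Subgroup.center _ := by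
  ext A
  rw [MonoidHom.mem_ker, Matrix.SpecialLinearGroup.mem_center_iff]
  constructor
  · intro hA
    have hinf : slSmul A (∞ : OnePoint K) = ∞ := by rw [← slPerm_apply, hA]; rfl
    have h0 : slSmul A ((0 : K) : OnePoint K) = ((0 : K) : OnePoint K) := by
      rw [← slPerm_apply, hA]; rfl
    have h1 : slSmul A ((1 : K) : OnePoint K) = ((1 : K) : OnePoint K) := by
      rw [← slPerm_apply, hA]; rfl
    have h10 : A 1 0 = 0 := by
      rw [slSmul_infty] at hinf
      by_contra h
      rw [if_neg h] at hinf
      exact coe_ne_infty _ hinf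
    rw [slSmul_coe, h10] at h0 h1
    simp only [zero_add, mul_zero, mul_one] at h0 h1
    have h11 : A 1 1 ≠ 0 := by
      intro h
      rw [if_pos h] at h0
      exact infty_ne_coe _ h0
    rw [if_neg h11] at h0 h1
    rw [coe_eq_coe] at h0 h1
    have h01 : A 0 1 = 0 := by
      rcases div_eq_zero_iff.1 h0 with h | h
      · exact h
      · exact absurd h h11
    rw [h01, add_zero, div_eq_one_iff_eq h11] at h1
    have hdet : A 0 0 * A 1 1 - A 0 1 * A 1 0 = 1 := by
      have := A.det_coe
      rwa [det_fin_two] at this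
    rw [h01, zero_mul, sub_zero, h1, ← sq] at hdet
    refine ⟨A 1 1, ?_, ?_⟩
    · rw [Fintype.card_fin]
      exact hdet
    · ext i j
      fin_cases i <;> fin_cases j
      · simpa using h1.symm
      · simpa using h01.symm
      · simpa using h10.symm
      · simp
  · rintro ⟨r, hr, hA⟩
    rw [Fintype.card_fin] at hr
    have hr0 : r ≠ 0 := by
      intro h
      rw [h] at hr
      simp at hr
    have e00 : A 0 0 = r := by rw [← hA]; simp
    have e01 : A 0 1 = 0 := by rw [← hA]; simp
    have e10 : A 1 0 = 0 := by rw [← hA]; simp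
    have e11 : A 1 1 = r := by rw [← hA]; simp
    ext p
    rw [slPerm_apply, Equiv.Perm.one_apply]
    induction p using OnePoint.rec with
    | infty =>
      rw [slSmul_infty, if_pos e10]
    | coe k =>
      rw [slSmul_coe, e00, e01, e10, e11, zero_mul, zero_add, add_zero, if_neg hr0,
        mul_div_assoc, mul_comm, div_mul_cancel₀ _ hr0]

/-- Recognition of `PSL(2,K)`. -/
theorem psl2_of_perm [Fintype K] {G : Type*} [Group G] [Finite G]
    (Φ : G →* Equiv.Perm (OnePoint K)) (hΦ : Function.Injective Φ)
    (hrep : ∀ g : G, IsMob (Φ g))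
    (hcard : Nat.card G * 2 = Fintype.card K * (Fintype.card K ^ 2 - 1))
    (hodd : Odd (Fintype.card K)) :
    Nonempty (G ≃* Matrix.ProjectiveSpecialLinearGroup (Fin 2) K) := by
  have hle : Φ.range ≤ (slPerm : SpecialLinearGroup (Fin 2) K →* _).range := by
    rintro γ ⟨g, rfl⟩
    obtain ⟨A, hA⟩ := hrep g
    refine ⟨A, ?_⟩
    ext p
    rw [slPerm_apply, hA]
  let e1 : G ≃* Φ.range := MonoidHom.ofInjective hΦ
  let e2 : Matrix.ProjectiveSpecialLinearGroup (Fin 2) K ≃*
      (slPerm : SpecialLinearGroup (Fin 2) K →* _).range :=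
    (QuotientGroup.quotientMulEquivOfEq ker_slPerm.symm).trans
      (QuotientGroup.quotientKerEquivRange slPerm)
  have hc1 : Nat.card Φ.range = Nat.card G := Nat.card_congr e1.symm.toEquiv
  have hc2 : Nat.card (slPerm : SpecialLinearGroup (Fin 2) K →* _).range =
      Nat.card (Matrix.ProjectiveSpecialLinearGroup (Fin 2) K) := Nat.card_congr e2.symm.toEquiv
  have hc3 := Cfsg.Agent.Lib.Helper14.PSL2Klein.card_PSL2_mul_two (F := K) hodd
  have heq : Φ.range = (slPerm : SpecialLinearGroup (Fin 2) K →* _).range := by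
    apply Subgroup.eq_of_le_of_card_ge hle
    rw [hc1, hc2]
    omega
  exact ⟨e1.trans ((MulEquiv.subgroupCongr heq).trans e2.symm)⟩

end Cfsg.Agent.Lib.Helper3.ZT
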