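import Mathlib
import Cfsg.Agent.Lib.Helper3.ZT5
import Cfsg.Agent.Lib.Helper3.ZT8
import Cfsg.Agent.Lib.Helper3.ZT10
import Cfsg.Agent.Lib.Helper3.ZT11
import Cfsg.Agent.Lib.Helper3.ZT12
import Cfsg.Agent.S0740

set_option autoImplicit false
set_option linter.style.haveILetI false
set_option linter.unusedSectionVars false

/-!
# Zassenhaus' theorem: Zassenhaus groups with abelian kernel
-/

namespace Cfsg.Agent.Lib.Helper3.ZT

open Cfsg MulAction OnePoint
open Cfsg.Agent.Lib.Helper97.Zass
open Cfsg.Agent.Lib.Helper3.ZassOdd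
open Cfsg.Agent.Lib.Helper3.ZassFeit

theorem comm_of_inverted {P : Type*} [Group P] (t : P) (htt : t * t = 1) (S : Subgroup P)
    (h : ∀ x ∈ S, t * x * t = x⁻¹) : ∀ x ∈ S, ∀ y ∈ S, x * y = y * x := by
  intro x hx y hy
  have h1 := h (x * y) (S.mul_mem hx hy)
  have h2 : t * (x * y) * t = (t * x * t) * (t * y * t) := by
    calc t * (x * y) * t = t * x * 1 * y * t := by simp only [mul_assoc, one_mul]
      _ = t * x * (t * t) * y * t := by rw [htt]
      _ = (t * x * t) * (t * y * t) := by simp only [mul_assoc]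
  rw [h2, h x hx, h y hy, mul_inv_rev] at h1
  have h3 := congrArg Inv.inv h1
  simp only [mul_inv_rev, inv_inv] at h3
  exact h3.symm

/-- The case `|E| = (q - 1) / 2` of Zassenhaus' theorem. -/
theorem psl_case {G Ω : Type*} [Group G] [Finite G] [MulAction G Ω] [Fintype Ω]
    (hZ : IsZassenhausGroup G Ω) {a b : Ω} (hab : a ≠ b) {F : Subgroup G}
    (hFle : F ≤ stabilizer G a) (hFn : (F.subgroupOf (stabilizer G a)).Normal)
    (hcomm : ∀ x ∈ F, ∀ y ∈ F, x * y = y * x)
    (hreg : ∀ y z : Ω, y ≠ a → z ≠ a → ∃! u : F, (u : G) • y = z)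
    (h2e : 2 * Nat.card (twoStab G a b) + 2 = Fintype.card Ω) :
    ∃ (K : Type) (_ : Field K) (_ : Fintype K), Odd (Fintype.card K) ∧
      Fintype.card K + 1 = Fintype.card Ω ∧
      Nonempty (G ≃* Matrix.ProjectiveSpecialLinearGroup (Fin 2) K) := by
  classical
  have hy := hyp_of_zass hZ
  have hFcard := card_of_reg hab hFle hreg
  have k : Ker G a F := ⟨hFle, hFcard, fix_of_reg hreg⟩
  -- the involution
  obtain ⟨⟨t, hto, hta, htb⟩, -, -⟩ := Cfsg.Agent.S0740.result hZ hab
  have htt : t * t = 1 := by rw [← pow_two, ← hto, pow_orderOf_eq_one]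
  have htinv : t⁻¹ = t := inv_eq_of_mul_eq_one_left htt
  -- the commutative group structure on `F`
  letI : CommGroup F :=
    { (inferInstance : Group F) with
      mul_comm := fun x y => Subtype.ext (hcomm x x.2 y y.2) }
  haveI : Finite (Additive F) := inferInstanceAs (Finite F)
  -- the first model
  let jA : Multiplicative (Additive F) ≃* F := MulEquiv.multiplicativeAdditive F
  have hcardA : 2 * Nat.card ↥(stabilizer G a ⊓ stabilizer G b) + 1 = Nat.card (Additive F) := by
    have h1 : Nat.card (Additive F) = Nat.card F := rfl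
    have h2 : Nat.card ↥(stabilizer G a ⊓ stabilizer G b) = Nat.card (twoStab G a b) := rfl
    omega
  obtain ⟨ΨA, dA⟩ := exists_tr hab hy.h3 hFle hFn hreg jA hcardA
  have mA := dA.mod0 htb htt
  have hEA := dA.Estab_eq
  have hcA : Even (Nat.card (Estab (Phi ΨA : G →* _).range)) ∨
      ∀ h ∈ Estab (Phi ΨA : G →* _).range, Phi ΨA t * h * Phi ΨA t = h⁻¹ := by
    by_cases heven : Even (Nat.card (twoStab G a b))
    · left
      rw [hEA, Subgroup.card_map_of_injective dA.Phi_injective]
      exact heven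
    · right
      have hodd := Nat.not_even_iff_odd.mp heven
      haveI := simple_of_abelian hZ hab hodd k hcomm h2e
      have hinv := conj_eq_inv hZ hab hodd hta htb htt
      intro h hh
      rw [hEA] at hh
      obtain ⟨g, hg, rfl⟩ := hh
      rw [← map_mul, ← map_mul, ← map_inv]
      congr 1
      have h1 := hinv g hg
      rw [htinv] at h1
      exact h1
  obtain ⟨hIA, -, -⟩ := mA.main hcA
  -- the inversion at the level of the group
  have hI : ∀ g ∈ twoStab G a b, t * g * t = g⁻¹ := by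
    intro g hg
    apply dA.Phi_injective
    rw [map_mul, map_mul, map_inv]
    apply hIA
    rw [hEA]
    exact ⟨g, hg, rfl⟩
  -- the field
  have hEcomm := comm_of_inverted (Phi ΨA t) mA.t_sq _ hIA
  let ρ : ↥(Estab (Phi ΨA : G →* _).range) →* AddMonoid.End (Additive F) :=
    { toFun := fun h => AddMonoidHom.mk' (lin (h : Equiv.Perm (OnePoint (Additive F))))
        (mA.lin_add h.2)
      map_one' := by
        apply AddMonoidHom.ext
        intro x
        exact lin_one x
      map_mul' := fun h k => by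
        apply AddMonoidHom.ext
        intro x
        exact lin_mul k.2 x }
  have hρ : ∀ (h : ↥(Estab (Phi ΨA : G →* _).range)) (x : Additive F),
      ρ h x = lin (h : Equiv.Perm (OnePoint (Additive F))) x := fun h x => rfl
  have hρcomm : ∀ h k : ↥(Estab (Phi ΨA : G →* _).range), ρ h * ρ k = ρ k * ρ h := by
    intro h k
    rw [← map_mul, ← map_mul]
    congr 1
    exact Subtype.ext (hEcomm h h.2 k k.2)
  have hρsemi : ∀ h : ↥(Estab (Phi ΨA : G →* _).range), ∀ x : Additive F, x ≠ 0 → ρ h x = x →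
      h = 1 := fun h x hx hfix => Subtype.ext (mA.semireg h.2 hx hfix)
  obtain ⟨K, fK, ftK, ι, hι⟩ := exists_field ρ hρcomm hρsemi mA.card
  letI := fK
  letI := ftK
  -- the second model
  let jB : Multiplicative K ≃* F := (AddEquiv.toMultiplicative ι).trans jA
  have hjB : ∀ y : K, jB (Multiplicative.ofAdd y) = jA (Multiplicative.ofAdd (ι y)) :=
    fun y => rfl
  have hcardB : 2 * Nat.card ↥(stabilizer G a ⊓ stabilizer G b) + 1 = Nat.card K := by
    rw [Nat.card_congr ι.toEquiv]
    exact hcardA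
  obtain ⟨ΨB, dB⟩ := exists_tr hab hy.h3 hFle hFn hreg jB hcardB
  have mB := dB.mod0 htb htt
  have hEB := dB.Estab_eq
  have hcB : Even (Nat.card (Estab (Phi ΨB : G →* _).range)) ∨
      ∀ h ∈ Estab (Phi ΨB : G →* _).range, Phi ΨB t * h * Phi ΨB t = h⁻¹ := by
    right
    intro h hh
    rw [hEB] at hh
    obtain ⟨g, hg, rfl⟩ := hh
    rw [← map_mul, ← map_mul, ← map_inv, hI g hg]
  have hsqB : ∀ h ∈ Estab (Phi ΨB : G →* _).range,
      ∃ s : K, s ≠ 0 ∧ ∀ x : K, lin h x = s * s * x := by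
    intro h hh
    rw [hEB] at hh
    obtain ⟨g, hg, rfl⟩ := hh
    have hg' := mem_twoStab.mp hg
    have hgA : Phi ΨA g ∈ Estab (Phi ΨA : G →* _).range := by
      rw [hEA]
      exact ⟨g, hg, rfl⟩
    obtain ⟨s, hs0, hs⟩ := hι ⟨Phi ΨA g, hgA⟩
    refine ⟨s, hs0, fun x => ?_⟩
    have h1 := dB.lin_Phi hg'.1 hg'.2 x
    have h2 := dA.lin_Phi hg'.1 hg'.2 (ι x)
    have h3 : lin (Phi ΨA g) (ι x) = ι (s * s * x) := hs x
    rw [hjB, hjB, ← h2, h3, ← hjB] at h1
    exact Multiplicative.ofAdd.injective (jB.injective (Subtype.ext h1))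
  have h2K : (2 : K) ≠ 0 := by
    intro h2
    have h1 : (1 : K) + 1 = 0 := by rw [one_add_one_eq_two, h2]
    exact one_ne_zero (mB.eq_zero_of_add_self h1)
  have hmob := mB.all_mob h2K hcB hsqB
  -- cardinalities
  have hcK : Fintype.card K = 2 * Nat.card (twoStab G a b) + 1 := by
    rw [← Nat.card_eq_fintype_card]
    exact hcardB.symm
  have hoddK : Odd (Fintype.card K) := ⟨Nat.card (twoStab G a b), hcK⟩
  have hcG := card_eq hy hab
  have hcard : Nat.card G * 2 = Fintype.card K * (Fintype.card K ^ 2 - 1) := by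
    rw [hcG, hcK, ← h2e]
    set e := Nat.card (twoStab G a b)
    have h1 : 2 * e + 2 - 1 = 2 * e + 1 := by omega
    have h3 : (2 * e + 1) ^ 2 - 1 = 4 * e * e + 4 * e := by
      apply Nat.sub_eq_of_eq_add
      ring
    rw [h1, h3]
    ring
  refine ⟨K, fK, ftK, hoddK, by omega, ?_⟩
  exact psl2_of_perm (Phi ΨB) dB.Phi_injective (fun g => hmob _ ⟨g, rfl⟩) hcard hoddK

end Cfsg.Agent.Lib.Helper3.ZT
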