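import Mathlib
import Cfsg.Agent.Lib.Helper3.ZT13

set_option autoImplicit false
set_option linter.style.haveILetI false
set_option linter.unusedSectionVars false

/-!
# Zassenhaus' theorem: the two alternatives
-/

namespace Cfsg.Agent.Lib.Helper3.ZT

open Cfsg MulAction OnePoint
open Cfsg.Agent.Lib.Helper97.Zass
open Cfsg.Agent.Lib.Helper3.ZassOdd
open Cfsg.Agent.Lib.Helper3.ZassFeit

/-- **Zassenhaus' theorem** for Zassenhaus groups with abelian kernel. -/
theorem zassenhaus_abelian {G Ω : Type*} [Group G] [Finite G] [MulAction G Ω] [Fintype Ω]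
    (hZ : IsZassenhausGroup G Ω) {a b : Ω} (hab : a ≠ b) {F : Subgroup G}
    (hFle : F ≤ stabilizer G a) (hFn : (F.subgroupOf (stabilizer G a)).Normal)
    (hcomm : ∀ x ∈ F, ∀ y ∈ F, x * y = y * x)
    (hreg : ∀ y z : Ω, y ≠ a → z ≠ a → ∃! u : F, (u : G) • y = z) :
    (MulAction.IsMultiplyPretransitive G Ω 3 ∧ ∀ t : Fin 3 ↪ Ω, MulAction.stabilizer G t = ⊥) ∨
      (2 * Nat.card (twoStab G a b) + 2 = Fintype.card Ω ∧
        ∃ (K : Type) (_ : Field K) (_ : Fintype K), Odd (Fintype.card K) ∧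
          Fintype.card K + 1 = Fintype.card Ω ∧
          Nonempty (G ≃* Matrix.ProjectiveSpecialLinearGroup (Fin 2) K)) := by
  classical
  have hy := hyp_of_zass hZ
  have hFcard := card_of_reg hab hFle hreg
  have k : Ker G a F := ⟨hFle, hFcard, fix_of_reg hreg⟩
  have hbound := bound_of_abelian hZ hab k hcomm
  have hmod := card_sub_one_mod hy hab
  have h3 : 3 ≤ Fintype.card Ω := by
    obtain ⟨x, y, z, hxy, hyz, hxz⟩ := hy.three
    have : 2 < Fintype.card Ω := Fintype.two_lt_card_iff.mpr ⟨x, y, z, hxy, hxz, hyz⟩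
    omega
  set e := Nat.card (twoStab G a b) with he
  have hepos : 0 < e := Nat.card_pos
  have hdvd : e ∣ Fintype.card Ω - 2 := by
    have h1 : 1 ≤ Fintype.card Ω - 1 := by omega
    have h2 := (Nat.modEq_iff_dvd' h1).mp (show 1 ≡ Fintype.card Ω - 1 [MOD e] from hmod.symm)
    have h4 : Fintype.card Ω - 1 - 1 = Fintype.card Ω - 2 := by omega
    rwa [h4] at h2
  obtain ⟨m, hm⟩ := hdvd
  have hm2 : m ≤ 2 := by
    by_contra hlt
    push Not at hlt
    have : e * 3 ≤ e * m := Nat.mul_le_mul_left e hlt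
    omega
  have hm1 : 1 ≤ m := by
    rcases Nat.eq_zero_or_pos m with h0 | h0
    · rw [h0, mul_zero] at hm
      omega
    · exact h0
  rcases (by omega : m = 1 ∨ m = 2) with h | h
  · left
    rw [h, mul_one] at hm
    have h1e : e + 2 = Fintype.card Ω := by omega
    exact sharply_three hy hab h1e
  · right
    rw [h] at hm
    have h2e : 2 * e + 2 = Fintype.card Ω := by omega
    exact ⟨h2e, psl_case hZ hab hFle hFn hcomm hreg h2e⟩

end Cfsg.Agent.Lib.Helper3.ZT
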