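import Mathlib

set_option autoImplicit false
set_option linter.style.haveILetI false
set_option linter.unusedSectionVars false

/-!
# Sharply triply transitive groups: a subgroup of index two by transfer

If the two point stabilizer `E` of a group in which only the identity fixes three points has a
subgroup `N` of index two normalized by an involution `s` interchanging the two points and fixing
a third point, and `E` is transitive on the remaining points, then the transfer into the setwise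
stabilizer of the two points gives a homomorphism onto a group of order two.
-/

namespace Cfsg.Agent.Lib.Helper3.ZT

open MulAction

/-- the sign character of a subgroup of index two -/
noncomputable def signOfIndexTwo {P : Type*} [Group P] (H : Subgroup P) (h : H.index = 2) :
    P →* ℤˣ := by
  classical
  exact
    { toFun := fun p => if p ∈ H then 1 else -1
      map_one' := by simp [H.one_mem]
      map_mul' := fun x y => by
        by_cases hx : x ∈ H <;> by_cases hy : y ∈ H <;>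
          simp [Subgroup.mul_mem_iff_of_index_two h, hx, hy] }

theorem signOfIndexTwo_of_mem {P : Type*} [Group P] (H : Subgroup P) (h : H.index = 2) {p : P}
    (hp : p ∈ H) : signOfIndexTwo H h p = 1 := by
  classical
  show (if p ∈ H then (1 : ℤˣ) else -1) = 1
  rw [if_pos hp]

theorem signOfIndexTwo_of_not_mem {P : Type*} [Group P] (H : Subgroup P) (h : H.index = 2) {p : P}
    (hp : p ∉ H) : signOfIndexTwo H h p = -1 := by
  classical
  show (if p ∈ H then (1 : ℤˣ) else -1) = -1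
  rw [if_neg hp]

variable {G Ω : Type*} [Group G] [MulAction G Ω]

/-- the setwise stabilizer of two points -/
def pairStab (G : Type*) {Ω : Type*} [Group G] [MulAction G Ω] (a b : Ω) : Subgroup G where
  carrier := {g | (g • a = a ∧ g • b = b) ∨ (g • a = b ∧ g • b = a)}
  mul_mem' := by
    rintro x y (⟨h1, h2⟩ | ⟨h1, h2⟩) (⟨h3, h4⟩ | ⟨h3, h4⟩)
    · left; exact ⟨by rw [mul_smul, h3, h1], by rw [mul_smul, h4, h2]⟩
    · right; exact ⟨by rw [mul_smul, h3, h2], by rw [mul_smul, h4, h1]⟩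
    · right; exact ⟨by rw [mul_smul, h3, h1], by rw [mul_smul, h4, h2]⟩
    · left; exact ⟨by rw [mul_smul, h3, h2], by rw [mul_smul, h4, h1]⟩
  one_mem' := Or.inl ⟨one_smul _ _, one_smul _ _⟩
  inv_mem' := by
    rintro x (⟨h1, h2⟩ | ⟨h1, h2⟩)
    · left; exact ⟨by rw [inv_smul_eq_iff, h1], by rw [inv_smul_eq_iff, h2]⟩
    · right; exact ⟨by rw [inv_smul_eq_iff, h2], by rw [inv_smul_eq_iff, h1]⟩

theorem mem_pairStab {a b : Ω} {g : G} :
    g ∈ pairStab G a b ↔ (g • a = a ∧ g • b = b) ∨ (g • a = b ∧ g • b = a) := Iff.rfl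

/-- The homomorphism onto a group of order two. -/
theorem exists_hom_of_sharp [Finite G] {a b c : Ω} (hab : a ≠ b) (hca : c ≠ a) (hcb : c ≠ b)
    (hfix3 : ∀ g : G, ∀ p q r : Ω, p ≠ q → q ≠ r → p ≠ r → g • p = p → g • q = q → g • r = r →
      g = 1)
    (htr : ∀ c' : Ω, c' ≠ a → c' ≠ b → ∃ g : G, g • a = a ∧ g • b = b ∧ g • c = c')
    {s : G} (hsa : s • a = b) (hsb : s • b = a) (hsc : s • c = c)
    (N : Subgroup G) (hNE : ∀ n ∈ N, n • a = a ∧ n • b = b)
    (hidx : ∀ x y : G, x • a = a → x • b = b → y • a = a → y • b = b →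
      (x * y ∈ N ↔ (x ∈ N ↔ y ∈ N)))
    {h₀ : G} (h₀a : h₀ • a = a) (h₀b : h₀ • b = b) (h₀N : h₀ ∉ N)
    (hs : ∀ n ∈ N, s * n * s⁻¹ ∈ N) :
    ∃ ψ : G →* ℤˣ, ψ h₀ ≠ 1 := by
  classical
  have hss : s * s = 1 := by
    refine hfix3 _ a b c hab hcb.symm hca.symm ?_ ?_ ?_
    · rw [mul_smul, hsa, hsb]
    · rw [mul_smul, hsb, hsa]
    · rw [mul_smul, hsc, hsc]
  have hsinv : s⁻¹ = s := inv_eq_of_mul_eq_one_left hss
  have hsE : ¬ (s • a = a) := fun h => hab (h.symm.trans hsa)
  -- conjugation by `s` on `E`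
  have hconjE : ∀ e : G, e • a = a → e • b = b → (s * e * s⁻¹) • a = a ∧ (s * e * s⁻¹) • b = b := by
    intro e h1 h2
    rw [hsinv]
    exact ⟨by rw [mul_smul, mul_smul, hsa, h2, hsb], by rw [mul_smul, mul_smul, hsb, h1, hsa]⟩
  have hconjN : ∀ e : G, (s * e * s⁻¹ ∈ N ↔ e ∈ N) := by
    intro e
    constructor
    · intro h
      have h1 := hs _ h
      have h2 : s * (s * e * s⁻¹) * s⁻¹ = e := by
        rw [hsinv]
        calc s * (s * e * s) * s = (s * s) * e * (s * s) := by simp only [mul_assoc]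
          _ = e := by rw [hss, one_mul, mul_one]
      rwa [h2] at h1
    · exact hs e
  -- the subgroup `K₁`
  let K₁ : Subgroup G :=
    { carrier := {g | g ∈ N ∨ g * s ∈ N}
      mul_mem' := by
        rintro x y (hx | hx) (hy | hy)
        · exact Or.inl (N.mul_mem hx hy)
        · right
          rw [mul_assoc]
          exact N.mul_mem hx hy
        · right
          have h1 : x * y * s = (x * s) * (s * y * s⁻¹) := by
            rw [hsinv]
            calc x * y * s = x * (s * s) * y * s := by rw [hss, mul_one]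
              _ = (x * s) * (s * y * s) := by simp only [mul_assoc]
          rw [h1]
          exact N.mul_mem hx (hs y hy)
        · left
          have h1 : x * y = (x * s) * (s * (y * s) * s⁻¹) := by
            rw [hsinv]
            calc x * y = x * (s * s) * y * (s * s) := by rw [hss, mul_one, mul_one]
              _ = (x * s) * (s * (y * s) * s) := by simp only [mul_assoc]
          rw [h1]
          exact N.mul_mem hx (hs _ hy)
      one_mem' := Or.inl N.one_mem
      inv_mem' := by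
        rintro x (hx | hx)
        · exact Or.inl (N.inv_mem hx)
        · right
          have h1 : x⁻¹ * s = s * (x * s)⁻¹ * s⁻¹ := by
            rw [hsinv, mul_inv_rev, hsinv]
            calc x⁻¹ * s = (s * s) * x⁻¹ * s := by rw [hss, one_mul]
              _ = s * (s * x⁻¹) * s := by simp only [mul_assoc]
          rw [h1]
          exact hs _ (N.inv_mem hx) }
  have hK₁ : ∀ g : G, g ∈ K₁ ↔ (g ∈ N ∨ g * s ∈ N) := fun g => Iff.rfl
  set D := pairStab G a b with hD
  have hsD : s ∈ D := Or.inr ⟨hsa, hsb⟩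
  have hK₁D : K₁ ≤ D := by
    intro g hg
    rcases hg with hg | hg
    · exact Or.inl (hNE g hg)
    · have h1 := hNE _ hg
      have h2 : g = (g * s) * s := by rw [mul_assoc, hss, mul_one]
      rw [h2]
      exact D.mul_mem (Or.inl h1) hsD
  -- membership in `K₁` for the two types of elements of `D`
  have hK₁E : ∀ e : G, e • a = a → e • b = b → (e ∈ K₁ ↔ e ∈ N) := by
    intro e h1 h2
    constructor
    · rintro (h | h)
      · exact h
      · exfalso
        have h3 := (hNE _ h).1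
        rw [mul_smul, hsa, h2] at h3
        exact hab h3.symm
    · exact fun h => Or.inl h
  have hK₁S : ∀ d : G, d • a = b → d • b = a → (d ∈ K₁ ↔ d * s ∈ N) := by
    intro d h1 h2
    constructor
    · rintro (h | h)
      · exfalso
        have h3 := (hNE _ h).1
        rw [h1] at h3
        exact hab h3.symm
      · exact h
    · exact fun h => Or.inr h
  have hds : ∀ d : G, d • a = b → d • b = a → (d * s) • a = a ∧ (d * s) • b = b := by
    intro d h1 h2
    exact ⟨by rw [mul_smul, hsa, h2], by rw [mul_smul, hsb, h1]⟩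
  -- index two
  have hindex : (K₁.subgroupOf D).index = 2 := by
    rw [Subgroup.index_eq_two_iff]
    refine ⟨⟨h₀, Or.inl ⟨h₀a, h₀b⟩⟩, ?_⟩
    rintro ⟨d, hd⟩
    simp only [Subgroup.mem_subgroupOf, Subgroup.coe_mul]
    rcases hd with ⟨h1, h2⟩ | ⟨h1, h2⟩
    · have h3 : (d * h₀) • a = a := by rw [mul_smul, h₀a, h1]
      have h4 : (d * h₀) • b = b := by rw [mul_smul, h₀b, h2]
      rw [hK₁E _ h3 h4, hK₁E _ h1 h2, hidx d h₀ h1 h2 h₀a h₀b]
      by_cases hdN : d ∈ N
      · exact Or.inr ⟨hdN, fun h => h₀N (h.mp hdN)⟩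
      · exact Or.inl ⟨⟨fun h => absurd h hdN, fun h => absurd h h₀N⟩, hdN⟩
    · have h3 : (d * h₀) • a = b := by rw [mul_smul, h₀a, h1]
      have h4 : (d * h₀) • b = a := by rw [mul_smul, h₀b, h2]
      rw [hK₁S _ h3 h4, hK₁S _ h1 h2]
      have h5 : d * h₀ * s = (d * s) * (s * h₀ * s⁻¹) := by
        rw [hsinv]
        calc d * h₀ * s = d * (s * s) * h₀ * s := by rw [hss, mul_one]
          _ = (d * s) * (s * h₀ * s) := by simp only [mul_assoc]
      have h6 := hconjE h₀ h₀a h₀b
      have h7 := hds d h1 h2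
      rw [h5, hidx _ _ h7.1 h7.2 h6.1 h6.2, hconjN]
      by_cases hdN : d * s ∈ N
      · exact Or.inr ⟨hdN, fun h => h₀N (h.mp hdN)⟩
      · exact Or.inl ⟨⟨fun h => absurd h hdN, fun h => absurd h h₀N⟩, hdN⟩
  let ϕ : ↥D →* ℤˣ := signOfIndexTwo (K₁.subgroupOf D) hindex
  have hϕ1 : ∀ d : ↥D, (d : G) ∈ K₁ → ϕ d = 1 := fun d hd =>
    signOfIndexTwo_of_mem _ hindex (Subgroup.mem_subgroupOf.mpr hd)
  have hϕh₀ : ϕ ⟨h₀, Or.inl ⟨h₀a, h₀b⟩⟩ = -1 := by
    apply signOfIndexTwo_of_not_mem _ hindex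
    rw [Subgroup.mem_subgroupOf]
    show h₀ ∉ K₁
    rw [hK₁E h₀ h₀a h₀b]
    exact h₀N
  -- the transfer
  refine ⟨MonoidHom.transfer ϕ, ?_⟩
  haveI : Fintype (Quotient (orbitRel (Subgroup.zpowers h₀) (G ⧸ D))) := Fintype.ofFinite _
  rw [MonoidHom.transfer_eq_prod_quotient_orbitRel_zpowers_quot ϕ h₀]
  set q₀ : Quotient (orbitRel (Subgroup.zpowers h₀) (G ⧸ D)) := ⟦((1 : G) : G ⧸ D)⟧ with hq₀
  have hh₀D : h₀ ∈ D := Or.inl ⟨h₀a, h₀b⟩
  have hfixcoset : h₀ • ((1 : G) : G ⧸ D) = ((1 : G) : G ⧸ D) := by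
    rw [MulAction.Quotient.smul_mk, smul_eq_mul, mul_one, QuotientGroup.eq, mul_one]
    exact D.inv_mem hh₀D
  have horbit : ∀ z : G ⧸ D, (orbitRel (Subgroup.zpowers h₀) (G ⧸ D)) z ((1 : G) : G ⧸ D) →
      z = ((1 : G) : G ⧸ D) := by
    rintro z ⟨⟨g, hg⟩, rfl⟩
    obtain ⟨k, rfl⟩ := Subgroup.mem_zpowers_iff.mp hg
    show (h₀ ^ k) • ((1 : G) : G ⧸ D) = _
    rw [MulAction.Quotient.smul_mk, smul_eq_mul, mul_one, QuotientGroup.eq, mul_one]
    exact D.inv_mem (D.zpow_mem hh₀D k)
  rw [Finset.prod_eq_single q₀]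
  · -- the fixed coset
    have h1 : q₀.out = ((1 : G) : G ⧸ D) := by
      apply horbit
      exact Quotient.exact (Quotient.out_eq q₀)
    have h2 : q₀.out.out ∈ D := by
      have := QuotientGroup.out_eq' q₀.out
      rw [h1] at this
      have h3 := QuotientGroup.eq.mp this
      rw [mul_one] at h3
      have h4 := D.inv_mem h3
      rw [inv_inv] at h4
      rw [h1]
      exact h4
    have h3 : Function.minimalPeriod (h₀ • ·) q₀.out = 1 := by
      rw [Function.minimalPeriod_eq_one_iff_isFixedPt, h1]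
      exact hfixcoset
    have h4 : (⟨q₀.out.out⁻¹ * h₀ ^ Function.minimalPeriod (h₀ • ·) q₀.out * q₀.out.out,
        QuotientGroup.out_conj_pow_minimalPeriod_mem D h₀ q₀.out⟩ : ↥D) =
        (⟨q₀.out.out, h2⟩ : ↥D)⁻¹ * ⟨h₀, hh₀D⟩ * ⟨q₀.out.out, h2⟩ := by
      apply Subtype.ext
      simp only [h3, pow_one, Subgroup.coe_mul, Subgroup.coe_inv]
    rw [h4, map_mul, map_mul, map_inv, mul_comm, ← mul_assoc, mul_inv_cancel, one_mul, hϕh₀]
    decide
  · -- the other cosets
    intro q _ hq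
    apply hϕ1
    set x := q.out.out with hx
    set k := Function.minimalPeriod (h₀ • ·) q.out with hk
    have hyD : x⁻¹ * h₀ ^ k * x ∈ D := QuotientGroup.out_conj_pow_minimalPeriod_mem D h₀ q.out
    have hxD : x ∉ D := by
      intro hxD
      apply hq
      have h1 : q.out = ((1 : G) : G ⧸ D) := by
        rw [← QuotientGroup.out_eq' q.out, QuotientGroup.eq, mul_one]
        exact D.inv_mem hxD
      rw [← Quotient.out_eq q, h1]
    show x⁻¹ * h₀ ^ k * x ∈ K₁
    -- a third point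
    have hpa : (h₀ ^ k) • a = a := by
      have : h₀ ^ k ∈ stabilizer G a := Subgroup.pow_mem _ (mem_stabilizer_iff.mpr h₀a) k
      exact mem_stabilizer_iff.mp this
    have hpb : (h₀ ^ k) • b = b := by
      have : h₀ ^ k ∈ stabilizer G b := Subgroup.pow_mem _ (mem_stabilizer_iff.mpr h₀b) k
      exact mem_stabilizer_iff.mp this
    have hya : (x⁻¹ * h₀ ^ k * x) • (x⁻¹ • a) = x⁻¹ • a := by
      rw [mul_smul, mul_smul, smul_inv_smul, hpa]
    have hyb : (x⁻¹ * h₀ ^ k * x) • (x⁻¹ • b) = x⁻¹ • b := by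
      rw [mul_smul, mul_smul, smul_inv_smul, hpb]
    obtain ⟨c', hc'a, hc'b, hyc'⟩ : ∃ c' : Ω, c' ≠ a ∧ c' ≠ b ∧
        (x⁻¹ * h₀ ^ k * x) • c' = c' := by
      by_cases h1 : x⁻¹ • a ≠ a ∧ x⁻¹ • a ≠ b
      · exact ⟨_, h1.1, h1.2, hya⟩
      by_cases h2 : x⁻¹ • b ≠ a ∧ x⁻¹ • b ≠ b
      · exact ⟨_, h2.1, h2.2, hyb⟩
      exfalso
      apply hxD
      have hne : x⁻¹ • a ≠ x⁻¹ • b := fun h => hab (smul_left_cancel _ h)
      have hxi : x⁻¹ ∈ D := by
        rw [not_and_or, not_not, not_not] at h1 h2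
        rcases h1 with h1 | h1 <;> rcases h2 with h2 | h2
        · exact absurd (h1.trans h2.symm) hne
        · exact Or.inl ⟨h1, h2⟩
        · exact Or.inr ⟨h1, h2⟩
        · exact absurd (h1.trans h2.symm) hne
      have := D.inv_mem hxi
      rwa [inv_inv] at this
    rcases hyD with ⟨h1, h2⟩ | ⟨h1, h2⟩
    · have h3 := hfix3 _ a b c' hab hc'b.symm hc'a.symm h1 h2 hyc'
      rw [h3]
      exact K₁.one_mem
    · obtain ⟨g, hga, hgb, hgc⟩ := htr c' hc'a hc'b
      have hgia : g⁻¹ • a = a := by rw [inv_smul_eq_iff, hga]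
      have hgib : g⁻¹ • b = b := by rw [inv_smul_eq_iff, hgb]
      set y := x⁻¹ * h₀ ^ k * x with hy
      have h3 : y⁻¹ * (g * s * g⁻¹) = 1 := by
        have hyia : y⁻¹ • a = b := by rw [inv_smul_eq_iff, h2]
        have hyib : y⁻¹ • b = a := by rw [inv_smul_eq_iff, h1]
        have hyic : y⁻¹ • c' = c' := by rw [inv_smul_eq_iff, hyc']
        refine hfix3 _ a b c' hab hc'b.symm hc'a.symm ?_ ?_ ?_
        · rw [mul_smul, mul_smul, mul_smul, hgia, hsa, hgb, hyib]
        · rw [mul_smul, mul_smul, mul_smul, hgib, hsb, hga, hyia]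
        · rw [mul_smul, mul_smul, mul_smul, ← hgc, inv_smul_smul, hsc, hgc, hyic]
      have h4 : y = g * s * g⁻¹ := by
        have := congrArg (fun z => y * z) h3
        simpa [mul_assoc] using this.symm
      rw [h4, hK₁S _ (by rw [mul_smul, mul_smul, hgia, hsa, hgb])
        (by rw [mul_smul, mul_smul, hgib, hsb, hga])]
      have h5 : g * s * g⁻¹ * s = g * (s * g⁻¹ * s⁻¹) := by
        rw [hsinv]
        simp only [mul_assoc]
      have h6 := hconjE g⁻¹ hgia hgib
      rw [h5, hidx _ _ hga hgb h6.1 h6.2, hconjN]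
      exact ⟨fun h => N.inv_mem h, fun h => by simpa using N.inv_mem h⟩
  · intro h
    exact absurd (Finset.mem_univ _) h

end Cfsg.Agent.Lib.Helper3.ZT
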