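import Mathlib
import Cfsg.Agent.Lib.Helper3.ZT15

set_option autoImplicit false
set_option linter.style.haveILetI false
set_option linter.unusedSectionVars false

/-!
# Sharply triply transitive permutation groups of even degree are not simple

(given a subgroup of index two of the two point stabilizer normalized by the involution
interchanging the two points and fixing a third one).
-/

namespace Cfsg.Agent.Lib.Helper3.ZT

open MulAction

/-- three distinct points as an embedding -/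
def emb3 {α : Type*} (x₁ x₂ x₃ : α) (h12 : x₁ ≠ x₂) (h13 : x₁ ≠ x₃) (h23 : x₂ ≠ x₃) :
    Fin 3 ↪ α where
  toFun := ![x₁, x₂, x₃]
  inj' := by
    intro i j h
    fin_cases i <;> fin_cases j <;> first | rfl | (exfalso; simp at h; tauto)

theorem emb3_zero {α : Type*} (x₁ x₂ x₃ : α) (h12 : x₁ ≠ x₂) (h13 : x₁ ≠ x₃) (h23 : x₂ ≠ x₃) :
    emb3 x₁ x₂ x₃ h12 h13 h23 0 = x₁ := rfl

theorem emb3_one {α : Type*} (x₁ x₂ x₃ : α) (h12 : x₁ ≠ x₂) (h13 : x₁ ≠ x₃) (h23 : x₂ ≠ x₃) :
    emb3 x₁ x₂ x₃ h12 h13 h23 1 = x₂ := rfl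

theorem emb3_two {α : Type*} (x₁ x₂ x₃ : α) (h12 : x₁ ≠ x₂) (h13 : x₁ ≠ x₃) (h23 : x₂ ≠ x₃) :
    emb3 x₁ x₂ x₃ h12 h13 h23 2 = x₃ := rfl

section
variable {G Ω : Type*} [Group G] [MulAction G Ω]

theorem trans3_of_pretransitive (h3 : MulAction.IsMultiplyPretransitive G Ω 3)
    {x₁ x₂ x₃ y₁ y₂ y₃ : Ω} (hx12 : x₁ ≠ x₂) (hx13 : x₁ ≠ x₃) (hx23 : x₂ ≠ x₃) (hy12 : y₁ ≠ y₂)
    (hy13 : y₁ ≠ y₃) (hy23 : y₂ ≠ y₃) : ∃ g : G, g • x₁ = y₁ ∧ g • x₂ = y₂ ∧ g • x₃ = y₃ := by
  rw [MulAction.isMultiplyPretransitive_iff] at h3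
  obtain ⟨g, hg⟩ := h3 (emb3 x₁ x₂ x₃ hx12 hx13 hx23) (emb3 y₁ y₂ y₃ hy12 hy13 hy23)
  refine ⟨g, ?_, ?_, ?_⟩
  · have := congrArg (fun f : Fin 3 ↪ Ω => f 0) hg
    simpa [Function.Embedding.smul_apply, emb3_zero] using this
  · have := congrArg (fun f : Fin 3 ↪ Ω => f 1) hg
    simpa [Function.Embedding.smul_apply, emb3_one] using this
  · have := congrArg (fun f : Fin 3 ↪ Ω => f 2) hg
    simpa [Function.Embedding.smul_apply, emb3_two] using this

theorem fix3_of_sharp (hsharp : ∀ x : Fin 3 ↪ Ω, MulAction.stabilizer G x = ⊥) (g : G)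
    (p q r : Ω) (hpq : p ≠ q) (hqr : q ≠ r) (hpr : p ≠ r) (h1 : g • p = p) (h2 : g • q = q)
    (h3 : g • r = r) : g = 1 := by
  have hmem : g ∈ MulAction.stabilizer G (emb3 p q r hpq hpr hqr) := by
    rw [mem_stabilizer_iff]
    ext i
    rw [Function.Embedding.smul_apply]
    fin_cases i
    · exact h1
    · exact h2
    · exact h3
  rw [hsharp] at hmem
  exact Subgroup.mem_bot.mp hmem

end

/-- A sharply triply transitive permutation group of even degree at least four has a homomorphism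
onto a group of order two, provided the conclusion of the statement `S0729` holds for it. -/
theorem sharp_hom {α : Type*} [Fintype α] [DecidableEq α] (G : Subgroup (Equiv.Perm α))
    (h4 : 4 ≤ Fintype.card α)
    (h3 : MulAction.IsMultiplyPretransitive G α 3)
    (hsharp : ∀ x : Fin 3 ↪ α, MulAction.stabilizer G x = ⊥)
    (h729 : 6 ≤ Fintype.card α → ∀ {a b c : α}, a ≠ b → a ≠ c → b ≠ c → ∀ s : G, s • a = b →
      s • b = a → s • c = c → ∃ N : Subgroup G,
        N ≤ MulAction.stabilizer G a ⊓ MulAction.stabilizer G b ∧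
        (N.subgroupOf (MulAction.stabilizer G a ⊓ MulAction.stabilizer G b)).Normal ∧
        N.relIndex (MulAction.stabilizer G a ⊓ MulAction.stabilizer G b) = 2 ∧
        ∀ n ∈ N, s * n * s⁻¹ ∈ N)
    (h5 : Fintype.card α ≠ 5) :
    ∃ ψ : G →* ℤˣ, ∃ g : G, ψ g ≠ 1 := by
  have hfix3 := fix3_of_sharp hsharp
  obtain ⟨a, b, c, hab, hac, hbc⟩ : ∃ a b c : α, a ≠ b ∧ a ≠ c ∧ b ≠ c :=
    Fintype.two_lt_card_iff.mp (by omega)
  obtain ⟨s, hsa, hsb, hsc⟩ := trans3_of_pretransitive h3 hab hac hbc hab.symm hbc hac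
  have htr : ∀ c' : α, c' ≠ a → c' ≠ b → ∃ g : G, g • a = a ∧ g • b = b ∧ g • c = c' :=
    fun c' h1 h2 => trans3_of_pretransitive h3 hab hac hbc hab h1.symm h2.symm
  by_cases h6 : 6 ≤ Fintype.card α
  · obtain ⟨N, hNE, -, hidx, hs⟩ := h729 h6 hab hac hbc s hsa hsb hsc
    set E := MulAction.stabilizer G a ⊓ MulAction.stabilizer G b with hE
    have hmemE : ∀ x : G, x ∈ E ↔ x • a = a ∧ x • b = b := by
      intro x
      rw [hE, Subgroup.mem_inf, mem_stabilizer_iff, mem_stabilizer_iff]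
    have hNE' : ∀ n ∈ N, n • a = a ∧ n • b = b := fun n hn => (hmemE n).mp (hNE hn)
    have hidx' : ∀ x y : G, x • a = a → x • b = b → y • a = a → y • b = b →
        (x * y ∈ N ↔ (x ∈ N ↔ y ∈ N)) := by
      intro x y h1 h2 h3' h4'
      have hx : x ∈ E := (hmemE x).mpr ⟨h1, h2⟩
      have hy : y ∈ E := (hmemE y).mpr ⟨h3', h4'⟩
      have := Subgroup.mul_mem_iff_of_index_two (H := N.subgroupOf E) hidx
        (a := ⟨x, hx⟩) (b := ⟨y, hy⟩)
      simpa [Subgroup.mem_subgroupOf] using this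
    obtain ⟨h₀, hh₀E, hh₀N⟩ : ∃ h₀ ∈ E, h₀ ∉ N := by
      by_contra hcon
      push Not at hcon
      have : N.relIndex E = 1 := Subgroup.relIndex_eq_one.mpr hcon
      omega
    have hh₀ := (hmemE h₀).mp hh₀E
    obtain ⟨ψ, hψ⟩ := exists_hom_of_sharp hab hac.symm hbc.symm hfix3 htr hsa hsb hsc N hNE'
      hidx' hh₀.1 hh₀.2 hh₀N hs
    exact ⟨ψ, h₀, hψ⟩
  · -- degree four
    have hcard : Fintype.card α = 4 := by omega
    obtain ⟨d, hda, hdb, hdc⟩ : ∃ d : α, d ≠ a ∧ d ≠ b ∧ d ≠ c := by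
      by_contra hcon
      push Not at hcon
      have hsub : (Finset.univ : Finset α) ⊆ {a, b, c} := by
        intro x _
        by_cases h1 : x = a
        · simp [h1]
        by_cases h2 : x = b
        · simp [h2]
        have := hcon x h1 h2
        simp [this]
      have := Finset.card_le_card hsub
      rw [Finset.card_univ, hcard] at this
      have h2 : ({a, b, c} : Finset α).card ≤ 3 := Finset.card_le_three
      omega
    have hall : ∀ x : α, x = a ∨ x = b ∨ x = c ∨ x = d := by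
      have hc4 : ({a, b, c, d} : Finset α).card = 4 := by
        rw [Finset.card_insert_of_notMem, Finset.card_insert_of_notMem,
          Finset.card_insert_of_notMem, Finset.card_singleton]
        · simp [hdc.symm]
        · simp [hbc, hdb.symm]
        · simp [hab, hac, hda.symm]
      have heq : ({a, b, c, d} : Finset α) = Finset.univ := by
        apply Finset.eq_univ_of_card
        rw [hc4, hcard]
      intro x
      have : x ∈ ({a, b, c, d} : Finset α) := by rw [heq]; exact Finset.mem_univ x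
      simpa using this
    obtain ⟨h₀, h₀a, h₀b, h₀c⟩ := htr d hda hdb
    have h₀1 : h₀ ≠ 1 := by
      intro h
      rw [h, one_smul] at h₀c
      exact hdc h₀c.symm
    have hEelts : ∀ x : G, x • a = a → x • b = b → x = 1 ∨ x = h₀ := by
      intro x h1 h2
      have hxc : x • c = c ∨ x • c = d := by
        rcases hall (x • c) with h | h | h | h
        · exfalso
          rw [← h1] at h
          exact hac (smul_left_cancel x h).symm
        · exfalso
          rw [← h2] at h
          exact hbc (smul_left_cancel x h).symm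
        · exact Or.inl h
        · exact Or.inr h
      rcases hxc with h | h
      · exact Or.inl (hfix3 x a b c hab hbc hac h1 h2 h)
      · right
        have h5 : h₀⁻¹ * x = 1 := by
          refine hfix3 _ a b c hab hbc hac ?_ ?_ ?_
          · rw [mul_smul, h1, inv_smul_eq_iff, h₀a]
          · rw [mul_smul, h2, inv_smul_eq_iff, h₀b]
          · rw [mul_smul, h, inv_smul_eq_iff, h₀c]
        calc x = h₀ * (h₀⁻¹ * x) := by group
          _ = h₀ := by rw [h5, mul_one]
    have h₀sq : h₀ * h₀ = 1 := by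
      rcases hEelts (h₀ * h₀) (by rw [mul_smul, h₀a, h₀a]) (by rw [mul_smul, h₀b, h₀b]) with h | h
      · exact h
      · exfalso
        apply h₀1
        calc h₀ = h₀⁻¹ * (h₀ * h₀) := by group
          _ = 1 := by rw [h, inv_mul_cancel]
    have hidx' : ∀ x y : G, x • a = a → x • b = b → y • a = a → y • b = b →
        (x * y ∈ (⊥ : Subgroup G) ↔ (x ∈ (⊥ : Subgroup G) ↔ y ∈ (⊥ : Subgroup G))) := by
      intro x y h1 h2 h3' h4'
      simp only [Subgroup.mem_bot]
      rcases hEelts x h1 h2 with rfl | rfl <;> rcases hEelts y h3' h4' with rfl | rfl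
      · simp
      · simp
      · simp
      · simp [h₀sq, h₀1]
    obtain ⟨ψ, hψ⟩ := exists_hom_of_sharp hab hac.symm hbc.symm hfix3 htr hsa hsb hsc ⊥
      (fun n hn => by rw [Subgroup.mem_bot.mp hn]; exact ⟨one_smul _ _, one_smul _ _⟩)
      hidx' h₀a h₀b (fun h => h₀1 (Subgroup.mem_bot.mp h))
      (fun n hn => by rw [Subgroup.mem_bot.mp hn]; simp)
    exact ⟨ψ, h₀, hψ⟩

end Cfsg.Agent.Lib.Helper3.ZT
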