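import Mathlib
import Cfsg.Agent.Lib.Helper3.ZT14
import Cfsg.Agent.Lib.Helper3.ZT16

set_option autoImplicit false
set_option linter.style.haveILetI false
set_option linter.unusedSectionVars false

/-!
# Zassenhaus' theorem: the structure of the two point stabilizer, and simple groups
-/

namespace Cfsg.Agent.Lib.Helper3.ZT

open Cfsg MulAction OnePoint
open Cfsg.Agent.Lib.Helper97.Zass
open Cfsg.Agent.Lib.Helper3.ZassOdd
open Cfsg.Agent.Lib.Helper3.ZassFeit

/-- The case `|E| = (q - 1) / 2` of Zassenhaus' theorem, with the structure of the two point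
stabilizer. -/
theorem psl_case_full {G Ω : Type*} [Group G] [Finite G] [MulAction G Ω] [Fintype Ω]
    (hZ : IsZassenhausGroup G Ω) {a b : Ω} (hab : a ≠ b) {F : Subgroup G}
    (hFle : F ≤ stabilizer G a) (hFn : (F.subgroupOf (stabilizer G a)).Normal)
    (hcomm : ∀ x ∈ F, ∀ y ∈ F, x * y = y * x)
    (hreg : ∀ y z : Ω, y ≠ a → z ≠ a → ∃! u : F, (u : G) • y = z)
    (h2e : 2 * Nat.card (twoStab G a b) + 2 = Fintype.card Ω) :
    IsCyclic (twoStab G a b) ∧
    (∃ t : G, orderOf t = 2 ∧ t • a = b ∧ t • b = a ∧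
      ∀ g ∈ twoStab G a b, t * g * t⁻¹ = g⁻¹) ∧
    ∃ (K : Type) (_ : Field K) (_ : Fintype K), Odd (Fintype.card K) ∧
      Fintype.card K + 1 = Fintype.card Ω ∧
      Nonempty (G ≃* Matrix.ProjectiveSpecialLinearGroup (Fin 2) K) := by
  classical
  have hy := hyp_of_zass hZ
  have hFcard := card_of_reg hab hFle hreg
  have k : Ker G a F := ⟨hFle, hFcard, fix_of_reg hreg⟩
  -- the involution
  obtain ⟨⟨t, hto, hta, htb⟩, -, -⟩ := Cfsg.Agent.S0740.result hZ hab
  have htt : t * t = 1 := by rw [← pow_two, ← hto, pow_orderOf_eq_one]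
  have htinv : t⁻¹ = t := inv_eq_of_mul_eq_one_left htt
  -- the commutative group structure on `F`
  letI : CommGroup F :=
    { (inferInstance : Group F) with
      mul_comm := fun x y => Subtype.ext (hcomm x x.2 y y.2) }
  haveI : Finite (Additive F) := inferInstanceAs (Finite F)
  -- the first model
  let jA : Multiplicative (Additive F) ≃* F := MulEquiv.multiplicativeAdditive F
  have hcardA : 2 * Nat.card ↥(stabilizer G a ⊓ stabilizer G b) + 1 = Nat.card (Additive F) := by
    have h1 : Nat.card (Additive F) = Nat.card F := rfl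
    have h2 : Nat.card ↥(stabilizer G a ⊓ stabilizer G b) = Nat.card (twoStab G a b) := rfl
    omega
  obtain ⟨ΨA, dA⟩ := exists_tr hab hy.h3 hFle hFn hreg jA hcardA
  have mA := dA.mod0 htb htt
  have hEA := dA.Estab_eq
  have hcA : Even (Nat.card (Estab (Phi ΨA : G →* _).range)) ∨
      ∀ h ∈ Estab (Phi ΨA : G →* _).range, Phi ΨA t * h * Phi ΨA t = h⁻¹ := by
    by_cases heven : Even (Nat.card (twoStab G a b))
    · left
      rw [hEA, Subgroup.card_map_of_injective dA.Phi_injective]
      exact heven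
    · right
      have hodd := Nat.not_even_iff_odd.mp heven
      haveI := simple_of_abelian hZ hab hodd k hcomm h2e
      have hinv := conj_eq_inv hZ hab hodd hta htb htt
      intro h hh
      rw [hEA] at hh
      obtain ⟨g, hg, rfl⟩ := hh
      rw [← map_mul, ← map_mul, ← map_inv]
      congr 1
      have h1 := hinv g hg
      rw [htinv] at h1
      exact h1
  obtain ⟨hIA, -, -⟩ := mA.main hcA
  -- the inversion at the level of the group
  have hI : ∀ g ∈ twoStab G a b, t * g * t = g⁻¹ := by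
    intro g hg
    apply dA.Phi_injective
    rw [map_mul, map_mul, map_inv]
    apply hIA
    rw [hEA]
    exact ⟨g, hg, rfl⟩
  -- the field
  have hEcomm := comm_of_inverted (Phi ΨA t) mA.t_sq _ hIA
  let ρ : ↥(Estab (Phi ΨA : G →* _).range) →* AddMonoid.End (Additive F) :=
    { toFun := fun h => AddMonoidHom.mk' (lin (h : Equiv.Perm (OnePoint (Additive F))))
        (mA.lin_add h.2)
      map_one' := by
        apply AddMonoidHom.ext
        intro x
        exact lin_one x
      map_mul' := fun h k => by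
        apply AddMonoidHom.ext
        intro x
        exact lin_mul k.2 x }
  have hρ : ∀ (h : ↥(Estab (Phi ΨA : G →* _).range)) (x : Additive F),
      ρ h x = lin (h : Equiv.Perm (OnePoint (Additive F))) x := fun h x => rfl
  have hρcomm : ∀ h k : ↥(Estab (Phi ΨA : G →* _).range), ρ h * ρ k = ρ k * ρ h := by
    intro h k
    rw [← map_mul, ← map_mul]
    congr 1
    exact Subtype.ext (hEcomm h h.2 k k.2)
  have hρsemi : ∀ h : ↥(Estab (Phi ΨA : G →* _).range), ∀ x : Additive F, x ≠ 0 → ρ h x = x →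
      h = 1 := fun h x hx hfix => Subtype.ext (mA.semireg h.2 hx hfix)
  obtain ⟨K, fK, ftK, ι, hι⟩ := exists_field ρ hρcomm hρsemi mA.card
  letI := fK
  letI := ftK
  -- the second model
  let jB : Multiplicative K ≃* F := (AddEquiv.toMultiplicative ι).trans jA
  have hjB : ∀ y : K, jB (Multiplicative.ofAdd y) = jA (Multiplicative.ofAdd (ι y)) :=
    fun y => rfl
  have hcardB : 2 * Nat.card ↥(stabilizer G a ⊓ stabilizer G b) + 1 = Nat.card K := by
    rw [Nat.card_congr ι.toEquiv]
    exact hcardA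
  obtain ⟨ΨB, dB⟩ := exists_tr hab hy.h3 hFle hFn hreg jB hcardB
  have mB := dB.mod0 htb htt
  have hEB := dB.Estab_eq
  have hcB : Even (Nat.card (Estab (Phi ΨB : G →* _).range)) ∨
      ∀ h ∈ Estab (Phi ΨB : G →* _).range, Phi ΨB t * h * Phi ΨB t = h⁻¹ := by
    right
    intro h hh
    rw [hEB] at hh
    obtain ⟨g, hg, rfl⟩ := hh
    rw [← map_mul, ← map_mul, ← map_inv, hI g hg]
  have hsqB : ∀ h ∈ Estab (Phi ΨB : G →* _).range,
      ∃ s : K, s ≠ 0 ∧ ∀ x : K, lin h x = s * s * x := by
    intro h hh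
    rw [hEB] at hh
    obtain ⟨g, hg, rfl⟩ := hh
    have hg' := mem_twoStab.mp hg
    have hgA : Phi ΨA g ∈ Estab (Phi ΨA : G →* _).range := by
      rw [hEA]
      exact ⟨g, hg, rfl⟩
    obtain ⟨s, hs0, hs⟩ := hι ⟨Phi ΨA g, hgA⟩
    refine ⟨s, hs0, fun x => ?_⟩
    have h1 := dB.lin_Phi hg'.1 hg'.2 x
    have h2 := dA.lin_Phi hg'.1 hg'.2 (ι x)
    have h3 : lin (Phi ΨA g) (ι x) = ι (s * s * x) := hs x
    rw [hjB, hjB, ← h2, h3, ← hjB] at h1
    exact Multiplicative.ofAdd.injective (jB.injective (Subtype.ext h1))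
  have h2K : (2 : K) ≠ 0 := by
    intro h2
    have h1 : (1 : K) + 1 = 0 := by rw [one_add_one_eq_two, h2]
    exact one_ne_zero (mB.eq_zero_of_add_self h1)
  have hmob := mB.all_mob h2K hcB hsqB
  -- cardinalities
  have hcK : Fintype.card K = 2 * Nat.card (twoStab G a b) + 1 := by
    rw [← Nat.card_eq_fintype_card]
    exact hcardB.symm
  have hoddK : Odd (Fintype.card K) := ⟨Nat.card (twoStab G a b), hcK⟩
  have hcG := card_eq hy hab
  have hcard : Nat.card G * 2 = Fintype.card K * (Fintype.card K ^ 2 - 1) := by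
    rw [hcG, hcK, ← h2e]
    set e := Nat.card (twoStab G a b)
    have h1 : 2 * e + 2 - 1 = 2 * e + 1 := by omega
    have h3 : (2 * e + 1) ^ 2 - 1 = 4 * e * e + 4 * e := by
      apply Nat.sub_eq_of_eq_add
      ring
    rw [h1, h3]
    ring
  -- `E` is cyclic
  have hEmem : ∀ g : twoStab G a b, Phi ΨB (g : G) ∈ Estab (Phi ΨB : G →* _).range := by
    intro g
    rw [hEB]
    exact ⟨g, g.2, rfl⟩
  have hlinmul : ∀ (g : twoStab G a b) (x : K),
      lin (Phi ΨB (g : G)) x = lin (Phi ΨB (g : G)) 1 * x := by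
    intro g x
    obtain ⟨s, hs0, hs⟩ := hsqB _ (hEmem g)
    rw [hs x, hs 1, mul_one]
  let f : twoStab G a b →* K :=
    { toFun := fun g => lin (Phi ΨB (g : G)) 1
      map_one' := by
        show lin (Phi ΨB ((1 : twoStab G a b) : G)) 1 = 1
        rw [Subgroup.coe_one, map_one, lin_one]
      map_mul' := fun g h => by
        show lin (Phi ΨB ((g * h : twoStab G a b) : G)) 1 = _
        rw [Subgroup.coe_mul, map_mul, lin_mul (hEmem h), hlinmul g] }
  have hf : Function.Injective f := by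
    rw [injective_iff_map_eq_one]
    intro g hg
    have h1 : Phi ΨB (g : G) = 1 := mB.semireg (hEmem g) one_ne_zero hg
    have h2 : (g : G) = 1 := dB.Phi_injective (by rw [h1, map_one])
    exact Subtype.ext h2
  have hcyc : IsCyclic (twoStab G a b) := isCyclic_of_injective_ringHom f hf
  refine ⟨hcyc, ⟨t, hto, hta, htb, fun g hg => ?_⟩, K, fK, ftK, hoddK, by omega, ?_⟩
  · rw [htinv]
    exact hI g hg
  exact psl2_of_perm (Phi ΨB) dB.Phi_injective (fun g => hmob _ ⟨g, rfl⟩) hcard hoddK


/-- **Zassenhaus' theorem** for Zassenhaus groups with abelian kernel, with the degrees and the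
structure of the two point stabilizer. -/
theorem zassenhaus_abelian_full {G Ω : Type*} [Group G] [Finite G] [MulAction G Ω] [Fintype Ω]
    (hZ : IsZassenhausGroup G Ω) {a b : Ω} (hab : a ≠ b) {F : Subgroup G}
    (hFle : F ≤ stabilizer G a) (hFn : (F.subgroupOf (stabilizer G a)).Normal)
    (hcomm : ∀ x ∈ F, ∀ y ∈ F, x * y = y * x)
    (hreg : ∀ y z : Ω, y ≠ a → z ≠ a → ∃! u : F, (u : G) • y = z) :
    (Nat.card (twoStab G a b) + 2 = Fintype.card Ω ∧
      MulAction.IsMultiplyPretransitive G Ω 3 ∧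
      ∀ t : Fin 3 ↪ Ω, MulAction.stabilizer G t = ⊥) ∨
      (2 * Nat.card (twoStab G a b) + 2 = Fintype.card Ω ∧
        IsCyclic (twoStab G a b) ∧
        (∃ t : G, orderOf t = 2 ∧ t • a = b ∧ t • b = a ∧
          ∀ g ∈ twoStab G a b, t * g * t⁻¹ = g⁻¹) ∧
        ∃ (K : Type) (_ : Field K) (_ : Fintype K), Odd (Fintype.card K) ∧
          Fintype.card K + 1 = Fintype.card Ω ∧
          Nonempty (G ≃* Matrix.ProjectiveSpecialLinearGroup (Fin 2) K)) := by
  classical
  have hy := hyp_of_zass hZ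
  have hFcard := card_of_reg hab hFle hreg
  have k : Ker G a F := ⟨hFle, hFcard, fix_of_reg hreg⟩
  have hbound := bound_of_abelian hZ hab k hcomm
  have hmod := card_sub_one_mod hy hab
  have h3 : 3 ≤ Fintype.card Ω := by
    obtain ⟨x, y, z, hxy, hyz, hxz⟩ := hy.three
    have : 2 < Fintype.card Ω := Fintype.two_lt_card_iff.mpr ⟨x, y, z, hxy, hxz, hyz⟩
    omega
  set e := Nat.card (twoStab G a b) with he
  have hepos : 0 < e := Nat.card_pos
  have hdvd : e ∣ Fintype.card Ω - 2 := by
    have h1 : 1 ≤ Fintype.card Ω - 1 := by omega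
    have h2 := (Nat.modEq_iff_dvd' h1).mp (show 1 ≡ Fintype.card Ω - 1 [MOD e] from hmod.symm)
    have h4 : Fintype.card Ω - 1 - 1 = Fintype.card Ω - 2 := by omega
    rwa [h4] at h2
  obtain ⟨m, hm⟩ := hdvd
  have hm2 : m ≤ 2 := by
    by_contra hlt
    push Not at hlt
    have : e * 3 ≤ e * m := Nat.mul_le_mul_left e hlt
    omega
  have hm1 : 1 ≤ m := by
    rcases Nat.eq_zero_or_pos m with h0 | h0
    · rw [h0, mul_zero] at hm
      omega
    · exact h0
  rcases (by omega : m = 1 ∨ m = 2) with h | h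
  · left
    rw [h, mul_one] at hm
    have h1e : e + 2 = Fintype.card Ω := by omega
    exact ⟨h1e, sharply_three hy hab h1e⟩
  · right
    rw [h] at hm
    have h2e : 2 * e + 2 = Fintype.card Ω := by omega
    exact ⟨h2e, psl_case_full hZ hab hFle hFn hcomm hreg h2e⟩

/-- A simple group has no sharply triply transitive action of even degree at least four, given
the conclusion of the statement `S0729` for the image of the action. -/
theorem sharp_case_false {G Ω : Type*} [Group G] [MulAction G Ω] [Fintype Ω] [DecidableEq Ω]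
    [IsSimpleGroup G] (h4 : 4 ≤ Fintype.card Ω) (h5 : Fintype.card Ω ≠ 5)
    (h3 : MulAction.IsMultiplyPretransitive G Ω 3)
    (hsharp : ∀ x : Fin 3 ↪ Ω, MulAction.stabilizer G x = ⊥)
    (h729 : ∀ G' : Subgroup (Equiv.Perm Ω), MulAction.IsMultiplyPretransitive G' Ω 3 →
      (∀ x : Fin 3 ↪ Ω, MulAction.stabilizer G' x = ⊥) →
      6 ≤ Fintype.card Ω → ∀ {a b c : Ω}, a ≠ b → a ≠ c → b ≠ c → ∀ s : G', s • a = b →
      s • b = a → s • c = c → ∃ N : Subgroup G',
        N ≤ MulAction.stabilizer G' a ⊓ MulAction.stabilizer G' b ∧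
        (N.subgroupOf (MulAction.stabilizer G' a ⊓ MulAction.stabilizer G' b)).Normal ∧
        N.relIndex (MulAction.stabilizer G' a ⊓ MulAction.stabilizer G' b) = 2 ∧
        ∀ n ∈ N, s * n * s⁻¹ ∈ N) : False := by
  set ρ : G →* Equiv.Perm Ω := MulAction.toPermHom G Ω with hρ
  set G' : Subgroup (Equiv.Perm Ω) := ρ.range with hG'
  have hact : ∀ (g : G) (x : Ω), (ρ.rangeRestrict g : G') • x = g • x := fun g x => rfl
  have hsurj : Function.Surjective ρ.rangeRestrict := ρ.rangeRestrict_surjective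
  have h3' : MulAction.IsMultiplyPretransitive G' Ω 3 := by
    rw [MulAction.isMultiplyPretransitive_iff] at h3 ⊢
    intro x y
    obtain ⟨g, hg⟩ := h3 x y
    refine ⟨ρ.rangeRestrict g, ?_⟩
    ext i
    have := congrArg (fun f : Fin 3 ↪ Ω => f i) hg
    simp only [Function.Embedding.smul_apply] at this
    rw [Function.Embedding.smul_apply, hact]
    exact this
  have hsharp' : ∀ x : Fin 3 ↪ Ω, MulAction.stabilizer G' x = ⊥ := by
    intro x
    rw [eq_bot_iff]
    intro g' hg'
    obtain ⟨g, rfl⟩ := hsurj g'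
    rw [mem_stabilizer_iff] at hg'
    have hg : g ∈ MulAction.stabilizer G x := by
      rw [mem_stabilizer_iff]
      ext i
      have := congrArg (fun f : Fin 3 ↪ Ω => f i) hg'
      rw [Function.Embedding.smul_apply, ← hact]
      exact this
    rw [hsharp x, Subgroup.mem_bot] at hg
    rw [hg, map_one]
    exact Subgroup.one_mem _
  obtain ⟨ψ', g', hg'⟩ := sharp_hom G' h4 h3' hsharp' (h729 G' h3' hsharp') h5
  obtain ⟨g, rfl⟩ := hsurj g'
  set ψ : G →* ℤˣ := ψ'.comp ρ.rangeRestrict with hψ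
  have hψg : ψ g ≠ 1 := hg'
  rcases ψ.normal_ker.eq_bot_or_eq_top with hk | hk
  · have hinj : Function.Injective ψ := (MonoidHom.ker_eq_bot_iff ψ).mp hk
    obtain ⟨a, b, c, hab, hac, hbc⟩ : ∃ a b c : Ω, a ≠ b ∧ a ≠ c ∧ b ≠ c :=
      Fintype.two_lt_card_iff.mp (by omega)
    obtain ⟨g₁, hg₁, -, -⟩ := trans3_of_pretransitive h3 hab hac hbc hab.symm hbc hac
    obtain ⟨g₂, hg₂, -, -⟩ := trans3_of_pretransitive h3 hab hac hbc hac.symm hbc.symm hab
    have h1 : g₁ ≠ 1 := by
      rintro rfl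
      rw [one_smul] at hg₁
      exact hab hg₁
    have h2 : g₂ ≠ 1 := by
      rintro rfl
      rw [one_smul] at hg₂
      exact hac hg₂
    have h12 : g₁ ≠ g₂ := by
      rintro rfl
      rw [hg₁] at hg₂
      exact hbc hg₂
    have e1 : ψ g₁ = -1 := by
      rcases Int.units_eq_one_or (ψ g₁) with h | h
      · exact absurd (hinj (h.trans (map_one ψ).symm)) h1
      · exact h
    have e2 : ψ g₂ = -1 := by
      rcases Int.units_eq_one_or (ψ g₂) with h | h
      · exact absurd (hinj (h.trans (map_one ψ).symm)) h2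
      · exact h
    exact h12 (hinj (e1.trans e2.symm))
  · apply hψg
    have : g ∈ ψ.ker := by rw [hk]; exact Subgroup.mem_top g
    exact MonoidHom.mem_ker.mp this

end Cfsg.Agent.Lib.Helper3.ZT
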