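import Mathlib
import Cfsg.Agent.Lib.Helper3.SzA
import Cfsg.Agent.S0345
import Cfsg.Prelude.Def_LieRecognition

set_option autoImplicit false
set_option linter.style.haveILetI false
set_option linter.unusedSectionVars false

/-! # Part A (continued): `Q` is a Suzuki `2`-group. -/

namespace Cfsg.Agent.Lib.Helper3.Sz

open Cfsg MulAction
open Cfsg.Agent.Lib.Helper97.Zass
open Cfsg.Agent.Lib.Helper3.ZassOdd
open Cfsg.Agent.Lib.Helper3.ZassFeit

variable {G Ω : Type*} [Group G] [MulAction G Ω] [Fintype Ω]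

/-- the degree is odd when the kernel is a `2`-group. -/
theorem odd_card_of_two [Finite G] (hy : Hyp G Ω) {a : Ω} {Q : Subgroup G} (k : Ker G a Q)
    (hQ2 : IsPGroup 2 Q) : Odd (Fintype.card Ω) := by
  haveI : Fact (Nat.Prime 2) := ⟨Nat.prime_two⟩
  obtain ⟨j, hj⟩ := IsPGroup.iff_card.mp hQ2
  have hj1 : j ≠ 0 := by
    intro h0
    rw [h0, pow_zero] at hj
    exact k.ne_bot hy (Subgroup.card_eq_one.mp hj)
  have hc := k.card
  rw [hj] at hc
  rw [← hc]
  have : Even (2 ^ j) := (Nat.even_pow' hj1).mpr even_two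
  exact this.add_one

/-- all involutions of `Q` are central in `Q`. -/
theorem inv_central [Finite G] (hZ : Cfsg.IsZassenhausGroup G Ω) [IsSimpleGroup G] {a b : Ω}
    (hab : a ≠ b) (hodd : Odd (Nat.card (twoStab G a b))) {Q : Subgroup G} (k : Ker G a Q)
    (hQ2 : IsPGroup 2 Q) {y : G} (hyQ : y ∈ Q) (hy1 : y ≠ 1) (hy2 : y * y = 1) :
    ∀ u ∈ Q, y * u = u * y := by
  classical
  haveI := Fintype.ofFinite G
  have hy := hyp_of_zass hZ
  have hn := odd_card_of_two hy k hQ2
  obtain ⟨z, hzQ, hz1, hz2, hzc⟩ := exists_central_inv hQ2 (k.ne_bot hy)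
  obtain ⟨g, hg, hgz⟩ := trans_invs_ker hZ hab hodd k hn hzQ hz1 hz2 hyQ hy1 hy2
  intro u hu
  have hga : g • a = a := (mem_twoStab.mp hg).1
  have hga' : g⁻¹ • a = a := by rw [inv_smul_eq_iff, hga]
  have hu' : g⁻¹ * u * g ∈ Q := by
    have := k.conj_mem hy hga' hu
    simpa using this
  have h1 := hzc _ hu'
  rw [← hgz]
  calc g * z * g⁻¹ * u = g * (z * (g⁻¹ * u * g)) * g⁻¹ := by group
    _ = g * ((g⁻¹ * u * g) * z) * g⁻¹ := by rw [h1]
    _ = u * (g * z * g⁻¹) := by group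

/-- the two point stabiliser normalises `Q`. -/
theorem twoStab_le_normalizer [Finite G] (hy : Hyp G Ω) {a b : Ω} {Q : Subgroup G}
    (k : Ker G a Q) : twoStab G a b ≤ Subgroup.normalizer (Q : Set G) := by
  intro g hg
  rw [k.normalizer_eq hy]
  exact (mem_twoStab.mp hg).1

/-- the conjugation action of the two point stabiliser on `Q`. -/
noncomputable def actK [Finite G] (hy : Hyp G Ω) {a : Ω} (b : Ω) {Q : Subgroup G} (k : Ker G a Q) :
    twoStab G a b →* MulAut Q :=
  Q.normalizerMonoidHom.comp (Subgroup.inclusion (twoStab_le_normalizer (b := b) hy k))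

theorem actK_apply [Finite G] (hy : Hyp G Ω) {a : Ω} (b : Ω) {Q : Subgroup G} (k : Ker G a Q)
    (g : twoStab G a b) (x : Q) : ((actK hy b k g x : Q) : G) = (g : G) * x * (g : G)⁻¹ := rfl

/-- **Part A**: `Q` is a Suzuki `2`-group. -/
theorem isSuzukiTwoGroup_ker [Finite G] (hZ : Cfsg.IsZassenhausGroup G Ω) [IsSimpleGroup G]
    {a b : Ω} (hab : a ≠ b) (hodd : Odd (Nat.card (twoStab G a b))) {Q : Subgroup G}
    (k : Ker G a Q) (hQ2 : IsPGroup 2 Q) (hna : ∃ u v : Q, u * v ≠ v * u) :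
    Cfsg.IsSuzukiTwoGroup Q := by
  classical
  haveI := Fintype.ofFinite G
  have hy := hyp_of_zass hZ
  have hn := odd_card_of_two hy k hQ2
  have hfree := free_of_ker hy hab k
  obtain ⟨z, hzQ, hz1, hz2, -⟩ := exists_central_inv hQ2 (k.ne_bot hy)
  obtain ⟨g₀, hg₀, hg₀1⟩ := exists_ne_one_mem_twoStab hy hab
  haveI : Finite Ω := Finite.of_fintype Ω
  have hcyc : IsCyclic (twoStab G a b) := (Cfsg.Agent.S0345.result hZ hab).1
  refine ⟨inferInstance, hQ2, ?_, ?_, ?_⟩
  · obtain ⟨u, v, huv⟩ := hna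
    exact ⟨u, v, huv⟩
  · refine ⟨⟨z, hzQ⟩, ⟨g₀ * z * g₀⁻¹, k.conj_mem hy (mem_twoStab.mp hg₀).1 hzQ⟩, ?_, ?_, ?_, ?_, ?_⟩
    · intro h
      have h1 : z = g₀ * z * g₀⁻¹ := congrArg Subtype.val h
      exact hg₀1 (hfree g₀ hg₀ z hzQ hz1 h1.symm)
    · intro h; exact hz1 (congrArg Subtype.val h)
    · exact Subtype.ext hz2
    · intro h
      have h1 : g₀ * z * g₀⁻¹ = 1 := congrArg Subtype.val h
      apply hz1
      have := congrArg (fun w => g₀⁻¹ * w * g₀) h1
      simpa [mul_assoc] using this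
    · apply Subtype.ext
      show g₀ * z * g₀⁻¹ * (g₀ * z * g₀⁻¹) = 1
      calc g₀ * z * g₀⁻¹ * (g₀ * z * g₀⁻¹) = g₀ * (z * z) * g₀⁻¹ := by group
        _ = 1 := by rw [hz2]; group
  · refine ⟨(actK hy b k).range, ?_, ?_⟩
    · exact isCyclic_of_surjective (actK hy b k).rangeRestrict (actK hy b k).rangeRestrict_surjective
    · intro x y hx1 hx2 hy1 hy2
      have hx1' : (x : G) ≠ 1 := fun h => hx1 (Subtype.ext h)
      have hx2' : (x : G) * (x : G) = 1 := congrArg Subtype.val hx2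
      have hy1' : (y : G) ≠ 1 := fun h => hy1 (Subtype.ext h)
      have hy2' : (y : G) * (y : G) = 1 := congrArg Subtype.val hy2
      obtain ⟨g, hg, hgx⟩ := trans_invs_ker hZ hab hodd k hn x.2 hx1' hx2' y.2 hy1' hy2'
      refine ⟨⟨actK hy b k ⟨g, hg⟩, ⟨⟨g, hg⟩, rfl⟩⟩, ?_, ?_⟩
      · apply Subtype.ext
        rw [actK_apply]
        exact hgx
      · rintro ⟨_, ⟨g', rfl⟩⟩ hg'
        have h1 : (g' : G) * x * (g' : G)⁻¹ = y := by
          have := congrArg Subtype.val hg'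
          rwa [actK_apply] at this
        have h2 : ((g : G)⁻¹ * (g' : G)) * x * ((g : G)⁻¹ * (g' : G))⁻¹ = x := by
          have h3 : (g' : G) * x * (g' : G)⁻¹ = g * x * g⁻¹ := by rw [h1, hgx]
          have := congrArg (fun w => g⁻¹ * w * g) h3
          simp only [mul_assoc, inv_mul_cancel_left, inv_mul_cancel, mul_one] at this
          simp only [mul_inv_rev, inv_inv, mul_assoc]
          exact this
        have h3 := hfree _ (mul_mem (inv_mem hg) g'.2) x x.2 hx1' h2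
        have h4 : (g' : G) = g := by
          have := congrArg (fun w => g * w) h3
          simpa [mul_assoc] using this
        have h5 : g' = ⟨g, hg⟩ := Subtype.ext h4
        apply Subtype.ext
        show actK hy b k g' = actK hy b k ⟨g, hg⟩
        rw [h5]

end Cfsg.Agent.Lib.Helper3.Sz
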