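import Mathlib
import Cfsg.Agent.Lib.Helper3.SzA2
import Cfsg.Agent.Lib.Helper6.TI
import Cfsg.Agent.S1137
import Cfsg.Agent.S1138

set_option autoImplicit false
set_option linter.style.haveILetI false
set_option linter.unusedSectionVars false

/-! # Part A (end): the context structure for parts B and C. -/

namespace Cfsg.Agent.Lib.Helper3.Sz

open Cfsg MulAction
open Cfsg.Agent.Lib.Helper97.Zass
open Cfsg.Agent.Lib.Helper3.ZassOdd
open Cfsg.Agent.Lib.Helper3.ZassFeit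

/-- The common context of parts B and C: a simple Zassenhaus group `G` on `Ω`, two points `a ≠ b`,
the kernel `Q` of the point stabiliser of `a` (a Suzuki `2`-group), and `q = |G_{ab}| + 1 = |Z(Q)|`. -/
structure Ctx (G : Type*) {Ω : Type*} [Group G] [MulAction G Ω] [Fintype Ω] (a b : Ω)
    (Q : Subgroup G) (q : ℕ) : Prop where
  zass : Cfsg.IsZassenhausGroup G Ω
  hab : a ≠ b
  ker : Ker G a Q
  hodd : Odd (Nat.card (twoStab G a b))
  hlt : 2 * Nat.card (twoStab G a b) + 2 < Fintype.card Ω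
  two : IsPGroup 2 Q
  hq : Nat.card (twoStab G a b) + 1 = q
  card_center : Nat.card (Subgroup.center Q) = q
  inv_iff : ∀ x : Q, (x ≠ 1 ∧ x * x = 1) ↔ (x ∈ Subgroup.center Q ∧ x ≠ 1)
  center_sq : ∀ z ∈ Subgroup.center Q, z * z = 1
  sq_mem : ∀ x : Q, x * x ∈ Subgroup.center Q
  comm_mem : ∀ x y : Q, x⁻¹ * y⁻¹ * x * y ∈ Subgroup.center Q
  card_cases : Nat.card Q = q ^ 2 ∨ Nat.card Q = q ^ 3
  suz : Cfsg.IsSuzukiTwoGroup Q
  cyc : IsCyclic (twoStab G a b)

variable {G Ω : Type*} [Group G] [MulAction G Ω] [Fintype Ω]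

/-- the centre of `Q` has order `e + 1`. -/
theorem card_center_ker [Finite G] (hZ : Cfsg.IsZassenhausGroup G Ω) [IsSimpleGroup G]
    {a b : Ω} (hab : a ≠ b) (hodd : Odd (Nat.card (twoStab G a b))) {Q : Subgroup G}
    (k : Ker G a Q) (hQ2 : IsPGroup 2 Q)
    (hinv : ∀ x : Q, (x ≠ 1 ∧ x * x = 1) ↔ (x ∈ Subgroup.center Q ∧ x ≠ 1)) :
    Nat.card (Subgroup.center Q) = Nat.card (twoStab G a b) + 1 := by
  classical
  haveI := Fintype.ofFinite G
  have hy := hyp_of_zass hZ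
  have hn := odd_card_of_two hy k hQ2
  have h1 := Cfsg.Agent.Lib.Helper6.TI.card_ne_one (Subgroup.center Q)
  have h2 := card_invs_fix hZ hab hodd hn
  set S := (invs G).filter (fun x => x • a = a) with hS
  have hpos : 0 < Nat.card (Subgroup.center Q) := Nat.card_pos
  have hmem : ∀ z : {z : Subgroup.center Q // z ≠ 1}, (((z : Subgroup.center Q) : Q) : G) ∈ S := by
    rintro ⟨z, hz⟩
    have hz' : (z : Q) ≠ 1 := fun h => hz (Subtype.ext h)
    obtain ⟨h3, h4⟩ := (hinv (z : Q)).mpr ⟨z.2, hz'⟩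
    rw [hS, Finset.mem_filter, mem_invs]
    exact ⟨⟨fun h => h3 (Subtype.ext h), congrArg Subtype.val h4⟩, k.le (z : Q).2⟩
  let f : {z : Subgroup.center Q // z ≠ 1} → S := fun z => ⟨_, hmem z⟩
  have hf : Function.Bijective f := by
    constructor
    · intro z z' h
      have h3 : (((z : Subgroup.center Q) : Q) : G) = (((z' : Subgroup.center Q) : Q) : G) :=
        congrArg (fun w : S => (w : G)) h
      exact Subtype.ext (Subtype.ext (Subtype.ext h3))
    · rintro ⟨x, hx⟩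
      rw [hS, Finset.mem_filter, mem_invs] at hx
      obtain ⟨⟨hx1, hx2⟩, hxa⟩ := hx
      have hxQ : x ∈ Q := inv_mem_ker hy hab hodd k hx1 hx2 hxa
      obtain ⟨h3, h4⟩ := (hinv ⟨x, hxQ⟩).mp ⟨fun h => hx1 (congrArg Subtype.val h), Subtype.ext hx2⟩
      exact ⟨⟨⟨⟨x, hxQ⟩, h3⟩, fun h => h4 (congrArg Subtype.val h)⟩, rfl⟩
  have h3 := Nat.card_congr (Equiv.ofBijective f hf)
  rw [h1, Nat.card_eq_fintype_card (α := S), Fintype.card_coe, h2] at h3
  omega

/-- **Part A**: the context exists. -/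
theorem ctx_of_ker [Finite G] (hZ : Cfsg.IsZassenhausGroup G Ω) [IsSimpleGroup G]
    {a b : Ω} (hab : a ≠ b) (hodd : Odd (Nat.card (twoStab G a b)))
    (hlt : 2 * Nat.card (twoStab G a b) + 2 < Fintype.card Ω) {Q : Subgroup G}
    (k : Ker G a Q) (hQ2 : IsPGroup 2 Q) (hna : ∃ u v : Q, u * v ≠ v * u) :
    Ctx G a b Q (Nat.card (twoStab G a b) + 1) := by
  haveI : Finite Ω := Finite.of_fintype Ω
  have hsuz := isSuzukiTwoGroup_ker hZ hab hodd k hQ2 hna
  obtain ⟨hinv, hcsq⟩ := Cfsg.Agent.S1137.result hsuz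
  obtain ⟨hsq, hcomm, hcard, -⟩ := Cfsg.Agent.S1138.result hsuz
  have hc := card_center_ker hZ hab hodd k hQ2 hinv
  refine ⟨hZ, hab, k, hodd, hlt, hQ2, rfl, hc, hinv, hcsq, hsq, hcomm, ?_, hsuz,
    (Cfsg.Agent.S0345.result hZ hab).1⟩
  rw [← hc]; exact hcard

end Cfsg.Agent.Lib.Helper3.Sz
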