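import Mathlib
import Cfsg.Agent.Lib.Helper3.SzA3

set_option autoImplicit false
set_option linter.style.haveILetI false
set_option linter.unusedSectionVars false

/-! # Basic consequences of the context `Sz.Ctx`. -/

namespace Cfsg.Agent.Lib.Helper3.Sz

open Cfsg MulAction
open Cfsg.Agent.Lib.Helper97.Zass
open Cfsg.Agent.Lib.Helper3.ZassOdd
open Cfsg.Agent.Lib.Helper3.ZassFeit

variable {G Ω : Type*} [Group G] [MulAction G Ω] [Fintype Ω] {a b : Ω} {Q : Subgroup G} {q : ℕ}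

theorem Ctx.hy (c : Ctx G a b Q q) : Hyp G Ω := by
  haveI : Finite Ω := Finite.of_fintype Ω
  exact hyp_of_zass c.zass

theorem Ctx.odd_card [Finite G] (c : Ctx G a b Q q) : Odd (Fintype.card Ω) :=
  odd_card_of_two c.hy c.ker c.two

theorem Ctx.hodd' [Finite G] (c : Ctx G a b Q q) {x y : Ω} (hxy : x ≠ y) :
    Odd (Nat.card (twoStab G x y)) := by
  rw [card_twoStab_eq_of_ne c.hy c.hab hxy]; exact c.hodd

theorem Ctx.card_twoStab [Finite G] (c : Ctx G a b Q q) {x y : Ω} (hxy : x ≠ y) :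
    Nat.card (twoStab G x y) + 1 = q := by
  rw [card_twoStab_eq_of_ne c.hy c.hab hxy]; exact c.hq

/-- `e ≥ 3`. -/
theorem Ctx.three_le [Finite G] (c : Ctx G a b Q q) : 3 ≤ Nat.card (twoStab G a b) := by
  obtain ⟨g, hg, hg1⟩ := exists_ne_one_mem_twoStab c.hy c.hab
  have h1 : 1 < Nat.card (twoStab G a b) := by
    rw [Finite.one_lt_card_iff_nontrivial]
    exact ⟨⟨⟨g, hg⟩, 1, fun h => hg1 (congrArg Subtype.val h)⟩⟩
  obtain ⟨r, hr⟩ := c.hodd
  omega

theorem Ctx.four_le [Finite G] (c : Ctx G a b Q q) : 4 ≤ q := by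
  have := c.three_le
  have := c.hq
  omega

/-- `q` is a power of `2`. -/
theorem Ctx.q_pow [Finite G] (c : Ctx G a b Q q) : ∃ j : ℕ, 2 ≤ j ∧ q = 2 ^ j := by
  haveI : Fact (Nat.Prime 2) := ⟨Nat.prime_two⟩
  obtain ⟨j, hj⟩ := IsPGroup.iff_card.mp (c.two.to_subgroup (Subgroup.center Q))
  rw [c.card_center] at hj
  refine ⟨j, ?_, hj⟩
  have h4 := c.four_le
  by_contra hlt
  push Not at hlt
  interval_cases j <;> omega

theorem Ctx.card_Q [Finite G] (c : Ctx G a b Q q) : Nat.card Q + 1 = Fintype.card Ω := c.ker.card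

/-- `|G| = (q - 1) |Q| (|Q| + 1)`. -/
theorem Ctx.card_G [Finite G] (c : Ctx G a b Q q) :
    Nat.card G = (q - 1) * Nat.card Q * (Nat.card Q + 1) := by
  have h := card_eq c.hy c.hab
  have h1 := c.hq
  have h2 := c.card_Q
  rw [h, ← h2]
  have : Nat.card (twoStab G a b) = q - 1 := by omega
  rw [this]
  simp

theorem Ctx.free [Finite G] (c : Ctx G a b Q q) :
    ∀ g ∈ twoStab G a b, ∀ u ∈ Q, u ≠ 1 → g * u * g⁻¹ = u → g = 1 :=
  free_of_ker c.hy c.hab c.ker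

/-- the involutions of `Q` are central in `Q`. -/
theorem Ctx.inv_comm [Finite G] [IsSimpleGroup G] (c : Ctx G a b Q q) {y : G} (hyQ : y ∈ Q)
    (hy1 : y ≠ 1) (hy2 : y * y = 1) : ∀ u ∈ Q, y * u = u * y :=
  inv_central c.zass c.hab c.hodd c.ker c.two hyQ hy1 hy2

/-- the two point stabiliser is transitive on the involutions of `Q`. -/
theorem Ctx.trans [Finite G] [IsSimpleGroup G] (c : Ctx G a b Q q) {z y : G} (hzQ : z ∈ Q)
    (hz1 : z ≠ 1) (hz2 : z * z = 1) (hyQ : y ∈ Q) (hy1 : y ≠ 1) (hy2 : y * y = 1) :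
    ∃ g ∈ twoStab G a b, g * z * g⁻¹ = y := by
  classical
  haveI := Fintype.ofFinite G
  exact trans_invs_ker c.zass c.hab c.hodd c.ker c.odd_card hzQ hz1 hz2 hyQ hy1 hy2

/-- the centraliser of an involution of `Q` is `Q`. -/
theorem Ctx.cent_inv [Finite G] [IsSimpleGroup G] (c : Ctx G a b Q q) {y : G} (hyQ : y ∈ Q)
    (hy1 : y ≠ 1) (hy2 : y * y = 1) : Subgroup.centralizer ({y} : Set G) = Q := by
  apply le_antisymm (c.ker.cent_le c.hy y hyQ hy1)
  intro u hu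
  rw [Subgroup.mem_centralizer_singleton_iff]
  exact (c.inv_comm hyQ hy1 hy2 u hu).symm

/-- an involution fixing `a` lies in `Q`. -/
theorem Ctx.inv_mem [Finite G] (c : Ctx G a b Q q) {x : G} (hx1 : x ≠ 1) (hx2 : x * x = 1)
    (hxa : x • a = a) : x ∈ Q :=
  inv_mem_ker c.hy c.hab c.hodd c.ker hx1 hx2 hxa

/-- `Q` contains an involution. -/
theorem Ctx.exists_inv [Finite G] (c : Ctx G a b Q q) : ∃ z ∈ Q, z ≠ 1 ∧ z * z = 1 := by
  obtain ⟨z, hzQ, hz1, hz2, -⟩ := exists_central_inv c.two (c.ker.ne_bot c.hy)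
  exact ⟨z, hzQ, hz1, hz2⟩

/-- all involutions of `G` are conjugate. -/
theorem Ctx.isConj_inv [Finite G] [IsSimpleGroup G] (c : Ctx G a b Q q) {x y : G} (hx1 : x ≠ 1)
    (hx2 : x * x = 1) (hy1 : y ≠ 1) (hy2 : y * y = 1) : IsConj x y := by
  classical
  haveI := Fintype.ofFinite G
  exact isConj_invs c.zass c.hab c.hodd (mem_invs.mpr ⟨hx1, hx2⟩) (mem_invs.mpr ⟨hy1, hy2⟩)

/-- every involution is conjugate into `Q`. -/
theorem Ctx.exists_conj_mem [Finite G] [IsSimpleGroup G] (c : Ctx G a b Q q) {x : G} (hx1 : x ≠ 1)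
    (hx2 : x * x = 1) : ∃ w : G, w * x * w⁻¹ ∈ Q := by
  obtain ⟨z, hzQ, hz1, hz2⟩ := c.exists_inv
  obtain ⟨w, hw⟩ := isConj_iff.mp (c.isConj_inv hx1 hx2 hz1 hz2)
  exact ⟨w, by rw [hw]; exact hzQ⟩

/-- every involution fixes exactly one point. -/
theorem Ctx.exists_unique_fix [Finite G] [IsSimpleGroup G] (c : Ctx G a b Q q) {x : G}
    (hx1 : x ≠ 1) (hx2 : x * x = 1) : ∃! p : Ω, x • p = p := by
  obtain ⟨w, hw⟩ := c.exists_conj_mem hx1 hx2
  have hw1 : w * x * w⁻¹ ≠ 1 := by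
    intro h
    apply hx1
    have := congrArg (fun v => w⁻¹ * v * w) h
    simpa [mul_assoc] using this
  refine ⟨w⁻¹ • a, ?_, ?_⟩
  · have h1 : (w * x * w⁻¹) • a = a := c.ker.le hw
    rw [mul_smul, mul_smul] at h1
    show x • w⁻¹ • a = w⁻¹ • a
    rw [eq_inv_smul_iff]
    exact h1
  · intro p hp
    have h1 : (w * x * w⁻¹) • (w • p) = w • p := by
      rw [mul_smul, mul_smul, inv_smul_smul, hp]
    have h2 := c.ker.fix _ hw hw1 _ h1
    rw [← h2, inv_smul_smul]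

end Cfsg.Agent.Lib.Helper3.Sz
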