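import Mathlib
import Cfsg.Agent.Lib.Helper3.SzA4
import Cfsg.Prelude.Def_Characters

set_option autoImplicit false
set_option linter.style.haveILetI false
set_option linter.unusedSectionVars false

/-! # Part B, definitions. -/

namespace Cfsg.Agent.Lib.Helper3.Sz

open Cfsg MulAction

/-- the permutation character minus one. -/
noncomputable def chi (G Ω : Type*) [Group G] [MulAction G Ω] : G → ℂ :=
  fun g => (Nat.card (MulAction.fixedBy Ω g) : ℂ) - 1

open Classical in
/-- the conjugate `u ↦ θ (k u k⁻¹)` of a function on `Q` (zero where `k u k⁻¹ ∉ Q`). -/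
noncomputable def conjQ {G : Type*} [Group G] (Q : Subgroup G) (k : G) (θ : Q → ℂ) : Q → ℂ :=
  fun u => if h : k * (u : G) * k⁻¹ ∈ Q then θ ⟨k * u * k⁻¹, h⟩ else 0

theorem conjQ_apply {G : Type*} [Group G] (Q : Subgroup G) (k : G) (θ : Q → ℂ) (u : Q)
    (h : k * (u : G) * k⁻¹ ∈ Q) : conjQ Q k θ u = θ ⟨k * u * k⁻¹, h⟩ := by
  classical
  rw [conjQ, dif_pos h]

/-- the Frobenius–Schur sum `∑ g, ψ (g²)`. -/
noncomputable def fsSum {G : Type*} [Group G] [Fintype G] (ψ : G → ℂ) : ℂ := ∑ g : G, ψ (g * g)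

end Cfsg.Agent.Lib.Helper3.Sz
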