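import Mathlib
import Cfsg.Agent.Lib.Helper14.QuatSylow2
import Cfsg.Agent.Lib.Helper3.TIInd
import Cfsg.Agent.Lib.Helper3.Induced
import Cfsg.Agent.Lib.Helper3.NormThree
import Cfsg.Agent.Lib.Helper25.DualOrth

set_option autoImplicit false

/-!
Brauer–Suzuki for generalized quaternion Sylow 2-subgroups of order at least 16
(Isaacs, Theorem 7.8): the exceptional pair of characters.
-/

namespace Cfsg.Agent.Lib.Helper3

open Cfsg
open Cfsg.Agent.Lib.Helper14
open Cfsg.Agent.Lib.Helper25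
open scoped ComplexConjugate

/-- The unit `i` of `ℂ`. -/
noncomputable def unitI : ℂˣ := Units.mk0 Complex.I Complex.I_ne_zero

theorem unitI_pow_four : unitI ^ 4 = 1 := by
  apply Units.ext
  simp [unitI, Complex.I_pow_four]

/-- On a cyclic group of order `2^(n+3)` there is a homomorphism to `ℂˣ` of order four. -/
theorem exists_hom_order_four {P : Type*} [Group P] (a : P) (ha : ∀ x : P, x ∈ Subgroup.zpowers a)
    (n : ℕ) (ho : orderOf a = 2 ^ (n + 3)) :
    ∃ μ : P →* ℂˣ, μ a = unitI ∧ ∀ p : P, p ^ (2 ^ (n + 1)) = 1 → μ p = 1 := by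
  have hdvd : orderOf unitI ∣ orderOf a := by
    rw [ho]
    have h1 : orderOf unitI ∣ 4 := orderOf_dvd_of_pow_eq_one unitI_pow_four
    have h2 : (4 : ℕ) ∣ 2 ^ (n + 3) := by
      have : (2 : ℕ) ^ (n + 3) = 4 * 2 ^ (n + 1) := by ring
      rw [this]; exact dvd_mul_right _ _
    exact h1.trans h2
  refine ⟨monoidHomOfForallMemZpowers ha hdvd, monoidHomOfForallMemZpowers_apply_gen ha hdvd, ?_⟩
  intro p hp
  obtain ⟨j, rfl⟩ := Subgroup.mem_zpowers_iff.mp (ha p)
  rw [map_zpow, monoidHomOfForallMemZpowers_apply_gen]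
  rw [← zpow_natCast, ← zpow_mul] at hp
  have h1 : ((orderOf a : ℕ) : ℤ) ∣ j * ((2 ^ (n + 1) : ℕ) : ℤ) := orderOf_dvd_iff_zpow_eq_one.mpr hp
  rw [ho] at h1
  have h2 : (4 : ℤ) ∣ j := by
    have e : (((2 : ℕ) ^ (n + 3) : ℕ) : ℤ) = 4 * ((2 ^ (n + 1) : ℕ) : ℤ) := by
      push_cast; ring
    rw [e] at h1
    have hpos : (((2 : ℕ) ^ (n + 1) : ℕ) : ℤ) ≠ 0 := by positivity
    exact (mul_dvd_mul_iff_right hpos).mp h1
  obtain ⟨i, rfl⟩ := h2
  rw [zpow_mul, zpow_ofNat, unitI_pow_four, one_zpow]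

/-- A finite group with a cyclic Sylow 2-subgroup `⟨a⟩` of order `2^(n+3)` to which Burnside's
transfer applies has a linear character `lam` of order four, trivial on the elements whose order is
not divisible by `2^(n+2)`, with `lam a ^ 2 = -1`. -/
theorem exists_hom_order_four_of_sylow {C : Type*} [Group C] [Finite C] (P : Sylow 2 C)
    (hP : Subgroup.normalizer ((P : Subgroup C) : Set C) ≤ Subgroup.centralizer (P : Set C))
    (a : C) (ha : a ∈ P)
    (hgen : ∀ x ∈ P, x ∈ Subgroup.zpowers a) (n : ℕ) (ho : orderOf a = 2 ^ (n + 3)) :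
    ∃ lam : C →* ℂˣ,
      ((lam a : ℂˣ) : ℂ) ^ 2 = -1 ∧ (∀ c : C, ¬ 2 ^ (n + 2) ∣ orderOf c → lam c = 1) := by
  set aS : P := ⟨a, ha⟩ with haS
  have hgen' : ∀ x : P, x ∈ Subgroup.zpowers aS := by
    intro x
    obtain ⟨j, hj⟩ := Subgroup.mem_zpowers_iff.mp (hgen x x.2)
    refine Subgroup.mem_zpowers_iff.mpr ⟨j, ?_⟩
    apply Subtype.ext
    simp [haS, hj]
  have hoS : orderOf aS = 2 ^ (n + 3) := by
    rw [← ho, haS]
    exact Subgroup.orderOf_mk a ha
  obtain ⟨μ, hμa, hμ1⟩ := exists_hom_order_four aS hgen' n hoS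
  have hcardP : Nat.card P = 2 ^ (n + 3) := by
    rw [← hoS]
    exact (orderOf_eq_card_of_forall_mem_zpowers hgen').symm
  refine ⟨μ.comp (MonoidHom.transferSylow P hP), ?_, ?_⟩
  · rw [MonoidHom.comp_apply, MonoidHom.transferSylow_eq_pow P hP a ha]
    have e : (⟨a ^ (P : Subgroup C).index, MonoidHom.transfer_eq_pow_aux a
        (MonoidHom.transferSylow_eq_pow_aux P hP a ha)⟩ : P) = aS ^ (P : Subgroup C).index := by
      apply Subtype.ext
      simp [haS]
    rw [e, map_pow, hμa]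
    have hodd : Odd (P : Subgroup C).index := by
      apply Nat.odd_iff.mpr
      apply Nat.two_dvd_ne_zero.mp
      exact P.not_dvd_index
    rw [Units.val_pow_eq_pow_val, ← pow_mul, mul_comm, pow_mul]
    have : ((unitI : ℂˣ) : ℂ) ^ 2 = -1 := by simp [unitI]
    rw [this]
    exact hodd.neg_one_pow
  · intro c hc
    rw [MonoidHom.comp_apply]
    apply hμ1
    set t := MonoidHom.transferSylow P hP c with ht
    have h1 : orderOf t ∣ orderOf c := orderOf_map_dvd _ c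
    have h2 : orderOf t ∣ 2 ^ (n + 3) := by
      rw [← hcardP]; exact orderOf_dvd_natCard t
    obtain ⟨j, hj, hjt⟩ := (Nat.dvd_prime_pow Nat.prime_two).mp h2
    have hj' : j ≤ n + 1 := by
      by_contra hcon
      push Not at hcon
      apply hc
      refine dvd_trans ?_ h1
      rw [hjt]
      exact pow_dvd_pow 2 (by omega)
    have : t ^ (2 ^ j) = 1 := by rw [← hjt]; exact pow_orderOf_eq_one t
    have e : (2 : ℕ) ^ (n + 1) = 2 ^ j * 2 ^ (n + 1 - j) := by
      rw [← pow_add]; congr 1; omega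
    rw [e, pow_mul, this, one_pow]

/-- Two homs agreeing on `K` and `P` with `K ⊔ P = ⊤`: here `lam ∘ σ = lam⁻¹`. -/
theorem hom_comp_eq_inv_of_sup {C : Type*} [Group C] (K P : Subgroup C) (hKP : K ⊔ P = ⊤)
    (lam : C →* ℂˣ) (σ : C →* C) (hK : ∀ k ∈ K, lam k = 1 ∧ lam (σ k) = 1)
    (hP : ∀ p ∈ P, σ p = p⁻¹) (c : C) : lam (σ c) = (lam c)⁻¹ := by
  have key : lam.comp σ = lam⁻¹ := by
    apply MonoidHom.eq_of_eqOn_dense (s := (K : Set C) ∪ (P : Set C))
    · rw [Subgroup.closure_union, Subgroup.closure_eq, Subgroup.closure_eq, hKP]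
    · intro x hx
      rcases hx with hx | hx
      · obtain ⟨h1, h2⟩ := hK x hx
        simp [h1, h2]
      · simp [hP x hx]
  have := DFunLike.congr_fun key c
  simpa using this

section concrete

variable {G : Type*} [Group G] [Finite G] {S : Sylow 2 G} {α : G} {n : ℕ}

theorem bs_exists_lam (h : QSetup (S : Subgroup G) α (2 ^ (n + 2))) :
    ∃ lam : ↥(Subgroup.centralizer ((Subgroup.zpowers (α ^ 2) : Subgroup G) : Set G)) →* ℂˣ,
      ((lam ⟨α, h.A_le_C (Subgroup.mem_zpowers α)⟩ : ℂˣ) : ℂ) ^ 2 = -1 ∧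
      (∀ c : ↥(Subgroup.centralizer ((Subgroup.zpowers (α ^ 2) : Subgroup G) : Set G)),
        ¬ 2 ^ (n + 2) ∣ orderOf (c : G) → lam c = 1) := by
  set C := Subgroup.centralizer ((Subgroup.zpowers (α ^ 2) : Subgroup G) : Set G) with hC
  have hαC : α ∈ C := h.A_le_C (Subgroup.mem_zpowers α)
  have hmem : (⟨α, hαC⟩ : C) ∈ h.sylowC := by
    show (⟨α, hαC⟩ : C) ∈ (h.sylowC : Subgroup C)
    rw [h.sylowC_coe, Subgroup.mem_subgroupOf]
    exact Subgroup.mem_zpowers α
  have hgen : ∀ x ∈ h.sylowC, x ∈ Subgroup.zpowers (⟨α, hαC⟩ : C) := by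
    intro x hx
    have hx' : x ∈ (h.sylowC : Subgroup C) := hx
    rw [h.sylowC_coe, Subgroup.mem_subgroupOf] at hx'
    obtain ⟨j, hj⟩ := Subgroup.mem_zpowers_iff.mp hx'
    refine Subgroup.mem_zpowers_iff.mpr ⟨j, ?_⟩
    apply Subtype.ext
    simp [hj]
  have ho : orderOf (⟨α, hαC⟩ : C) = 2 ^ (n + 3) := by
    rw [Subgroup.orderOf_mk, h.order]
    ring
  obtain ⟨lam, h1, h2⟩ := exists_hom_order_four_of_sylow h.sylowC
    (h.isCyclic_sylowC.normalizer_le_centralizer h.minFac_card_C) ⟨α, hαC⟩ hmem hgen n ho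
  refine ⟨lam, h1, ?_⟩
  intro c hc
  apply h2
  rwa [Subgroup.orderOf_coe] at hc

/-- Conjugation by `s⁻¹` as an endomorphism of a subgroup stable under it. -/
def conjEnd (C : Subgroup G) (s : G) (hs : ∀ c : G, c ∈ C → s⁻¹ * c * s ∈ C) : C →* C where
  toFun c := ⟨s⁻¹ * (c : G) * s, hs c c.2⟩
  map_one' := by
    apply Subtype.ext
    show s⁻¹ * 1 * s = 1
    rw [mul_one, inv_mul_cancel]
  map_mul' x y := by
    apply Subtype.ext
    show s⁻¹ * ((x : G) * (y : G)) * s = (s⁻¹ * (x : G) * s) * (s⁻¹ * (y : G) * s)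
    group

omit [Finite G] in
theorem conjEnd_coe (C : Subgroup G) (s : G) (hs : ∀ c : G, c ∈ C → s⁻¹ * c * s ∈ C) (c : C) :
    ((conjEnd C s hs c : C) : G) = s⁻¹ * (c : G) * s := rfl

theorem bs_lam_conj (h : QSetup (S : Subgroup G) α (2 ^ (n + 2)))
    (lam : ↥(Subgroup.centralizer ((Subgroup.zpowers (α ^ 2) : Subgroup G) : Set G)) →* ℂˣ)
    (hlam1 : ∀ c : ↥(Subgroup.centralizer ((Subgroup.zpowers (α ^ 2) : Subgroup G) : Set G)),
        ¬ 2 ^ (n + 2) ∣ orderOf (c : G) → lam c = 1)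
    (s : G) (hsS : s ∈ (S : Subgroup G)) (hsA : s ∉ Subgroup.zpowers α)
    (c : ↥(Subgroup.centralizer ((Subgroup.zpowers (α ^ 2) : Subgroup G) : Set G)))
    (hc' : s⁻¹ * (c : G) * s ∈
      Subgroup.centralizer ((Subgroup.zpowers (α ^ 2) : Subgroup G) : Set G)) :
    lam ⟨s⁻¹ * (c : G) * s, hc'⟩ = (lam c)⁻¹ := by
  have hsN : s ∈ Subgroup.normalizer ((Subgroup.zpowers (α ^ 2) : Subgroup G) : Set G) :=
    h.S_le_normalizer hsS
  have hs : ∀ c : G, c ∈ Subgroup.centralizer ((Subgroup.zpowers (α ^ 2) : Subgroup G) : Set G) →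
      s⁻¹ * c * s ∈ Subgroup.centralizer ((Subgroup.zpowers (α ^ 2) : Subgroup G) : Set G) := by
    intro c hc
    have := conj_mem_centralizer_of_mem_normalizer _ (Subgroup.inv_mem _ hsN) hc
    simpa using this
  have hodd2 : ∀ k : ℕ, Odd k → ¬ 2 ^ (n + 2) ∣ k := by
    intro k hk hd
    have h2 : 2 ∣ k := dvd_trans (dvd_pow_self 2 (by omega)) hd
    exact (Nat.not_even_iff_odd.mpr hk) (even_iff_two_dvd.mpr h2)
  have hinv : s⁻¹ * α * s = α⁻¹ := by
    rcases h.inv s hsS with h1 | h1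
    · exact absurd h1 hsA
    · have : α = s⁻¹ * α⁻¹ * s := by rw [← h1]; group
      calc s⁻¹ * α * s = (s⁻¹ * α⁻¹ * s)⁻¹ := by group
        _ = α⁻¹ := by rw [← this]
  have hK : ∀ k ∈ h.K0, lam k = 1 ∧ lam (conjEnd _ s hs k) = 1 := by
    intro k hk
    have hkK : (k : G) ∈ h.K := ⟨k, hk, rfl⟩
    have hkodd : Odd (orderOf (k : G)) := ((h.mem_K_iff _).mp hkK).2
    refine ⟨hlam1 k (hodd2 _ hkodd), hlam1 _ ?_⟩
    have e : s⁻¹ * (k : G) * s = MulAut.conj s⁻¹ (k : G) := by simp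
    rw [conjEnd_coe, e, MulEquiv.orderOf_eq]
    exact hodd2 _ hkodd
  have hP : ∀ p ∈ h.sylowC.toSubgroup, conjEnd _ s hs p = p⁻¹ := by
    intro p hp
    rw [h.sylowC_coe, Subgroup.mem_subgroupOf] at hp
    obtain ⟨j, hj⟩ := Subgroup.mem_zpowers_iff.mp hp
    apply Subtype.ext
    rw [conjEnd_coe, Subgroup.coe_inv, ← hj]
    have e : s⁻¹ * α ^ j * s = (s⁻¹ * α * s) ^ j := by
      have := conj_zpow (a := s⁻¹) (b := α) (i := j)
      simpa using this.symm
    rw [e, hinv, inv_zpow]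
  have hsup : h.K0 ⊔ h.sylowC.toSubgroup = ⊤ := by
    have := h.K0_isComplement'
    exact this.sup_eq_top
  exact hom_comp_eq_inv_of_sup h.K0 h.sylowC.toSubgroup hsup lam (conjEnd _ s hs) hK hP c

end concrete

section main

variable {G : Type*} [Group G] [Fintype G] {S : Sylow 2 G} {α : G} {n : ℕ}

/-- **Brauer–Suzuki, exceptional pair.** -/
theorem bs_pair (h : QSetup (S : Subgroup G) α (2 ^ (n + 2))) :
    ∃ χ₁ χ₂ : G → ℂ, IsIrrCharacter G χ₁ ∧ IsIrrCharacter G χ₂ ∧ χ₁ ≠ (fun _ => 1) ∧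
      χ₂ ≠ (fun _ => 1) ∧ χ₁ 1 = χ₂ 1 + 1 ∧ (∀ g : G, ¬ 4 ∣ orderOf g → χ₁ g - χ₂ g = 1) ∧
      (∀ y ∈ Subgroup.zpowers α, y ∉ Subgroup.zpowers (α ^ 4) → χ₁ y - χ₂ y ≠ 1) := by
  classical
  obtain ⟨lam, hlamα, hlam1⟩ := bs_exists_lam h
  obtain ⟨s, hsS, hsC⟩ := h.exists_not_mem_C
  have hsN : s ∈ Subgroup.normalizer ((Subgroup.zpowers (α ^ 2) : Subgroup G) : Set G) :=
    h.S_le_normalizer hsS
  have hsA : s ∉ Subgroup.zpowers α := fun hh => hsC (h.A_le_C hh)
  have hs : ∀ c : G, c ∈ Subgroup.centralizer ((Subgroup.zpowers (α ^ 2) : Subgroup G) : Set G) →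
      s⁻¹ * c * s ∈ Subgroup.centralizer ((Subgroup.zpowers (α ^ 2) : Subgroup G) : Set G) := by
    intro c hc
    have := conj_mem_centralizer_of_mem_normalizer _ (Subgroup.inv_mem _ hsN) hc
    simpa using this
  set X : Set G := {y | y ∈ Subgroup.centralizer ((Subgroup.zpowers (α ^ 2) : Subgroup G) : Set G)
    ∧ 2 ^ (n + 2) ∣ orderOf y} with hX
  have hXC : ∀ x ∈ X, x ∈ Subgroup.centralizer ((Subgroup.zpowers (α ^ 2) : Subgroup G) : Set G) :=
    fun x hx => hx.1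
  have hTI : ∀ x ∈ X, ∀ g : G, g⁻¹ * x * g ∈ X →
      g ∈ Subgroup.centralizer ((Subgroup.zpowers (α ^ 2) : Subgroup G) : Set G) ∨
      s⁻¹ * g ∈ Subgroup.centralizer ((Subgroup.zpowers (α ^ 2) : Subgroup G) : Set G) := by
    intro x hx g hg
    have hgN : g⁻¹ ∈ Subgroup.normalizer ((Subgroup.zpowers (α ^ 2) : Subgroup G) : Set G) :=
      h.part2 g⁻¹ x hx.1 (by rw [h.card_D]; exact hx.2) (by simpa using hg.1)
    have hgN' : g ∈ Subgroup.normalizer ((Subgroup.zpowers (α ^ 2) : Subgroup G) : Set G) := by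
      simpa using Subgroup.inv_mem _ hgN
    by_contra hcon
    push Not at hcon
    obtain ⟨h1, h2⟩ := hcon
    have hidx : ((Subgroup.centralizer ((Subgroup.zpowers (α ^ 2) : Subgroup G) : Set G)).subgroupOf
      (Subgroup.normalizer ((Subgroup.zpowers (α ^ 2) : Subgroup G) : Set G))).index = 2 :=
      h.index_arith.1
    have key := Subgroup.mul_mem_iff_of_index_two hidx
      (a := (⟨s⁻¹, Subgroup.inv_mem _ hsN⟩ :
        ↥(Subgroup.normalizer ((Subgroup.zpowers (α ^ 2) : Subgroup G) : Set G))))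
      (b := ⟨g, hgN'⟩)
    simp only [Subgroup.mem_subgroupOf, Subgroup.coe_mul] at key
    have hs1 : s⁻¹ ∉ Subgroup.centralizer ((Subgroup.zpowers (α ^ 2) : Subgroup G) : Set G) :=
      fun hh => hsC (by simpa using Subgroup.inv_mem _ hh)
    exact h2 (key.mpr ⟨fun hh => absurd hh hs1, fun hh => absurd hh h1⟩)
  set ψ : ↥(Subgroup.centralizer ((Subgroup.zpowers (α ^ 2) : Subgroup G) : Set G)) → ℂ :=
    fun c => 1 - ((lam c : ℂˣ) : ℂ) with hψ
  have hψcl : IsClassFunction _ ψ := by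
    intro c d
    simp only [hψ]
    rw [map_mul, map_mul, map_inv, mul_comm (lam d), mul_assoc, mul_inv_cancel, mul_one]
  have hψ0 : ∀ c : ↥(Subgroup.centralizer ((Subgroup.zpowers (α ^ 2) : Subgroup G) : Set G)),
      (c : G) ∉ X → ψ c = 0 := by
    intro c hc
    have : ¬ 2 ^ (n + 2) ∣ orderOf (c : G) := fun hd => hc ⟨c.2, hd⟩
    simp [hψ, hlam1 c this]
  set Θ := indFun (Subgroup.centralizer ((Subgroup.zpowers (α ^ 2) : Subgroup G) : Set G)) ψ
    with hΘ
  have hΘX : ∀ x (hx : x ∈ X), Θ x = (1 - ((lam ⟨x, hx.1⟩ : ℂˣ) : ℂ)) +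
      (1 - (((lam ⟨x, hx.1⟩)⁻¹ : ℂˣ) : ℂ)) := by
    intro x hx
    rw [hΘ, indFun_TI_two _ s hsC hs X hXC hTI ψ hψcl hψ0 x hx,
      extendByZero_of_mem _ ψ hx.1, extendByZero_of_mem _ ψ (hs x hx.1)]
    simp only [hψ]
    rw [bs_lam_conj h lam hlam1 s hsS hsA ⟨x, hx.1⟩ (hs x hx.1)]
  have h4 : (4 : ℕ) ∣ 2 ^ (n + 2) := by
    have : (2 : ℕ) ^ (n + 2) = 4 * 2 ^ n := by ring
    rw [this]; exact dvd_mul_right _ _
  have hΘ0 : ∀ g, ¬ 4 ∣ orderOf g → Θ g = 0 := by
    intro g hg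
    apply indFun_eq_zero_of_forall_not_mem _ X ψ hψ0
    intro y hy
    apply hg
    have e : y⁻¹ * g * y = MulAut.conj y⁻¹ g := by simp
    have : orderOf (y⁻¹ * g * y) = orderOf g := by
      rw [e, MulEquiv.orderOf_eq]
    rw [← this]
    exact dvd_trans h4 hy.2
  have hcfΘ : IsClassFunction G Θ := indFun_isClassFunction _ ψ
  have hψ' : ψ = homFun (1 : _ →* ℂˣ) - homFun lam := by
    funext c
    simp [hψ, homFun_apply]
  set ψs : ↥(Subgroup.centralizer ((Subgroup.zpowers (α ^ 2) : Subgroup G) : Set G)) → ℂ :=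
    fun c => extendByZero _ ψ (s⁻¹ * (c : G) * s) with hψs
  have hψs' : ψs = homFun (1 : _ →* ℂˣ) - homFun lam⁻¹ := by
    funext c
    simp only [hψs]
    rw [extendByZero_of_mem _ ψ (hs c c.2)]
    simp only [hψ]
    rw [bs_lam_conj h lam hlam1 s hsS hsA c (hs c c.2)]
    simp [homFun_apply]
  have hlam_ne1 : lam ≠ 1 := by
    intro hh
    rw [hh] at hlamα
    norm_num at hlamα
  have hlam_ne_inv : lam ≠ lam⁻¹ := by
    intro hh
    have e := DFunLike.congr_fun hh ⟨α, h.A_le_C (Subgroup.mem_zpowers α)⟩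
    rw [MonoidHom.inv_apply] at e
    have e2 : (lam ⟨α, h.A_le_C (Subgroup.mem_zpowers α)⟩) ^ 2 = 1 := by
      rw [sq]
      nth_rewrite 1 [e]
      exact inv_mul_cancel _
    have e3 := congrArg (fun u : ℂˣ => (u : ℂ)) e2
    simp only [Units.val_pow_eq_pow_val, Units.val_one] at e3
    rw [hlamα] at e3
    norm_num at e3
  have hlaminv_ne1 : lam⁻¹ ≠ 1 := by
    intro hh
    apply hlam_ne1
    ext c
    have e := DFunLike.congr_fun hh c
    rw [MonoidHom.inv_apply, MonoidHom.one_apply] at e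
    rw [inv_eq_one.mp e, MonoidHom.one_apply]
  have hn1 : classInner ψ ψ = 2 := by
    rw [hψ']
    simp only [Helper25.classInner_sub_left, Helper25.classInner_sub_right, classInner_homFun,
      if_true, if_neg hlam_ne1, if_neg hlam_ne1.symm]
    norm_num
  have hn2 : classInner ψ ψs = 1 := by
    rw [hψ', hψs']
    simp only [Helper25.classInner_sub_left, Helper25.classInner_sub_right, classInner_homFun,
      if_true, if_neg hlam_ne1, if_neg hlaminv_ne1.symm, if_neg hlam_ne_inv]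
    norm_num
  have hn3 : classInner ψ (fun _ => (1 : ℂ)) = 1 := by
    rw [hψ', ← homFun_one]
    simp only [Helper25.classInner_sub_left, classInner_homFun, if_true, if_neg hlam_ne1]
    norm_num
  have hnorm : classInner Θ Θ = 3 := by
    have e1 : classInner Θ Θ = classInner ψ
        (fun c : ↥(Subgroup.centralizer ((Subgroup.zpowers (α ^ 2) : Subgroup G) : Set G)) =>
          Θ c) := by
      conv_lhs => rw [hΘ]
      rw [frobenius_reciprocity _ ψ _ (indFun_isClassFunction _ ψ)]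
    have e2 : classInner ψ
        (fun c : ↥(Subgroup.centralizer ((Subgroup.zpowers (α ^ 2) : Subgroup G) : Set G)) =>
          Θ c) = classInner ψ (ψ + ψs) := by
      unfold classInner
      congr 1
      apply Finset.sum_congr rfl
      intro c _
      by_cases hcX : (c : G) ∈ X
      · have : Θ (c : G) = (ψ + ψs) c := by
          rw [hΘ, indFun_TI_two _ s hsC hs X hXC hTI ψ hψcl hψ0 c hcX, extendByZero_coe]
          rfl
        show ψ c * (starRingEnd ℂ) (Θ (c : G)) = _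
        rw [this]
      · rw [hψ0 c hcX, zero_mul, zero_mul]
    rw [e1, e2, Helper25.classInner_add_right, hn1, hn2]
    norm_num
  have hone : classInner Θ (fun _ => (1 : ℂ)) = 1 := by
    have hcf1 : IsClassFunction G (fun _ : G => (1 : ℂ)) := fun _ _ => rfl
    conv_lhs => rw [hΘ]
    rw [frobenius_reciprocity _ ψ _ hcf1]
    exact hn3
  have hgen : IsGeneralizedCharacter G Θ := by
    refine ⟨indFun _ (homFun (1 : ↥(Subgroup.centralizer
      ((Subgroup.zpowers (α ^ 2) : Subgroup G) : Set G)) →* ℂˣ)), indFun _ (homFun lam), ?_, ?_, ?_⟩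
    · exact isCharacter_indFun _ (IsIrrCharacter.isCharacter
        (Cfsg.Agent.Lib.Helper79.isIrrCharacter_of_monoidHom (1 : ↥(Subgroup.centralizer
      ((Subgroup.zpowers (α ^ 2) : Subgroup G) : Set G)) →* ℂˣ)))
    · exact isCharacter_indFun _ (IsIrrCharacter.isCharacter
        (Cfsg.Agent.Lib.Helper79.isIrrCharacter_of_monoidHom lam))
    · rw [hΘ, hψ', Helper25.indFun_sub]
  have hΘ1 : Θ 1 = 0 := hΘ0 1 (by rw [orderOf_one]; norm_num)
  obtain ⟨χ₁, χ₂, hχ₁, hχ₂, hne1, hne2, hdeg, hexp⟩ := genChar_norm_three hgen hnorm hone hΘ1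
  refine ⟨χ₁, χ₂, hχ₁, hχ₂, hne1, hne2, hdeg, ?_, ?_⟩
  · intro g hg
    have := hexp g
    rw [hΘ0 g hg] at this
    linear_combination this
  · intro y hyA hy4 hcon
    have hyC : y ∈ Subgroup.centralizer ((Subgroup.zpowers (α ^ 2) : Subgroup G) : Set G) :=
      h.A_le_C hyA
    set u : ℂˣ := lam ⟨α, h.A_le_C (Subgroup.mem_zpowers α)⟩ with hu
    have hu4 : u ^ 4 = 1 := by
      apply Units.ext
      rw [Units.val_pow_eq_pow_val, Units.val_one]
      have : ((u : ℂˣ) : ℂ) ^ 4 = (((u : ℂˣ) : ℂ) ^ 2) ^ 2 := by ring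
      rw [this, hlamα]
      norm_num
    have hu2 : ¬ u ^ 2 = 1 := by
      intro hh
      have e3 := congrArg (fun u : ℂˣ => (u : ℂ)) hh
      simp only [Units.val_pow_eq_pow_val, Units.val_one] at e3
      rw [hlamα] at e3
      norm_num at e3
    have : Fact (Nat.Prime 2) := ⟨Nat.prime_two⟩
    have hou : orderOf u = 4 := by
      have := orderOf_eq_prime_pow (p := 2) (n := 1) (x := u) (by simpa using hu2)
        (by simpa using hu4)
      simpa using this
    have hw : lam ⟨y, hyC⟩ ≠ 1 := by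
      intro hh
      apply hy4
      obtain ⟨j, hj⟩ := Subgroup.mem_zpowers_iff.mp hyA
      have e : (⟨y, hyC⟩ : ↥(Subgroup.centralizer ((Subgroup.zpowers (α ^ 2) : Subgroup G) :
          Set G))) = ⟨α, h.A_le_C (Subgroup.mem_zpowers α)⟩ ^ j := by
        apply Subtype.ext
        simp [hj]
      rw [e, map_zpow] at hh
      have hd : ((orderOf u : ℕ) : ℤ) ∣ j := orderOf_dvd_iff_zpow_eq_one.mpr hh
      rw [hou] at hd
      obtain ⟨i, rfl⟩ := hd
      refine Subgroup.mem_zpowers_iff.mpr ⟨i, ?_⟩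
      rw [← hj, zpow_mul]
      norm_cast
    have hyX : y ∈ X := by
      refine ⟨hyC, ?_⟩
      by_contra hnd
      exact hw (hlam1 ⟨y, hyC⟩ hnd)
    have e1 := hΘX y hyX
    rw [hexp y] at e1
    set w : ℂˣ := lam ⟨y, hyC⟩ with hw'
    have e2 : (1 - ((w : ℂˣ) : ℂ)) + (1 - ((w⁻¹ : ℂˣ) : ℂ)) = 0 := by
      rw [← e1]
      linear_combination -hcon
    have hwne : ((w : ℂˣ) : ℂ) ≠ 0 := w.ne_zero
    have e3 : (((w : ℂˣ) : ℂ) - 1) ^ 2 = 0 := by
      have e4 : ((w⁻¹ : ℂˣ) : ℂ) = (((w : ℂˣ) : ℂ))⁻¹ := by simp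
      rw [e4] at e2
      field_simp at e2
      linear_combination -e2
    have e5 : ((w : ℂˣ) : ℂ) = 1 := by
      have := pow_eq_zero_iff (two_ne_zero) |>.mp e3
      linear_combination this
    exact hw (Units.ext e5)

end main

end Cfsg.Agent.Lib.Helper3
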