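import Mathlib
import Cfsg.Agent.Lib.Helper3.BrauerSuzuki
import Cfsg.Agent.Lib.Helper3.ProperInduced
import Cfsg.Agent.Lib.Helper80.IrrApi
import Cfsg.Agent.Lib.Helper80.Kernel

set_option autoImplicit false

/-!
Brauer–Suzuki (order at least 16), second part: involutions lie in the kernels of the
exceptional characters.
-/

namespace Cfsg.Agent.Lib.Helper3

open Cfsg
open Cfsg.Agent.Lib.Helper14
open scoped ComplexConjugate commutatorElement

section quat

open QuaternionGroup

/-- In `ZMod (2k)`, a nonzero element with `i + i = 0` is `k`. -/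
theorem zmod_two_mul_eq_of_add_self {k : ℕ} [NeZero k] (i : ZMod (2 * k)) (h2 : i + i = 0)
    (h0 : i ≠ 0) : i = (k : ZMod (2 * k)) := by
  have hk : 0 < k := Nat.pos_of_ne_zero (NeZero.ne k)
  have : NeZero (2 * k) := ⟨by omega⟩
  have hv : i.val < 2 * k := ZMod.val_lt i
  have e : ((i.val + i.val : ℕ) : ZMod (2 * k)) = 0 := by
    push_cast
    rw [ZMod.natCast_zmod_val]
    exact h2
  rw [ZMod.natCast_eq_zero_iff] at e
  have hv0 : i.val ≠ 0 := by
    intro hh
    apply h0
    exact (ZMod.val_eq_zero i).mp hh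
  have hval : i.val = k := by
    obtain ⟨c, hc⟩ := e
    have : c = 1 := by
      have h1 : 0 < c := by
        rcases Nat.eq_zero_or_pos c with h | h
        · rw [h] at hc; omega
        · exact h
      have h2 : c < 2 := by
        by_contra hcon
        push Not at hcon
        have : 2 * k * 2 ≤ 2 * k * c := Nat.mul_le_mul_left _ hcon
        omega
      omega
    rw [this] at hc
    omega
  calc i = ((i.val : ℕ) : ZMod (2 * k)) := (ZMod.natCast_zmod_val i).symm
    _ = (k : ZMod (2 * k)) := by rw [hval]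

/-- The unique involution of a generalized quaternion group. -/
theorem quat_involution_unique {k : ℕ} [NeZero k] (x : QuaternionGroup k) (hx : orderOf x = 2) :
    x = (a 1) ^ k := by
  rcases x with i | i
  · have h1 : (a i : QuaternionGroup k) ^ 2 = 1 := by rw [← hx]; exact pow_orderOf_eq_one _
    rw [sq, a_mul_a, one_def] at h1
    have h2 : i + i = 0 := by
      injection h1
    have hne : i ≠ 0 := by
      intro h0
      rw [h0, a_zero, orderOf_one] at hx
      omega
    rw [a_one_pow, zmod_two_mul_eq_of_add_self i h2 hne]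
  · rw [orderOf_xa] at hx
    omega

end quat

section inv

variable {G : Type*} [Group G] [Finite G]

omit [Finite G] in
/-- The involutions of a subgroup isomorphic to a generalized quaternion group. -/
theorem involution_eq_of_quat (S : Subgroup G) (k : ℕ) [NeZero k] (e : S ≃* QuaternionGroup k)
    (s : G) (hs : s ∈ S) (ho : orderOf s = 2) :
    s = (((e.symm (QuaternionGroup.a 1) : S)) : G) ^ k := by
  have h1 : orderOf (e ⟨s, hs⟩) = 2 := by
    rw [MulEquiv.orderOf_eq, Subgroup.orderOf_mk, ho]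
  have h2 := quat_involution_unique _ h1
  have h3 : (⟨s, hs⟩ : S) = (e.symm (QuaternionGroup.a 1)) ^ k := by
    rw [← map_pow, ← h2, MulEquiv.symm_apply_apply]
  have := congrArg Subtype.val h3
  simpa using this

/-- If some Sylow `2`-subgroup has a unique involution `z`, any two involutions of a `2`-subgroup
coincide. -/
theorem involution_unique_of_isPGroup (S : Sylow 2 G) (z : G)
    (hz : ∀ s ∈ (S : Subgroup G), orderOf s = 2 → s = z) (P : Subgroup G) (hP : IsPGroup 2 P)
    (a b : G) (ha : a ∈ P) (hb : b ∈ P) (hoa : orderOf a = 2) (hob : orderOf b = 2) : a = b := by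
  have : Fact (Nat.Prime 2) := ⟨Nat.prime_two⟩
  obtain ⟨Q, hQ⟩ := hP.exists_le_sylow
  obtain ⟨g, hg⟩ := MulAction.exists_smul_eq G Q S
  have key : ∀ x ∈ P, orderOf x = 2 → g * x * g⁻¹ = z := by
    intro x hx hox
    have h1 : x ∈ (Q : Subgroup G) := hQ hx
    have h2 : g * x * g⁻¹ ∈ (S : Subgroup G) := by
      rw [← hg]
      rw [Sylow.coe_subgroup_smul]
      have := Subgroup.smul_mem_pointwise_smul x (MulAut.conj g) (Q : Subgroup G) h1
      simpa [MulAut.smul_def] using this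
    apply hz _ h2
    have : g * x * g⁻¹ = MulAut.conj g x := by simp
    rw [this, MulEquiv.orderOf_eq, hox]
  have e1 := key a ha hoa
  have e2 := key b hb hob
  have : g * a * g⁻¹ = g * b * g⁻¹ := e1.trans e2.symm
  simpa using this

/-- Every involution is conjugate to the involution of the Sylow subgroup. -/
theorem involution_conj_of_sylow (S : Sylow 2 G) (z : G)
    (hz : ∀ s ∈ (S : Subgroup G), orderOf s = 2 → s = z) (t : G) (ht : orderOf t = 2) :
    ∃ g : G, g * t * g⁻¹ = z := by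
  have : Fact (Nat.Prime 2) := ⟨Nat.prime_two⟩
  have hP : IsPGroup 2 (Subgroup.zpowers t) := by
    apply IsPGroup.of_card (n := 1)
    rw [Nat.card_zpowers, ht, pow_one]
  obtain ⟨Q, hQ⟩ := hP.exists_le_sylow
  obtain ⟨g, hg⟩ := MulAction.exists_smul_eq G Q S
  refine ⟨g, ?_⟩
  have h1 : t ∈ (Q : Subgroup G) := hQ (Subgroup.mem_zpowers t)
  have h2 : g * t * g⁻¹ ∈ (S : Subgroup G) := by
    rw [← hg]
    rw [Sylow.coe_subgroup_smul]
    have := Subgroup.smul_mem_pointwise_smul t (MulAut.conj g) (Q : Subgroup G) h1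
    simpa [MulAut.smul_def] using this
  apply hz _ h2
  have : g * t * g⁻¹ = MulAut.conj g t := by simp
  rw [this, MulEquiv.orderOf_eq, ht]

/-- If a Sylow `2`-subgroup has a unique involution, the product of two involutions has order
not divisible by `4`. -/
theorem not_four_dvd_orderOf_mul_involutions (S : Sylow 2 G) (z : G)
    (hz : ∀ s ∈ (S : Subgroup G), orderOf s = 2 → s = z) (u v : G) (hu : orderOf u = 2)
    (hv : orderOf v = 2) : ¬ 4 ∣ orderOf (u * v) := by
  intro h4
  set w := u * v with hw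
  have hu2 : u * u = 1 := by
    have := pow_orderOf_eq_one u
    rwa [hu, sq] at this
  have hv2 : v * v = 1 := by
    have := pow_orderOf_eq_one v
    rwa [hv, sq] at this
  have hui : u⁻¹ = u := inv_eq_of_mul_eq_one_right hu2
  have hvi : v⁻¹ = v := inv_eq_of_mul_eq_one_right hv2
  have hconj : u * w * u⁻¹ = w⁻¹ := by
    rw [hw, mul_inv_rev, hui, hvi, ← mul_assoc, hu2, one_mul]
  obtain ⟨k', hk'⟩ := h4
  set t := w ^ (2 * k') with ht
  have hot : orderOf t = 2 := by
    rw [ht, orderOf_pow_of_dvd (by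
      intro h0
      have : k' = 0 := by omega
      rw [this, mul_zero] at hk'
      exact (orderOf_pos w).ne' hk') (by rw [hk']; exact ⟨2, by ring⟩), hk']
    have hk0 : 0 < k' := by
      rcases Nat.eq_zero_or_pos k' with h | h
      · rw [h, mul_zero] at hk'
        exact absurd hk' (orderOf_pos w).ne'
      · exact h
    rw [show 4 * k' = 2 * (2 * k') by ring]
    exact Nat.mul_div_cancel _ (by omega)
  have hcomm : u * t * u⁻¹ = t := by
    rw [ht, ← conj_pow, hconj, inv_pow]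
    have h1 : t * t = 1 := by
      have := pow_orderOf_eq_one t
      rwa [hot, sq] at this
    exact inv_eq_of_mul_eq_one_right h1
  -- the 2-group ⟨u⟩ ⊔ ⟨t⟩
  have hPu : IsPGroup 2 (Subgroup.zpowers u) := by
    apply IsPGroup.of_card (n := 1)
    rw [Nat.card_zpowers, hu, pow_one]
  have hPt : IsPGroup 2 (Subgroup.zpowers t) := by
    apply IsPGroup.of_card (n := 1)
    rw [Nat.card_zpowers, hot, pow_one]
  have hnorm : Subgroup.zpowers u ≤ Subgroup.normalizer ((Subgroup.zpowers t : Subgroup G) : Set G) := by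
    rw [Subgroup.zpowers_le, Subgroup.mem_normalizer_iff]
    intro x
    have hc : ∀ y ∈ Subgroup.zpowers t, u * y * u⁻¹ = y := by
      intro y hy
      obtain ⟨j, rfl⟩ := Subgroup.mem_zpowers_iff.mp hy
      rw [← conj_zpow, hcomm]
    constructor
    · intro hx
      rw [hc x hx]; exact hx
    · intro hx
      have : x = u⁻¹ * (u * x * u⁻¹) * u := by group
      have h2 : u⁻¹ * (u * x * u⁻¹) * u = u * (u * x * u⁻¹) * u⁻¹ := by rw [hui]
      rw [this, h2, hc _ hx]
      exact hx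
  have hP : IsPGroup 2 ((Subgroup.zpowers u ⊔ Subgroup.zpowers t : Subgroup G)) :=
    IsPGroup.to_sup_of_normal_right' hPu hPt hnorm
  have hut : u = t := involution_unique_of_isPGroup S z hz _ hP u t
    (le_sup_left (a := Subgroup.zpowers u) (Subgroup.mem_zpowers u))
    (le_sup_right (b := Subgroup.zpowers t) (Subgroup.mem_zpowers t)) hu hot
  -- then u commutes with w, so w = w⁻¹
  have hcw : u * w * u⁻¹ = w := by
    rw [hut, ht]
    have : Commute (w ^ (2 * k')) w := (Commute.refl w).pow_left _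
    rw [this.eq, mul_assoc, mul_inv_cancel, mul_one]
  have hww : w * w = 1 := by
    have : w = w⁻¹ := hcw.symm.trans hconj
    nth_rewrite 1 [this]
    exact inv_mul_cancel w
  have : orderOf w ∣ 2 := orderOf_dvd_of_pow_eq_one (by rw [sq]; exact hww)
  rw [hk'] at this
  have := Nat.le_of_dvd (by norm_num) this
  have hk0 : 0 < k' := by
    rcases Nat.eq_zero_or_pos k' with h | h
    · rw [h, mul_zero] at hk'
      exact absurd hk' (orderOf_pos w).ne'
    · exact h
  omega

end inv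

section kernels

variable {G : Type*} [Group G] [Fintype G]

/-- The involution lies in the kernels of the two exceptional characters. -/
theorem bs_involution_mem_kernel (S : Sylow 2 G) (z : G)
    (hz : ∀ s ∈ (S : Subgroup G), orderOf s = 2 → s = z) (hoz : orderOf z = 2)
    (χ₁ χ₂ : G → ℂ) (h1 : IsIrrCharacter G χ₁) (h2 : IsIrrCharacter G χ₂)
    (hdeg : χ₁ 1 = χ₂ 1 + 1) (hval : ∀ g : G, ¬ 4 ∣ orderOf g → χ₁ g - χ₂ g = 1) :
    χ₁ z = χ₁ 1 ∧ χ₂ z = χ₂ 1 := by
  have hsum : ∑ x : G, (χ₁ (z * (x * z * x⁻¹)) - χ₂ (z * (x * z * x⁻¹))) = (Nat.card G : ℂ) := by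
    rw [Finset.sum_congr rfl (fun x _ => hval (z * (x * z * x⁻¹))
      (not_four_dvd_orderOf_mul_involutions S z hz z (x * z * x⁻¹) hoz (by
        have : x * z * x⁻¹ = MulAut.conj x z := by simp
        rw [this, MulEquiv.orderOf_eq, hoz])))]
    simp [Nat.card_eq_fintype_card]
  rw [Finset.sum_sub_distrib] at hsum
  have e1 := Cfsg.Agent.Lib.Helper80.irr_sum_char_mul_conj ⟨χ₁, h1⟩ z z
  have e2 := Cfsg.Agent.Lib.Helper80.irr_sum_char_mul_conj ⟨χ₂, h2⟩ z z
  simp only at e1 e2
  rw [e1, e2] at hsum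
  have hd1 : χ₁ 1 ≠ 0 := Cfsg.Agent.Lib.Helper80.irr_one_ne_zero ⟨χ₁, h1⟩
  have hd2 : χ₂ 1 ≠ 0 := Cfsg.Agent.Lib.Helper80.irr_one_ne_zero ⟨χ₂, h2⟩
  have hz1 : χ₁ z = χ₂ z + 1 := by
    have := hval z (by rw [hoz]; norm_num)
    linear_combination this
  have hG : (Nat.card G : ℂ) ≠ 0 := by
    have : 0 < Nat.card G := Nat.card_pos
    exact_mod_cast this.ne'
  set a := χ₂ z with ha
  set d := χ₂ 1 with hd
  rw [hz1, hdeg] at hsum
  rw [hdeg] at hd1
  have key : (a - d) ^ 2 = 0 := by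
    field_simp at hsum
    linear_combination -hsum
  have had : a = d := by
    have := pow_eq_zero_iff (two_ne_zero) |>.mp key
    linear_combination this
  refine ⟨?_, had⟩
  rw [hz1, hdeg, had]

/-- Kernels of the exceptional characters. -/
theorem bs_kernels (S : Sylow 2 G) (z : G)
    (hz : ∀ s ∈ (S : Subgroup G), orderOf s = 2 → s = z) (hoz : orderOf z = 2)
    (χ₁ χ₂ : G → ℂ) (h1 : IsIrrCharacter G χ₁) (h2 : IsIrrCharacter G χ₂)
    (hdeg : χ₁ 1 = χ₂ 1 + 1) (hval : ∀ g : G, ¬ 4 ∣ orderOf g → χ₁ g - χ₂ g = 1) :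
    ∃ K₁ K₂ : Subgroup G, K₁.Normal ∧ K₂.Normal ∧ (∀ g, g ∈ K₁ ↔ χ₁ g = χ₁ 1) ∧
      (∀ g, g ∈ K₂ ↔ χ₂ g = χ₂ 1) ∧ z ∈ K₁ ∧ z ∈ K₂ ∧ ¬ commutator G ≤ K₁ := by
  obtain ⟨hz1, hz2⟩ := bs_involution_mem_kernel S z hz hoz χ₁ χ₂ h1 h2 hdeg hval
  have h1' := h1
  have h2' := h2
  obtain ⟨n₁, ρ₁, hirr₁, hρ₁⟩ := h1
  obtain ⟨n₂, ρ₂, hirr₂, hρ₂⟩ := h2
  have hm1 : ∀ g, g ∈ MonoidHom.ker ρ₁ ↔ χ₁ g = χ₁ 1 := by
    intro g
    rw [Cfsg.Agent.Lib.Helper80.mem_ker_iff_char, hρ₁]
  have hm2 : ∀ g, g ∈ MonoidHom.ker ρ₂ ↔ χ₂ g = χ₂ 1 := by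
    intro g
    rw [Cfsg.Agent.Lib.Helper80.mem_ker_iff_char, hρ₂]
  refine ⟨MonoidHom.ker ρ₁, MonoidHom.ker ρ₂, MonoidHom.normal_ker ρ₁, MonoidHom.normal_ker ρ₂,
    hm1, hm2, (hm1 z).mpr hz1, (hm2 z).mpr hz2, ?_⟩
  intro hle
  have hcomm : ∀ a b : G, ρ₁ a * ρ₁ b = ρ₁ b * ρ₁ a := by
    intro a b
    have hmem : ⁅a, b⁆ ∈ MonoidHom.ker ρ₁ :=
      hle (Subgroup.commutator_mem_commutator (Subgroup.mem_top a) (Subgroup.mem_top b))
    rw [MonoidHom.mem_ker] at hmem
    have e : a * b = ⁅a, b⁆ * (b * a) := by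
      rw [commutatorElement_def]; group
    rw [← map_mul, ← map_mul, e, map_mul, hmem, one_mul]
  have hne : classInner ρ₁.character χ₁ ≠ 0 := by
    rw [hρ₁, classInner_irr h1' h1', if_pos rfl]
    exact one_ne_zero
  have hlin : χ₁ 1 = 1 := irr_constituent_linear_of_commute ρ₁ hcomm h1' hne
  rw [hdeg] at hlin
  have hd2 : χ₂ 1 ≠ 0 := Cfsg.Agent.Lib.Helper80.irr_one_ne_zero ⟨χ₂, h2'⟩
  apply hd2
  linear_combination hlin

end kernels

section data

variable {G : Type*} [Group G] [Finite G]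

/-- The data attached to a generalized quaternion Sylow `2`-subgroup of order at least `16`. -/
theorem bs_data (S : Sylow 2 G) (n : ℕ) (e : (S : Subgroup G) ≃* QuaternionGroup (2 ^ (n + 2))) :
    ∃ α z : G, QSetup (S : Subgroup G) α (2 ^ (n + 2)) ∧ z = α ^ (2 ^ (n + 2)) ∧ orderOf z = 2 ∧
      ∀ s ∈ (S : Subgroup G), orderOf s = 2 → s = z := by
  have h := qsetup_of_equiv (S : Subgroup G) (2 ^ (n + 2)) e
  refine ⟨_, _, h, rfl, ?_, ?_⟩
  · rw [orderOf_pow_of_dvd (by positivity) (by rw [h.order]; exact dvd_mul_left _ _), h.order]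
    exact Nat.mul_div_cancel _ (by positivity)
  · intro s hs ho
    exact involution_eq_of_quat (S : Subgroup G) (2 ^ (n + 2)) e s hs ho

end data

end Cfsg.Agent.Lib.Helper3
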