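import Mathlib
import Cfsg.Agent.Lib.Helper3.BrauerSuzuki2
import Cfsg.Agent.Lib.Helper54.QuatSolv
import Cfsg.Agent.Lib.Helper84.PCore

set_option autoImplicit false
set_option linter.style.haveILetI false

/-!
Brauer–Suzuki (order at least 16), third part: the subgroup generated by the involutions has
cyclic Sylow 2-subgroups.
-/

namespace Cfsg.Agent.Lib.Helper3

open Cfsg
open Cfsg.Agent.Lib.Helper14
open scoped Pointwise

section

variable {G : Type*} [Group G]

/-- A normal subgroup meeting `⟨α⟩` inside `⟨α⁴⟩` meets the quaternion group inside `⟨α⟩`. -/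
theorem bs_inter_le {S : Subgroup G} {α : G} {n : ℕ} (h : QSetup S α (2 ^ (n + 2)))
    (M : Subgroup G) [hM : M.Normal]
    (hMA : ∀ y ∈ Subgroup.zpowers α, y ∈ M → y ∈ Subgroup.zpowers (α ^ 4)) :
    ∀ s ∈ S, s ∈ M → s ∈ Subgroup.zpowers α := by
  intro s hsS hsM
  by_contra hsA
  have hinv : s * α * s⁻¹ = α⁻¹ := by
    rcases h.inv s hsS with h1 | h1
    · exact absurd h1 hsA
    · exact h1
  have hmem : (α ^ 2)⁻¹ ∈ M := by
    have h1 : α * s⁻¹ * α⁻¹ ∈ M := hM.conj_mem _ (M.inv_mem hsM) α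
    have h2 : s * (α * s⁻¹ * α⁻¹) ∈ M := M.mul_mem hsM h1
    have e : s * (α * s⁻¹ * α⁻¹) = (α ^ 2)⁻¹ := by
      calc s * (α * s⁻¹ * α⁻¹) = (s * α * s⁻¹) * α⁻¹ := by group
        _ = α⁻¹ * α⁻¹ := by rw [hinv]
        _ = (α ^ 2)⁻¹ := by group
    rwa [e] at h2
  have hmemA : (α ^ 2)⁻¹ ∈ Subgroup.zpowers α :=
    Subgroup.inv_mem _ (Subgroup.pow_mem _ (Subgroup.mem_zpowers α) 2)
  obtain ⟨i, hi⟩ := Subgroup.mem_zpowers_iff.mp (hMA _ hmemA hmem)
  have e1 : α ^ (4 * i + 2) = 1 := by
    rw [zpow_add, zpow_mul]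
    have : (α ^ (4 : ℤ)) = α ^ 4 := by norm_cast
    rw [this, hi]
    have : (α ^ (2 : ℤ)) = α ^ 2 := by norm_cast
    rw [this, inv_mul_cancel]
  have h2 : ((orderOf α : ℕ) : ℤ) ∣ 4 * i + 2 := orderOf_dvd_iff_zpow_eq_one.mpr e1
  rw [h.order] at h2
  have h3 : (4 : ℤ) ∣ ((2 * 2 ^ (n + 2) : ℕ) : ℤ) := by
    refine ⟨2 ^ (n + 1), ?_⟩
    push_cast
    ring
  have h4 := dvd_trans h3 h2
  omega

variable [Finite G]

/-- A `2`-subgroup of a normal subgroup `M` meeting the Sylow `2`-subgroup `S` in a subgroup of the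
cyclic group `⟨α⟩` is cyclic: version for Sylow subgroups of subgroups of `M`. -/
theorem isCyclic_sylow_of_inter_le (S : Sylow 2 G) (α : G) (M : Subgroup G) [hM : M.Normal]
    (hSM : ∀ s ∈ (S : Subgroup G), s ∈ M → s ∈ Subgroup.zpowers α)
    (L : Subgroup G) (hLM : L ≤ M) (Q : Sylow 2 L) : IsCyclic Q := by
  have : Fact (Nat.Prime 2) := ⟨Nat.prime_two⟩
  have hP : IsPGroup 2 ((Q : Subgroup L).map L.subtype) := Q.isPGroup'.map L.subtype
  obtain ⟨R, hR⟩ := hP.exists_le_sylow
  obtain ⟨g, hg⟩ := MulAction.exists_smul_eq G S R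
  have key : ∀ q : Q, g⁻¹ * ((q : L) : G) * g ∈ Subgroup.zpowers α := by
    intro q
    have h1 : ((q : L) : G) ∈ (R : Subgroup G) := hR ⟨(q : L), q.2, rfl⟩
    rw [← hg, Sylow.coe_subgroup_smul, Subgroup.mem_pointwise_smul_iff_inv_smul_mem] at h1
    have h2 : g⁻¹ * ((q : L) : G) * g ∈ (S : Subgroup G) := by
      simpa [MulAut.smul_def] using h1
    have h3 : g⁻¹ * ((q : L) : G) * g ∈ M := by
      have := hM.conj_mem _ (hLM (q : L).2) g⁻¹
      simpa using this
    exact hSM _ h2 h3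
  let f : Q →* Subgroup.zpowers α :=
    { toFun := fun q => ⟨g⁻¹ * ((q : L) : G) * g, key q⟩
      map_one' := by
        apply Subtype.ext
        simp
      map_mul' := by
        intro x y
        apply Subtype.ext
        simp only [Subgroup.coe_mul]
        group }
  have hf : Function.Injective f := by
    intro x y hxy
    have h1 : g⁻¹ * ((x : L) : G) * g = g⁻¹ * ((y : L) : G) * g := congrArg Subtype.val hxy
    have h2 : ((x : L) : G) = ((y : L) : G) := by
      have := congrArg (fun t => g * t * g⁻¹) h1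
      simpa [mul_assoc] using this
    exact Subtype.ext (Subtype.ext h2)
  exact isCyclic_of_injective f hf

end

section final

variable {G : Type*} [Group G] [Finite G]

/-- The normal subgroup `M` (intersection of the kernels of the exceptional characters): it contains
all involutions and meets `S` inside `⟨α⟩`. -/
theorem bs_involution_subgroup (S : Sylow 2 G) (n : ℕ)
    (e : (S : Subgroup G) ≃* QuaternionGroup (2 ^ (n + 2))) :
    ∃ (α z : G) (M : Subgroup G), M.Normal ∧ QSetup (S : Subgroup G) α (2 ^ (n + 2)) ∧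
      z = α ^ (2 ^ (n + 2)) ∧ orderOf z = 2 ∧ (∀ s ∈ (S : Subgroup G), orderOf s = 2 → s = z) ∧
      Subgroup.closure {g : G | orderOf g = 2} ≤ M ∧
      (∀ s ∈ (S : Subgroup G), s ∈ M → s ∈ Subgroup.zpowers α) := by
  classical
  haveI : Fintype G := Fintype.ofFinite G
  obtain ⟨α, z, h, hzdef, hoz, hz⟩ := bs_data S n e
  obtain ⟨χ₁, χ₂, h1, h2, _, _, hdeg, hval, hne⟩ := bs_pair h
  obtain ⟨K₁, K₂, hn1, hn2, hm1, hm2, hzK1, hzK2, _⟩ :=
    bs_kernels S z hz hoz χ₁ χ₂ h1 h2 hdeg hval
  haveI := hn1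
  haveI := hn2
  have hMn : (K₁ ⊓ K₂).Normal := inferInstance
  refine ⟨α, z, K₁ ⊓ K₂, hMn, h, hzdef, hoz, hz, ?_, ?_⟩
  · rw [Subgroup.closure_le]
    intro t ht
    obtain ⟨g, hg⟩ := involution_conj_of_sylow S z hz t ht
    have e : t = g⁻¹ * z * g⁻¹⁻¹ := by rw [← hg]; group
    rw [e]
    exact ⟨hn1.conj_mem z hzK1 g⁻¹, hn2.conj_mem z hzK2 g⁻¹⟩
  · haveI := hMn
    apply bs_inter_le h (K₁ ⊓ K₂)
    intro y hyA hyM
    by_contra hy4
    apply hne y hyA hy4
    rw [(hm1 y).mp hyM.1, (hm2 y).mp hyM.2, hdeg]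
    ring

omit [Finite G] in
theorem pPrimeCore_two_eq_bot_of_forall
    (hO : ∀ N : Subgroup G, N.Normal → Odd (Nat.card N) → N = ⊥) : Cfsg.pPrimeCore 2 G = ⊥ := by
  unfold Cfsg.pPrimeCore
  rw [eq_bot_iff]
  apply sSup_le
  rintro N ⟨hN, hcop⟩
  rw [hO N hN (Nat.coprime_two_right.mp hcop)]

omit [Finite G] in
theorem closure_involutions_normal :
    (Subgroup.closure {g : G | orderOf g = 2}).Normal := by
  constructor
  intro x hx g
  induction hx using Subgroup.closure_induction with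
  | mem y hy =>
    apply Subgroup.subset_closure
    have : g * y * g⁻¹ = MulAut.conj g y := by simp
    show orderOf (g * y * g⁻¹) = 2
    rw [this, MulEquiv.orderOf_eq]
    exact hy
  | one => simp
  | mul a b _ _ iha ihb =>
    have : g * (a * b) * g⁻¹ = (g * a * g⁻¹) * (g * b * g⁻¹) := by group
    rw [this]; exact Subgroup.mul_mem _ iha ihb
  | inv a _ iha =>
    have : g * a⁻¹ * g⁻¹ = (g * a * g⁻¹)⁻¹ := by group
    rw [this]; exact Subgroup.inv_mem _ iha

/-- **Brauer–Suzuki** (order at least 16): with trivial odd core the centre has order two. -/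
theorem bs_center (S : Sylow 2 G) (n : ℕ)
    (e : (S : Subgroup G) ≃* QuaternionGroup (2 ^ (n + 2)))
    (hO : ∀ N : Subgroup G, N.Normal → Odd (Nat.card N) → N = ⊥) :
    Nat.card (Subgroup.center G) = 2 := by
  have : Fact (Nat.Prime 2) := ⟨Nat.prime_two⟩
  obtain ⟨α, z, M, hMn, h, hzdef, hoz, hz, hLM, hSM⟩ := bs_involution_subgroup S n e
  haveI := hMn
  have hLn : (Subgroup.closure {g : G | orderOf g = 2}).Normal := closure_involutions_normal
  haveI := hLn
  have h0 := pPrimeCore_two_eq_bot_of_forall hO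
  have hLp : IsPGroup 2 (Subgroup.closure {g : G | orderOf g = 2}) := by
    apply Cfsg.Agent.Lib.Helper54.isPGroup_two_of_cyclic_sylow_normal h0
    intro Q
    exact isCyclic_sylow_of_inter_le S α M hSM _ hLM Q
  have hLS : Subgroup.closure {g : G | orderOf g = 2} ≤ (S : Subgroup G) :=
    Cfsg.Agent.Lib.Helper84.normal_pGroup_le_sylow hLn hLp S
  -- z is central
  have hzc : z ∈ Subgroup.center G := by
    rw [Subgroup.mem_center_iff]
    intro g
    have ho : orderOf (g * z * g⁻¹) = 2 := by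
      have : g * z * g⁻¹ = MulAut.conj g z := by simp
      rw [this, MulEquiv.orderOf_eq, hoz]
    have hmem : g * z * g⁻¹ ∈ (S : Subgroup G) := hLS (Subgroup.subset_closure ho)
    have := hz _ hmem ho
    calc g * z = (g * z * g⁻¹) * g := by group
      _ = z * g := by rw [this]
  have hz1 : z ≠ 1 := by
    intro hh
    rw [hh, orderOf_one] at hoz
    omega
  -- every central element is 1 or z
  obtain ⟨s, hsS, hsC⟩ := h.exists_not_mem_C
  have hsA : s ∉ Subgroup.zpowers α := fun hh => hsC (h.A_le_C hh)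
  have hinv : s * α * s⁻¹ = α⁻¹ := by
    rcases h.inv s hsS with h1 | h1
    · exact absurd h1 hsA
    · exact h1
  have hm : 3 ≤ 2 ^ (n + 2) := by
    have : 2 ^ 2 ≤ 2 ^ (n + 2) := Nat.pow_le_pow_right (by norm_num) (by omega)
    omega
  have key : ∀ c ∈ Subgroup.center G, c = 1 ∨ c = z := by
    intro c hc
    have hcomm : ∀ g : G, g * c = c * g := fun g => Subgroup.mem_center_iff.mp hc g
    -- c is a 2-element
    have ho0 : orderOf c ≠ 0 := (orderOf_pos c).ne'
    obtain ⟨k, r, hr, hkr⟩ := Nat.exists_eq_two_pow_mul_odd ho0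
    have hr0 : r ≠ 0 := by
      intro h0; rw [h0] at hr; exact absurd hr (by decide)
    have hc' : c ^ (2 ^ k) = 1 := by
      have hnorm : (Subgroup.zpowers (c ^ (2 ^ k))).Normal := by
        constructor
        intro x hx g
        have hxc : x ∈ Subgroup.center G := by
          obtain ⟨j, rfl⟩ := Subgroup.mem_zpowers_iff.mp hx
          exact Subgroup.zpow_mem _ (Subgroup.pow_mem _ hc _) j
        have : g * x * g⁻¹ = x := by
          rw [Subgroup.mem_center_iff.mp hxc g, mul_assoc, mul_inv_cancel, mul_one]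
        rw [this]; exact hx
      have hodd : Odd (Nat.card (Subgroup.zpowers (c ^ (2 ^ k)))) := by
        rw [Nat.card_zpowers, orderOf_pow_of_dvd (by positivity)
          (by rw [hkr]; exact dvd_mul_right _ _), hkr,
          Nat.mul_div_cancel_left _ (by positivity)]
        exact hr
      have hbot := hO _ hnorm hodd
      have : c ^ (2 ^ k) ∈ (⊥ : Subgroup G) := by
        rw [← hbot]; exact Subgroup.mem_zpowers _
      exact Subgroup.mem_bot.mp this
    have hPc : IsPGroup 2 (Subgroup.zpowers c) := by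
      intro x
      refine ⟨k, ?_⟩
      obtain ⟨x, hx⟩ := x
      obtain ⟨j, rfl⟩ := Subgroup.mem_zpowers_iff.mp hx
      apply Subtype.ext
      simp only [Subgroup.coe_pow, Subgroup.coe_one]
      rw [← zpow_natCast, ← zpow_mul, mul_comm, zpow_mul, zpow_natCast, hc', one_zpow]
    have hnc : (Subgroup.zpowers c).Normal := by
      constructor
      intro x hx g
      have hxc : x ∈ Subgroup.center G := by
        obtain ⟨j, rfl⟩ := Subgroup.mem_zpowers_iff.mp hx
        exact Subgroup.zpow_mem _ hc j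
      have : g * x * g⁻¹ = x := by
        rw [Subgroup.mem_center_iff.mp hxc g, mul_assoc, mul_inv_cancel, mul_one]
      rw [this]; exact hx
    have hcS : c ∈ (S : Subgroup G) :=
      Cfsg.Agent.Lib.Helper84.normal_pGroup_le_sylow hnc hPc S (Subgroup.mem_zpowers c)
    have hcC : c ∈ Subgroup.centralizer ((Subgroup.zpowers (α ^ 2) : Subgroup G) : Set G) := by
      rw [Subgroup.mem_centralizer_iff]
      intro d _
      exact hcomm d
    have hcA : c ∈ Subgroup.zpowers α := by
      rw [← h.S_inf_C hm]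
      exact ⟨hcS, hcC⟩
    obtain ⟨j, rfl⟩ := Subgroup.mem_zpowers_iff.mp hcA
    have e1 : s * α ^ j * s⁻¹ = (α ^ j)⁻¹ := by
      rw [← conj_zpow, hinv, inv_zpow]
    have e2 : s * α ^ j * s⁻¹ = α ^ j := by
      rw [hcomm s, mul_assoc, mul_inv_cancel, mul_one]
    have e3 : (α ^ j) ^ 2 = 1 := by
      have : α ^ j = (α ^ j)⁻¹ := e2.symm.trans e1
      rw [sq]
      nth_rewrite 1 [this]
      exact inv_mul_cancel _
    have hdvd : orderOf (α ^ j) ∣ 2 := orderOf_dvd_of_pow_eq_one e3
    rcases (Nat.dvd_prime Nat.prime_two).mp hdvd with h1 | h2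
    · left; exact orderOf_eq_one_iff.mp h1
    · right; exact hz _ hcS h2
  rw [Nat.card_eq_two_iff]
  refine ⟨1, ⟨z, hzc⟩, ?_, ?_⟩
  · intro hh
    apply hz1
    have := congrArg Subtype.val hh
    simpa using this.symm
  · ext c
    simp only [Set.mem_insert_iff, Set.mem_singleton_iff, Set.mem_univ, iff_true]
    rcases key c c.2 with h1 | h2
    · left; exact Subtype.ext h1
    · right; exact Subtype.ext h2

end final

end Cfsg.Agent.Lib.Helper3
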