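import Mathlib
import Cfsg.Agent.Lib.Helper3.SzA4
import Cfsg.Agent.Lib.Helper3.ZassPairs

set_option autoImplicit false
set_option linter.style.haveILetI false
set_option linter.unusedSectionVars false

/-! # Part C, definitions: real fixed point free elements. -/

namespace Cfsg.Agent.Lib.Helper3.Sz

open Cfsg MulAction
open Cfsg.Agent.Lib.Helper97.Zass
open Cfsg.Agent.Lib.Helper3.ZassOdd
open Cfsg.Agent.Lib.Helper3.ZassFeit

/-- `g` has no fixed point on `Ω` and is inverted by an involution. -/
def IsRealFpf (G Ω : Type*) [Group G] [MulAction G Ω] (g : G) : Prop :=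
  (∀ c : Ω, g • c ≠ c) ∧ ∃ s : G, s ≠ 1 ∧ s * s = 1 ∧ s * g * s⁻¹ = g⁻¹

/-- the centraliser of an element. -/
abbrev cen {G : Type*} [Group G] (g : G) : Subgroup G := Subgroup.centralizer ({g} : Set G)

theorem mem_cen {G : Type*} [Group G] {g h : G} : h ∈ cen g ↔ h * g = g * h :=
  Subgroup.mem_centralizer_singleton_iff

end Cfsg.Agent.Lib.Helper3.Sz
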