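import Mathlib
import Cfsg.Prelude.Def_Characters
import Cfsg.Agent.Lib.Helper3.IndAlg
import Cfsg.Agent.Lib.Helper3.Complete
import Cfsg.Agent.Lib.Helper3.Degree
import Cfsg.Agent.Lib.Helper75.GaloisNorm
import Cfsg.Agent.Lib.Helper79.Abelian
import Cfsg.Agent.Lib.Helper79.Basic

set_option autoImplicit false

/-!
# Artin's induction theorem
-/

namespace Cfsg.Agent.Lib.Helper3

open Cfsg

open scoped Classical

noncomputable section

universe u

variable {G : Type u} [Group G]

/-- Artin's function on a subgroup `A`: `|A|` on the generators of `A`, zero elsewhere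
(identically zero unless `A` is cyclic). -/
def artinTheta (A : Subgroup G) : A → ℂ :=
  fun a => if Subgroup.zpowers (a : G) = A then (Nat.card A : ℂ) else 0

theorem extendByZero_artinTheta (A : Subgroup G) (y : G) :
    extendByZero A (artinTheta A) y =
      if Subgroup.zpowers y = A then (Nat.card A : ℂ) else 0 := by
  by_cases hy : y ∈ A
  · rw [extendByZero_apply_mem A hy]; rfl
  · rw [extendByZero_apply_not_mem A hy, if_neg]
    intro h; apply hy; rw [← h]; exact Subgroup.mem_zpowers y

theorem artinTheta_eq_zero_of_not_isCyclic (A : Subgroup G) (hA : ¬ IsCyclic A) :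
    artinTheta A = 0 := by
  funext a
  simp only [artinTheta, Pi.zero_apply]
  rw [if_neg]
  intro h
  apply hA
  rw [← h]
  infer_instance

theorem sum_indFun_artinTheta [Fintype G] [Fintype (Subgroup G)] (g : G) :
    ∑ A : Subgroup G, indFun A (artinTheta A) g = (Nat.card G : ℂ) := by
  classical
  have h1 : ∀ A : Subgroup G, indFun A (artinTheta A) g =
      ∑ x : G, if Subgroup.zpowers (x⁻¹ * g * x) = A then (1 : ℂ) else 0 := by
    intro A
    simp only [indFun, extendByZero_artinTheta]
    rw [Finset.mul_sum]
    refine Finset.sum_congr rfl fun x _ => ?_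
    have hA : (Nat.card A : ℂ) ≠ 0 := by exact_mod_cast Nat.card_pos.ne'
    split_ifs <;> simp
  simp_rw [h1]
  rw [Finset.sum_comm]
  simp [Nat.card_eq_fintype_card]

theorem zpowers_pow_eq_of_coprime {A : Type*} [Group A] [Finite A] (a : A) (j : ℕ)
    (hj : Nat.Coprime j (Nat.card A)) : Subgroup.zpowers (a ^ j) = Subgroup.zpowers a := by
  apply le_antisymm
  · rw [Subgroup.zpowers_le]
    exact Subgroup.pow_mem _ (Subgroup.mem_zpowers a) j
  · rw [Subgroup.zpowers_le]
    have h := (powCoprime (G := A) hj.symm).symm_apply_apply a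
    simp only [powCoprime_apply, powCoprime_symm_apply] at h
    have h2 : (a ^ j) ^ (Nat.card A).gcdB j ∈ Subgroup.zpowers (a ^ j) :=
      Subgroup.zpow_mem_zpowers (a ^ j) _
    rwa [h] at h2

/-- The sum of the values of a character over the generators of the group is a rational
integer. -/
theorem exists_int_sum_generators {A : Type u} [Group A] [Fintype A] {ψ : A → ℂ}
    (hψ : IsCharacter A ψ) :
    ∃ z : ℤ, (z : ℂ) = ∑ a : A, if Subgroup.zpowers a = ⊤ then ψ a else 0 := by
  classical
  obtain ⟨n, ρ, rfl⟩ := hψ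
  apply Cfsg.Agent.Lib.Helper75.exists_int_eq_of_forall_ringEquiv_eq
  · refine IsIntegral.sum _ fun a _ => ?_
    split_ifs
    · exact isIntegral_character ρ a
    · exact isIntegral_zero
  · intro τ
    obtain ⟨j, hj, hτ⟩ :=
      Cfsg.Agent.Lib.Helper75.exists_pow_of_ringEquiv τ (Nat.card A) Nat.card_pos
    rw [map_sum]
    have : ∀ a : A, τ (if Subgroup.zpowers a = ⊤ then ρ.character a else 0) =
        if Subgroup.zpowers (a ^ j) = ⊤ then ρ.character (a ^ j) else 0 := by
      intro a
      rw [zpowers_pow_eq_of_coprime a j hj]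
      split_ifs
      · exact Cfsg.Agent.Lib.Helper75.ringEquiv_character_eq_pow ρ τ (Nat.card A) j hτ a
          pow_card_eq_one'
      · simp
    simp_rw [this]
    exact Equiv.sum_comp (powCoprime hj.symm)
      (fun b => if Subgroup.zpowers b = ⊤ then ρ.character b else 0)

theorem zpowers_coe_eq_iff (A : Subgroup G) (a : A) :
    Subgroup.zpowers (a : G) = A ↔ Subgroup.zpowers a = ⊤ := by
  have h1 : (Subgroup.zpowers a).map A.subtype = Subgroup.zpowers (a : G) := by
    rw [MonoidHom.map_zpowers]; rfl
  have h2 : (⊤ : Subgroup A).map A.subtype = A := by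
    rw [← MonoidHom.range_eq_map, Subgroup.range_subtype]
  constructor
  · intro h
    apply Subgroup.map_injective A.subtype_injective
    rw [h1, h2, h]
  · intro h
    rw [← h1, h, h2]

/-- On a commutative group every function is a class function. -/
theorem isClassFunction_of_comm {A : Type u} [Group A] [IsMulCommutative A] (f : A → ℂ) :
    IsClassFunction A f := by
  intro g h
  have : h * g * h⁻¹ = g := by
    have hc : h * g = g * h := (isMulCommutative_iff.mp ‹_›) h g
    rw [hc, mul_inv_cancel_right]
  rw [this]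

/-- The coefficients of `artinTheta A * χ` on the irreducible characters of a cyclic `A`
are rational integers. -/
theorem artinTheta_mul_eq_sum (A : Subgroup G) [Fintype A] [IsCyclic A]
    [Fintype (IrrCharacter A)] {χ : G → ℂ} (hχ : IsCharacter G χ) :
    ∃ z : IrrCharacter A → ℤ,
      (fun a : A => artinTheta A a * χ a) = ∑ μ : IrrCharacter A, (z μ : ℂ) • (μ : A → ℂ) := by
  classical
  have : IsMulCommutative A := IsCyclic.isMulCommutative
  set f : A → ℂ := fun a : A => artinTheta A a * χ a with hf
  have hcf : IsClassFunction A f := isClassFunction_of_comm f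
  have hz : ∀ μ : IrrCharacter A, ∃ z : ℤ, (z : ℂ) = classInner f (μ : A → ℂ) := by
    intro μ
    have hψ : IsCharacter A (fun a : A => χ a * (starRingEnd ℂ) ((μ : A → ℂ) a)) :=
      IsCharacter.mul (IsCharacter.restrict hχ A) (IsCharacter.conj (IsIrrCharacter.isCharacter μ.2))
    obtain ⟨z, hz⟩ := exists_int_sum_generators hψ
    refine ⟨z, ?_⟩
    rw [hz]
    simp only [classInner, hf, artinTheta]
    rw [Finset.mul_sum]
    refine Finset.sum_congr rfl fun a _ => ?_
    have hA : (Nat.card A : ℂ) ≠ 0 := by exact_mod_cast Nat.card_pos.ne'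
    by_cases h : Subgroup.zpowers a = ⊤
    · rw [if_pos h, if_pos ((zpowers_coe_eq_iff A a).mpr h)]
      field_simp
    · rw [if_neg h, if_neg (fun h' => h ((zpowers_coe_eq_iff A a).mp h'))]
      simp
  choose z hz using hz
  refine ⟨z, ?_⟩
  conv_lhs => rw [classFunction_eq_sum hcf]
  refine Finset.sum_congr rfl fun μ _ => ?_
  rw [hz μ]

/-- Artin's induction theorem, sum form. -/
theorem artin_induction_sum [Fintype G] [Fintype (Subgroup G)]
    [∀ A : Subgroup G, Fintype (IrrCharacter A)] {χ : G → ℂ} (hχ : IsCharacter G χ) :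
    ∃ z : (A : Subgroup G) → IrrCharacter A → ℤ,
      (Nat.card G : ℂ) • χ = ∑ A : Subgroup G, ∑ μ : IrrCharacter A,
        if IsCyclic A then (z A μ : ℂ) • indFun A (μ : A → ℂ) else 0 := by
  classical
  have key : ∀ A : Subgroup G, ∃ z : IrrCharacter A → ℤ,
      indFun A (artinTheta A) * χ = ∑ μ : IrrCharacter A,
        if IsCyclic A then (z μ : ℂ) • indFun A (μ : A → ℂ) else 0 := by
    intro A
    rw [← indFun_mul_restrict A (artinTheta A) (IsCharacter.isClassFunction hχ)]
    by_cases hA : IsCyclic A
    · have := hA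
      obtain ⟨z, hz⟩ := artinTheta_mul_eq_sum A hχ
      refine ⟨z, ?_⟩
      rw [hz, indFun_sum]
      refine Finset.sum_congr rfl fun μ _ => ?_
      rw [if_pos hA, indFun_smul]
    · refine ⟨fun _ => 0, ?_⟩
      simp only [if_neg hA, Finset.sum_const_zero]
      rw [artinTheta_eq_zero_of_not_isCyclic A hA]
      simp only [Pi.zero_apply, zero_mul]
      exact indFun_zero A
  choose z hz using key
  refine ⟨z, ?_⟩
  have : (Nat.card G : ℂ) • χ = ∑ A : Subgroup G, indFun A (artinTheta A) * χ := by
    rw [← Finset.sum_mul]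
    funext g
    simp only [Pi.smul_apply, Pi.mul_apply, Finset.sum_apply, smul_eq_mul]
    rw [sum_indFun_artinTheta g]
  rw [this]
  exact Finset.sum_congr rfl fun A _ => hz A

end

end Cfsg.Agent.Lib.Helper3
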