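import Mathlib

set_option autoImplicit false

/-!
# Glue from the abstract Brauer–Suzuki–Wall data to a Zassenhaus action: group-theoretic part
-/

namespace Cfsg.Agent.Lib.Helper3.BSWGlue

open Subgroup

variable {G : Type*} [Group G]

/-- if `D` normalizes `Q`, every element of `Q ⊔ D` is a product `a * b` -/
theorem exists_mul_of_mem_sup {Q D : Subgroup G} (hDN : D ≤ normalizer (Q : Set G)) {x : G}
    (hx : x ∈ Q ⊔ D) : ∃ a ∈ Q, ∃ b ∈ D, x = a * b := by
  let P : Subgroup G :=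
    { carrier := {x | ∃ a ∈ Q, ∃ b ∈ D, x = a * b}
      one_mem' := ⟨1, Q.one_mem, 1, D.one_mem, by simp⟩
      mul_mem' := by
        rintro _ _ ⟨a, ha, b, hb, rfl⟩ ⟨a', ha', b', hb', rfl⟩
        refine ⟨a * (b * a' * b⁻¹), Q.mul_mem ha ?_, b * b', D.mul_mem hb hb', by group⟩
        exact ((mem_normalizer_iff.mp (hDN hb)) a').mp ha'
      inv_mem' := by
        rintro _ ⟨a, ha, b, hb, rfl⟩
        refine ⟨b⁻¹ * a⁻¹ * b⁻¹⁻¹, ?_, b⁻¹, D.inv_mem hb, by group⟩
        exact ((mem_normalizer_iff.mp (hDN (D.inv_mem hb))) a⁻¹).mp (Q.inv_mem ha) }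
  have h : Q ⊔ D ≤ P := by
    refine sup_le ?_ ?_
    · intro a ha
      exact ⟨a, ha, 1, D.one_mem, by simp⟩
    · intro b hb
      exact ⟨1, Q.one_mem, b, hb, by simp⟩
  exact h hx

/-- the Hall property: an element of `Q ⊔ D` whose order divides a number prime to `|D|` lies in
`Q` (when `D` normalizes `Q`) -/
theorem mem_of_pow_eq_one [Finite G] {Q D : Subgroup G} (hDN : D ≤ normalizer (Q : Set G))
    {n : ℕ} (hcop : n.Coprime (Nat.card D)) {y : G} (hy : y ∈ Q ⊔ D) (hyn : y ^ n = 1) :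
    y ∈ Q := by
  -- by induction: `y = a b`, and `y ^ k = a_k b ^ k`
  obtain ⟨a, ha, b, hb, rfl⟩ := exists_mul_of_mem_sup hDN hy
  have key : ∀ k : ℕ, ∃ c ∈ Q, (a * b) ^ k = c * b ^ k := by
    intro k
    induction k with
    | zero => exact ⟨1, Q.one_mem, by simp⟩
    | succ k ih =>
      obtain ⟨c, hc, hck⟩ := ih
      refine ⟨c * (b ^ k * a * (b ^ k)⁻¹), Q.mul_mem hc ?_, ?_⟩
      · exact ((mem_normalizer_iff.mp (hDN (D.pow_mem hb k))) a).mp ha
      · rw [pow_succ, hck, pow_succ]; group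
  obtain ⟨c, hc, hcn⟩ := key n
  rw [hyn] at hcn
  have hbn : b ^ n ∈ Q := by
    have : b ^ n = c⁻¹ := by
      rw [eq_comm, inv_eq_iff_mul_eq_one]
      exact hcn.symm
    rw [this]; exact Q.inv_mem hc
  -- `b ^ n ∈ Q ∩ D`... we only know `b ^ n ∈ Q`; use `b ^ |D| = 1` and coprimality
  have hbD : b ^ Nat.card D = 1 := by
    have := pow_card_eq_one' (G := D) (x := ⟨b, hb⟩)
    exact congrArg Subtype.val this
  obtain ⟨u, v, huv⟩ : ∃ u v : ℤ, (n : ℤ) * u + (Nat.card D : ℤ) * v = 1 := by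
    have := Nat.Coprime.isCoprime hcop
    obtain ⟨u, v, h⟩ := this
    exact ⟨u, v, by rw [← h]; ring⟩
  have hb1 : b ∈ Q := by
    have : b = (b ^ n) ^ u * (b ^ Nat.card D) ^ v := by
      rw [← zpow_natCast, ← zpow_natCast, ← zpow_mul, ← zpow_mul, ← zpow_add, huv, zpow_one]
    rw [this, hbD, one_zpow, mul_one]
    exact Q.zpow_mem hbn u
  exact Q.mul_mem ha hb1

end Cfsg.Agent.Lib.Helper3.BSWGlue
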