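import Mathlib
import Cfsg.Agent.Lib.Helper3.BSWGlue1
import Cfsg.Agent.Lib.Helper3.ZT14
import Cfsg.Agent.Lib.Helper3.ZT16

set_option autoImplicit false

/-!
# Glue from the abstract Brauer–Suzuki–Wall data to `PSL₂`
-/

namespace Cfsg.Agent.Lib.Helper3.BSWGlue

open Subgroup MulAction

variable {G : Type*} [Group G]

/-- the relevant part of the Brauer–Suzuki–Wall data -/
structure Dat (Q D : Subgroup G) : Prop where
  hC : ∀ x ∈ Q, x ≠ 1 → centralizer ({x} : Set G) = Q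
  hQD : Q ⊓ D = ⊥
  hN : normalizer (Q : Set G) = Q ⊔ D
  hD1 : D ≠ ⊥

namespace Dat

variable {Q D : Subgroup G}

theorem hDN (h : Dat Q D) : D ≤ normalizer (Q : Set G) := by
  rw [h.hN]; exact le_sup_right

theorem hQN (_h : Dat Q D) : Q ≤ normalizer (Q : Set G) := le_normalizer

theorem comm (h : Dat Q D) {a b : G} (ha : a ∈ Q) (hb : b ∈ Q) : a * b = b * a := by
  by_cases ha1 : a = 1
  · subst ha1; simp
  · have : b ∈ centralizer ({a} : Set G) := by rw [h.hC a ha ha1]; exact hb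
    exact (mem_centralizer_singleton_iff.mp this).symm

theorem inter (h : Dat Q D) {g : G} (hQ : g ∈ Q) (hD : g ∈ D) : g = 1 := by
  have : g ∈ Q ⊓ D := mem_inf.mpr ⟨hQ, hD⟩
  rw [h.hQD] at this
  exact mem_bot.mp this

/-- `Q` is a TI subgroup -/
theorem ti (h : Dat Q D) {g x : G} (hg : g ∉ normalizer (Q : Set G)) (hx : x ∈ Q)
    (hgx : g * x * g⁻¹ ∈ Q) : x = 1 := by
  by_contra hx1
  apply hg
  have hy1 : g * x * g⁻¹ ≠ 1 := by
    intro h1
    apply hx1
    have : x = g⁻¹ * (g * x * g⁻¹) * g := by group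
    rw [this, h1]; group
  rw [mem_normalizer_iff]
  intro z
  constructor
  · intro hz
    have hc : g * z * g⁻¹ ∈ centralizer ({g * x * g⁻¹} : Set G) := by
      rw [mem_centralizer_singleton_iff]
      have := h.comm hz hx
      calc g * z * g⁻¹ * (g * x * g⁻¹) = g * (z * x) * g⁻¹ := by group
        _ = g * (x * z) * g⁻¹ := by rw [this]
        _ = g * x * g⁻¹ * (g * z * g⁻¹) := by group
    rwa [h.hC _ hgx hy1] at hc
  · intro hz
    have hc : z ∈ centralizer ({x} : Set G) := by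
      rw [mem_centralizer_singleton_iff]
      have := h.comm hz hgx
      calc z * x = g⁻¹ * (g * z * g⁻¹ * (g * x * g⁻¹)) * g := by group
        _ = g⁻¹ * (g * x * g⁻¹ * (g * z * g⁻¹)) * g := by rw [this]
        _ = x * z := by group
    rwa [h.hC _ hx hx1] at hc

/-- `Q ⊔ D` is a Frobenius group -/
theorem frob (h : Dat Q D) {a d : G} (ha : a ∈ Q) (ha1 : a ≠ 1) (hd : d ∈ D)
    (hc : a * d = d * a) : d = 1 := by
  have : d ∈ centralizer ({a} : Set G) := by
    rw [mem_centralizer_singleton_iff]; exact hc.symm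
  rw [h.hC a ha ha1] at this
  exact h.inter this hd

/-- `D` is self-normalizing in `Q ⊔ D` -/
theorem norm_D (h : Dat Q D) {u : G} (hu : u ∈ normalizer (Q : Set G))
    (hn : ∀ d ∈ D, u * d * u⁻¹ ∈ D) : u ∈ D := by
  rw [h.hN] at hu
  obtain ⟨a, ha, b, hb, rfl⟩ := exists_mul_of_mem_sup h.hDN hu
  have hna : ∀ d ∈ D, a * d * a⁻¹ ∈ D := by
    intro d hd
    have h1 := hn (b⁻¹ * d * b) (D.mul_mem (D.mul_mem (D.inv_mem hb) hd) hb)
    have : a * b * (b⁻¹ * d * b) * (a * b)⁻¹ = a * d * a⁻¹ := by group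
    rwa [this] at h1
  have hca : ∀ d ∈ D, a * d = d * a := by
    intro d hd
    have h1 : a * d * a⁻¹ * d⁻¹ ∈ D := D.mul_mem (hna d hd) (D.inv_mem hd)
    have h2 : a * d * a⁻¹ * d⁻¹ ∈ Q := by
      have : a * d * a⁻¹ * d⁻¹ = a * (d * a⁻¹ * d⁻¹) := by group
      rw [this]
      exact Q.mul_mem ha (((mem_normalizer_iff.mp (h.hDN hd)) a⁻¹).mp (Q.inv_mem ha))
    have h3 := h.inter h2 h1
    calc a * d = (a * d * a⁻¹ * d⁻¹) * (d * a) := by group
      _ = d * a := by rw [h3, one_mul]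
  by_cases ha1 : a = 1
  · subst ha1; simpa using hb
  · exfalso
    apply h.hD1
    rw [eq_bot_iff]
    intro d hd
    rw [mem_bot]
    exact h.frob ha ha1 hd (hca d hd)

section action

variable {Ω : Type*} [MulAction G Ω] {x₀ : Ω}

/-- `Q` acts semiregularly off the base point -/
theorem semireg [Finite G] [IsPretransitive G Ω] (h : Dat Q D)
    (hst : stabilizer G x₀ = normalizer (Q : Set G))
    (hcop : (Nat.card Q).Coprime (Nat.card D)) {a : G} (ha : a ∈ Q) {y : Ω} (hy : y ≠ x₀)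
    (hay : a • y = y) : a = 1 := by
  obtain ⟨g, rfl⟩ := exists_smul_eq G x₀ y
  have hg : g ∉ normalizer (Q : Set G) := by
    intro hg
    rw [← hst, mem_stabilizer_iff] at hg
    exact hy hg
  have hfix : g⁻¹ * a * g ∈ normalizer (Q : Set G) := by
    rw [← hst, mem_stabilizer_iff, mul_smul, mul_smul, hay, inv_smul_smul]
  have hpow : (g⁻¹ * a * g) ^ Nat.card Q = 1 := by
    have h1 : (g⁻¹ * a * g) ^ Nat.card Q = g⁻¹ * a ^ Nat.card Q * g := by
      have := conj_pow (a := g⁻¹) (b := a) (i := Nat.card Q)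
      simpa using this
    have h2 : a ^ Nat.card Q = 1 := by
      have := pow_card_eq_one' (G := Q) (x := ⟨a, ha⟩)
      exact congrArg Subtype.val this
    rw [h1, h2]; group
  have hmem : g⁻¹ * a * g ∈ Q := by
    refine mem_of_pow_eq_one h.hDN hcop ?_ hpow
    rw [← h.hN]; exact hfix
  have hg' : g⁻¹ ∉ normalizer (Q : Set G) := fun h' => hg (by simpa using inv_mem h')
  exact h.ti hg' ha (by simpa using hmem)

/-- `Q` is regular off the base point -/
theorem reg [Finite G] [Finite Ω] [IsPretransitive G Ω] (h : Dat Q D)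
    (hst : stabilizer G x₀ = normalizer (Q : Set G))
    (hcop : (Nat.card Q).Coprime (Nat.card D)) (hcard : Nat.card Ω = Nat.card Q + 1) :
    ∀ y z : Ω, y ≠ x₀ → z ≠ x₀ → ∃! u : Q, (u : G) • y = z := by
  classical
  intro y z hy hz
  have hfixQ : ∀ u : Q, (u : G) • x₀ = x₀ := by
    intro u
    have : (u : G) ∈ stabilizer G x₀ := by rw [hst]; exact h.hQN u.2
    exact this
  let f : Q → {w : Ω // w ≠ x₀} := fun u => ⟨(u : G) • y, by
    intro h1
    apply hy
    have h2 : (u : G) • y = (u : G) • x₀ := by rw [h1, hfixQ u]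
    exact smul_left_cancel _ h2⟩
  have hinj : Function.Injective f := by
    intro u v huv
    have h1 : (u : G) • y = (v : G) • y := congrArg Subtype.val huv
    have h2 : ((v : G)⁻¹ * (u : G)) • y = y := by rw [mul_smul, h1, inv_smul_smul]
    have h3 := h.semireg hst hcop (Q.mul_mem (Q.inv_mem v.2) u.2) hy h2
    apply Subtype.ext
    calc (u : G) = (v : G) * ((v : G)⁻¹ * u) := by group
      _ = v := by rw [h3, mul_one]
  have hcard' : Nat.card {w : Ω // w ≠ x₀} ≤ Nat.card Q := by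
    have h1 : Nat.card {w : Ω // w ≠ x₀} = ({x₀}ᶜ : Set Ω).ncard := by
      rw [← Nat.card_coe_set_eq]; rfl
    rw [h1, Set.ncard_compl, Set.ncard_singleton, hcard]
    omega
  have hbij := hinj.bijective_of_nat_card_le hcard'
  obtain ⟨u, hu⟩ := hbij.2 ⟨z, hz⟩
  refine ⟨u, congrArg Subtype.val hu, ?_⟩
  intro v hv
  apply hinj
  apply Subtype.ext
  change (v : G) • y = (u : G) • y
  rw [hv]
  exact (congrArg Subtype.val hu).symm

/-- the two point stabilizer is `D` -/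
theorem stab2 [Finite G] [IsPretransitive G Ω] (h : Dat Q D)
    (hst : stabilizer G x₀ = normalizer (Q : Set G))
    (hcop : (Nat.card Q).Coprime (Nat.card D)) {y₀ : Ω} (hy₀ : y₀ ≠ x₀)
    (hDy : ∀ d ∈ D, d • y₀ = y₀) {g : G} (hgx : g • x₀ = x₀) (hgy : g • y₀ = y₀) : g ∈ D := by
  have hg : g ∈ normalizer (Q : Set G) := by rw [← hst]; exact hgx
  rw [h.hN] at hg
  obtain ⟨a, ha, b, hb, rfl⟩ := exists_mul_of_mem_sup h.hDN hg
  have h1 : a • y₀ = y₀ := by
    have := hgy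
    rwa [mul_smul, hDy b hb] at this
  have h2 := h.semireg hst hcop ha hy₀ h1
  rw [h2, one_mul]; exact hb

/-- no nontrivial element fixes three points, base case -/
theorem fix3_base [Finite G] [Finite Ω] [IsPretransitive G Ω] (h : Dat Q D)
    (hst : stabilizer G x₀ = normalizer (Q : Set G))
    (hcop : (Nat.card Q).Coprime (Nat.card D)) (hcard : Nat.card Ω = Nat.card Q + 1)
    {y₀ : Ω} (hy₀ : y₀ ≠ x₀)
    (hDy : ∀ d ∈ D, d • y₀ = y₀) {g : G} (hg : g ∈ D) {c : Ω} (hcx : c ≠ x₀) (hcy : c ≠ y₀)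
    (hgc : g • c = c) : g = 1 := by
  obtain ⟨v, hv, -⟩ := h.reg hst hcop hcard y₀ c hy₀ hcx
  have hv1 : (v : G) ≠ 1 := by
    intro h1
    rw [h1, one_smul] at hv
    exact hcy hv.symm
  have hgN : g ∈ normalizer (Q : Set G) := h.hDN hg
  have hvN : (v : G) ∈ normalizer (Q : Set G) := h.hQN v.2
  have hx : ((v : G)⁻¹ * g * v) • x₀ = x₀ := by
    have : (v : G)⁻¹ * g * v ∈ stabilizer G x₀ := by
      rw [hst]
      exact mul_mem (mul_mem (inv_mem hvN) hgN) hvN
    exact this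
  have hy : ((v : G)⁻¹ * g * v) • y₀ = y₀ := by
    rw [mul_smul, mul_smul, hv, hgc, ← hv, inv_smul_smul]
  have hD' := h.stab2 hst hcop hy₀ hDy hx hy
  have hw1 : g⁻¹ * ((v : G)⁻¹ * g * v) ∈ D := D.mul_mem (D.inv_mem hg) hD'
  have hw2 : g⁻¹ * ((v : G)⁻¹ * g * v) ∈ Q := by
    have : g⁻¹ * ((v : G)⁻¹ * g * v) = (g⁻¹ * (v : G)⁻¹ * g⁻¹⁻¹) * v := by group
    rw [this]
    exact Q.mul_mem (((mem_normalizer_iff.mp (h.hDN (D.inv_mem hg))) _).mp (Q.inv_mem v.2)) v.2
  have hw := h.inter hw2 hw1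
  have hcomm : (v : G) * g = g * v := by
    calc (v : G) * g = (v : G) * g * (g⁻¹ * ((v : G)⁻¹ * g * v)) := by rw [hw, mul_one]
      _ = g * v := by group
  exact h.frob v.2 hv1 hg hcomm

/-- double transitivity -/
theorem two_trans [Finite G] [Finite Ω] [IsPretransitive G Ω] (h : Dat Q D)
    (hst : stabilizer G x₀ = normalizer (Q : Set G))
    (hcop : (Nat.card Q).Coprime (Nat.card D)) (hcard : Nat.card Ω = Nat.card Q + 1) :
    ∀ {x y z w : Ω}, x ≠ y → z ≠ w → ∃ g : G, g • x = z ∧ g • y = w := by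
  have hreg := h.reg hst hcop hcard
  intro x y z w hxy hzw
  obtain ⟨k₁, hk₁⟩ := exists_smul_eq G x x₀
  obtain ⟨k₂, hk₂⟩ := exists_smul_eq G z x₀
  have h1 : k₁ • y ≠ x₀ := by
    rw [← hk₁]
    exact fun h => hxy (smul_left_cancel k₁ h).symm
  have h2 : k₂ • w ≠ x₀ := by
    rw [← hk₂]
    exact fun h => hzw (smul_left_cancel k₂ h).symm
  obtain ⟨u, hu, -⟩ := hreg _ _ h1 h2
  have hua : (u : G) • x₀ = x₀ := by
    have : (u : G) ∈ stabilizer G x₀ := by rw [hst]; exact h.hQN u.2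
    exact this
  refine ⟨k₂⁻¹ * (u : G) * k₁, ?_, ?_⟩
  · rw [mul_smul, mul_smul, hk₁, hua, ← hk₂, inv_smul_smul]
  · rw [mul_smul, mul_smul, hu, inv_smul_smul]

/-- no nontrivial element fixes three points -/
theorem fix3 [Finite G] [Finite Ω] [IsPretransitive G Ω] (h : Dat Q D)
    (hst : stabilizer G x₀ = normalizer (Q : Set G))
    (hcop : (Nat.card Q).Coprime (Nat.card D)) (hcard : Nat.card Ω = Nat.card Q + 1)
    {y₀ : Ω} (hy₀ : y₀ ≠ x₀)
    (hDy : ∀ d ∈ D, d • y₀ = y₀) (g : G) (a b c : Ω) (hab : a ≠ b) (hbc : b ≠ c) (hac : a ≠ c)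
    (hga : g • a = a) (hgb : g • b = b) (hgc : g • c = c) : g = 1 := by
  obtain ⟨w, hwa, hwb⟩ := h.two_trans hst hcop hcard hab hy₀.symm
  have h1 : (w * g * w⁻¹) • x₀ = x₀ := by
    rw [← hwa, mul_smul, mul_smul, inv_smul_smul, hga]
  have h2 : (w * g * w⁻¹) • y₀ = y₀ := by
    rw [← hwb, mul_smul, mul_smul, inv_smul_smul, hgb]
  have h3 : (w * g * w⁻¹) • (w • c) = w • c := by
    rw [mul_smul, mul_smul, inv_smul_smul, hgc]
  have hD := h.stab2 hst hcop hy₀ hDy h1 h2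
  have hcx : w • c ≠ x₀ := by
    rw [← hwa]
    exact fun h => hac (smul_left_cancel w h).symm
  have hcy : w • c ≠ y₀ := by
    rw [← hwb]
    exact fun h => hbc (smul_left_cancel w h).symm
  have := h.fix3_base hst hcop hcard hy₀ hDy hD hcx hcy h3
  calc g = w⁻¹ * (w * g * w⁻¹) * w := by group
    _ = 1 := by rw [this]; group

end action

end Dat

end Cfsg.Agent.Lib.Helper3.BSWGlue
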