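import Mathlib
import Cfsg.Agent.Lib.Helper3.BSWGlue2

set_option autoImplicit false

/-!
# From the conclusion of the abstract Brauer–Suzuki–Wall theorem to `PSL₂(F)`
-/

namespace Cfsg.Agent.Lib.Helper3.BSWGlue

open Subgroup MulAction

variable {G : Type*} [Group G]

/-- the order of `Q ⊔ D` -/
theorem card_sup_of_disjoint [Finite G] {Q D : Subgroup G} (hDN : D ≤ normalizer (Q : Set G))
    (hQD : Q ⊓ D = ⊥) : Nat.card ↥(Q ⊔ D) = Nat.card Q * Nat.card D := by
  rw [← Nat.card_prod]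
  symm
  let f : Q × D → ↥(Q ⊔ D) := fun p =>
    ⟨(p.1 : G) * (p.2 : G), mul_mem (mem_sup_left p.1.2) (mem_sup_right p.2.2)⟩
  refine Nat.card_eq_of_bijective f ⟨?_, ?_⟩
  · rintro ⟨a, b⟩ ⟨a', b'⟩ hab
    have h1 : (a : G) * b = a' * b' := congrArg Subtype.val hab
    have h2 : (a' : G)⁻¹ * a = b' * (b : G)⁻¹ := by
      calc (a' : G)⁻¹ * a = (a' : G)⁻¹ * (a * b) * (b : G)⁻¹ := by group
        _ = b' * (b : G)⁻¹ := by rw [h1]; group
    have h3 : (a' : G)⁻¹ * a ∈ Q ⊓ D := by
      refine mem_inf.mpr ⟨Q.mul_mem (Q.inv_mem a'.2) a.2, ?_⟩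
      rw [h2]; exact D.mul_mem b'.2 (D.inv_mem b.2)
    rw [hQD, mem_bot] at h3
    have h4 : (a : G) = a' := by
      calc (a : G) = a' * ((a' : G)⁻¹ * a) := by group
        _ = a' := by rw [h3, mul_one]
    have h5 : (b : G) = b' := by
      rw [h4] at h1
      exact mul_left_cancel h1
    exact Prod.ext (Subtype.ext h4) (Subtype.ext h5)
  · rintro ⟨x, hx⟩
    obtain ⟨a, ha, b, hb, rfl⟩ := exists_mul_of_mem_sup hDN hx
    exact ⟨(⟨a, ha⟩, ⟨b, hb⟩), rfl⟩

/-- **Glue**: the conclusion of the abstract Brauer–Suzuki–Wall theorem, for a simple group and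
`|Q| > 3`, forces `G ≅ PSL₂(F)` with `|F|` odd. -/
theorem psl_of_bsw [Finite G] [IsSimpleGroup G] (Q D : Subgroup G)
    (hord : 2 * Nat.card G = Nat.card ↥Q * (Nat.card ↥Q + 1) * (Nat.card ↥Q - 1))
    (hC : ∀ x ∈ Q, x ≠ 1 → Subgroup.centralizer ({x} : Set G) = Q)
    (_hDab : IsMulCommutative ↥D) (hDcard : 2 * Nat.card ↥D + 1 = Nat.card ↥Q) (hQD : Q ⊓ D = ⊥)
    (hN : Subgroup.normalizer (Q : Set G) = Q ⊔ D)
    (hX : ∀ X : Subgroup G, X ≤ D → X ≠ ⊥ →
        Subgroup.normalizer (X : Set G) = Subgroup.normalizer (D : Set G) ∧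
        ∃ u : G, orderOf u = 2 ∧ u ∉ D ∧ (∀ d ∈ D, u * d * u⁻¹ = d⁻¹) ∧
          Subgroup.normalizer (D : Set G) = D ⊔ Subgroup.zpowers u)
    (hq : 3 < Nat.card Q) :
    ∃ (F : Type) (_ : Field F) (_ : Fintype F), Odd (Fintype.card F) ∧
      Nonempty (G ≃* Matrix.ProjectiveSpecialLinearGroup (Fin 2) F) := by
  classical
  have hD1 : D ≠ ⊥ := by
    intro h
    rw [h, Subgroup.card_bot] at hDcard
    omega
  have h : Dat Q D := ⟨hC, hQD, hN, hD1⟩
  set q := Nat.card Q with hqdef
  set d := Nat.card D with hddef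
  have hcop : q.Coprime d := by
    rw [← hDcard]
    have : Nat.Coprime (1 + d * 2) d := by
      rw [Nat.coprime_add_mul_left_left]
      exact Nat.coprime_one_left d
    have h2 : 2 * d + 1 = 1 + d * 2 := by ring
    rw [h2]; exact this
  -- the action
  let H : Subgroup G := normalizer (Q : Set G)
  let x₀ : G ⧸ H := ((1 : G) : G ⧸ H)
  have hst : stabilizer G x₀ = normalizer (Q : Set G) := MulAction.stabilizer_quotient H
  have hHcard : Nat.card H = q * d := by
    have : Nat.card H = Nat.card ↥(Q ⊔ D) := by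
      change Nat.card ↥(normalizer (Q : Set G)) = _
      rw [hN]
    rw [this, card_sup_of_disjoint h.hDN hQD]
  have hcard : Nat.card (G ⧸ H) = q + 1 := by
    have h1 : Nat.card H * H.index = Nat.card G := H.card_mul_index
    rw [Subgroup.index_eq_card] at h1
    rw [hHcard] at h1
    have h2 : q - 1 = 2 * d := by omega
    rw [h2, ← h1] at hord
    have hqd : 0 < q * d := by
      apply Nat.mul_pos <;> omega
    have h3 : (q * d) * (2 * Nat.card (G ⧸ H)) = (q * d) * (2 * (q + 1)) := by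
      calc (q * d) * (2 * Nat.card (G ⧸ H)) = 2 * (q * d * Nat.card (G ⧸ H)) := by ring
        _ = q * (q + 1) * (2 * d) := hord
        _ = (q * d) * (2 * (q + 1)) := by ring
    have h4 := Nat.eq_of_mul_eq_mul_left hqd h3
    omega
  -- the involution `u` and the second point
  obtain ⟨-, u, -, huD, huinv, -⟩ := hX D le_rfl hD1
  have hunorm : ∀ d ∈ D, u * d * u⁻¹ ∈ D := by
    intro d hd
    rw [huinv d hd]; exact D.inv_mem hd
  have huN : u ∉ normalizer (Q : Set G) := fun hu => huD (h.norm_D hu hunorm)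
  have hy₀ : u • x₀ ≠ x₀ := by
    intro h1
    apply huN
    rw [← hst]; exact h1
  have hDy : ∀ d ∈ D, d • (u • x₀) = u • x₀ := by
    intro d hd
    have h1 : u⁻¹ * d * u ∈ D := by
      have := huinv d⁻¹ (D.inv_mem hd)
      rw [inv_inv] at this
      have h2 : u⁻¹ * d * u = d⁻¹ := by
        calc u⁻¹ * d * u = u⁻¹ * (u * d⁻¹ * u⁻¹) * u := by rw [this]
          _ = d⁻¹ := by group
      rw [h2]; exact D.inv_mem hd
    have h2 : (u⁻¹ * d * u) • x₀ = x₀ := by
      have : u⁻¹ * d * u ∈ stabilizer G x₀ := by rw [hst]; exact h.hDN h1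
      exact this
    calc d • (u • x₀) = u • ((u⁻¹ * d * u) • x₀) := by
          rw [← mul_smul, ← mul_smul]; congr 1; group
      _ = u • x₀ := by rw [h2]
  -- a third point
  have hQ1 : ∃ a ∈ Q, a ≠ 1 := by
    by_contra hcon
    push Not at hcon
    have : Q = ⊥ := by
      rw [eq_bot_iff]
      intro a ha
      rw [mem_bot]; exact hcon a ha
    rw [hqdef, this, Subgroup.card_bot] at hq
    omega
  obtain ⟨a, ha, ha1⟩ := hQ1
  have hax : a • x₀ = x₀ := by
    have : a ∈ stabilizer G x₀ := by rw [hst]; exact h.hQN ha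
    exact this
  have hc1 : a • (u • x₀) ≠ u • x₀ := fun h1 => ha1 (h.semireg hst hcop ha hy₀ h1)
  have hc2 : a • (u • x₀) ≠ x₀ := by
    intro h1
    apply hy₀
    have : a • (u • x₀) = a • x₀ := by rw [h1, hax]
    exact smul_left_cancel a this
  have hfix3 := h.fix3 hst hcop hcard hy₀ hDy
  have htt : ∀ {x y z w : G ⧸ H}, x ≠ y → z ≠ w → ∃ g : G, g • x = z ∧ g • y = w :=
    h.two_trans hst hcop hcard
  -- the Zassenhaus property
  have hZ : Cfsg.IsZassenhausGroup G (G ⧸ H) := by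
    refine ⟨⟨?_⟩, ?_, ?_, ?_, ?_⟩
    · intro g₁ g₂ hg
      have h1 : ∀ z : G ⧸ H, (g₂⁻¹ * g₁) • z = z := by
        intro z
        rw [mul_smul, hg z, inv_smul_smul]
      have h2 := hfix3 (g₂⁻¹ * g₁) x₀ (u • x₀) (a • (u • x₀)) hy₀.symm hc1.symm hc2.symm
        (h1 _) (h1 _) (h1 _)
      calc g₁ = g₂ * (g₂⁻¹ * g₁) := by group
        _ = g₂ := by rw [h2, mul_one]
    · rw [MulAction.is_two_pretransitive_iff]
      intro a b c d hab hcd
      exact htt hab hcd
    · intro g a b c hab hbc hac hga hgb hgc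
      exact hfix3 g a b c hab hbc hac hga hgb hgc
    · obtain ⟨d, hd, hd1⟩ : ∃ d ∈ D, d ≠ 1 := by
        by_contra hcon
        push Not at hcon
        apply hD1
        rw [eq_bot_iff]
        intro d hd
        rw [mem_bot]; exact hcon d hd
      refine ⟨d, hd1, x₀, u • x₀, hy₀.symm, ?_, hDy d hd⟩
      have : d ∈ stabilizer G x₀ := by rw [hst]; exact h.hDN hd
      exact this
    · intro N hNn hNt
      rcases hNn.eq_bot_or_eq_top with hN | hN
      · exfalso
        subst hN
        obtain ⟨⟨n, hn⟩, hn'⟩ := hNt.exists_smul_eq x₀ (u • x₀)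
        rw [mem_bot] at hn
        subst hn
        have : (1 : G) • x₀ = u • x₀ := hn'
        rw [one_smul] at this
        exact hy₀ this.symm
      · subst hN
        obtain ⟨d, hd, hd1⟩ : ∃ d ∈ D, d ≠ 1 := by
          by_contra hcon
          push Not at hcon
          apply hD1
          rw [eq_bot_iff]
          intro d hd
          rw [mem_bot]; exact hcon d hd
        refine ⟨x₀, ?_⟩
        intro hbot
        have hmem : (⟨d, mem_top d⟩ : (⊤ : Subgroup G)) ∈ (⊥ : Subgroup (⊤ : Subgroup G)) := by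
          rw [← hbot, mem_stabilizer_iff]
          have : d ∈ stabilizer G x₀ := by rw [hst]; exact h.hDN hd
          exact this
        have h1 := Subgroup.mem_bot.mp hmem
        exact hd1 (congrArg Subtype.val h1)
  -- apply Zassenhaus' theorem
  have : Fintype (G ⧸ H) := Fintype.ofFinite _
  have hQle : Q ≤ stabilizer G x₀ := by rw [hst]; exact h.hQN
  have hQn : (Q.subgroupOf (stabilizer G x₀)).Normal := by
    rw [hst]; exact Subgroup.normal_in_normalizer
  have hcomm : ∀ x ∈ Q, ∀ y ∈ Q, x * y = y * x := fun x hx y hy => h.comm hx hy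
  have hreg := h.reg hst hcop hcard
  rcases Cfsg.Agent.Lib.Helper3.ZT.zassenhaus_abelian hZ hy₀.symm hQle hQn hcomm hreg with h3 | h3
  · -- sharply triply transitive: impossible by counting
    exfalso
    obtain ⟨h3t, -⟩ := h3
    let S : Set (G ⧸ H) := ({x₀, u • x₀} : Set (G ⧸ H))ᶜ
    have hScard : Nat.card S = q - 1 := by
      rw [Nat.card_coe_set_eq, Set.ncard_compl, Set.ncard_pair hy₀.symm, hcard]
      omega
    have hmemS : ∀ z : G ⧸ H, z ∈ S ↔ z ≠ x₀ ∧ z ≠ u • x₀ := by
      intro z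
      simp only [S, Set.mem_compl_iff, Set.mem_insert_iff, Set.mem_singleton_iff, not_or]
    have hcS : a • (u • x₀) ∈ S := (hmemS _).mpr ⟨hc2, hc1⟩
    let f : D → S := fun d => ⟨(d : G) • (a • (u • x₀)), by
      rw [hmemS]
      have hdx : (d : G) • x₀ = x₀ := by
        have : (d : G) ∈ stabilizer G x₀ := by rw [hst]; exact h.hDN d.2
        exact this
      constructor
      · intro h1
        apply hc2
        have : (d : G) • (a • (u • x₀)) = (d : G) • x₀ := by rw [h1, hdx]
        exact smul_left_cancel _ this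
      · intro h1
        apply hc1
        have : (d : G) • (a • (u • x₀)) = (d : G) • (u • x₀) := by rw [h1, hDy d d.2]
        exact smul_left_cancel _ this⟩
    have hsurj : Function.Surjective f := by
      rintro ⟨z, hz⟩
      rw [hmemS] at hz
      obtain ⟨g, hg1, hg2, hg3⟩ := Cfsg.Agent.Lib.Helper3.ZT.trans3_of_pretransitive h3t
        hy₀.symm hc2.symm hc1.symm hy₀.symm hz.1.symm hz.2.symm
      have hgD : g ∈ D := h.stab2 hst hcop hy₀ hDy hg1 hg2
      exact ⟨⟨g, hgD⟩, Subtype.ext hg3⟩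
    have hle := Nat.card_le_card_of_surjective f hsurj
    rw [hScard] at hle
    have hdpos : 0 < d := Nat.card_pos
    omega
  · obtain ⟨-, K, fK, ftK, hodd, -, hiso⟩ := h3
    exact ⟨K, fK, ftK, hodd, hiso⟩

end Cfsg.Agent.Lib.Helper3.BSWGlue
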