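import Cfsg.Agent.Lib.Helper47.FLDefs
import Cfsg.Agent.Lib.Helper47.FrakLSz
import Cfsg.Agent.Lib.Helper6.SzInv

set_option autoImplicit false

/-! # FL hive (S2863), leaf GP-SZ-FREE: `goodPair_Sz_free` -/

namespace Cfsg.Agent.Lib.Helper47.FL

open Cfsg Cfsg.Agent.Lib.Helper6.Sz Cfsg.Agent.Lib.Helper47

section dih

variable {X : Type*} [Group X]

/-- in a dihedral group `⟨y, y'⟩` with `y y'` of odd order `2 j - 1`, the element `(y y')^j`
conjugates `y'` to `y`. -/
theorem szfree_dihedral {y y' : X} (hy : y * y = 1) (hy' : y' * y' = 1) {j : ℕ} (hj : 1 ≤ j)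
    (hr : (y * y') ^ (2 * j - 1) = 1) :
    (y * y') ^ j * y' * ((y * y') ^ j)⁻¹ = y := by
  have hyinv : y⁻¹ = y := inv_eq_of_mul_eq_one_left hy
  have hy'inv : y'⁻¹ = y' := inv_eq_of_mul_eq_one_left hy'
  -- `y' * r^k * y' = r^(-k)`, in the form `y' * r^k = (r^k)⁻¹ * y'`
  have hinv : y' * (y * y') * y' = (y * y')⁻¹ := by
    rw [mul_inv_rev, hyinv, hy'inv]
    calc y' * (y * y') * y' = y' * y * (y' * y') := by group
      _ = y' * y := by rw [hy', mul_one]
  have hconj : ∀ k : ℕ, y' * (y * y') ^ k * y' = ((y * y') ^ k)⁻¹ := by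
    intro k
    induction k with
    | zero => simp [hy']
    | succ k ih =>
      calc y' * (y * y') ^ (k + 1) * y'
          = (y' * (y * y') ^ k * y') * (y' * (y * y') * y') := by
            rw [pow_succ]
            calc y' * ((y * y') ^ k * (y * y')) * y'
                = y' * (y * y') ^ k * 1 * (y * y') * y' := by group
              _ = y' * (y * y') ^ k * (y' * y') * (y * y') * y' := by rw [hy']
              _ = (y' * (y * y') ^ k * y') * (y' * (y * y') * y') := by group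
        _ = ((y * y') ^ k)⁻¹ * (y * y')⁻¹ := by rw [ih, hinv]
        _ = ((y * y') ^ (k + 1))⁻¹ := by
            have e : ((y * y') ^ (k + 1))⁻¹ = ((y * y') ^ k)⁻¹ * (y * y')⁻¹ := by
              rw [pow_succ', mul_inv_rev]
            exact e.symm
  -- `r^j * y' * r^(-j) = r^j * r^j * y' = r^(2j) * y' = r * y' = y`
  have h1 : y' * ((y * y') ^ j)⁻¹ = (y * y') ^ j * y' := by
    have := hconj j
    calc y' * ((y * y') ^ j)⁻¹ = y' * (y' * (y * y') ^ j * y') := by rw [this]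
      _ = (y' * y') * (y * y') ^ j * y' := by group
      _ = (y * y') ^ j * y' := by rw [hy', one_mul]
  have h2 : (y * y') ^ (2 * j) = y * y' := by
    have : 2 * j = (2 * j - 1) + 1 := by omega
    rw [this, pow_succ, hr, one_mul]
  calc (y * y') ^ j * y' * ((y * y') ^ j)⁻¹
      = (y * y') ^ j * (y' * ((y * y') ^ j)⁻¹) := by group
    _ = (y * y') ^ j * ((y * y') ^ j * y') := by rw [h1]
    _ = (y * y') ^ (2 * j) * y' := by rw [two_mul, pow_add]; group
    _ = y * y' * y' := by rw [h2]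
    _ = y * (y' * y') := by group
    _ = y := by rw [hy', mul_one]

end dih

section sz

variable {F : Type*} [Field F] [CharP F 2] [Finite F] (s : F →+* F)
  (hs : ∀ x, s (s x) = x ^ 2)

include hs in
/-- distinct conjugates of `Z(Q)` meet trivially. -/
theorem szfree_szZ_ti (hnt : ∃ y : F, s y ≠ y ^ 2) {x z : G s} (hz : z ∈ szZ s hs) (hz1 : z ≠ 1)
    (hzx : z ∈ cj x (szZ s hs)) : cj x (szZ s hs) = szZ s hs := by
  obtain ⟨c, rfl⟩ := hz
  obtain ⟨w, hw, hwx⟩ := mem_cj.mp hzx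
  obtain ⟨c', rfl⟩ := hw
  have hc : c ≠ 0 := by
    rintro rfl
    exact hz1 (Tg_zero s hs)
  -- `x • ∞` is fixed by `Tg 0 c`
  have hfix : Tg s hs 0 c • (x • oinf s) = x • oinf s := by
    rw [← hwx, mul_smul, mul_smul, inv_smul_smul, Tg_smul_oinf]
  have h1 : x • oinf s = oinf s :=
    Tg_fix_only s hs (a := 0) (b := c) (fun h => hc h.2) hfix
  have hxB : x ∈ Bs s := MulAction.mem_stabilizer_iff.mpr h1
  obtain ⟨a, b, t, hx⟩ := exists_Tg_Dg s hs hnt ⟨x, hxB⟩
  have hx' : x = Tg s hs a b * Dg s hs t := hx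
  rw [cj_eq_self_iff, hx']
  exact TD_mem_normalizer_szZ s hs a b t

include hs in
/-- an elementary abelian subgroup of order `q` is a conjugate of `Z(Q)`. -/
theorem szfree_exists_conj (hnt : ∃ y : F, s y ≠ y ^ 2) {k : ℕ} (hk : Nat.card F = 2 ^ k)
    {P : Subgroup (G s)} (hexp : ∀ a ∈ P, a ^ 2 = 1) (hcard : Nat.card ↥P = Nat.card F) :
    ∃ x : G s, cj x P = szZ s hs := by
  have hPp : IsPGroup 2 ↥P := by
    intro g
    refine ⟨1, ?_⟩
    apply Subtype.ext
    rw [pow_one]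
    exact hexp g g.2
  obtain ⟨S, hPS⟩ := hPp.exists_le_sylow
  obtain ⟨x, hx⟩ := MulAction.exists_smul_eq (G s) S (Q0 s hs hnt hk)
  have hQ : ((Q0 s hs hnt hk : Sylow 2 (G s)) : Subgroup (G s)) =
      (S : Subgroup (G s)).map (MulAut.conj x).toMonoidHom := by
    rw [← hx]; rfl
  have h7 : ((Q0 s hs hnt hk : Sylow 2 (G s)) : Subgroup (G s)) = Qs s hs := rfl
  refine ⟨x, ?_⟩
  apply Subgroup.eq_of_le_of_card_ge
  · intro g hg
    obtain ⟨a, ha, rfl⟩ := mem_cj.mp hg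
    apply mem_szZ_of_sq s hs
    · rw [← h7, hQ]
      exact ⟨a, hPS ha, rfl⟩
    · have h2 := hexp a ha
      calc (x * a * x⁻¹) ^ 2 = x * a ^ 2 * x⁻¹ := by rw [sq, sq]; group
        _ = 1 := by rw [h2]; group
  · rw [card_szZ, card_cj, hcard]

include hs in
/-- LEAF GP-SZ-FREE. -/
theorem goodPair_Sz_free (hnt : ∃ y : F, s y ≠ y ^ 2) {m : ℕ} (hm : 1 ≤ m)
    (hk : Nat.card F = 2 ^ (2 * m + 1)) {P : Subgroup (G s)} (hexp : ∀ a ∈ P, a ^ 2 = 1)
    (hcard : Nat.card ↥P = Nat.card F) :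
    ∀ y ∈ P, y ≠ 1 → ∃ g : G s, cj g P ≠ P ∧ ∃ y' ∈ cj g P,
      ∃ n ∈ Subgroup.closure ({y, y'} : Set (G s)), cj n (cj g P) = P := by
  intro y hyP hy1
  have hy2 : y ^ 2 = 1 := hexp y hyP
  have hyy : y * y = 1 := by rw [← sq]; exact hy2
  -- an odd prime divisor of `q² + 1`
  set N := Nat.card F ^ 2 + 1 with hN
  have hNodd : ¬ 2 ∣ N := by
    rw [hN, hk]
    have : (2 ^ (2 * m + 1)) ^ 2 = 2 * (2 ^ (2 * m) * 2 ^ (2 * m + 1)) := by ring
    rw [this]
    omega
  have hN1 : N ≠ 1 := by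
    rw [hN, hk]
    have : 0 < (2 ^ (2 * m + 1)) ^ 2 := by positivity
    omega
  obtain ⟨p, hp, hpN⟩ := Nat.exists_prime_and_dvd hN1
  have hp2 : p ≠ 2 := by
    rintro rfl
    exact hNodd hpN
  haveI : Fact p.Prime := ⟨hp⟩
  obtain ⟨g, hg⟩ := exists_conj_prod_order s hs hnt hm hk hp2 hpN hy2 hy1
  set y' := g * y * g⁻¹ with hy'def
  have hy'mem : y' ∈ cj g P := conj_mem_cj hyP
  have hy'y' : y' * y' = 1 := by
    rw [hy'def]
    calc g * y * g⁻¹ * (g * y * g⁻¹) = g * (y * y) * g⁻¹ := by group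
      _ = 1 := by rw [hyy]; group
  have hpodd : Odd p := hp.odd_of_ne_two hp2
  obtain ⟨j0, hj0⟩ := hpodd
  -- `p = 2 * (j0 + 1) - 1`
  have hpow : (y * y') ^ (2 * (j0 + 1) - 1) = 1 := by
    have : 2 * (j0 + 1) - 1 = p := by omega
    rw [this, ← hg]
    exact pow_orderOf_eq_one _
  refine ⟨g, ?_, y', hy'mem, (y * y') ^ (j0 + 1), ?_, ?_⟩
  · -- `cj g P ≠ P`
    intro h
    rw [h] at hy'mem
    have h1 : (y * y') ^ 2 = 1 := hexp _ (P.mul_mem hyP hy'mem)
    have h2 : p ∣ 2 := by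
      rw [← hg]
      exact orderOf_dvd_of_pow_eq_one h1
    have := (Nat.prime_dvd_prime_iff_eq hp Nat.prime_two).1 h2
    exact hp2 this
  · apply Subgroup.pow_mem
    apply Subgroup.mul_mem
    · exact Subgroup.subset_closure (by simp)
    · exact Subgroup.subset_closure (by simp)
  · -- the conjugate `cj n (cj g P)` contains `y`
    set n := (y * y') ^ (j0 + 1) with hn
    have hconj : n * y' * n⁻¹ = y := szfree_dihedral hyy hy'y' (by omega) hpow
    have hymem : y ∈ cj n (cj g P) := by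
      rw [← hconj]
      exact conj_mem_cj hy'mem
    rw [← cj_mul] at hymem ⊢
    -- transport to `szZ`
    obtain ⟨x, hx⟩ := szfree_exists_conj s hs hnt hk hexp hcard
    -- `P = cj x⁻¹ szZ`
    have hP : P = cj x⁻¹ (szZ s hs) := by rw [← hx, cj_inv_cj]
    have hz : x * y * x⁻¹ ∈ szZ s hs := by
      rw [← hx]
      exact conj_mem_cj hyP
    have hz1 : x * y * x⁻¹ ≠ 1 := by
      intro h
      apply hy1
      calc y = x⁻¹ * (x * y * x⁻¹) * x := by group
        _ = 1 := by rw [h]; group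
    have hzx : x * y * x⁻¹ ∈ cj (x * (n * g) * x⁻¹) (szZ s hs) := by
      rw [cj_mul, cj_mul, ← hP]
      exact conj_mem_cj hymem
    have hti := szfree_szZ_ti s hs hnt hz hz1 hzx
    -- conclude
    calc cj (n * g) P = cj x⁻¹ (cj (x * (n * g) * x⁻¹) (szZ s hs)) := by
          rw [hP, ← cj_mul, ← cj_mul]
          congr 1
          group
      _ = cj x⁻¹ (szZ s hs) := by rw [hti]
      _ = P := hP.symm

end sz

end Cfsg.Agent.Lib.Helper47.FL
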