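import Mathlib

set_option autoImplicit false
set_option linter.style.haveILetI false
set_option linter.unusedSectionVars false

/-!
Group theoretic lemmas for the Feit–Thompson refinement of Blichfeldt's theorem: the structure of a
minimal group whose Sylow `p`-subgroup is not normal.
-/

namespace Cfsg.Agent.Lib.Helper3

universe u

open scoped Pointwise

section Transport

/-- Normality of all Sylow subgroups is transported along isomorphisms. -/
theorem sylow_normal_of_mulEquiv {p : ℕ} [Fact p.Prime] {K K' : Type*} [Group K] [Group K']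
    (e : K ≃* K') (h : ∀ Q : Sylow p K', (Q : Subgroup K').Normal) :
    ∀ Q : Sylow p K, (Q : Subgroup K).Normal := by
  intro Q
  have hinj : Function.Injective e.symm.toMonoidHom := e.symm.injective
  have hle : (Q : Subgroup K) ≤ e.symm.toMonoidHom.range := by
    intro x _
    exact ⟨e x, e.symm_apply_apply x⟩
  have hQ' : ((Q.comapOfInjective e.symm.toMonoidHom hinj hle : Sylow p K') :
      Subgroup K').Normal := h _
  rw [Sylow.coe_comapOfInjective] at hQ'
  have h1 : (Q : Subgroup K) = ((Q : Subgroup K).comap e.symm.toMonoidHom).comap e.toMonoidHom := by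
    ext x
    simp [Subgroup.mem_comap]
  rw [h1]
  exact hQ'.comap _

end Transport

section Basic

variable {G : Type u} [Group G]

/-- Membership in a conjugate Sylow subgroup. -/
theorem mem_smul_sylow_iff {p : ℕ} (g : G) (P : Sylow p G) (x : G) :
    x ∈ (g • P : Sylow p G) ↔ g⁻¹ * x * g ∈ P := by
  show x ∈ (MulAut.conj g • (P : Subgroup G)) ↔ g⁻¹ * x * g ∈ (P : Subgroup G)
  rw [Subgroup.mem_pointwise_smul_iff_inv_smul_mem, MulAut.smul_def, MulAut.conj_inv_apply]

/-- If every Sylow `p`-subgroup of the subgroup `K` is normal in `K`, then `K` has a largest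
`p`-subgroup. -/
theorem exists_top_pSubgroup [Finite G] {p : ℕ} [Fact p.Prime] (K : Subgroup G)
    (h : ∀ Q : Sylow p K, (Q : Subgroup K).Normal) :
    ∃ S : Subgroup G, S ≤ K ∧ IsPGroup p S ∧
      ∀ R : Subgroup G, R ≤ K → IsPGroup p R → R ≤ S := by
  obtain ⟨Q⟩ : Nonempty (Sylow p K) := inferInstance
  refine ⟨(Q : Subgroup K).map K.subtype, ?_, ?_, ?_⟩
  · exact Subgroup.map_subtype_le _
  · exact Q.2.map K.subtype
  · intro R hRK hR
    have hR' : IsPGroup p (R.subgroupOf K) := hR.comap_subtype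
    obtain ⟨Q', hQ'⟩ := hR'.exists_le_sylow
    have hQQ : Q' = Q := by
      haveI := Sylow.unique_of_normal Q (h Q)
      exact Subsingleton.elim _ _
    intro x hx
    refine ⟨⟨x, hRK hx⟩, ?_, rfl⟩
    rw [← hQQ]
    exact hQ' (Subgroup.mem_subgroupOf.mpr hx)

/-- The largest `p`-subgroup of a normal subgroup is normal. -/
theorem normal_of_top_pSubgroup {p : ℕ} {M S : Subgroup G} [hM : M.Normal] (hS : S ≤ M)
    (hSp : IsPGroup p S) (hmax : ∀ R : Subgroup G, R ≤ M → IsPGroup p R → R ≤ S) : S.Normal := by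
  refine ⟨fun s hs g => ?_⟩
  have h1 : S.map (MulAut.conj g).toMonoidHom ≤ M := by
    rintro _ ⟨t, ht, rfl⟩
    exact hM.conj_mem t (hS ht) g
  have h2 : IsPGroup p (S.map (MulAut.conj g).toMonoidHom) := hSp.map _
  exact hmax _ h1 h2 ⟨s, hs, rfl⟩

/-- A subgroup containing the commutator subgroup is normal. -/
theorem normal_of_commutator_le' {H : Subgroup G} (h : commutator G ≤ H) : H.Normal := by
  refine ⟨fun x hx g => ?_⟩
  have h1 : g * x * g⁻¹ * x⁻¹ ∈ commutator G := by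
    rw [commutator_def]
    exact Subgroup.commutator_mem_commutator (Subgroup.mem_top g) (Subgroup.mem_top x)
  have h2 : g * x * g⁻¹ = (g * x * g⁻¹ * x⁻¹) * x := by group
  rw [h2]
  exact H.mul_mem (h h1) hx

/-- Membership in the image of `P` in `G ⧸ Z` when `Z ≤ P`. -/
theorem mk_mem_map_iff (P Z : Subgroup G) [Z.Normal] (hZP : Z ≤ P) (g : G) :
    ((g : G ⧸ Z) ∈ P.map (QuotientGroup.mk' Z)) ↔ g ∈ P := by
  constructor
  · rintro ⟨x, hx, hxg⟩
    have h1 : x⁻¹ * g ∈ Z := QuotientGroup.eq.mp hxg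
    have h2 : g = x * (x⁻¹ * g) := by group
    rw [h2]
    exact P.mul_mem hx (hZP h1)
  · intro hg
    exact ⟨g, hg, rfl⟩

/-- Membership in a conjugate of the image of a Sylow subgroup in `G ⧸ Z`. -/
theorem mk_mem_map_conj_iff {p : ℕ} (P : Sylow p G) (Z : Subgroup G) [Z.Normal]
    (hZP : Z ≤ (P : Subgroup G)) (a₀ x : G) :
    (x : G ⧸ Z) ∈ ((P : Subgroup G).map (QuotientGroup.mk' Z)).map
      (MulAut.conj (a₀ : G ⧸ Z)).toMonoidHom ↔ x ∈ (a₀ • P : Sylow p G) := by
  rw [Subgroup.mem_map_equiv, MulAut.conj_symm_apply, mem_smul_sylow_iff]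
  have h1 : ((a₀ : G ⧸ Z))⁻¹ * (x : G ⧸ Z) * (a₀ : G ⧸ Z) = ((a₀⁻¹ * x * a₀ : G) : G ⧸ Z) := rfl
  rw [h1, mk_mem_map_iff _ Z hZP]
  rfl

/-- A subgroup of the centre is normal. -/
theorem normal_of_le_center' {H : Subgroup G} (h : H ≤ Subgroup.center G) : H.Normal := by
  refine ⟨fun x hx g => ?_⟩
  have h1 : g * x = x * g := (Subgroup.mem_center_iff.mp (h hx)) g
  rw [h1, mul_inv_cancel_right]
  exact hx

end Basic

section Transfer

variable {G : Type u} [Group G] [Finite G]

open scoped IsMulCommutative in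
/-- **Transfer.** A central element of an abelian Sylow `p`-subgroup lying in the commutator
subgroup is trivial. -/
theorem eq_one_of_mem_center_of_mem_commutator {p : ℕ} [hp : Fact p.Prime] (P : Sylow p G)
    (hab : ∀ a ∈ (P : Subgroup G), ∀ b ∈ (P : Subgroup G), a * b = b * a) {z : G}
    (hzP : z ∈ (P : Subgroup G)) (hzc : z ∈ Subgroup.center G) (hzG : z ∈ commutator G) :
    z = 1 := by
  haveI : IsMulCommutative (P : Subgroup G) := ⟨⟨fun a b => Subtype.ext (hab a a.2 b b.2)⟩⟩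
  have key : ∀ (k : ℕ) (g₀ : G), g₀⁻¹ * z ^ k * g₀ ∈ (P : Subgroup G) →
      g₀⁻¹ * z ^ k * g₀ = z ^ k := by
    intro k g₀ _
    have h1 : z ^ k ∈ Subgroup.center G := (Subgroup.center G).pow_mem hzc k
    have h2 := (Subgroup.mem_center_iff.mp h1) g₀
    rw [mul_assoc, ← h2, inv_mul_cancel_left]
  have h1 := MonoidHom.transfer_eq_pow (MonoidHom.id (P : Subgroup G)) z key
  have h2 : MonoidHom.transfer (MonoidHom.id (P : Subgroup G)) z = 1 := by
    have h3 : commutator G ≤ (MonoidHom.transfer (MonoidHom.id (P : Subgroup G))).ker :=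
      Abelianization.commutator_subset_ker _
    exact h3 hzG
  rw [h2] at h1
  have h4 : z ^ (P : Subgroup G).index = 1 := by
    have := congrArg Subtype.val h1
    simpa using this.symm
  obtain ⟨k, hk⟩ := P.2 ⟨z, hzP⟩
  have h5 : z ^ p ^ k = 1 := by
    have := congrArg Subtype.val hk
    simpa using this
  have h6 : orderOf z ∣ (P : Subgroup G).index := orderOf_dvd_of_pow_eq_one h4
  have h7 : orderOf z ∣ p ^ k := orderOf_dvd_of_pow_eq_one h5
  have h8 : Nat.Coprime ((P : Subgroup G).index) (p ^ k) := by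
    apply Nat.Coprime.pow_right
    rw [Nat.coprime_comm]
    exact (Nat.Prime.coprime_iff_not_dvd hp.out).mpr P.not_dvd_index
  have h9 : orderOf z = 1 := Nat.eq_one_of_dvd_coprimes h8 h6 h7
  exact orderOf_eq_one_iff.mp h9

end Transfer

section MinCE

variable {G : Type u} [Group G] [Finite G] {p : ℕ} [hp : Fact p.Prime]

/-- A Sylow subgroup which is not normal has a different conjugate. -/
theorem exists_smul_ne_of_not_normal (P : Sylow p G) (hP : ¬ (P : Subgroup G).Normal) :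
    ∃ g : G, g • P ≠ P := by
  by_contra h
  push Not at h
  apply hP
  have : Subsingleton (Sylow p G) := ⟨fun Q R => by
    obtain ⟨x, hx⟩ := MulAction.exists_smul_eq G P Q
    obtain ⟨y, hy⟩ := MulAction.exists_smul_eq G P R
    rw [← hx, ← hy, h x, h y]⟩
  exact Sylow.normal_of_subsingleton P

variable (hmin : ∀ K : Subgroup G, K ≠ ⊤ → ∃ S : Subgroup G, S ≤ K ∧ IsPGroup p S ∧
    ∀ R : Subgroup G, R ≤ K → IsPGroup p R → R ≤ S)
  (hab : ∀ Q : Subgroup G, IsPGroup p Q → ∀ a ∈ Q, ∀ b ∈ Q, a * b = b * a)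

include hmin hab in
/-- In a minimal situation, distinct (abelian) Sylow subgroups intersect in the centre. -/
theorem sylow_inf_le_center (P₁ P₂ : Sylow p G) (hne : P₁ ≠ P₂) :
    (P₁ : Subgroup G) ⊓ P₂ ≤ Subgroup.center G := by
  intro d hd
  by_contra hdc
  have hK : Subgroup.centralizer (((P₁ : Subgroup G) ⊓ P₂ : Subgroup G) : Set G) ≠ ⊤ := by
    intro h
    apply hdc
    rw [Subgroup.mem_center_iff]
    intro g
    have hg : g ∈ Subgroup.centralizer (((P₁ : Subgroup G) ⊓ P₂ : Subgroup G) : Set G) := by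
      rw [h]
      exact Subgroup.mem_top g
    exact ((Subgroup.mem_centralizer_iff.mp hg) d hd).symm
  obtain ⟨S, _, hSp, hSmax⟩ := hmin _ hK
  have h1 : (P₁ : Subgroup G) ≤
      Subgroup.centralizer (((P₁ : Subgroup G) ⊓ P₂ : Subgroup G) : Set G) := by
    intro x hx
    rw [Subgroup.mem_centralizer_iff]
    intro y hy
    exact hab _ P₁.2 y hy.1 x hx
  have h2 : (P₂ : Subgroup G) ≤
      Subgroup.centralizer (((P₁ : Subgroup G) ⊓ P₂ : Subgroup G) : Set G) := by
    intro x hx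
    rw [Subgroup.mem_centralizer_iff]
    intro y hy
    exact hab _ P₂.2 y hy.2 x hx
  have h5 : S = P₁ := P₁.is_maximal' hSp (hSmax _ h1 P₁.2)
  have h6 : S = P₂ := P₂.is_maximal' hSp (hSmax _ h2 P₂.2)
  exact hne (Sylow.ext (h5.symm.trans h6))

include hmin in
/-- In a minimal situation, a non-normal Sylow subgroup lies in no proper normal subgroup. -/
theorem normal_closure_sylow_eq_top (P : Sylow p G) (hP : ¬ (P : Subgroup G).Normal)
    (M : Subgroup G) (hM : M.Normal) (hPM : (P : Subgroup G) ≤ M) : M = ⊤ := by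
  by_contra hne
  obtain ⟨S, hSM, hSp, hSmax⟩ := hmin M hne
  have h1 : S = P := P.is_maximal' hSp (hSmax _ hPM P.2)
  apply hP
  rw [← h1]
  exact normal_of_top_pSubgroup hSM hSp hSmax

include hmin hab in
/-- In a minimal situation, an element of a non-normal Sylow subgroup `P` which is central modulo
`P ∩ Z(G)` is central. -/
theorem mem_center_of_commutators_mem (P : Sylow p G) (hP : ¬ (P : Subgroup G).Normal)
    {x : G} (hx : x ∈ (P : Subgroup G))
    (h : ∀ g : G, g * x * g⁻¹ * x⁻¹ ∈ (P : Subgroup G) ⊓ Subgroup.center G) :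
    x ∈ Subgroup.center G := by
  obtain ⟨g, hg⟩ := exists_smul_ne_of_not_normal P hP
  have h1 : g * x * g⁻¹ ∈ (P : Subgroup G) := by
    have h2 : g * x * g⁻¹ = (g * x * g⁻¹ * x⁻¹) * x := by group
    rw [h2]
    exact (P : Subgroup G).mul_mem (h g).1 hx
  have h3 : g * x * g⁻¹ ∈ ((g • P : Sylow p G) : Subgroup G) := by
    show g * x * g⁻¹ ∈ (g • P : Sylow p G)
    rw [mem_smul_sylow_iff]
    have : g⁻¹ * (g * x * g⁻¹) * g = x := by group
    rw [this]
    exact hx
  have h4 := sylow_inf_le_center hmin hab (g • P) P hg ⟨h3, h1⟩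
  have h5 : g⁻¹ * (g * x * g⁻¹) * g⁻¹⁻¹ ∈ Subgroup.center G :=
    (inferInstance : (Subgroup.center G).Normal).conj_mem _ h4 g⁻¹
  have h6 : g⁻¹ * (g * x * g⁻¹) * g⁻¹⁻¹ = x := by group
  rw [h6] at h5
  exact h5

section Quot

variable (P : Sylow p G) (hP : ¬ (P : Subgroup G).Normal) (Z : Subgroup G) [hZn : Z.Normal]
  (hZ : Z = (P : Subgroup G) ⊓ Subgroup.center G)

include hmin hab hP hZ in
/-- The image of `P` in `G ⧸ Z` meets the centre trivially. -/
theorem quot_inf_center_eq_bot :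
    (P : Subgroup G).map (QuotientGroup.mk' Z) ⊓ Subgroup.center (G ⧸ Z) = ⊥ := by
  rw [eq_bot_iff]
  rintro q ⟨⟨x, hx, rfl⟩, hq⟩
  rw [Subgroup.mem_bot]
  have h : ∀ g : G, g * x * g⁻¹ * x⁻¹ ∈ (P : Subgroup G) ⊓ Subgroup.center G := by
    intro g
    rw [← hZ, ← QuotientGroup.eq_one_iff]
    have h1 := (Subgroup.mem_center_iff.mp hq) (g : G ⧸ Z)
    have h2 : ((g * x * g⁻¹ * x⁻¹ : G) : G ⧸ Z) =
        (g : G ⧸ Z) * (QuotientGroup.mk' Z x) * (g : G ⧸ Z)⁻¹ * (QuotientGroup.mk' Z x)⁻¹ := rfl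
    rw [h2, h1]
    group
  have hxc := mem_center_of_commutators_mem hmin hab P hP hx h
  show ((x : G) : G ⧸ Z) = 1
  rw [QuotientGroup.eq_one_iff, hZ]
  exact ⟨hx, hxc⟩

include hmin hP in
/-- The image of `P` in `G ⧸ Z` lies in no proper normal subgroup. -/
theorem quot_normal_closure_eq_top (Mb : Subgroup (G ⧸ Z)) (hMb : Mb.Normal)
    (hle : (P : Subgroup G).map (QuotientGroup.mk' Z) ≤ Mb) : Mb = ⊤ := by
  have h1 : Mb.comap (QuotientGroup.mk' Z) = ⊤ :=
    normal_closure_sylow_eq_top hmin P hP _ (hMb.comap _) (Subgroup.map_le_iff_le_comap.mp hle)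
  rw [eq_top_iff]
  intro q _
  obtain ⟨g, rfl⟩ := QuotientGroup.mk'_surjective Z q
  have : g ∈ Mb.comap (QuotientGroup.mk' Z) := by
    rw [h1]
    exact Subgroup.mem_top g
  exact this

include hmin hab hZ in
/-- The centralizer condition of the Feit–Thompson lemma holds in `G ⧸ Z`. -/
theorem quot_centralizer_cond (q : G ⧸ Z) (hq : q ∉ Subgroup.center (G ⧸ Z)) (a b : G ⧸ Z)
    (ha : Subgroup.centralizer ({q} : Set (G ⧸ Z)) ⊓
      ((P : Subgroup G).map (QuotientGroup.mk' Z)).map (MulAut.conj a).toMonoidHom ≠ ⊥)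
    (hb : Subgroup.centralizer ({q} : Set (G ⧸ Z)) ⊓
      ((P : Subgroup G).map (QuotientGroup.mk' Z)).map (MulAut.conj b).toMonoidHom ≠ ⊥) :
    ((P : Subgroup G).map (QuotientGroup.mk' Z)).map (MulAut.conj a).toMonoidHom =
      ((P : Subgroup G).map (QuotientGroup.mk' Z)).map (MulAut.conj b).toMonoidHom := by
  have hZP : Z ≤ (P : Subgroup G) := by rw [hZ]; exact inf_le_left
  -- the preimage of the centralizer
  have hL : (Subgroup.centralizer ({q} : Set (G ⧸ Z))).comap (QuotientGroup.mk' Z) ≠ ⊤ := by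
    intro h
    apply hq
    rw [Subgroup.mem_center_iff]
    intro w
    obtain ⟨g, rfl⟩ := QuotientGroup.mk'_surjective Z w
    have hg : g ∈ (Subgroup.centralizer ({q} : Set (G ⧸ Z))).comap (QuotientGroup.mk' Z) := by
      rw [h]
      exact Subgroup.mem_top g
    rw [Subgroup.mem_comap, Subgroup.mem_centralizer_singleton_iff] at hg
    exact hg
  obtain ⟨S, _, hSp, hSmax⟩ := hmin _ hL
  obtain ⟨P₃, hSP₃⟩ := hSp.exists_le_sylow
  have key : ∀ c : G ⧸ Z, Subgroup.centralizer ({q} : Set (G ⧸ Z)) ⊓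
      ((P : Subgroup G).map (QuotientGroup.mk' Z)).map (MulAut.conj c).toMonoidHom ≠ ⊥ →
      ∀ c₀ : G, (c₀ : G ⧸ Z) = c → c₀ • P = P₃ := by
    intro c hc c₀ hc₀
    obtain ⟨⟨w, hw⟩, hw1⟩ := (Subgroup.ne_bot_iff_exists_ne_one).mp hc
    have hw1' : w ≠ 1 := fun h => hw1 (Subtype.ext h)
    obtain ⟨x, rfl⟩ := QuotientGroup.mk'_surjective Z w
    have hxP : x ∈ (c₀ • P : Sylow p G) := by
      rw [← mk_mem_map_conj_iff P Z hZP, hc₀]
      exact hw.2
    have hxL : x ∈ (Subgroup.centralizer ({q} : Set (G ⧸ Z))).comap (QuotientGroup.mk' Z) :=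
      hw.1
    have hxZ : x ∉ Z := by
      intro h
      apply hw1'
      exact (QuotientGroup.eq_one_iff x).mpr h
    have hzp : IsPGroup p (Subgroup.zpowers x) :=
      (c₀ • P : Sylow p G).2.to_le ((Subgroup.zpowers_le).mpr hxP)
    have hxS : x ∈ S := hSmax _ ((Subgroup.zpowers_le).mpr hxL) hzp (Subgroup.mem_zpowers x)
    by_contra hne
    have hxc := sylow_inf_le_center hmin hab (c₀ • P) P₃ hne ⟨hxP, hSP₃ hxS⟩
    apply hxZ
    rw [hZ]
    refine ⟨?_, hxc⟩
    rw [mem_smul_sylow_iff] at hxP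
    have h1 : c₀⁻¹ * x * c₀ = x := by
      have := (Subgroup.mem_center_iff.mp hxc) c₀⁻¹
      rw [this, inv_mul_cancel_right]
    rw [h1] at hxP
    exact hxP
  obtain ⟨a₀, rfl⟩ := QuotientGroup.mk'_surjective Z a
  obtain ⟨b₀, rfl⟩ := QuotientGroup.mk'_surjective Z b
  have h1 := key _ ha a₀ rfl
  have h2 := key _ hb b₀ rfl
  ext w
  obtain ⟨x, rfl⟩ := QuotientGroup.mk'_surjective Z w
  show (x : G ⧸ Z) ∈ _ ↔ (x : G ⧸ Z) ∈ _
  have e1 := mk_mem_map_conj_iff P Z hZP a₀ x
  have e2 := mk_mem_map_conj_iff P Z hZP b₀ x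
  rw [h1] at e1
  rw [h2] at e2
  exact e1.trans e2.symm

end Quot

include hmin hab in
/-- In a minimal situation where the commutator subgroup is proper and meets `P ∩ Z(G)`
trivially, the commutator subgroup is a normal `p`-complement. -/
theorem commutator_isComplement' (P : Sylow p G) (hP : ¬ (P : Subgroup G).Normal)
    (hZtriv : ∀ z ∈ (P : Subgroup G) ⊓ Subgroup.center G, z ∈ commutator G → z = 1)
    (hM : commutator G ≠ ⊤) :
    (Nat.card (commutator G)).Coprime p ∧ Subgroup.IsComplement' (commutator G) P := by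
  obtain ⟨S, hSM, hSp, hSmax⟩ := hmin _ hM
  haveI hSn : S.Normal := normal_of_top_pSubgroup hSM hSp hSmax
  obtain ⟨g, hg⟩ := exists_smul_ne_of_not_normal P hP
  have h1 : S ≤ (P : Subgroup G) := hSp.le_sylow_of_normal P
  have h2 : S ≤ ((g • P : Sylow p G) : Subgroup G) := hSp.le_sylow_of_normal (g • P)
  have h3 : S ≤ Subgroup.center G := fun s hs =>
    sylow_inf_le_center hmin hab (g • P) P hg ⟨h2 hs, h1 hs⟩
  have hS1 : ∀ s ∈ S, s = 1 := fun s hs => hZtriv s ⟨h1 hs, h3 hs⟩ (hSM hs)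
  have hcop : ¬ p ∣ Nat.card (commutator G) := by
    intro hdvd
    obtain ⟨x, hx⟩ := exists_prime_orderOf_dvd_card' p hdvd
    have hzp : IsPGroup p (Subgroup.zpowers (x : G)) := by
      apply IsPGroup.of_card (n := 1)
      rw [Nat.card_zpowers, Subgroup.orderOf_coe, hx, pow_one]
    have hxS : (x : G) ∈ S :=
      hSmax _ ((Subgroup.zpowers_le).mpr x.2) hzp (Subgroup.mem_zpowers _)
    have hx1 : x = 1 := Subtype.ext (hS1 _ hxS)
    rw [hx1, orderOf_one] at hx
    exact hp.out.one_lt.ne hx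
  have hcop' : (Nat.card (commutator G)).Coprime p :=
    ((Nat.Prime.coprime_iff_not_dvd hp.out).mpr hcop).symm
  refine ⟨hcop', ?_⟩
  have htop : commutator G ⊔ (P : Subgroup G) = ⊤ :=
    normal_closure_sylow_eq_top hmin P hP _ (normal_of_commutator_le' le_sup_left) le_sup_right
  refine Subgroup.isComplement'_of_disjoint_and_mul_eq_univ ?_ ?_
  · apply Subgroup.disjoint_of_coprime_natCard
    obtain ⟨k, hk⟩ := IsPGroup.iff_card.mp P.2
    rw [hk]
    exact Nat.Coprime.pow_right _ hcop'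
  · rw [← Subgroup.normal_mul, htop, Subgroup.coe_top]

end MinCE

end Cfsg.Agent.Lib.Helper3
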