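import Mathlib
import Cfsg.Agent.Lib.Helper3.CharOps
import Cfsg.Agent.Lib.Helper79.Basic
import Cfsg.Agent.Lib.Helper81.FTLemma
import Cfsg.Agent.Lib.Helper76.CentralChar
import Cfsg.Agent.S1492
import Cfsg.Agent.Lib.Helper3.FTBGroup

set_option autoImplicit false
set_option linter.style.haveILetI false
set_option linter.unusedSectionVars false

/-!
The character theoretic part of the Feit–Thompson refinement of Blichfeldt's theorem: the index of
the central part of an abelian Sylow subgroup is bounded by `(χ(1) + 1) ^ 2`.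
-/

namespace Cfsg.Agent.Lib.Helper3

open Cfsg
open scoped ComplexConjugate
open Cfsg.Agent.Lib.Helper81 (multOne multOne_def multOne_eq_classInner multOne_smul multOne_sum
  multOne_nat irr_apply_one irr_apply_one_ne_zero classInner_self_ge_of_comm ft_claim1
  exists_ne_of_normalClosure_top irr_center_normSq)

universe u

section Claim2

variable {G : Type u} [Group G] [Fintype G]

/-- A variant of the second part of the Feit–Thompson lemma, with an arbitrary number `N` in place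
of the order of `H`, and the hypothesis only required for the constituents of `χ χ̄`. -/
theorem ft_claim2_var (H : Subgroup G) (hab : ∀ a ∈ H, ∀ b ∈ H, a * b = b * a)
    {χ : G → ℂ} (hχ : IsIrrCharacter G χ) (n : ℕ) (hn : χ 1 = (n : ℂ)) (hn1 : n ≠ 1) (N : ℕ)
    (hyp : ∀ ξ : G → ℂ, IsIrrCharacter G ξ → ξ ≠ (fun _ => 1) →
      classInner (χ * (fun g => conj (χ g))) ξ ≠ 0 → ∀ c d : ℕ,
      multOne H ξ = (c : ℂ) → ξ 1 = (d : ℂ) → N * c ^ 2 < d ^ 2) :
    N < (n + 1) ^ 2 := by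
  classical
  have : Fintype (IrrCharacter G) := Fintype.ofFinite _
  have : Fintype H := Fintype.ofFinite H
  have hχc := Cfsg.Agent.Lib.Helper3.IsIrrCharacter.isCharacter hχ
  set Ψ : G → ℂ := χ * (fun g => conj (χ g)) with hΨdef
  have hΨ : IsCharacter G Ψ :=
    Cfsg.Agent.Lib.Helper3.IsCharacter.mul hχc (Cfsg.Agent.Lib.Helper3.IsCharacter.conj hχc)
  have htriv : IsIrrCharacter G (fun _ => (1 : ℂ)) := by
    have := Cfsg.Agent.Lib.Helper79.isIrrCharacter_of_monoidHom (1 : G →* ℂˣ)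
    simpa using this
  let triv : IrrCharacter G := ⟨fun _ => 1, htriv⟩
  -- the data attached to the irreducible characters
  have hN : ∀ ξ : IrrCharacter G, ∃ k : ℕ, classInner Ψ (ξ : G → ℂ) = (k : ℂ) := fun ξ =>
    Cfsg.Agent.Lib.Helper25.classInner_char_nat hΨ
      (Cfsg.Agent.Lib.Helper3.IsIrrCharacter.isCharacter ξ.2)
  choose nn hnn using hN
  have hDg : ∀ ξ : IrrCharacter G, ∃ d : ℕ, d ≠ 0 ∧ (ξ : G → ℂ) 1 = (d : ℂ) := fun ξ =>
    irr_apply_one ξ
  choose dd hdd0 hdd using hDg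
  have hC : ∀ ξ : IrrCharacter G, ∃ c : ℕ, multOne H (ξ : G → ℂ) = (c : ℂ) := fun ξ =>
    multOne_nat H (Cfsg.Agent.Lib.Helper3.IsIrrCharacter.isCharacter ξ.2)
  choose cc hcc using hC
  have hexp := Cfsg.Agent.Lib.Helper3.classFunction_eq_sum
    (Cfsg.Agent.Lib.Helper3.IsCharacter.isClassFunction hΨ)
  have hΨ1 : Ψ = ∑ ξ : IrrCharacter G, (nn ξ : ℂ) • (ξ : G → ℂ) := by
    conv_lhs => rw [hexp]
    exact Finset.sum_congr rfl fun ξ _ => by rw [hnn]
  -- degrees
  have hdeg : n ^ 2 = ∑ ξ : IrrCharacter G, nn ξ * dd ξ := by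
    have h1 : ((n ^ 2 : ℕ) : ℂ) = ((∑ ξ : IrrCharacter G, nn ξ * dd ξ : ℕ) : ℂ) := by
      have h2 : Ψ 1 = (n : ℂ) ^ 2 := by
        rw [hΨdef, Pi.mul_apply, hn, Complex.conj_natCast]
        ring
      push_cast
      rw [← h2]
      conv_lhs => rw [hΨ1]
      rw [Finset.sum_apply]
      refine Finset.sum_congr rfl fun ξ _ => ?_
      rw [Pi.smul_apply, smul_eq_mul, hdd]
    exact_mod_cast h1
  -- multiplicities of the principal character of `H`
  obtain ⟨k, hk, hnk⟩ := classInner_self_ge_of_comm (A := ↥H)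
    (fun a b => Subtype.ext (hab a a.2 b b.2))
    (Cfsg.Agent.Lib.Helper3.IsCharacter.restrict hχc H) n hn
  have hmult : k = ∑ ξ : IrrCharacter G, nn ξ * cc ξ := by
    have h1 : ((k : ℕ) : ℂ) = ((∑ ξ : IrrCharacter G, nn ξ * cc ξ : ℕ) : ℂ) := by
      have h2 : multOne H Ψ = (k : ℂ) := by
        rw [multOne_eq_classInner, ← hk, Cfsg.Agent.Lib.Helper25.classInner_def,
          Cfsg.Agent.Lib.Helper25.classInner_def]
        congr 1
        refine Finset.sum_congr rfl fun h _ => ?_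
        simp [hΨdef]
      push_cast
      rw [← h2]
      conv_lhs => rw [hΨ1]
      rw [multOne_sum]
      refine Finset.sum_congr rfl fun ξ _ => ?_
      rw [multOne_smul, hcc]
    exact_mod_cast h1
  -- the principal character
  have hnt : nn triv = 1 := by
    have h1 : classInner Ψ (triv : G → ℂ) = 1 := by
      have h2 := Cfsg.Agent.Lib.Helper3.classInner_irr hχ hχ
      rw [if_pos rfl] at h2
      rw [← h2, Cfsg.Agent.Lib.Helper25.classInner_def, Cfsg.Agent.Lib.Helper25.classInner_def]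
      congr 1
      refine Finset.sum_congr rfl fun g _ => ?_
      simp [hΨdef, triv]
    rw [hnn] at h1
    exact_mod_cast h1
  have hdt : dd triv = 1 := by
    have h1 := hdd triv
    have h2 : (triv : G → ℂ) 1 = 1 := rfl
    rw [h2] at h1
    exact_mod_cast h1.symm
  have hct : cc triv = 1 := by
    have h1 := hcc triv
    have h2 : multOne H (triv : G → ℂ) = 1 := by
      rw [multOne_eq_classInner, Cfsg.Agent.Lib.Helper25.classInner_def]
      have e : ∀ x : ↥H, (triv : G → ℂ) x * conj ((fun _ : ↥H => (1 : ℂ)) x) = 1 := by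
        intro x
        simp [triv]
      rw [Finset.sum_congr rfl fun x _ => e x, Finset.sum_const, Finset.card_univ,
        nsmul_eq_mul, mul_one, Nat.card_eq_fintype_card]
      have : (Fintype.card ↥H : ℂ) ≠ 0 := by exact_mod_cast Fintype.card_ne_zero
      exact inv_mul_cancel₀ this
    rw [h2] at h1
    exact_mod_cast h1.symm
  by_contra hcon
  push Not at hcon
  have hbound : ∀ ξ : IrrCharacter G, ξ ≠ triv → nn ξ ≠ 0 → (n + 1) * cc ξ + 1 ≤ dd ξ := by
    intro ξ hξ hnz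
    have hne : (ξ : G → ℂ) ≠ fun _ => 1 := fun h => hξ (Subtype.ext h)
    have hne2 : classInner Ψ (ξ : G → ℂ) ≠ 0 := by
      rw [hnn]
      exact_mod_cast hnz
    have h1 := hyp ξ ξ.2 hne hne2 (cc ξ) (dd ξ) (hcc ξ) (hdd ξ)
    have h2 : ((n + 1) * cc ξ) ^ 2 < dd ξ ^ 2 := by
      calc ((n + 1) * cc ξ) ^ 2 = (n + 1) ^ 2 * cc ξ ^ 2 := by ring
        _ ≤ N * cc ξ ^ 2 := Nat.mul_le_mul_right _ hcon
        _ < dd ξ ^ 2 := h1
    have h3 : (n + 1) * cc ξ < dd ξ := lt_of_pow_lt_pow_left₀ 2 (Nat.zero_le _) h2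
    omega
  have hs1 := Finset.add_sum_erase Finset.univ (fun ξ => nn ξ * dd ξ) (Finset.mem_univ triv)
  have hs2 := Finset.add_sum_erase Finset.univ (fun ξ => nn ξ * cc ξ) (Finset.mem_univ triv)
  rw [← hs1] at hdeg
  rw [← hs2] at hmult
  simp only [hnt, hdt, hct, mul_one] at hdeg hmult
  have h4 : (n + 1) * (∑ ξ ∈ Finset.univ.erase triv, nn ξ * cc ξ) +
      ∑ ξ ∈ Finset.univ.erase triv, nn ξ ≤ ∑ ξ ∈ Finset.univ.erase triv, nn ξ * dd ξ := by
    rw [Finset.mul_sum, ← Finset.sum_add_distrib]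
    refine Finset.sum_le_sum fun ξ hξ => ?_
    by_cases hnz : nn ξ = 0
    · rw [hnz]
      simp
    · have h5 := hbound ξ (Finset.ne_of_mem_erase hξ) hnz
      calc (n + 1) * (nn ξ * cc ξ) + nn ξ = nn ξ * ((n + 1) * cc ξ + 1) := by ring
        _ ≤ nn ξ * dd ξ := Nat.mul_le_mul_left _ h5
  have hn0 : 1 ≤ n := by
    have h5 := irr_apply_one_ne_zero (⟨χ, hχ⟩ : IrrCharacter G)
    have h6 : n ≠ 0 := by
      intro h
      apply h5
      show χ 1 = 0
      rw [hn, h, Nat.cast_zero]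
    omega
  set R := ∑ ξ ∈ Finset.univ.erase triv, nn ξ * cc ξ with hR
  set T := ∑ ξ ∈ Finset.univ.erase triv, nn ξ with hT
  set U := ∑ ξ ∈ Finset.univ.erase triv, nn ξ * dd ξ with hU
  have hT0 : T = 0 := by
    have e1 : (n : ℤ) ≤ 1 + R := by exact_mod_cast (hmult ▸ hnk)
    have e2 : (n : ℤ) ^ 2 = 1 + U := by exact_mod_cast hdeg
    have e3 : ((n : ℤ) + 1) * R + T ≤ U := by exact_mod_cast h4
    have e4 : (1 : ℤ) ≤ n := by exact_mod_cast hn0
    have e5 : ((n : ℤ) + 1) * ((n : ℤ) - 1) ≤ ((n : ℤ) + 1) * R :=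
      mul_le_mul_of_nonneg_left (by linarith) (by linarith)
    have e6 : (T : ℤ) ≤ 0 := by nlinarith
    have e7 : (0 : ℤ) ≤ T := by positivity
    exact_mod_cast le_antisymm e6 e7
  have hall : ∀ ξ ∈ Finset.univ.erase triv, nn ξ = 0 := Finset.sum_eq_zero_iff.mp hT0
  have hU0 : U = 0 := Finset.sum_eq_zero fun ξ hξ => by rw [hall ξ hξ, zero_mul]
  rw [hU0, add_zero] at hdeg
  apply hn1
  rcases pow_eq_one_iff.mp hdeg with h | h
  · exact h
  · exact absurd h two_ne_zero

end Claim2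

section QuotBound

variable {G : Type u} [Group G] [Fintype G]

open Classical in
/-- The indicator sum of a subgroup. -/
theorem sum_ite_mem_one (H : Subgroup G) :
    ∑ g : G, (if g ∈ H then (1 : ℂ) else 0) = (Nat.card H : ℂ) := by
  haveI : Fintype H := Fintype.ofFinite H
  rw [← Cfsg.Agent.Lib.Helper81.sum_subgroup_eq_sum_ite H (fun _ => (1 : ℂ)), Finset.sum_const,
    Finset.card_univ, nsmul_eq_mul, mul_one, Nat.card_eq_fintype_card]

/-- The order of `P` is the product of the orders of `Z` and of the image of `P` in `G ⧸ Z`. -/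
theorem card_eq_card_mul_card_map (P Z : Subgroup G) [Z.Normal] (hZP : Z ≤ P) :
    Nat.card P = Nat.card Z * Nat.card (P.map (QuotientGroup.mk' Z)) := by
  classical
  haveI : Fintype (G ⧸ Z) := Fintype.ofFinite _
  have h1 := Cfsg.Agent.Lib.Helper76.sum_comp_mk Z
    (fun q : G ⧸ Z => if q ∈ P.map (QuotientGroup.mk' Z) then (1 : ℂ) else 0)
  have h2 : ∀ g : G, (if (g : G ⧸ Z) ∈ P.map (QuotientGroup.mk' Z) then (1 : ℂ) else 0) =
      if g ∈ P then (1 : ℂ) else 0 := by
    intro g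
    by_cases hg : g ∈ P
    · rw [if_pos hg, if_pos ((mk_mem_map_iff P Z hZP g).mpr hg)]
    · rw [if_neg hg, if_neg (fun h => hg ((mk_mem_map_iff P Z hZP g).mp h))]
  rw [Finset.sum_congr rfl fun g _ => h2 g, sum_ite_mem_one, sum_ite_mem_one] at h1
  exact_mod_cast h1

/-- **The index bound.** Let `P` be an abelian subgroup of `G` containing the central subgroup `Z`,
such that the image of `P` in `G ⧸ Z` satisfies the hypotheses of the Feit–Thompson lemma and is
contained in no proper normal subgroup.  Then `|P : Z| < (χ(1) + 1) ^ 2` for every non-linear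
irreducible character `χ` of `G`. -/
theorem ft_quot_bound (P Z : Subgroup G) [hZn : Z.Normal] (hZP : Z ≤ P)
    (hZc : Z ≤ Subgroup.center G) (hab : ∀ a ∈ P, ∀ b ∈ P, a * b = b * a)
    (hZ' : P.map (QuotientGroup.mk' Z) ⊓ Subgroup.center (G ⧸ Z) = ⊥)
    (hone : ∀ g : G ⧸ Z, g ∉ Subgroup.center (G ⧸ Z) → ∀ a b : G ⧸ Z,
      Subgroup.centralizer ({g} : Set (G ⧸ Z)) ⊓
        (P.map (QuotientGroup.mk' Z)).map (MulAut.conj a).toMonoidHom ≠ ⊥ →
      Subgroup.centralizer ({g} : Set (G ⧸ Z)) ⊓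
        (P.map (QuotientGroup.mk' Z)).map (MulAut.conj b).toMonoidHom ≠ ⊥ →
      (P.map (QuotientGroup.mk' Z)).map (MulAut.conj a).toMonoidHom =
        (P.map (QuotientGroup.mk' Z)).map (MulAut.conj b).toMonoidHom)
    (hnc : ∀ M : Subgroup (G ⧸ Z), M.Normal → P.map (QuotientGroup.mk' Z) ≤ M → M = ⊤)
    {χ : G → ℂ} (hχ : IsIrrCharacter G χ) (m : ℕ) (hm : χ 1 = (m : ℂ)) (hm1 : m ≠ 1) :
    Nat.card (P.map (QuotientGroup.mk' Z)) < (m + 1) ^ 2 := by
  classical
  haveI : Fintype (G ⧸ Z) := Fintype.ofFinite _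
  set Pb := P.map (QuotientGroup.mk' Z) with hPb
  have hχc := IsIrrCharacter.isCharacter hχ
  have habb : ∀ a ∈ Pb, ∀ b ∈ Pb, a * b = b * a := by
    rintro _ ⟨a, ha, rfl⟩ _ ⟨b, hb, rfl⟩
    rw [← map_mul, ← map_mul, hab a ha b hb]
  refine ft_claim2_var P hab hχ m hm hm1 (Nat.card Pb) ?_
  intro ξ hξ hne hcons c d hc hd
  have hξc := IsIrrCharacter.isCharacter hξ
  -- `Z` is in the kernel of `ξ`
  have hker : ∀ x ∈ Z, ξ x = ξ 1 := by
    intro x hx
    refine Cfsg.Agent.S1492.constituent_eq_degree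
      (IsCharacter.mul hχc (IsCharacter.conj hχc)) hξ hcons x ?_
    show χ x * conj (χ x) = χ 1 * conj (χ 1)
    rw [Complex.mul_conj, Complex.mul_conj, irr_center_normSq hχ (hZc hx)]
  obtain ⟨ξb, hξb, hξbv⟩ := Cfsg.Agent.Lib.Helper79.isIrrCharacter_deflate hξ Z hker
  have hneb : ξb ≠ fun _ => 1 := by
    intro h
    apply hne
    funext g
    rw [← hξbv g, h]
  have hkerb := exists_ne_of_normalClosure_top Pb hnc hξb hneb
  refine ft_claim1 Pb habb hZ' hone hξb hkerb c d ?_ ?_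
  · -- the multiplicity
    rw [multOne_def] at hc
    have h1 := Cfsg.Agent.Lib.Helper76.sum_comp_mk Z
      (fun q : G ⧸ Z => if q ∈ Pb then ξb q else 0)
    have h2 : ∀ g : G, (if (g : G ⧸ Z) ∈ Pb then ξb (g : G ⧸ Z) else 0) =
        if g ∈ P then ξ g else 0 := by
      intro g
      by_cases hg : g ∈ P
      · rw [if_pos hg, if_pos ((mk_mem_map_iff P Z hZP g).mpr hg), hξbv]
      · rw [if_neg hg, if_neg (fun h => hg ((mk_mem_map_iff P Z hZP g).mp h))]
    rw [Finset.sum_congr rfl fun g _ => h2 g] at h1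
    rw [h1, card_eq_card_mul_card_map P Z hZP] at hc
    rw [← hc]
    have hz0 : (Nat.card Z : ℂ) ≠ 0 := by exact_mod_cast (Nat.card_pos (α := Z)).ne'
    have hp0 : (Nat.card Pb : ℂ) ≠ 0 := by exact_mod_cast (Nat.card_pos (α := Pb)).ne'
    push_cast
    rw [← hPb]
    field_simp
  · rw [← hd, ← hξbv 1]
    rfl

end QuotBound

end Cfsg.Agent.Lib.Helper3
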