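import Mathlib
import Cfsg.Agent.Lib.Helper3.CharOps
import Cfsg.Agent.Lib.Helper3.Degree
import Cfsg.Agent.Lib.Helper79.Basic
import Cfsg.Agent.Lib.Helper81.Irr
import Cfsg.Agent.Lib.Helper80.Zeros

set_option autoImplicit false
set_option linter.style.haveILetI false
set_option linter.unusedSectionVars false

/-!
Faithful representations and their irreducible constituents: auxiliary results for the
Feit–Thompson refinement of Blichfeldt's theorem.
-/

namespace Cfsg.Agent.Lib.Helper3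

open Cfsg
open scoped ComplexConjugate

universe u

section Faithful

variable {G : Type u} [Group G] [Fintype G]

/-- The degree of an irreducible constituent is at most the degree of the character. -/
theorem constituent_degree_le {Χ ψ : G → ℂ} (hΧ : IsCharacter G Χ) (hψ : IsIrrCharacter G ψ)
    (hne : classInner Χ ψ ≠ 0) (N k : ℕ) (hN : Χ 1 = (N : ℂ)) (hk : ψ 1 = (k : ℂ)) : k ≤ N := by
  classical
  haveI : Fintype (IrrCharacter G) := Fintype.ofFinite _
  obtain ⟨m, hm, hsum⟩ := IsCharacter.exists_mult hΧ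
  have hdeg : ∀ i : IrrCharacter G, ∃ e : ℕ, e ≠ 0 ∧ (i : G → ℂ) 1 = (e : ℂ) :=
    fun i => Cfsg.Agent.Lib.Helper81.irr_apply_one i
  choose dg _ hdg using hdeg
  have h1 : N = ∑ i : IrrCharacter G, m i * dg i := by
    have h2 : Χ 1 = ∑ i : IrrCharacter G, (m i : ℂ) * (dg i : ℂ) := by
      conv_lhs => rw [hsum]
      rw [Finset.sum_apply]
      refine Finset.sum_congr rfl fun i _ => ?_
      rw [Pi.smul_apply, smul_eq_mul, hdg]
    rw [hN] at h2
    exact_mod_cast h2
  have h3 : m ⟨ψ, hψ⟩ ≠ 0 := by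
    intro h0
    apply hne
    rw [hm ⟨ψ, hψ⟩, h0, Nat.cast_zero]
  have h4 : dg ⟨ψ, hψ⟩ = k := by
    have := hdg ⟨ψ, hψ⟩
    have h5 : ((⟨ψ, hψ⟩ : IrrCharacter G) : G → ℂ) 1 = ψ 1 := rfl
    rw [h5, hk] at this
    exact_mod_cast this.symm
  rw [h1, ← h4]
  calc dg ⟨ψ, hψ⟩ ≤ m ⟨ψ, hψ⟩ * dg ⟨ψ, hψ⟩ :=
        Nat.le_mul_of_pos_left _ (Nat.pos_of_ne_zero h3)
    _ ≤ ∑ i : IrrCharacter G, m i * dg i :=
        Finset.single_le_sum (f := fun i => m i * dg i) (fun i _ => Nat.zero_le _)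
          (Finset.mem_univ _)

/-- An element on which every irreducible constituent of a faithful representation takes its degree
is trivial. -/
theorem eq_one_of_irr_constituents {n : ℕ} (ρ : Representation ℂ G (Fin n → ℂ))
    (hρ : Function.Injective ρ) (g : G)
    (h : ∀ ψ : G → ℂ, IsIrrCharacter G ψ → classInner ρ.character ψ ≠ 0 → ψ g = ψ 1) :
    g = 1 := by
  classical
  haveI : Fintype (IrrCharacter G) := Fintype.ofFinite _
  have hΧ : IsCharacter G ρ.character := ⟨n, ρ, rfl⟩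
  obtain ⟨m, hm, hsum⟩ := IsCharacter.exists_mult hΧ
  have hval : ∀ x : G, ρ.character x = ∑ i : IrrCharacter G, (m i : ℂ) * (i : G → ℂ) x := by
    intro x
    conv_lhs => rw [hsum]
    rw [Finset.sum_apply]
    refine Finset.sum_congr rfl fun i _ => ?_
    rw [Pi.smul_apply, smul_eq_mul]
  have h1 : ρ.character g = ρ.character 1 := by
    rw [hval g, hval 1]
    refine Finset.sum_congr rfl fun i _ => ?_
    by_cases h0 : m i = 0
    · rw [h0, Nat.cast_zero, zero_mul, zero_mul]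
    · rw [h i i.2]
      rw [hm i]
      exact_mod_cast h0
  have h2 : g ∈ MonoidHom.ker ρ := (Cfsg.Agent.Lib.Helper79.rep_mem_ker_iff ρ g).mpr h1
  apply hρ
  rw [map_one]
  exact h2

/-- If `|χ(y)| = χ(1)` for an irreducible character `χ`, then all commutators `⁅y, x⁆` lie in the
kernel of `χ` (commutators written out as `y * x * y⁻¹ * x⁻¹`). -/
theorem irr_commutator_of_normSq_eq {χ : G → ℂ} (hχ : IsIrrCharacter G χ) {y : G}
    (hy : Complex.normSq (χ y) = Complex.normSq (χ 1)) (x : G) :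
    χ (y * x * y⁻¹ * x⁻¹) = χ 1 := by
  obtain ⟨k, τ, _, rfl⟩ := hχ
  have h1 : τ.character 1 = (k : ℂ) := Cfsg.Agent.Lib.Helper79.rep_character_one τ
  have h2 : ‖τ.character y‖ = (Module.finrank ℂ (Fin k → ℂ) : ℝ) := by
    rw [Module.finrank_fin_fun]
    rw [h1, Complex.normSq_natCast, Complex.normSq_eq_norm_sq] at hy
    have h3 : ‖τ.character y‖ ^ 2 = (k : ℝ) ^ 2 := by rw [hy]; ring
    exact (sq_eq_sq₀ (norm_nonneg _) (Nat.cast_nonneg _)).mp h3
  obtain ⟨c, hc1, hc⟩ := Cfsg.Agent.Lib.Helper80.exists_scalar_of_norm_character_eq τ y h2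
  have hc0 : c ≠ 0 := by
    intro h
    rw [h, norm_zero] at hc1
    exact zero_ne_one hc1
  have h4 : τ (y * x * y⁻¹ * x⁻¹) = 1 := by
    rw [map_mul, map_mul, map_mul]
    have h5 : τ y⁻¹ = c⁻¹ • LinearMap.id := by
      have h6 : τ y⁻¹ * τ y = 1 := by rw [← map_mul, inv_mul_cancel, map_one]
      rw [hc] at h6
      have h7 : τ y⁻¹ = c⁻¹ • (τ y⁻¹ * (c • LinearMap.id)) := by
        refine LinearMap.ext fun v => ?_
        simp [hc0]
      rw [h7, h6]
      rfl
    rw [hc, h5]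
    have h8 : τ x * τ x⁻¹ = 1 := by rw [← map_mul, mul_inv_cancel, map_one]
    refine LinearMap.ext fun v => ?_
    have h9 := congrArg (fun f : Module.End ℂ (Fin k → ℂ) => f v) h8
    have h9' : τ x (τ x⁻¹ v) = v := h9
    show (c • LinearMap.id * τ x * c⁻¹ • LinearMap.id * τ x⁻¹ : Module.End ℂ (Fin k → ℂ)) v = v
    simp only [Module.End.mul_apply, LinearMap.smul_apply, LinearMap.id_apply, map_smul,
      h9', smul_smul]
    rw [inv_mul_cancel₀ hc0, one_smul]
  show τ.character (y * x * y⁻¹ * x⁻¹) = τ.character 1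
  unfold Representation.character
  rw [h4, ← map_one τ]

/-- The degree of an irreducible character divides the group order. -/
theorem irr_degree_dvd_card {ψ : G → ℂ} (hψ : IsIrrCharacter G ψ) (k : ℕ) (hk : ψ 1 = (k : ℂ)) :
    k ∣ Nat.card G := by
  obtain ⟨k', τ, hirr, rfl⟩ := hψ
  haveI := hirr
  have h1 := finrank_dvd_card τ
  rw [Module.finrank_fin_fun] at h1
  have h2 : τ.character 1 = (k' : ℂ) := Cfsg.Agent.Lib.Helper79.rep_character_one τ
  rw [h2] at hk
  have h3 : k' = k := by exact_mod_cast hk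
  rw [← h3]
  exact h1

/-- A `p`-subgroup of a group with a faithful representation of degree less than `p` is abelian. -/
theorem pgroup_comm_of_faithful {n : ℕ} (ρ : Representation ℂ G (Fin n → ℂ))
    (hρ : Function.Injective ρ) {p : ℕ} [hp : Fact p.Prime] (hnp : n < p) (Q : Subgroup G)
    (hQ : IsPGroup p Q) : ∀ a ∈ Q, ∀ b ∈ Q, a * b = b * a := by
  classical
  intro a ha b hb
  let σ : Representation ℂ ↥Q (Fin n → ℂ) := MonoidHom.comp ρ Q.subtype
  have hσ : Function.Injective σ := by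
    intro x y hxy
    exact Subtype.ext (hρ hxy)
  have key : ((⟨a, ha⟩ : ↥Q) * ⟨b, hb⟩ * (⟨a, ha⟩ : ↥Q)⁻¹ * (⟨b, hb⟩ : ↥Q)⁻¹) = 1 := by
    refine eq_one_of_irr_constituents σ hσ _ ?_
    intro ψ hψ hne
    obtain ⟨k, hk0, hk⟩ := Cfsg.Agent.Lib.Helper81.irr_apply_one (⟨ψ, hψ⟩ : IrrCharacter ↥Q)
    have hk' : ψ 1 = (k : ℂ) := hk
    have hkn : k ≤ n := constituent_degree_le ⟨n, σ, rfl⟩ hψ hne n k
      (Cfsg.Agent.Lib.Helper79.rep_character_one σ) hk'
    have hkdvd : k ∣ Nat.card Q := irr_degree_dvd_card hψ k hk'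
    obtain ⟨j, hj⟩ := IsPGroup.iff_card.mp hQ
    rw [hj] at hkdvd
    obtain ⟨i, _, hi⟩ := (Nat.dvd_prime_pow hp.out).mp hkdvd
    have hk1 : k = 1 := by
      rcases Nat.eq_zero_or_pos i with h0 | h0
      · rw [hi, h0, pow_zero]
      · exfalso
        have : p ≤ k := by
          rw [hi]
          calc p = p ^ 1 := (pow_one p).symm
            _ ≤ p ^ i := Nat.pow_le_pow_right hp.out.pos h0
        omega
    have hψ1 : ψ 1 = 1 := by rw [hk', hk1, Nat.cast_one]
    rw [hψ1]
    refine Cfsg.Agent.Lib.Helper79.isCharacter_one_commutator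
      (IsIrrCharacter.isCharacter hψ) hψ1 ?_
    rw [commutator_def]
    exact Subgroup.commutator_mem_commutator (Subgroup.mem_top _) (Subgroup.mem_top _)
  have h1 : a * b * a⁻¹ * b⁻¹ = 1 := by
    have := congrArg Subtype.val key
    simpa using this
  have h2 : a * b * a⁻¹ = b := mul_inv_eq_one.mp h1
  exact mul_inv_eq_iff_eq_mul.mp h2

end Faithful

end Cfsg.Agent.Lib.Helper3
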