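import Mathlib
import Cfsg.Agent.Lib.Helper3.CharOps
import Cfsg.Agent.Lib.Helper79.Basic
import Cfsg.Agent.Lib.Helper81.FTLemma

set_option autoImplicit false
set_option linter.style.haveILetI false
set_option linter.unusedSectionVars false

/-!
A counting lemma of Hall–Higman type: if `G = M ⋊ P` with `M` a normal `p'`-subgroup, `P` abelian
with a central subgroup `Z` of index `p`, then `P` acts by scalars in every irreducible character
of degree less than `p - 1`.
-/

namespace Cfsg.Agent.Lib.Helper3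

open Cfsg
open scoped ComplexConjugate

universe u

section HHgroup

variable {G : Type u} [Group G]

/-- If `a` and `b` are coprime there is an exponent `k` with `(c * y) ^ k = y` whenever `c`, `y`
commute, `c ^ a = 1` and `y ^ b = 1`. -/
theorem exists_pow_mul_eq_right {a b : ℕ} (hab : a.Coprime b) :
    ∃ k : ℕ, ∀ c y : G, Commute c y → c ^ a = 1 → y ^ b = 1 → (c * y) ^ k = y := by
  obtain ⟨k, hk0, hk1⟩ := Nat.chineseRemainder hab 0 1
  refine ⟨k, fun c y hcy hc hy => ?_⟩
  rw [hcy.mul_pow]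
  have h1 : c ^ k = 1 := by
    obtain ⟨t, ht⟩ := (Nat.modEq_zero_iff_dvd.mp hk0)
    rw [ht, pow_mul, hc, one_pow]
  have h2 : y ^ k = y := by
    have h3 : orderOf y ∣ b := orderOf_dvd_of_pow_eq_one hy
    have h4 : k ≡ 1 [MOD orderOf y] := hk1.of_dvd h3
    have h5 := (pow_eq_pow_iff_modEq (x := y)).mpr h4
    rw [h5, pow_one]
  rw [h1, h2, one_mul]

/-- A subgroup between `Z` and `P` containing an element outside `Z` is all of `P`, when `Z` has
prime index in `P`. -/
theorem eq_of_prime_index [Finite G] {p : ℕ} (hp : p.Prime) {P Z Q : Subgroup G}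
    (hidx : Nat.card P = p * Nat.card Z) (hZQ : Z ≤ Q) (hQP : Q ≤ P) {y : G} (hyQ : y ∈ Q)
    (hyZ : y ∉ Z) : Q = P := by
  have h1 : Nat.card Z ∣ Nat.card Q := Subgroup.card_dvd_of_le hZQ
  have h2 : Nat.card Q ∣ Nat.card P := Subgroup.card_dvd_of_le hQP
  obtain ⟨t, ht⟩ := h1
  have hz0 : 0 < Nat.card Z := Nat.card_pos
  have h3 : t ∣ p := by
    rw [hidx, ht, mul_comm p] at h2
    exact (Nat.mul_dvd_mul_iff_left hz0).mp h2
  rcases (Nat.dvd_prime hp).mp h3 with h | h
  · exfalso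
    apply hyZ
    have : Z = Q := Subgroup.eq_of_le_of_card_ge hZQ (by rw [ht, h, mul_one])
    rw [this]
    exact hyQ
  · exact Subgroup.eq_of_le_of_card_ge hQP (by rw [hidx, ht, h, mul_comm])

/-- The key step: an element of `M` conjugating `c * y` to `c₀ * y` centralizes `P`. -/
theorem mem_centralizer_of_conj_eq [Finite G] {p : ℕ} [hp : Fact p.Prime] {M P Z : Subgroup G}
    (hMp : (Nat.card M).Coprime p) (hP : IsPGroup p P)
    (hZP : Z ≤ P) (hZc : Z ≤ Subgroup.center G) (hidx : Nat.card P = p * Nat.card Z)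
    {y : G} (hyP : y ∈ P) (hyZ : y ∉ Z) {c c₀ v : G}
    (hc : c ∈ Subgroup.centralizer (P : Set G)) (hcM : c ∈ M)
    (hc₀ : c₀ ∈ Subgroup.centralizer (P : Set G)) (hc₀M : c₀ ∈ M)
    (h : v * (c * y) * v⁻¹ = c₀ * y) : v ∈ Subgroup.centralizer (P : Set G) := by
  obtain ⟨j, hj⟩ := (IsPGroup.iff_card.mp hP)
  have hcop : (Nat.card M).Coprime (Nat.card P) := by
    rw [hj]
    exact Nat.Coprime.pow_right _ hMp
  obtain ⟨k, hk⟩ := exists_pow_mul_eq_right (G := G) hcop
  have hpowM : ∀ x ∈ M, x ^ Nat.card M = 1 := by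
    intro x hx
    have := pow_card_eq_one' (G := ↥M) (x := ⟨x, hx⟩)
    exact congrArg Subtype.val this
  have hyP' : y ^ Nat.card P = 1 := by
    have := pow_card_eq_one' (G := ↥P) (x := ⟨y, hyP⟩)
    exact congrArg Subtype.val this
  have hcomm : ∀ c' ∈ Subgroup.centralizer (P : Set G), Commute c' y := by
    intro c' hc'
    exact ((Subgroup.mem_centralizer_iff.mp hc') y hyP).symm
  have h1 : (c * y) ^ k = y := hk c y (hcomm c hc) (hpowM c hcM) hyP'
  have h2 : (c₀ * y) ^ k = y := hk c₀ y (hcomm c₀ hc₀) (hpowM c₀ hc₀M) hyP'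
  have h3 : v * y * v⁻¹ = y := by
    have := congrArg (· ^ k) h
    simp only [conj_pow, h1, h2] at this
    exact this
  have hvy : v * y = y * v := by
    have := congrArg (· * v) h3
    simpa [mul_assoc] using this
  -- the subgroup of `P` commuting with `v`
  have hQ : P ⊓ Subgroup.centralizer ({v} : Set G) = P := by
    refine eq_of_prime_index hp.out hidx ?_ inf_le_left (y := y) ?_ hyZ
    · intro z hz
      refine ⟨hZP hz, ?_⟩
      show z ∈ Subgroup.centralizer ({v} : Set G)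
      rw [Subgroup.mem_centralizer_singleton_iff]
      exact ((Subgroup.mem_center_iff.mp (hZc hz)) v).symm
    · refine ⟨hyP, ?_⟩
      show y ∈ Subgroup.centralizer ({v} : Set G)
      rw [Subgroup.mem_centralizer_singleton_iff]
      exact hvy.symm
  rw [Subgroup.mem_centralizer_iff]
  intro x hx
  have hx' : x ∈ P ⊓ Subgroup.centralizer ({v} : Set G) := by rw [hQ]; exact hx
  have : x ∈ Subgroup.centralizer ({v} : Set G) := hx'.2
  rw [Subgroup.mem_centralizer_singleton_iff] at this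
  exact this

open Classical in
/-- The fibre counting inequality: summing a non-negative conjugation invariant function over the
coset `M y` dominates the sum over `C y`, `C = C_M(P)`, with the factor `|M| / |C|`. -/
theorem fiber_sum_le [Fintype G] {p : ℕ} [hp : Fact p.Prime] {M P Z : Subgroup G} [hMn : M.Normal]
    (hMp : (Nat.card M).Coprime p) (hP : IsPGroup p P)
    (hZP : Z ≤ P) (hZc : Z ≤ Subgroup.center G) (hidx : Nat.card P = p * Nat.card Z)
    {y : G} (hyP : y ∈ P) (hyZ : y ∉ Z) (F : G → ℝ) (hF0 : ∀ g, 0 ≤ F g)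
    (hFc : ∀ g t : G, F (t * g * t⁻¹) = F g) :
    (Nat.card M : ℝ) * ∑ c : ↥(M ⊓ Subgroup.centralizer (P : Set G)), F ((c : G) * y) ≤
      (Nat.card ↥(M ⊓ Subgroup.centralizer (P : Set G)) : ℝ) * ∑ m : ↥M, F ((m : G) * y) := by
  set C : Subgroup G := M ⊓ Subgroup.centralizer (P : Set G) with hC
  -- the conjugation map
  let Φ : ↥M × ↥C → ↥M := fun x =>
    ⟨(x.1 : G) * (x.2 : G) * (y * (x.1 : G)⁻¹ * y⁻¹),
      M.mul_mem (M.mul_mem x.1.2 x.2.2.1) (hMn.conj_mem _ (M.inv_mem x.1.2) y)⟩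
  have hΦ : ∀ x : ↥M × ↥C, ((Φ x : ↥M) : G) * y = (x.1 : G) * ((x.2 : G) * y) * (x.1 : G)⁻¹ := by
    intro x
    show (x.1 : G) * (x.2 : G) * (y * (x.1 : G)⁻¹ * y⁻¹) * y = _
    group
  -- fibres are small
  have hfib : ∀ m : ↥M, ((Finset.univ.filter (fun x : ↥M × ↥C => Φ x = m)).card : ℝ) ≤
      (Nat.card ↥C : ℝ) := by
    intro m
    rcases (Finset.univ.filter (fun x : ↥M × ↥C => Φ x = m)).eq_empty_or_nonempty with h | h
    · rw [h, Finset.card_empty, Nat.cast_zero]
      exact Nat.cast_nonneg _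
    · obtain ⟨x₀, hx₀⟩ := h
      rw [Finset.mem_filter] at hx₀
      have hcard : (Finset.univ.image (fun c : ↥C => (c : G))).card = Nat.card ↥C := by
        rw [Finset.card_image_of_injective _ Subtype.val_injective, Finset.card_univ,
          Nat.card_eq_fintype_card]
      rw [← hcard]
      norm_cast
      refine Finset.card_le_card_of_injOn (fun x : ↥M × ↥C => ((x₀.1 : G))⁻¹ * (x.1 : G)) ?_ ?_
      · intro x hx
        rw [Finset.mem_coe, Finset.mem_filter] at hx
        have h1 : ((Φ x : ↥M) : G) * y = ((Φ x₀ : ↥M) : G) * y := by rw [hx.2, hx₀.2]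
        rw [hΦ, hΦ] at h1
        have h2 : ((x₀.1 : G)⁻¹ * (x.1 : G)) * ((x.2 : G) * y) * ((x₀.1 : G)⁻¹ * (x.1 : G))⁻¹ =
            (x₀.2 : G) * y := by
          have := congrArg (fun g => (x₀.1 : G)⁻¹ * g * (x₀.1 : G)) h1
          rw [mul_inv_rev, inv_inv]
          calc (x₀.1 : G)⁻¹ * (x.1 : G) * ((x.2 : G) * y) * ((x.1 : G)⁻¹ * (x₀.1 : G))
              = (x₀.1 : G)⁻¹ * ((x.1 : G) * ((x.2 : G) * y) * (x.1 : G)⁻¹) * (x₀.1 : G) := by
                group
            _ = (x₀.1 : G)⁻¹ * ((x₀.1 : G) * ((x₀.2 : G) * y) * (x₀.1 : G)⁻¹) * (x₀.1 : G) := this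
            _ = (x₀.2 : G) * y := by group
        have hvM : (x₀.1 : G)⁻¹ * (x.1 : G) ∈ M := M.mul_mem (M.inv_mem x₀.1.2) x.1.2
        have hvC := mem_centralizer_of_conj_eq hMp hP hZP hZc hidx hyP hyZ x.2.2.2 x.2.2.1
          x₀.2.2.2 x₀.2.2.1 h2
        rw [Finset.mem_coe, Finset.mem_image]
        exact ⟨⟨_, ⟨hvM, hvC⟩⟩, Finset.mem_univ _, rfl⟩
      · intro x hx x' hx' hxx
        rw [Finset.mem_coe, Finset.mem_filter] at hx hx'
        simp only at hxx
        have h1 : (x.1 : G) = (x'.1 : G) := mul_left_cancel hxx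
        have h2 : ((Φ x : ↥M) : G) * y = ((Φ x' : ↥M) : G) * y := by rw [hx.2, hx'.2]
        rw [hΦ, hΦ, h1] at h2
        have h3 : (x.2 : G) = (x'.2 : G) := by
          have := mul_right_cancel (mul_left_cancel (mul_right_cancel h2))
          exact this
        exact Prod.ext (Subtype.ext h1) (Subtype.ext h3)
  -- the double count
  have hL : (Nat.card M : ℝ) * ∑ c : ↥C, F ((c : G) * y) =
      ∑ x : ↥M × ↥C, F (((Φ x : ↥M) : G) * y) := by
    rw [Fintype.sum_prod_type]
    have : ∀ (u : ↥M), ∑ c : ↥C, F (((Φ (u, c) : ↥M) : G) * y) = ∑ c : ↥C, F ((c : G) * y) := by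
      intro u
      refine Finset.sum_congr rfl fun c _ => ?_
      rw [hΦ, hFc]
    rw [Finset.sum_congr rfl fun u _ => this u, Finset.sum_const, Finset.card_univ,
      nsmul_eq_mul, Nat.card_eq_fintype_card]
  rw [hL, ← Finset.sum_fiberwise Finset.univ Φ (fun x => F (((Φ x : ↥M) : G) * y)),
    Finset.mul_sum]
  refine Finset.sum_le_sum fun m _ => ?_
  have : ∑ x ∈ Finset.univ.filter (fun x : ↥M × ↥C => Φ x = m), F (((Φ x : ↥M) : G) * y) =
      ((Finset.univ.filter (fun x : ↥M × ↥C => Φ x = m)).card : ℝ) * F ((m : G) * y) := by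
    rw [Finset.sum_congr rfl (g := fun _ => F ((m : G) * y)), Finset.sum_const, nsmul_eq_mul]
    intro x hx
    rw [(Finset.mem_filter.mp hx).2]
  rw [this]
  exact mul_le_mul_of_nonneg_right (hfib m) (hF0 _)

end HHgroup

section HHchar

variable {G : Type u} [Group G] [Fintype G]

/-- The sum of the squared absolute values of a function is `|G|` times its norm. -/
theorem sum_normSq_eq_card_mul_classInner (φ : G → ℂ) :
    ((∑ g : G, Complex.normSq (φ g) : ℝ) : ℂ) = (Nat.card G : ℂ) * classInner φ φ := by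
  unfold classInner
  have h0 : (Nat.card G : ℂ) ≠ 0 := by exact_mod_cast (Nat.card_pos (α := G)).ne'
  rw [← mul_assoc, mul_inv_cancel₀ h0, one_mul]
  push_cast
  refine Finset.sum_congr rfl fun g _ => ?_
  rw [Complex.mul_conj]

/-- For an irreducible character the squared absolute values sum to the group order. -/
theorem irr_sum_normSq {χ : G → ℂ} (hχ : IsIrrCharacter G χ) :
    ∑ g : G, Complex.normSq (χ g) = (Nat.card G : ℝ) := by
  have h := sum_normSq_eq_card_mul_classInner χ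
  rw [classInner_irr hχ hχ, if_pos rfl, mul_one] at h
  exact_mod_cast h

/-- Central elements do not change the absolute values of an irreducible character. -/
theorem irr_normSq_center_mul {χ : G → ℂ} (hχ : IsIrrCharacter G χ) {z : G}
    (hz : z ∈ Subgroup.center G) (x : G) :
    Complex.normSq (χ (z * x)) = Complex.normSq (χ x) := by
  have h1 := Cfsg.Agent.Lib.Helper81.irr_center_mul hχ hz x
  have h2 := Cfsg.Agent.Lib.Helper81.irr_center_normSq hχ hz
  have h3 : Complex.normSq (χ 1) ≠ 0 := by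
    rw [Ne, Complex.normSq_eq_zero]
    exact Cfsg.Agent.Lib.Helper81.irr_apply_one_ne_zero ⟨χ, hχ⟩
  have h4 := congrArg Complex.normSq h1
  rw [map_mul, map_mul, h2] at h4
  exact mul_right_cancel₀ h3 (h4.trans (mul_comm _ _))

/-- The Hall–Higman type counting lemma. -/
theorem hh_normSq (p : ℕ) [hp : Fact p.Prime] (M P Z : Subgroup G) [hMn : M.Normal]
    (hMp : (Nat.card M).Coprime p) (hP : IsPGroup p P)
    (hPab : ∀ a ∈ P, ∀ b ∈ P, a * b = b * a)
    (hZP : Z ≤ P) (hZc : Z ≤ Subgroup.center G) (hidx : Nat.card P = p * Nat.card Z)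
    (hcompl : Subgroup.IsComplement' M P)
    {χ : G → ℂ} (hχ : IsIrrCharacter G χ) (d : ℕ) (hd : χ 1 = (d : ℂ)) (hdp : d + 1 < p) :
    ∀ y ∈ P, Complex.normSq (χ y) = Complex.normSq (χ 1) := by
  classical
  have hχc := IsIrrCharacter.isCharacter hχ
  set C : Subgroup G := M ⊓ Subgroup.centralizer (P : Set G) with hC
  set F : G → ℝ := fun g => Complex.normSq (χ g) with hF
  have hF0 : ∀ g, 0 ≤ F g := fun g => Complex.normSq_nonneg _
  have hFc : ∀ g t : G, F (t * g * t⁻¹) = F g := by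
    intro g t
    show Complex.normSq (χ (t * g * t⁻¹)) = Complex.normSq (χ g)
    rw [(IsCharacter.isClassFunction hχc) g t]
  have hFz : ∀ z ∈ Z, ∀ g : G, F (g * z) = F g := by
    intro z hz g
    have h1 : g * z = z * g := (Subgroup.mem_center_iff.mp (hZc hz)) g
    show Complex.normSq (χ (g * z)) = Complex.normSq (χ g)
    rw [h1, irr_normSq_center_mul hχ (hZc hz)]
  -- the product group
  have hcomm : ∀ (c : ↥C) (y : ↥P), Commute (C.subtype c) (P.subtype y) := by
    intro c y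
    exact ((Subgroup.mem_centralizer_iff.mp c.2.2) y y.2).symm
  let f : ↥C × ↥P →* G := MonoidHom.noncommCoprod C.subtype P.subtype hcomm
  have hf : ∀ a : ↥C × ↥P, f a = (a.1 : G) * (a.2 : G) := fun a => rfl
  set ψ : ↥C × ↥P → ℂ := fun a => χ (f a) with hψ
  have hψc : IsCharacter (↥C × ↥P) ψ := Cfsg.Agent.Lib.Helper79.isCharacter_comp hχc f
  haveI : Fintype (IrrCharacter (↥C × ↥P)) := Fintype.ofFinite _
  obtain ⟨mm, hmm, hdec⟩ := IsCharacter.exists_mult hψc
  -- cardinalities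
  set a : ℝ := (Nat.card M : ℝ) with ha
  set b : ℝ := (Nat.card ↥C : ℝ) with hb
  set z : ℝ := (Nat.card Z : ℝ) with hz
  have ha0 : 0 < a := by rw [ha]; exact_mod_cast Nat.card_pos
  have hb0 : 0 < b := by rw [hb]; exact_mod_cast Nat.card_pos
  have hz0 : 0 < z := by rw [hz]; exact_mod_cast Nat.card_pos
  have hPcard : (Nat.card P : ℝ) = p * z := by rw [hz]; exact_mod_cast hidx
  have hGcard : (Nat.card G : ℝ) = a * (p * z) := by
    rw [ha, ← hPcard]
    exact_mod_cast hcompl.card_mul_card.symm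
  -- the norm of `ψ`
  set Sg : ℕ := ∑ i : IrrCharacter (↥C × ↥P), mm i ^ 2 with hSg
  have hnorm : classInner ψ ψ = (Sg : ℂ) := by
    conv_lhs => rw [hdec]
    rw [classInner_sum_sum, hSg]
    push_cast
    refine Finset.sum_congr rfl fun i _ => ?_
    rw [Complex.conj_natCast]
    ring
  -- the sums `S` and `T`
  set S : G → ℝ := fun y => ∑ m : ↥M, F ((m : G) * y) with hS
  set T : G → ℝ := fun y => ∑ c : ↥C, F ((c : G) * y) with hT
  -- total of `S`
  have hStot : ∑ y : ↥P, S (y : G) = a * (p * z) := by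
    rw [← hGcard, ← irr_sum_normSq hχ]
    have hbij : Function.Bijective (fun x : ↥M × ↥P => (x.1 : G) * (x.2 : G)) := hcompl
    have h1 : ∑ g : G, Complex.normSq (χ g) = ∑ x : ↥M × ↥P, F ((x.1 : G) * (x.2 : G)) := by
      symm
      exact Fintype.sum_equiv (Equiv.ofBijective _ hbij) _ _ (fun x => rfl)
    rw [h1, Fintype.sum_prod_type, Finset.sum_comm]
  -- total of `T`
  have hTtot : ∑ y : ↥P, T (y : G) = b * (p * z) * (Sg : ℝ) := by
    have h1 : ∑ y : ↥P, T (y : G) = ∑ x : ↥C × ↥P, Complex.normSq (ψ x) := by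
      symm
      rw [Fintype.sum_prod_type, Finset.sum_comm]
      rfl
    have h2 := sum_normSq_eq_card_mul_classInner ψ
    rw [hnorm, Nat.card_prod] at h2
    rw [h1]
    have h3 : ((∑ x : ↥C × ↥P, Complex.normSq (ψ x) : ℝ) : ℂ) =
        ((b * (p * z) * (Sg : ℝ) : ℝ) : ℂ) := by
      rw [h2, hb, ← hPcard]
      push_cast
      ring
    exact_mod_cast h3
  -- values on `Z`
  have hSZ : ∀ y ∈ Z, S y = S 1 := by
    intro y hy
    show ∑ m : ↥M, F ((m : G) * y) = ∑ m : ↥M, F ((m : G) * 1)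
    refine Finset.sum_congr rfl fun m _ => ?_
    rw [hFz y hy, mul_one]
  have hTZ : ∀ y ∈ Z, T y = T 1 := by
    intro y hy
    show ∑ c : ↥C, F ((c : G) * y) = ∑ c : ↥C, F ((c : G) * 1)
    refine Finset.sum_congr rfl fun c _ => ?_
    rw [hFz y hy, mul_one]
  -- fibre inequality off `Z`
  have hST : ∀ y ∈ P, y ∉ Z → a * T y ≤ b * S y := by
    intro y hyP hyZ
    exact fiber_sum_le hMp hP hZP hZc hidx hyP hyZ F hF0 hFc
  -- positivity of `S 1`
  have hd0 : d ≠ 0 := by
    intro h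
    apply Cfsg.Agent.Lib.Helper81.irr_apply_one_ne_zero ⟨χ, hχ⟩
    show χ 1 = 0
    rw [hd, h, Nat.cast_zero]
  have hS1 : 0 < S 1 := by
    have h1 : F ((1 : ↥M) * 1) ≤ S 1 :=
      Finset.single_le_sum (f := fun m : ↥M => F ((m : G) * 1)) (fun m _ => hF0 _)
        (Finset.mem_univ (1 : ↥M))
    have h2 : 0 < F ((1 : ↥M) * 1) := by
      show 0 < Complex.normSq (χ (((1 : ↥M) : G) * 1))
      rw [Subgroup.coe_one, mul_one, hd, Complex.normSq_natCast]
      have : (0 : ℝ) < d := by exact_mod_cast Nat.pos_of_ne_zero hd0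
      positivity
    linarith
  -- the support of the multiplicities
  set I : Finset (IrrCharacter (↥C × ↥P)) := Finset.univ.filter (fun i => mm i ≠ 0) with hI
  set k : ℕ := I.card with hk
  have hdeg : ∀ i : IrrCharacter (↥C × ↥P), ∃ e : ℕ, e ≠ 0 ∧ (i : ↥C × ↥P → ℂ) 1 = (e : ℂ) :=
    fun i => Cfsg.Agent.Lib.Helper81.irr_apply_one i
  choose dg hdg0 hdg using hdeg
  have hdsum : d = ∑ i : IrrCharacter (↥C × ↥P), mm i * dg i := by
    have h1 : ψ 1 = (d : ℂ) := by
      show χ (f 1) = _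
      rw [map_one, hd]
    have h2 : ψ 1 = ∑ i : IrrCharacter (↥C × ↥P), (mm i : ℂ) * (dg i : ℂ) := by
      conv_lhs => rw [hdec]
      rw [Finset.sum_apply]
      refine Finset.sum_congr rfl fun i _ => ?_
      rw [Pi.smul_apply, smul_eq_mul, hdg]
    rw [h1] at h2
    exact_mod_cast h2
  have hkd : k ≤ d := by
    rw [hdsum, hk, Finset.card_eq_sum_ones]
    calc ∑ _i ∈ I, 1 ≤ ∑ i ∈ I, mm i * dg i := by
          refine Finset.sum_le_sum fun i hi => ?_
          have h1 : mm i ≠ 0 := (Finset.mem_filter.mp hi).2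
          have h2 := hdg0 i
          exact Nat.one_le_iff_ne_zero.mpr (Nat.mul_ne_zero h1 h2)
      _ ≤ ∑ i : IrrCharacter (↥C × ↥P), mm i * dg i :=
          Finset.sum_le_sum_of_subset (Finset.subset_univ _)
  have hkS : k ≤ Sg := by
    rw [hSg, hk, Finset.card_eq_sum_ones]
    calc ∑ _i ∈ I, 1 ≤ ∑ i ∈ I, mm i ^ 2 := by
          refine Finset.sum_le_sum fun i hi => ?_
          have h1 : mm i ≠ 0 := (Finset.mem_filter.mp hi).2
          exact Nat.one_le_iff_ne_zero.mpr (pow_ne_zero 2 h1)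
      _ ≤ ∑ i : IrrCharacter (↥C × ↥P), mm i ^ 2 :=
          Finset.sum_le_sum_of_subset (Finset.subset_univ _)
  have hk1 : 1 ≤ k := by
    rw [hk, Nat.one_le_iff_ne_zero, Ne, Finset.card_eq_zero]
    intro hI0
    apply hd0
    rw [hdsum]
    refine Finset.sum_eq_zero fun i _ => ?_
    have : i ∉ I := by rw [hI0]; exact Finset.notMem_empty _
    rw [hI, Finset.mem_filter] at this
    push Not at this
    rw [this (Finset.mem_univ _), zero_mul]
  -- the irreducible characters of the product restricted to `C`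
  have hcen : ∀ y : ↥P, ((1 : ↥C), y) ∈ Subgroup.center (↥C × ↥P) := by
    intro y
    rw [Subgroup.mem_center_iff]
    rintro ⟨c, y'⟩
    refine Prod.ext ?_ ?_
    · show c * 1 = 1 * c
      rw [mul_one, one_mul]
    · show y' * y = y * y'
      exact Subtype.ext (hPab _ y'.2 _ y.2)
  have hirrC : ∀ i : IrrCharacter (↥C × ↥P),
      ∑ c : ↥C, Complex.normSq ((i : ↥C × ↥P → ℂ) (c, 1)) = b := by
    intro i
    have h1 := irr_sum_normSq i.2
    rw [Fintype.sum_prod_type, Nat.card_prod] at h1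
    have h2 : ∀ c : ↥C, ∑ y : ↥P, Complex.normSq ((i : ↥C × ↥P → ℂ) (c, y)) =
        (Nat.card P : ℝ) * Complex.normSq ((i : ↥C × ↥P → ℂ) (c, 1)) := by
      intro c
      have h3 : ∀ y : ↥P, Complex.normSq ((i : ↥C × ↥P → ℂ) (c, y)) =
          Complex.normSq ((i : ↥C × ↥P → ℂ) (c, 1)) := by
        intro y
        have h4 := irr_normSq_center_mul i.2 (hcen y) (c, 1)
        have h5 : ((1 : ↥C), y) * (c, (1 : ↥P)) = (c, y) := by
          refine Prod.ext ?_ ?_
          · show 1 * c = c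
            rw [one_mul]
          · show y * 1 = y
            rw [mul_one]
        rw [h5] at h4
        exact h4
      rw [Finset.sum_congr rfl fun y _ => h3 y, Finset.sum_const, Finset.card_univ,
        nsmul_eq_mul, Nat.card_eq_fintype_card]
    rw [Finset.sum_congr rfl fun c _ => h2 c, ← Finset.mul_sum] at h1
    have hP0 : (Nat.card P : ℝ) ≠ 0 := by
      have : 0 < Nat.card P := Nat.card_pos
      exact_mod_cast this.ne'
    push_cast at h1
    rw [mul_comm (Nat.card ↥C : ℝ)] at h1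
    exact mul_left_cancel₀ hP0 h1
  -- the bound for `T 1`
  have hT1 : T 1 ≤ (k : ℝ) * b * (Sg : ℝ) := by
    have h1 : ∀ c : ↥C, F ((c : G) * 1) ≤
        (k : ℝ) * ∑ i ∈ I, (mm i : ℝ) ^ 2 * Complex.normSq ((i : ↥C × ↥P → ℂ) (c, 1)) := by
      intro c
      have h2 : χ ((c : G) * 1) = ∑ i ∈ I, (mm i : ℂ) * (i : ↥C × ↥P → ℂ) (c, 1) := by
        have h3 : ψ (c, 1) = χ ((c : G) * 1) := by
          show χ (f (c, 1)) = _
          rw [hf]
          rfl
        rw [← h3]
        conv_lhs => rw [hdec]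
        rw [Finset.sum_apply, hI, Finset.sum_filter]
        refine Finset.sum_congr rfl fun i _ => ?_
        rw [Pi.smul_apply, smul_eq_mul]
        by_cases hi : mm i ≠ 0
        · rw [if_pos hi]
        · rw [if_neg hi]
          push Not at hi
          rw [hi, Nat.cast_zero, zero_mul]
      show Complex.normSq (χ ((c : G) * 1)) ≤ _
      rw [h2, Complex.normSq_eq_norm_sq]
      have h4 : ‖∑ i ∈ I, (mm i : ℂ) * (i : ↥C × ↥P → ℂ) (c, 1)‖ ≤
          ∑ i ∈ I, ‖(mm i : ℂ) * (i : ↥C × ↥P → ℂ) (c, 1)‖ := norm_sum_le _ _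
      have h5 : (∑ i ∈ I, ‖(mm i : ℂ) * (i : ↥C × ↥P → ℂ) (c, 1)‖) ^ 2 ≤
          (I.card : ℝ) * ∑ i ∈ I, ‖(mm i : ℂ) * (i : ↥C × ↥P → ℂ) (c, 1)‖ ^ 2 :=
        sq_sum_le_card_mul_sum_sq
      have h6 : ‖∑ i ∈ I, (mm i : ℂ) * (i : ↥C × ↥P → ℂ) (c, 1)‖ ^ 2 ≤
          (∑ i ∈ I, ‖(mm i : ℂ) * (i : ↥C × ↥P → ℂ) (c, 1)‖) ^ 2 :=
        pow_le_pow_left₀ (norm_nonneg _) h4 2
      refine (h6.trans h5).trans (le_of_eq ?_)
      rw [hk]
      congr 1
      refine Finset.sum_congr rfl fun i _ => ?_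
      rw [norm_mul, mul_pow, Complex.norm_natCast, Complex.normSq_eq_norm_sq]
    calc T 1 = ∑ c : ↥C, F ((c : G) * 1) := rfl
      _ ≤ ∑ c : ↥C, (k : ℝ) * ∑ i ∈ I, (mm i : ℝ) ^ 2 *
            Complex.normSq ((i : ↥C × ↥P → ℂ) (c, 1)) := Finset.sum_le_sum fun c _ => h1 c
      _ = (k : ℝ) * ∑ i ∈ I, (mm i : ℝ) ^ 2 * b := by
          rw [← Finset.mul_sum, Finset.sum_comm]
          congr 1
          refine Finset.sum_congr rfl fun i _ => ?_
          rw [← Finset.mul_sum, hirrC]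
      _ = (k : ℝ) * b * (Sg : ℝ) := by
          rw [← Finset.sum_mul]
          have : ∑ i ∈ I, (mm i : ℝ) ^ 2 = (Sg : ℝ) := by
            rw [hSg, hI, Finset.sum_filter]
            push_cast
            refine Finset.sum_congr rfl fun i _ => ?_
            by_cases hi : mm i ≠ 0
            · rw [if_pos hi]
            · rw [if_neg hi]
              push Not at hi
              rw [hi]
              norm_num
          rw [this]
          ring
  -- splitting the sums over `P`
  have hcardZ : ((Finset.univ.filter (fun y : ↥P => (y : G) ∈ Z)).card : ℝ) = z := by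
    rw [hz]
    norm_cast
    rw [← Nat.card_congr (Subgroup.subgroupOfEquivOfLe hZP).toEquiv, Nat.card_eq_fintype_card,
      Fintype.card_subtype]
    rfl
  have hsplitS := (Finset.sum_filter_add_sum_filter_not Finset.univ
    (fun y : ↥P => (y : G) ∈ Z) (fun y : ↥P => S (y : G)))
  have hsplitT := (Finset.sum_filter_add_sum_filter_not Finset.univ
    (fun y : ↥P => (y : G) ∈ Z) (fun y : ↥P => T (y : G)))
  have hSZsum : ∑ y ∈ Finset.univ.filter (fun y : ↥P => (y : G) ∈ Z), S (y : G) = z * S 1 := by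
    rw [Finset.sum_congr rfl (g := fun _ => S 1), Finset.sum_const, nsmul_eq_mul, hcardZ]
    intro y hy
    exact hSZ _ (Finset.mem_filter.mp hy).2
  have hTZsum : ∑ y ∈ Finset.univ.filter (fun y : ↥P => (y : G) ∈ Z), T (y : G) = z * T 1 := by
    rw [Finset.sum_congr rfl (g := fun _ => T 1), Finset.sum_const, nsmul_eq_mul, hcardZ]
    intro y hy
    exact hTZ _ (Finset.mem_filter.mp hy).2
  have hoff : a * ∑ y ∈ Finset.univ.filter (fun y : ↥P => ¬ (y : G) ∈ Z), T (y : G) ≤
      b * ∑ y ∈ Finset.univ.filter (fun y : ↥P => ¬ (y : G) ∈ Z), S (y : G) := by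
    rw [Finset.mul_sum, Finset.mul_sum]
    refine Finset.sum_le_sum fun y hy => ?_
    exact hST _ y.2 (Finset.mem_filter.mp hy).2
  rw [hSZsum, hStot] at hsplitS
  rw [hTZsum, hTtot] at hsplitT
  -- the main inequality
  have hmain : ((p : ℝ) - k) * (Sg : ℝ) < p := by
    set X := ∑ y ∈ Finset.univ.filter (fun y : ↥P => ¬ (y : G) ∈ Z), T (y : G) with hX
    set Y := ∑ y ∈ Finset.univ.filter (fun y : ↥P => ¬ (y : G) ∈ Z), S (y : G) with hY
    have e1 : a * (b * (p * z) * (Sg : ℝ) - z * T 1) ≤ b * (a * (p * z) - z * S 1) := by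
      have hX' : X = b * (p * z) * (Sg : ℝ) - z * T 1 := by linarith
      have hY' : Y = a * (p * z) - z * S 1 := by linarith
      rw [← hX', ← hY']
      exact hoff
    have e2 : a * (b * (p * z) * (Sg : ℝ) - z * ((k : ℝ) * b * (Sg : ℝ))) ≤
        a * (b * (p * z) * (Sg : ℝ) - z * T 1) := by
      refine mul_le_mul_of_nonneg_left ?_ ha0.le
      have := mul_le_mul_of_nonneg_left hT1 hz0.le
      linarith
    have e3 : 0 < b * (z * S 1) := mul_pos hb0 (mul_pos hz0 hS1)
    have e4 : (a * b * z) * (((p : ℝ) - k) * (Sg : ℝ)) < (a * b * z) * p := by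
      have : (a * b * z) * (((p : ℝ) - k) * (Sg : ℝ)) =
          a * (b * (p * z) * (Sg : ℝ) - z * ((k : ℝ) * b * (Sg : ℝ))) := by ring
      rw [this]
      have h' : b * (a * (p * z) - z * S 1) = (a * b * z) * p - b * (z * S 1) := by ring
      linarith
    exact lt_of_mul_lt_mul_left e4 (mul_pos (mul_pos ha0 hb0) hz0).le
  -- arithmetic: `Sg = 1`
  have hSg1 : Sg = 1 := by
    by_contra hne
    have h2 : 2 ≤ Sg := by
      have : 1 ≤ Sg := hk1.trans hkS
      omega
    have hkp : k + 2 ≤ p := by omega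
    have e1 : (2 : ℝ) ≤ (p : ℝ) - k := by
      have : ((k + 2 : ℕ) : ℝ) ≤ (p : ℝ) := by exact_mod_cast hkp
      push_cast at this
      linarith
    have e2 : (2 : ℝ) ≤ (Sg : ℝ) := by exact_mod_cast h2
    have e3 : (k : ℝ) ≤ (Sg : ℝ) := by exact_mod_cast hkS
    nlinarith [mul_nonneg (sub_nonneg.mpr e1) (sub_nonneg.mpr e2)]
  -- `ψ` is irreducible
  have hψirr : IsIrrCharacter (↥C × ↥P) ψ := by
    refine isIrrCharacter_of_classInner_self_eq_one hψc ?_
    rw [hnorm, hSg1, Nat.cast_one]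
  intro y hy
  have h1 := Cfsg.Agent.Lib.Helper81.irr_center_normSq hψirr (hcen ⟨y, hy⟩)
  have h2 : ψ ((1 : ↥C), (⟨y, hy⟩ : ↥P)) = χ y := by
    show χ (f _) = _
    rw [hf]
    show χ (((1 : ↥C) : G) * y) = χ y
    rw [Subgroup.coe_one, one_mul]
  have h3 : ψ 1 = χ 1 := by
    show χ (f 1) = _
    rw [map_one]
  rw [h2, h3] at h1
  exact h1

end HHchar

end Cfsg.Agent.Lib.Helper3
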