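import Mathlib
import Cfsg.Agent.Lib.Helper3.FTBGroup
import Cfsg.Agent.Lib.Helper3.FTBChar
import Cfsg.Agent.Lib.Helper3.FTBRep
import Cfsg.Agent.Lib.Helper3.HHCount

set_option autoImplicit false
set_option linter.style.haveILetI false
set_option linter.unusedSectionVars false

/-!
The Feit–Thompson refinement of Blichfeldt's theorem on normal Sylow subgroups of linear groups of
small degree.
-/

namespace Cfsg.Agent.Lib.Helper3

open Cfsg
open scoped ComplexConjugate

universe u

/-- The minimal case: every proper subgroup has a largest `p`-subgroup. -/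
theorem ftb_minimal {G : Type u} [Group G] [Fintype G] {p : ℕ} [hp : Fact p.Prime] (n : ℕ)
    (ρ : Representation ℂ G (Fin n → ℂ)) (hρ : Function.Injective ρ)
    (hmin : ∀ K : Subgroup G, K ≠ ⊤ → ∃ S : Subgroup G, S ≤ K ∧ IsPGroup p S ∧
      ∀ R : Subgroup G, R ≤ K → IsPGroup p R → R ≤ S)
    (h : (n + 1) ^ 2 ≤ p ∨ (n + 1 < p ∧
      (¬ p ^ 2 ∣ Nat.card G → ∀ Q : Sylow p G, (Q : Subgroup G).Normal)))
    (P : Sylow p G) : (P : Subgroup G).Normal := by
  classical
  by_contra hP
  have hnp : n < p := by
    rcases h with h | h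
    · nlinarith
    · omega
  have hab : ∀ Q : Subgroup G, IsPGroup p Q → ∀ a ∈ Q, ∀ b ∈ Q, a * b = b * a :=
    fun Q hQ => pgroup_comm_of_faithful ρ hρ hnp Q hQ
  set Z : Subgroup G := (P : Subgroup G) ⊓ Subgroup.center G with hZ
  haveI hZn : Z.Normal := normal_of_le_center' inf_le_right
  have hZP : Z ≤ (P : Subgroup G) := inf_le_left
  have hZc : Z ≤ Subgroup.center G := inf_le_right
  have hΧ : IsCharacter G ρ.character := ⟨n, ρ, rfl⟩
  have hΧ1 : ρ.character 1 = (n : ℂ) := Cfsg.Agent.Lib.Helper79.rep_character_one ρ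
  have hcomm_of : ∀ a b : G, a * b * a⁻¹ * b⁻¹ = 1 → a * b = b * a := by
    intro a b h1
    have h2 : a * b * a⁻¹ = b := mul_inv_eq_one.mp h1
    exact mul_inv_eq_iff_eq_mul.mp h2
  by_cases hlin : ∀ ψ : G → ℂ, IsIrrCharacter G ψ → classInner ρ.character ψ ≠ 0 → ψ 1 = 1
  · -- `G` is abelian
    apply hP
    have hcomm : ∀ a b : G, a * b = b * a := by
      intro a b
      apply hcomm_of
      refine eq_one_of_irr_constituents ρ hρ _ (fun ψ hψ hne => ?_)
      have h1 := hlin ψ hψ hne
      rw [h1]
      refine Cfsg.Agent.Lib.Helper79.isCharacter_one_commutator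
        (IsIrrCharacter.isCharacter hψ) h1 ?_
      rw [commutator_def]
      exact Subgroup.commutator_mem_commutator (Subgroup.mem_top a) (Subgroup.mem_top b)
    exact ⟨fun x hx g => by rw [hcomm g x, mul_inv_cancel_right]; exact hx⟩
  · push Not at hlin
    obtain ⟨χ, hχ, hχne, hχ1⟩ := hlin
    obtain ⟨m, hm0, hm⟩ := Cfsg.Agent.Lib.Helper81.irr_apply_one (⟨χ, hχ⟩ : IrrCharacter G)
    have hm' : χ 1 = (m : ℂ) := hm
    have hm1 : m ≠ 1 := by
      intro h1
      apply hχ1
      rw [hm', h1, Nat.cast_one]
    have hmn : m ≤ n := constituent_degree_le hΧ hχ hχne n m hΧ1 hm'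
    have hbound := ft_quot_bound (P : Subgroup G) Z hZP hZc (hab _ P.2)
      (quot_inf_center_eq_bot hmin hab P hP Z hZ)
      (quot_centralizer_cond hmin hab P Z hZ)
      (quot_normal_closure_eq_top hmin P hP Z) hχ m hm' hm1
    have hPb : IsPGroup p ((P : Subgroup G).map (QuotientGroup.mk' Z)) := P.2.map _
    obtain ⟨j, hj⟩ := IsPGroup.iff_card.mp hPb
    have hcardP := card_eq_card_mul_card_map (P : Subgroup G) Z hZP
    rw [hj] at hbound hcardP
    have hj0 : j ≠ 0 := by
      intro h0
      apply hP
      have h1 : Nat.card (P : Subgroup G) = Nat.card Z := by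
        rw [hcardP, h0, pow_zero, mul_one]
      have hPZ : Z = (P : Subgroup G) := Subgroup.eq_of_le_of_card_ge hZP (le_of_eq h1)
      exact normal_of_le_center' (hPZ ▸ hZc)
    have hmn2 : (m + 1) ^ 2 ≤ (n + 1) ^ 2 := Nat.pow_le_pow_left (by omega) 2
    rcases h with h | ⟨hn1, hloc⟩
    · -- first case
      have h1 : p ≤ p ^ j := by
        calc p = p ^ 1 := (pow_one p).symm
          _ ≤ p ^ j := Nat.pow_le_pow_right hp.out.pos (Nat.one_le_iff_ne_zero.mpr hj0)
      omega
    · -- second case
      have hj1 : j = 1 := by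
        by_contra hne
        have h2 : 2 ≤ j := by omega
        have h3 : p ^ 2 ≤ p ^ j := Nat.pow_le_pow_right hp.out.pos h2
        have h4 : (n + 1) ^ 2 < p ^ 2 := Nat.pow_lt_pow_left hn1 (by norm_num)
        omega
      have hidx : Nat.card (P : Subgroup G) = p * Nat.card Z := by
        rw [hcardP, hj1, pow_one, mul_comm]
      have hZtriv : ∀ z ∈ (P : Subgroup G) ⊓ Subgroup.center G, z ∈ commutator G → z = 1 :=
        fun z hz hzc => eq_one_of_mem_center_of_mem_commutator P (hab _ P.2) hz.1 hz.2 hzc
      by_cases hM : commutator G = ⊤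
      · have hZ1 : Nat.card Z = 1 := by
          have hZbot : Z = ⊥ := by
            rw [eq_bot_iff]
            intro z hz
            rw [Subgroup.mem_bot]
            exact hZtriv z hz (by rw [hM]; exact Subgroup.mem_top z)
          rw [hZbot]
          exact Subgroup.card_bot
        have hPp : Nat.card (P : Subgroup G) = p := by rw [hidx, hZ1, mul_one]
        have hnd : ¬ p ^ 2 ∣ Nat.card G := by
          intro hd
          have h1 := (P : Subgroup G).card_mul_index
          rw [hPp] at h1
          rw [← h1, pow_two] at hd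
          exact P.not_dvd_index ((Nat.mul_dvd_mul_iff_left hp.out.pos).mp hd)
        exact hP (hloc hnd P)
      · obtain ⟨hcop, hcompl⟩ := commutator_isComplement' hmin hab P hP hZtriv hM
        apply hP
        apply normal_of_le_center'
        intro y hy
        rw [Subgroup.mem_center_iff]
        intro x
        symm
        apply hcomm_of
        refine eq_one_of_irr_constituents ρ hρ _ (fun ψ hψ hne => ?_)
        obtain ⟨d, hd0, hd⟩ := Cfsg.Agent.Lib.Helper81.irr_apply_one (⟨ψ, hψ⟩ : IrrCharacter G)
        have hd' : ψ 1 = (d : ℂ) := hd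
        have hdn : d ≤ n := constituent_degree_le hΧ hψ hne n d hΧ1 hd'
        have h1 := hh_normSq p (commutator G) (P : Subgroup G) Z hcop P.2 (hab _ P.2) hZP hZc hidx
          hcompl hψ d hd' (by omega) y hy
        exact irr_commutator_of_normSq_eq hψ h1 x

/-- **Feit–Thompson's refinement of Blichfeldt's theorem**, by induction on the group order. -/
theorem ftb_main (p : ℕ) [hp : Fact p.Prime] : ∀ (N : ℕ) (G : Type u) [Group G] [Finite G],
    Nat.card G = N → ∀ (n : ℕ) (ρ : Representation ℂ G (Fin n → ℂ)), Function.Injective ρ →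
    ((n + 1) ^ 2 ≤ p ∨ (n + 1 < p ∧ ∀ K : Subgroup G, ¬ p ^ 2 ∣ Nat.card K →
      ∀ Q : Sylow p K, (Q : Subgroup K).Normal)) →
    ∀ P : Sylow p G, (P : Subgroup G).Normal := by
  intro N
  induction N using Nat.strong_induction_on with
  | _ N ih =>
    intro G _ _ hN n ρ hρ h P
    haveI : Fintype G := Fintype.ofFinite G
    refine ftb_minimal n ρ hρ ?_ ?_ P
    · intro K hK
      apply exists_top_pSubgroup K
      have hlt : Nat.card K < N := by
        rw [← hN]
        by_contra hge
        push Not at hge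
        exact hK (Subgroup.eq_top_of_le_card K hge)
      refine ih (Nat.card K) hlt K rfl n (MonoidHom.comp ρ K.subtype) ?_ ?_
      · intro x y hxy
        exact Subtype.ext (hρ hxy)
      · rcases h with h | ⟨h1, h2⟩
        · exact Or.inl h
        · refine Or.inr ⟨h1, ?_⟩
          intro K' hK'
          have hcard : Nat.card (K'.map K.subtype) = Nat.card K' :=
            Nat.card_congr (K'.equivMapOfInjective K.subtype K.subtype_injective).symm.toEquiv
          exact sylow_normal_of_mulEquiv (K'.equivMapOfInjective K.subtype K.subtype_injective)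
            (h2 (K'.map K.subtype) (by rw [hcard]; exact hK'))
    · rcases h with h | ⟨h1, h2⟩
      · exact Or.inl h
      · refine Or.inr ⟨h1, fun hnd => ?_⟩
        have h3 := h2 ⊤ (by rw [Subgroup.card_top]; exact hnd)
        exact sylow_normal_of_mulEquiv Subgroup.topEquiv.symm h3

end Cfsg.Agent.Lib.Helper3
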