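import Mathlib
import Cfsg.Prelude.Def_OddOrderChar
import Cfsg.Agent.Lib.Helper3.CohUnion

set_option autoImplicit false
set_option linter.style.haveILetI false
set_option linter.unusedSectionVars false

/-!
Feit's coherence criterion: adding one character to a coherent set.
-/

namespace Cfsg.Agent.Lib.Helper3

open Cfsg
open scoped ComplexConjugate
open Cfsg.Agent.Lib.Helper25 (zspan_add zspan_neg zspan_sub zspan_zsmul zspan_zero zspan_mono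
  subset_zspan mem_zspanOn_one zspanOn_add zspanOn_neg zspanOn_sub zspanOn_zsmul zspanOn_mono
  zspanOn_zero genChar_add genChar_zero classInner_zsmul_left classInner_zsmul_right irr_degree)

section single

variable {L : Type*} [Group L] [Fintype L] {G : Type*} [Group G] [Fintype G]

/-- Elements of the integer span of a single function. -/
theorem mem_zspan_singleton {χ θ : L → ℂ} (h : θ ∈ zspan ({χ} : Set (L → ℂ))) :
    ∃ n : ℤ, θ = n • χ := by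
  unfold zspan at h
  obtain ⟨n, hn⟩ := Submodule.mem_span_singleton.mp h
  exact ⟨n, hn.symm⟩

/-- The map `θ ↦ ⟨θ, χ⟩ Θ` is a linear isometry on `ℤ χ` when `Θ` has norm one. -/
theorem singleMap_isometry {χ : L → ℂ} (hχ : IsIrrCharacter L χ) {Θ : G → ℂ}
    (hΘ : IsGeneralizedCharacter G Θ) (hΘ1 : classInner Θ Θ = 1) :
    IsLinearIsometryOn (zspan ({χ} : Set (L → ℂ))) (fun θ => classInner θ χ • Θ) := by
  have hχχ : classInner χ χ = 1 := by rw [classInner_irr hχ hχ, if_pos rfl]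
  refine ⟨?_, ?_, ?_, ?_⟩
  · intro θ₁ _ θ₂ _
    show classInner (θ₁ + θ₂) χ • Θ = classInner θ₁ χ • Θ + classInner θ₂ χ • Θ
    rw [Cfsg.Agent.Lib.Helper25.classInner_add_left, add_smul]
  · intro θ _ n
    show classInner (n • θ) χ • Θ = n • (classInner θ χ • Θ)
    rw [classInner_zsmul_left, ← Int.cast_smul_eq_zsmul ℂ n (classInner θ χ • Θ), smul_smul]
  · intro θ₁ h₁ θ₂ h₂
    obtain ⟨n₁, rfl⟩ := mem_zspan_singleton h₁
    obtain ⟨n₂, rfl⟩ := mem_zspan_singleton h₂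
    show classInner (classInner (n₁ • χ) χ • Θ) (classInner (n₂ • χ) χ • Θ) = _
    rw [Cfsg.Agent.Lib.Helper25.classInner_smul_left,
      Cfsg.Agent.Lib.Helper25.classInner_smul_right, hΘ1, classInner_zsmul_left,
      classInner_zsmul_left, classInner_zsmul_left, classInner_zsmul_right, hχχ]
    simp
  · intro θ h
    obtain ⟨n, rfl⟩ := mem_zspan_singleton h
    show IsGeneralizedCharacter G (classInner (n • χ) χ • Θ)
    rw [classInner_zsmul_left, hχχ, mul_one]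
    exact Cfsg.Agent.Lib.Helper25.genChar_intCast_smul hΘ n

end single

section criterion

variable {L : Type*} [Group L] [Fintype L] {G : Type*} [Group G] [Fintype G]

/-- The arithmetic heart of Feit's criterion. -/
theorem feit_arith (P D a m n : ℤ) (hP : 0 < P) (ha : 1 ≤ a) (hn : 0 ≤ n)
    (hD : 2 * a * P < D) (hI : P * (1 - n) = m ^ 2 * D - 2 * m * a * P) :
    (m = 0 ∧ n = 1) ∨ (m = 1 ∧ n = 0 ∧ D = (1 + 2 * a) * P) := by
  by_cases hm0 : m = 0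
  · left
    subst hm0
    refine ⟨rfl, ?_⟩
    have : P * (1 - n) = 0 := by rw [hI]; ring
    rcases mul_eq_zero.mp this with h | h
    · omega
    · omega
  · right
    have hm2 : 1 ≤ m ^ 2 := by
      have : 0 < m ^ 2 := by positivity
      omega
    -- m² D ≥ m² (2aP + 1)
    have h1 : m ^ 2 * (2 * a * P + 1) ≤ m ^ 2 * D := by
      apply mul_le_mul_of_nonneg_left _ (by positivity)
      omega
    -- P (1 - n - 2 a m (m-1)) ≥ m² > 0
    have h2 : m ^ 2 ≤ P * (1 - n - 2 * a * (m * (m - 1))) := by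
      nlinarith
    have h3 : 0 < 1 - n - 2 * a * (m * (m - 1)) := by
      by_contra hcon
      push Not at hcon
      have : P * (1 - n - 2 * a * (m * (m - 1))) ≤ 0 :=
        mul_nonpos_of_nonneg_of_nonpos hP.le hcon
      omega
    have hmm : 0 ≤ m * (m - 1) := by
      rcases le_or_gt m 0 with h | h
      · exact mul_nonneg_of_nonpos_of_nonpos h (by omega)
      · exact mul_nonneg (by omega) (by omega)
    have h4 : m * (m - 1) = 0 := by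
      by_contra hne
      have h5 : 1 ≤ m * (m - 1) := by omega
      have : 2 * 1 * 1 ≤ 2 * a * (m * (m - 1)) := by
        apply mul_le_mul (by omega) h5 (by omega) (by omega)
      omega
    have hm1 : m = 1 := by
      rcases mul_eq_zero.mp h4 with h | h
      · exact absurd h hm0
      · omega
    subst hm1
    have hn0 : n = 0 := by
      simp at h3
      omega
    subst hn0
    refine ⟨rfl, rfl, ?_⟩
    linarith

/-- **Feit's coherence criterion**: a coherent set stays coherent after adding one irreducible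
character whose degree is a multiple of the degree of a member, if the set is large enough. -/
theorem feit_criterion (S₀ : Finset (L → ℂ)) (χ : L → ℂ)
    (hirr : ∀ ξ ∈ S₀, IsIrrCharacter L ξ) (hχ : IsIrrCharacter L χ) (hχS : χ ∉ S₀)
    (d : (L → ℂ) → ℕ) (hdχ : χ 1 = (d χ : ℂ)) (hd : ∀ ξ ∈ S₀, ξ 1 = (d ξ : ℂ))
    (τ : (L → ℂ) → (G → ℂ))
    (hτ : IsLinearIsometryOn (zspanOn (insert χ (↑S₀ : Set (L → ℂ))) {1}ᶜ) τ)
    (hτ1 : ∀ α ∈ zspanOn (insert χ (↑S₀ : Set (L → ℂ))) ({1}ᶜ : Set L), τ α 1 = 0)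
    (hcoh : IsCoherent (↑S₀ : Set (L → ℂ)) ({1}ᶜ : Set L) τ)
    (ψ : L → ℂ) (hψ : ψ ∈ S₀) (hdvd : d ψ ∣ d χ)
    (hlt : 2 * d ψ * d χ < ∑ ξ ∈ S₀, d ξ ^ 2) :
    IsCoherent (insert χ (↑S₀ : Set (L → ℂ))) ({1}ᶜ : Set L) τ := by
  classical
  obtain ⟨_, τ₁, hτ₁, hagree⟩ := hcoh
  have hS₀T : (↑S₀ : Set (L → ℂ)) ⊆ insert χ (↑S₀ : Set (L → ℂ)) := Set.subset_insert _ _
  have hχT : χ ∈ insert χ (↑S₀ : Set (L → ℂ)) := Set.mem_insert _ _
  have hmemS : ∀ {ξ : L → ℂ}, ξ ∈ S₀ → ξ ∈ (↑S₀ : Set (L → ℂ)) := fun h => Finset.mem_coe.mpr h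
  have hirrS : ∀ ξ ∈ (↑S₀ : Set (L → ℂ)), IsIrrCharacter L ξ :=
    fun ξ h => hirr ξ (Finset.mem_coe.mp h)
  -- positivity of the degrees
  have hdpos : ∀ ξ ∈ S₀, 0 < d ξ := by
    intro ξ hξ
    obtain ⟨n, hn0, hn⟩ := irr_degree (hirr ξ hξ)
    rw [hd ξ hξ] at hn
    have : d ξ = n := by exact_mod_cast hn
    omega
  have hdχpos : 0 < d χ := by
    obtain ⟨n, hn0, hn⟩ := irr_degree hχ
    rw [hdχ] at hn
    have : d χ = n := by exact_mod_cast hn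
    omega
  obtain ⟨a, ha⟩ := hdvd
  have ha0 : 0 < a := by
    rcases Nat.eq_zero_or_pos a with h | h
    · rw [h, mul_zero] at ha; omega
    · exact h
  have hψpos := hdpos ψ hψ
  -- the basic element `β = χ - a ψ`
  have hβmem : χ - (a : ℤ) • ψ ∈ zspanOn (insert χ (↑S₀ : Set (L → ℂ))) ({1}ᶜ : Set L) := by
    rw [mem_zspanOn_one]
    refine ⟨zspan_sub (subset_zspan hχT) (zspan_zsmul (subset_zspan (hS₀T (hmemS hψ))) _), ?_⟩
    rw [Pi.sub_apply, Pi.smul_apply, hdχ, hd ψ hψ, ha]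
    simp only [zsmul_eq_mul]
    push_cast
    ring
  have hBgc : IsGeneralizedCharacter G (τ (χ - (a : ℤ) • ψ)) := hτ.2.2.2 _ hβmem
  have hB1 : τ (χ - (a : ℤ) • ψ) 1 = 0 := hτ1 _ hβmem
  have hχξ : ∀ ξ ∈ S₀, classInner χ ξ = 0 := fun ξ hξ => by
    rw [classInner_irr hχ (hirr ξ hξ), if_neg (fun h : χ = ξ => hχS (h.symm ▸ hξ))]
  have hξχ : ∀ ξ ∈ S₀, classInner ξ χ = 0 := fun ξ hξ => by
    rw [classInner_irr (hirr ξ hξ) hχ, if_neg (fun h : ξ = χ => hχS (h ▸ hξ))]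
  have hχχ : classInner χ χ = 1 := by rw [classInner_irr hχ hχ, if_pos rfl]
  have hψψ : classInner ψ ψ = 1 := by rw [classInner_irr (hirr ψ hψ) (hirr ψ hψ), if_pos rfl]
  have hBB : classInner (τ (χ - (a : ℤ) • ψ)) (τ (χ - (a : ℤ) • ψ)) = 1 + (a : ℂ) ^ 2 := by
    rw [hτ.2.2.1 _ hβmem _ hβmem, Cfsg.Agent.Lib.Helper25.classInner_sub_left,
      Cfsg.Agent.Lib.Helper25.classInner_sub_right,
      Cfsg.Agent.Lib.Helper25.classInner_sub_right, classInner_zsmul_left, classInner_zsmul_left,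
      classInner_zsmul_right, classInner_zsmul_right, hχχ, hχξ ψ hψ, hξχ ψ hψ, hψψ]
    push_cast
    ring
  -- orthonormality of the images
  have hon : ∀ ξ ∈ S₀, ∀ η ∈ S₀, classInner (τ₁ ξ) (τ₁ η) = if ξ = η then ((1 : ℕ) : ℂ) else 0 := by
    intro ξ hξ η hη
    rw [hτ₁.2.2.1 ξ (subset_zspan (hmemS hξ)) η (subset_zspan (hmemS hη)),
      classInner_irr (hirr ξ hξ) (hirr η hη), Nat.cast_one]
  -- the coefficients
  have hcint : ∀ ξ ∈ S₀, ∃ k : ℤ, classInner (τ (χ - (a : ℤ) • ψ)) (τ₁ ξ) = (k : ℂ) :=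
    fun ξ hξ => Cfsg.Agent.Lib.Helper25.classInner_genChar_int hBgc
      (hτ₁.2.2.2 ξ (subset_zspan (hmemS hξ)))
  have hrel : ∀ ξ ∈ S₀, (d ψ : ℂ) * classInner (τ (χ - (a : ℤ) • ψ)) (τ₁ ξ)
      - (d ξ : ℂ) * classInner (τ (χ - (a : ℤ) • ψ)) (τ₁ ψ) =
      -(a : ℂ) * (d ψ : ℂ) * (if ψ = ξ then 1 else 0) + (a : ℂ) * (d ξ : ℂ) := by
    intro ξ hξ
    have hc := crossComb_mem_zspanOn (X := (↑S₀ : Set (L → ℂ))) (hmemS hξ) (hmemS hψ)
      (d ξ) (d ψ) (hd ξ hξ) (hd ψ hψ)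
    have h1 := isometry_crossComb hτ₁ (hmemS hξ) (hmemS hψ) (d ξ) (d ψ)
    have h2 := hτ.2.2.1 _ hβmem _ (zspanOn_mono hS₀T hc)
    rw [← hagree _ hc, h1, classInner_zcomb_right] at h2
    rw [h2, classInner_crossComb_right, Cfsg.Agent.Lib.Helper25.classInner_sub_left,
      Cfsg.Agent.Lib.Helper25.classInner_sub_left, classInner_zsmul_left, classInner_zsmul_left,
      hχξ ξ hξ, hχξ ψ hψ, hψψ, classInner_irr (hirr ψ hψ) (hirr ξ hξ)]
    push_cast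
    ring
  obtain ⟨k, hk⟩ := hcint ψ hψ
  -- `dψ c_ξ = m dξ - a dψ δ`
  have hrel' : ∀ ξ ∈ S₀, (d ψ : ℂ) * classInner (τ (χ - (a : ℤ) • ψ)) (τ₁ ξ) =
      ((k + a : ℤ) : ℂ) * (d ξ : ℂ) - (a : ℂ) * (d ψ : ℂ) * (if ψ = ξ then 1 else 0) := by
    intro ξ hξ
    have := hrel ξ hξ
    rw [hk] at this
    push_cast
    linear_combination this
  -- Bessel
  have hbess := Cfsg.Agent.Lib.Helper25.bessel_orthogonal S₀ τ₁ (fun _ => 1)
    (fun _ _ => one_ne_zero) hon (τ (χ - (a : ℤ) • ψ))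
  simp only [Nat.cast_one, div_one] at hbess
  -- the remainder `Θ`
  have hPgc : IsGeneralizedCharacter G
      (∑ ξ ∈ S₀, classInner (τ (χ - (a : ℤ) • ψ)) (τ₁ ξ) • τ₁ ξ) := by
    apply Cfsg.Agent.Lib.Helper25.genChar_sum
    intro ξ hξ
    obtain ⟨kξ, hkξ⟩ := hcint ξ hξ
    rw [hkξ]
    exact Cfsg.Agent.Lib.Helper25.genChar_intCast_smul
      (hτ₁.2.2.2 ξ (subset_zspan (hmemS hξ))) kξ
  have hΘgc : IsGeneralizedCharacter G (τ (χ - (a : ℤ) • ψ) -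
      ∑ ξ ∈ S₀, classInner (τ (χ - (a : ℤ) • ψ)) (τ₁ ξ) • τ₁ ξ) :=
    Cfsg.Agent.Lib.Helper25.genChar_sub hBgc hPgc
  have hΘorth : ∀ η ∈ S₀, classInner (τ (χ - (a : ℤ) • ψ) -
      ∑ ξ ∈ S₀, classInner (τ (χ - (a : ℤ) • ψ)) (τ₁ ξ) • τ₁ ξ) (τ₁ η) = 0 := by
    intro η hη
    rw [Cfsg.Agent.Lib.Helper25.classInner_sub_left,
      Cfsg.Agent.Lib.Helper25.classInner_sum_left]
    have : ∑ ξ ∈ S₀, classInner (classInner (τ (χ - (a : ℤ) • ψ)) (τ₁ ξ) • τ₁ ξ) (τ₁ η) =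
        ∑ ξ ∈ S₀, (if ξ = η then classInner (τ (χ - (a : ℤ) • ψ)) (τ₁ ξ) else 0) := by
      apply Finset.sum_congr rfl
      intro ξ hξ
      rw [Cfsg.Agent.Lib.Helper25.classInner_smul_left, hon ξ hξ η hη]
      split_ifs with h
      · rw [Nat.cast_one, mul_one]
      · rw [mul_zero]
    rw [this, Finset.sum_ite_eq' S₀ η, if_pos hη, sub_self]
  obtain ⟨n, hn⟩ := Cfsg.Agent.Lib.Helper25.classInner_genChar_int hΘgc hΘgc
  have hn0 : 0 ≤ n := by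
    have h := Cfsg.Agent.Lib.Helper25.classInner_self_re_nonneg (τ (χ - (a : ℤ) • ψ) -
      ∑ ξ ∈ S₀, classInner (τ (χ - (a : ℤ) • ψ)) (τ₁ ξ) • τ₁ ξ)
    rw [hn] at h
    simpa using h
  -- the integer identity
  have hsum : (d ψ : ℂ) ^ 2 * ∑ ξ ∈ S₀, classInner (τ (χ - (a : ℤ) • ψ)) (τ₁ ξ) *
      conj (classInner (τ (χ - (a : ℤ) • ψ)) (τ₁ ξ)) =
      ((k + a : ℤ) : ℂ) ^ 2 * ((∑ ξ ∈ S₀, d ξ ^ 2 : ℕ) : ℂ) +
        ((a : ℂ) ^ 2 * (d ψ : ℂ) ^ 2 - 2 * ((k + a : ℤ) : ℂ) * (a : ℂ) * (d ψ : ℂ) ^ 2) := by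
    rw [Finset.mul_sum]
    have hterm : ∀ ξ ∈ S₀, (d ψ : ℂ) ^ 2 * (classInner (τ (χ - (a : ℤ) • ψ)) (τ₁ ξ) *
        conj (classInner (τ (χ - (a : ℤ) • ψ)) (τ₁ ξ))) =
        ((k + a : ℤ) : ℂ) ^ 2 * ((d ξ : ℂ)) ^ 2 + (if ψ = ξ then
          ((a : ℂ) ^ 2 * (d ψ : ℂ) ^ 2 - 2 * ((k + a : ℤ) : ℂ) * (a : ℂ) * (d ψ : ℂ) * (d ξ : ℂ))
          else 0) := by
      intro ξ hξ
      have h1 := hrel' ξ hξ
      have h2 : (d ψ : ℂ) * conj (classInner (τ (χ - (a : ℤ) • ψ)) (τ₁ ξ)) =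
          ((k + a : ℤ) : ℂ) * (d ξ : ℂ) - (a : ℂ) * (d ψ : ℂ) * (if ψ = ξ then 1 else 0) := by
        have := congrArg conj h1
        simpa [apply_ite] using this
      have h3 : (d ψ : ℂ) ^ 2 * (classInner (τ (χ - (a : ℤ) • ψ)) (τ₁ ξ) *
          conj (classInner (τ (χ - (a : ℤ) • ψ)) (τ₁ ξ))) =
          ((d ψ : ℂ) * classInner (τ (χ - (a : ℤ) • ψ)) (τ₁ ξ)) *
          ((d ψ : ℂ) * conj (classInner (τ (χ - (a : ℤ) • ψ)) (τ₁ ξ))) := by ring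
      rw [h3, h1, h2]
      split_ifs with h
      · ring
      · ring
    rw [Finset.sum_congr rfl hterm, Finset.sum_add_distrib, Finset.sum_ite_eq S₀ ψ, if_pos hψ,
      ← Finset.mul_sum]
    push_cast
    ring
  have hI : ((d ψ : ℤ) ^ 2) * (1 - n) =
      (k + a) ^ 2 * ((∑ ξ ∈ S₀, d ξ ^ 2 : ℕ) : ℤ) - 2 * (k + a) * (a : ℤ) * ((d ψ : ℤ) ^ 2) := by
    have h1 : (d ψ : ℂ) ^ 2 * (n : ℂ) = (d ψ : ℂ) ^ 2 * (1 + (a : ℂ) ^ 2) -
        (d ψ : ℂ) ^ 2 * ∑ ξ ∈ S₀, classInner (τ (χ - (a : ℤ) • ψ)) (τ₁ ξ) *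
          conj (classInner (τ (χ - (a : ℤ) • ψ)) (τ₁ ξ)) := by
      rw [← hn, hbess, hBB]; ring
    rw [hsum] at h1
    have h2 : (((d ψ : ℤ) ^ 2) * (1 - n) : ℂ) =
        ((k + a : ℤ) : ℂ) ^ 2 * ((∑ ξ ∈ S₀, d ξ ^ 2 : ℕ) : ℂ) -
          2 * ((k + a : ℤ) : ℂ) * (a : ℂ) * ((d ψ : ℂ) ^ 2) := by
      push_cast
      push_cast at h1
      linear_combination -h1
    exact_mod_cast h2
  have harith := feit_arith ((d ψ : ℤ) ^ 2) ((∑ ξ ∈ S₀, d ξ ^ 2 : ℕ) : ℤ) (a : ℤ) (k + a) n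
    (by positivity) (by exact_mod_cast ha0) hn0
    (by
      have : 2 * a * (d ψ) ^ 2 < ∑ ξ ∈ S₀, d ξ ^ 2 := by
        rw [ha] at hlt
        calc 2 * a * d ψ ^ 2 = 2 * d ψ * (d ψ * a) := by ring
          _ < _ := hlt
      exact_mod_cast this) hI
  -- name the remainder
  obtain ⟨Θ, hΘ⟩ : ∃ Θ : G → ℂ, Θ = τ (χ - (a : ℤ) • ψ) -
      ∑ ξ ∈ S₀, classInner (τ (χ - (a : ℤ) • ψ)) (τ₁ ξ) • τ₁ ξ := ⟨_, rfl⟩
  rw [← hΘ] at hΘgc hΘorth hn
  have hdψc : (d ψ : ℂ) ≠ 0 := by exact_mod_cast hψpos.ne'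
  rcases harith with ⟨hm, hn1⟩ | ⟨hm, hn0', hD⟩
  · -- the good case: `m = 0`, `‖Θ‖ = 1`
    have hcoef : ∀ ξ ∈ S₀, classInner (τ (χ - (a : ℤ) • ψ)) (τ₁ ξ) =
        if ψ = ξ then -(a : ℂ) else 0 := by
      intro ξ hξ
      have h1 := hrel' ξ hξ
      rw [hm] at h1
      apply mul_left_cancel₀ hdψc
      rw [h1]
      split_ifs <;> push_cast <;> ring
    have hB : τ (χ - (a : ℤ) • ψ) = Θ - (a : ℤ) • τ₁ ψ := by
      have hs : ∑ ξ ∈ S₀, classInner (τ (χ - (a : ℤ) • ψ)) (τ₁ ξ) • τ₁ ξ =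
          ∑ ξ ∈ S₀, (if ψ = ξ then (-(a : ℂ)) • τ₁ ξ else 0) := by
        apply Finset.sum_congr rfl
        intro ξ hξ
        rw [hcoef ξ hξ]
        split_ifs
        · rfl
        · rw [zero_smul]
      rw [hs, Finset.sum_ite_eq S₀ ψ, if_pos hψ] at hΘ
      rw [hΘ, ← Int.cast_smul_eq_zsmul ℂ (a : ℤ) (τ₁ ψ)]
      push_cast
      rw [neg_smul]
      abel
    have hΘ1 : classInner Θ Θ = 1 := by rw [hn, hn1]; simp
    have hXY : Disjoint (↑S₀ : Set (L → ℂ)) ({χ} : Set (L → ℂ)) :=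
      Set.disjoint_singleton_right.mpr (fun h => hχS (Finset.mem_coe.mp h))
    have hYirr : ∀ ξ ∈ ({χ} : Set (L → ℂ)), IsIrrCharacter L ξ := by
      intro ξ hξ
      rw [Set.mem_singleton_iff] at hξ
      rw [hξ]; exact hχ
    have hτ' := singleMap_isometry hχ hΘgc hΘ1
    have h0 : ∀ ξ ∈ (↑S₀ : Set (L → ℂ)), ∀ η ∈ ({χ} : Set (L → ℂ)),
        classInner (τ₁ ξ) ((fun θ => classInner θ χ • Θ) η) = 0 := by
      intro ξ hξ η hη
      rw [Set.mem_singleton_iff] at hη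
      show classInner (τ₁ ξ) (classInner η χ • Θ) = 0
      rw [Cfsg.Agent.Lib.Helper25.classInner_smul_right,
        ← Cfsg.Agent.Lib.Helper25.classInner_conj_symm Θ (τ₁ ξ),
        hΘorth ξ (Finset.mem_coe.mp hξ), map_zero, mul_zero]
    have hglue := glueMap_isometry hirrS hYirr hXY hτ₁ hτ' h0
    rw [Set.union_singleton] at hglue
    refine ⟨⟨χ - (a : ℤ) • ψ, hβmem, ?_⟩, _, hglue, ?_⟩
    · intro h
      have h1 : classInner (χ - (a : ℤ) • ψ) χ = 1 := by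
        rw [Cfsg.Agent.Lib.Helper25.classInner_sub_left, classInner_zsmul_left, hχχ,
          hξχ ψ hψ]
        ring
      rw [h, Cfsg.Agent.Lib.Helper25.classInner_zero_left] at h1
      exact zero_ne_one h1
    · intro θ hθ
      obtain ⟨hθz, hθ1⟩ := mem_zspanOn_one.mp hθ
      rw [← Set.union_singleton] at hθz
      obtain ⟨x, hx, y, hy, rfl⟩ := zspan_union_decomp hθz
      obtain ⟨n', rfl⟩ := mem_zspan_singleton hy
      rw [glueMap_apply τ₁ _ hirrS hYirr hXY hx hy]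
      show τ₁ x + classInner (n' • χ) χ • Θ = τ (x + n' • χ)
      rw [classInner_zsmul_left, hχχ, mul_one]
      -- the decomposition of `θ`
      have hwmem : x + (n' * (a : ℤ)) • ψ ∈ zspanOn (↑S₀ : Set (L → ℂ)) ({1}ᶜ : Set L) := by
        rw [mem_zspanOn_one]
        refine ⟨zspan_add hx (zspan_zsmul (subset_zspan (hmemS hψ)) _), ?_⟩
        rw [Pi.add_apply, Pi.smul_apply, hdχ, ha] at hθ1
        rw [Pi.add_apply, Pi.smul_apply, hd ψ hψ]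
        simp only [zsmul_eq_mul] at hθ1 ⊢
        push_cast at hθ1 ⊢
        linear_combination hθ1
      have hdec : x + n' • χ = n' • (χ - (a : ℤ) • ψ) + (x + (n' * (a : ℤ)) • ψ) := by
        rw [smul_sub, smul_smul]
        abel
      have hτw : τ (x + (n' * (a : ℤ)) • ψ) = τ₁ x + (n' * (a : ℤ)) • τ₁ ψ := by
        rw [← hagree _ hwmem, hτ₁.1 x hx _ (zspan_zsmul (subset_zspan (hmemS hψ)) _),
          hτ₁.2.1 ψ (subset_zspan (hmemS hψ))]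
      rw [hdec, hτ.1 _ (zspanOn_zsmul hβmem n') _ (zspanOn_mono hS₀T hwmem),
        hτ.2.1 _ hβmem n', hτw, hB, smul_sub, smul_smul,
        ← Int.cast_smul_eq_zsmul ℂ n' Θ]
      abel
  · -- the impossible case
    exfalso
    have hΘ0 : Θ = 0 := by
      apply Cfsg.Agent.Lib.Helper25.classInner_self_eq_zero
      rw [hn, hn0']; simp
    have hBsum : τ (χ - (a : ℤ) • ψ) =
        ∑ ξ ∈ S₀, classInner (τ (χ - (a : ℤ) • ψ)) (τ₁ ξ) • τ₁ ξ := by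
      rw [hΘ0] at hΘ
      exact sub_eq_zero.mp hΘ.symm
    have hval : ∀ ξ ∈ S₀, (d ψ : ℂ) * τ₁ ξ 1 = (d ξ : ℂ) * τ₁ ψ 1 := by
      intro ξ hξ
      have hc := crossComb_mem_zspanOn (X := (↑S₀ : Set (L → ℂ))) (hmemS hξ) (hmemS hψ)
        (d ξ) (d ψ) (hd ξ hξ) (hd ψ hψ)
      have h1 := isometry_crossComb hτ₁ (hmemS hξ) (hmemS hψ) (d ξ) (d ψ)
      have h2 := hτ1 _ (zspanOn_mono hS₀T hc)
      rw [← hagree _ hc, h1, Pi.add_apply, Pi.smul_apply, Pi.smul_apply] at h2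
      simp only [zsmul_eq_mul, Int.cast_natCast, Int.cast_neg] at h2
      linear_combination h2
    have hnorm : classInner (τ₁ ψ) (τ₁ ψ) = 1 := by
      rw [hon ψ hψ ψ hψ, if_pos rfl, Nat.cast_one]
    have hv : τ₁ ψ 1 ≠ 0 :=
      (norm_one_pair (hτ₁.2.2.2 ψ (subset_zspan (hmemS hψ)))
        (hτ₁.2.2.2 ψ (subset_zspan (hmemS hψ))) hnorm hnorm).1
    have h3 := congrFun hBsum 1
    rw [hB1, Finset.sum_apply] at h3
    have h4 : (d ψ : ℂ) ^ 2 * ∑ ξ ∈ S₀,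
        (classInner (τ (χ - (a : ℤ) • ψ)) (τ₁ ξ) • τ₁ ξ) 1 =
        τ₁ ψ 1 * (((∑ ξ ∈ S₀, d ξ ^ 2 : ℕ) : ℂ) - (a : ℂ) * (d ψ : ℂ) ^ 2) := by
      rw [Finset.mul_sum]
      have hterm : ∀ ξ ∈ S₀, (d ψ : ℂ) ^ 2 *
          (classInner (τ (χ - (a : ℤ) • ψ)) (τ₁ ξ) • τ₁ ξ) 1 =
          τ₁ ψ 1 * (d ξ : ℂ) ^ 2 + (if ψ = ξ then
            (-(a : ℂ) * (d ψ : ℂ) * (d ξ : ℂ) * τ₁ ψ 1) else 0) := by
        intro ξ hξ
        have h5 : (d ψ : ℂ) ^ 2 * (classInner (τ (χ - (a : ℤ) • ψ)) (τ₁ ξ) • τ₁ ξ) 1 =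
            ((d ψ : ℂ) * classInner (τ (χ - (a : ℤ) • ψ)) (τ₁ ξ)) *
              ((d ψ : ℂ) * τ₁ ξ 1) := by
          rw [Pi.smul_apply, smul_eq_mul]; ring
        rw [h5, hrel' ξ hξ, hval ξ hξ, hm]
        split_ifs <;> push_cast <;> ring
      rw [Finset.sum_congr rfl hterm, Finset.sum_add_distrib, Finset.sum_ite_eq S₀ ψ, if_pos hψ,
        ← Finset.mul_sum]
      push_cast
      ring
    rw [← h3, mul_zero] at h4
    have h6 : ((∑ ξ ∈ S₀, d ξ ^ 2 : ℕ) : ℂ) - (a : ℂ) * (d ψ : ℂ) ^ 2 = 0 := by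
      rcases mul_eq_zero.mp h4.symm with h | h
      · exact absurd h hv
      · exact h
    have h7 : ((∑ ξ ∈ S₀, d ξ ^ 2 : ℕ) : ℤ) = (a : ℤ) * (d ψ : ℤ) ^ 2 := by
      have : (((∑ ξ ∈ S₀, d ξ ^ 2 : ℕ) : ℤ) : ℂ) = (((a : ℤ) * (d ψ : ℤ) ^ 2 : ℤ) : ℂ) := by
        push_cast at h6 ⊢
        linear_combination h6
      exact_mod_cast this
    rw [h7] at hD
    have hPpos : (0 : ℤ) < (d ψ : ℤ) ^ 2 := by positivity
    have ha1 : (0 : ℤ) < (a : ℤ) := by exact_mod_cast ha0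
    nlinarith

end criterion

end Cfsg.Agent.Lib.Helper3
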