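import Mathlib
import Cfsg.Agent.Lib.Helper53.Transfer

set_option autoImplicit false

/-!
# A simple group with Klein four Sylow `2`-subgroups has one class of involutions
-/

namespace Cfsg.Agent.Lib.Helper3.KleinClass

open Subgroup

variable {G : Type*} [Group G] [Finite G]

/-- every involution of a simple group whose Sylow `2`-subgroup `S` has order `4` is conjugate to
any given involution `a` of `S` -/
theorem conj_to_of_card_four [IsSimpleGroup G] (S : Sylow 2 G) (hS : Nat.card S = 4) {a : G}
    (haS : a ∈ (S : Subgroup G)) (ha : orderOf a = 2) {x : G} (hx : orderOf x = 2) :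
    ∃ g : G, g * x * g⁻¹ = a := by
  classical
  by_contra hcon
  push Not at hcon
  have hMle : zpowers a ≤ (S : Subgroup G) := by
    rw [zpowers_le]; exact haS
  have hMcard : Nat.card (zpowers a) = 2 := by rw [Nat.card_zpowers, ha]
  have hrel : (zpowers a).relIndex (S : Subgroup G) = 2 := by
    have h1 := relIndex_mul_relIndex (⊥ : Subgroup G) (zpowers a) (S : Subgroup G) bot_le hMle
    rw [relIndex_bot_left, relIndex_bot_left, hMcard, hS] at h1
    omega
  have hmemM : ∀ y : G, y ∈ zpowers a → y = 1 ∨ y = a := by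
    intro y hy
    obtain ⟨k, rfl⟩ := mem_zpowers_iff.mp hy
    have h2 : a ^ (2 : ℤ) = 1 := by
      have := pow_orderOf_eq_one a
      rw [ha] at this
      exact_mod_cast this
    rcases Int.emod_two_eq_zero_or_one k with hk | hk
    · left
      have : k = 2 * (k / 2) := by omega
      rw [this, zpow_mul, h2, one_zpow]
    · right
      have : k = 2 * (k / 2) + 1 := by omega
      rw [this, zpow_add, zpow_mul, h2, one_zpow, one_mul, zpow_one]
  have hx1 : x ≠ 1 := by
    intro h; rw [h, orderOf_one] at hx; omega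
  have hcon' : ∀ g : G, g * x * g⁻¹ ∉ zpowers a := by
    intro g hg
    rcases hmemM _ hg with h | h
    · apply hx1
      calc x = g⁻¹ * (g * x * g⁻¹) * g := by group
        _ = 1 := by rw [h]; group
    · exact hcon g h
  obtain ⟨N, hN, hidx, -⟩ := Cfsg.Agent.Lib.Helper53.thompson_transfer S (zpowers a) hrel 1
    le_rfl (by
      intro y _ hyM
      have : y ≠ 1 := fun h => hyM (by rw [h]; exact one_mem _)
      have h1 : orderOf y ≠ 1 := fun h => this (orderOf_eq_one_iff.mp h)
      have h0 : 0 < orderOf y := orderOf_pos y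
      simp only [Nat.sub_self, pow_zero]
      omega) x (by simpa using hx) hcon'
  rcases hN.eq_bot_or_eq_top with h | h
  · rw [h, index_bot] at hidx
    have h4 : Nat.card S ∣ Nat.card G := Subgroup.card_subgroup_dvd_card (S : Subgroup G)
    rw [hS, hidx] at h4
    omega
  · rw [h, index_top] at hidx
    omega

/-- a simple group whose Sylow `2`-subgroup has order `4` has one class of involutions -/
theorem one_class_of_card_four [IsSimpleGroup G] (S : Sylow 2 G) (hS : Nat.card S = 4)
    (x y : G) (hx : orderOf x = 2) (hy : orderOf y = 2) : ∃ g : G, g * x * g⁻¹ = y := by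
  -- an involution in `S`
  have : Fact (Nat.Prime 2) := ⟨Nat.prime_two⟩
  obtain ⟨a, ha⟩ := exists_prime_orderOf_dvd_card' (G := S) 2 (by rw [hS]; norm_num)
  have haG : orderOf (a : G) = 2 := by rw [Subgroup.orderOf_coe]; exact ha
  obtain ⟨g, hg⟩ := conj_to_of_card_four S hS a.2 haG hx
  obtain ⟨k, hk⟩ := conj_to_of_card_four S hS a.2 haG hy
  refine ⟨k⁻¹ * g, ?_⟩
  calc k⁻¹ * g * x * (k⁻¹ * g)⁻¹ = k⁻¹ * (g * x * g⁻¹) * k := by group
    _ = k⁻¹ * (k * y * k⁻¹) * k := by rw [hg, hk]
    _ = y := by group

/-- the same for a Sylow `2`-subgroup isomorphic to `DihedralGroup 2` -/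
theorem one_class_of_dihedral_two [IsSimpleGroup G] (S : Sylow 2 G)
    (hS : Nonempty ((S : Subgroup G) ≃* DihedralGroup 2))
    (x y : G) (hx : orderOf x = 2) (hy : orderOf y = 2) : ∃ g : G, g * x * g⁻¹ = y := by
  obtain ⟨e⟩ := hS
  have hcard : Nat.card S = 4 := by
    rw [Nat.card_congr e.toEquiv, DihedralGroup.nat_card]
  exact one_class_of_card_four S hcard x y hx hy

end Cfsg.Agent.Lib.Helper3.KleinClass
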