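import Mathlib
import Cfsg.Prelude.Def_Balance
import Cfsg.Agent.Lib.Helper22.FStar
import Cfsg.Agent.Lib.Helper23.PComponent

/-! # S1305 hive (MC), leaf MC-OSN : the join of a set of components is subnormal. -/

set_option autoImplicit false

open Cfsg

namespace Cfsg.Agent.Lib.Helper18.Mc

open Subgroup

/-- every component lies in the layer -/
theorem mcosn_le_layer {X : Type*} [Group X] {L : Subgroup X} (hL : IsComponent L) : L ≤ layer X :=
  le_sSup (a := L) hL

/-- the layer normalizes every component -/
theorem mcosn_layer_le_normalizer {X : Type*} [Group X] [Finite X] {L : Subgroup X} (hL : IsComponent L) :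
    layer X ≤ normalizer (L : Set X) :=
  sSup_le fun _ hL' => Cfsg.Agent.Lib.Helper23.component_le_normalizer hL hL'

/-- MC-OSN.  The join of a set of components is subnormal (each is normal in the layer; the layer is normal). -/
theorem sSup_comp_subnormal {X : Type*} [Group X] [Finite X] (S : Set (Subgroup X)) (hS : ∀ L ∈ S, IsComponent L) :
    (sSup S).IsSubnormal := by
  have hEn : (layer X).Normal := Cfsg.Agent.Lib.Helper22.layer_normal X
  have hle : sSup S ≤ layer X := sSup_le fun L hL => mcosn_le_layer (hS L hL)
  -- the layer normalizes the join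
  have hnorm : layer X ≤ normalizer ((sSup S : Subgroup X) : Set X) := by
    intro g hg
    rw [mem_normalizer_iff]
    -- conjugation by `g` maps the join into itself, and so does conjugation by `g⁻¹`
    have key : ∀ g ∈ layer X, ∀ x ∈ sSup S, g * x * g⁻¹ ∈ sSup S := by
      intro g hg x hx
      have hmap : (sSup S).map (MulAut.conj g).toMonoidHom ≤ sSup S := by
        rw [Subgroup.map_le_iff_le_comap]
        refine sSup_le fun L hL => ?_
        have hgL : g ∈ normalizer (L : Set X) := mcosn_layer_le_normalizer (hS L hL) hg
        intro y hy
        rw [Subgroup.mem_comap]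
        have h1 : g * y * g⁻¹ ∈ L := (mem_normalizer_iff.mp hgL y).mp hy
        have h2 : (MulAut.conj g).toMonoidHom y = g * y * g⁻¹ := by
          simp [MulAut.conj_apply]
        rw [h2]
        exact (le_sSup hL) h1
      have : (MulAut.conj g).toMonoidHom x ∈ (sSup S).map (MulAut.conj g).toMonoidHom :=
        Subgroup.mem_map_of_mem _ hx
      have h2 := hmap this
      simpa [MulAut.conj_apply] using h2
    intro x
    constructor
    · intro hx
      exact key g hg x hx
    · intro hx
      have := key g⁻¹ (inv_mem hg) _ hx
      simpa [mul_assoc] using this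
  have hN : ((sSup S).subgroupOf (layer X)).Normal :=
    (normal_subgroupOf_iff_le_normalizer hle).mpr hnorm
  exact IsSubnormal.step _ _ hle hEn.isSubnormal hN

end Cfsg.Agent.Lib.Helper18.Mc
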