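import Mathlib
import Cfsg.Agent.Lib.Helper67.OgDefs
import Cfsg.Agent.Lib.Helper67.OgFam
import Cfsg.Agent.Lib.Helper37.OrthMinus
import Cfsg.Agent.Lib.Helper43.OrthCardMinus
import Cfsg.Agent.Lib.Helper39.SLPerfect
import Cfsg.Agent.Lib.Helper37.OrthOdd1
import Cfsg.Agent.Lib.Helper8.OmegaPoints

/-!
# Og hive (helper67; S2413), leaf OG-O-RHO3 (helper3):
the extra involution `ρ = E(e, w0) * E(f, -w0)` of the odd orthogonal group over `F_3`
-/

set_option autoImplicit false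
set_option linter.unusedSectionVars false
set_option linter.unusedVariables false

namespace Cfsg.Agent.Lib.Helper67.Og

open Matrix Module QuadraticMap
open Cfsg.Agent.Lib.Helper37 Cfsg.Agent.Lib.Helper8 Cfsg.Agent.Lib.Helper43
open Cfsg.Agent.Lib.Helper37.OrthField
open scoped commutatorElement

section concrete

variable (F : Type*) [Field F]

/-- the anisotropic vector `w0` of the odd form -/
abbrev ogorho3_w (m : ℕ) : Unit ⊕ (Fin m ⊕ Fin m) → F := Pi.single (Sum.inl ()) 1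

theorem ogorho3_polar_w (m : ℕ) (x : Unit ⊕ (Fin m ⊕ Fin m) → F) :
    polar ⇑(oddForm m F) (ogorho3_w F m) x = 2 * x (Sum.inl ()) := by
  rw [polar_oddForm]
  simp [Pi.single_apply]

theorem ogorho3_Q_w (m : ℕ) : oddForm m F (ogorho3_w F m) = 1 := by
  rw [← oddForm_coe]
  simp [Cfsg.quadFormOdd]

theorem ogorho3_Q_neg_w (m : ℕ) : oddForm m F (-ogorho3_w F m) = 1 := by
  rw [QuadraticMap.map_neg, ogorho3_Q_w]

theorem ogorho3_wpart_inl (m : ℕ) (x : Unit ⊕ (Fin m ⊕ Fin m) → F) :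
    Wpart (oddForm m F) (eO F m) (fO F m) x (Sum.inl ()) = x (Sum.inl ()) := by
  unfold Wpart
  simp [Pi.single_apply]

/-- the element `ρ` -/
noncomputable def ogorho3_rho (m : ℕ) (h2 : (2 : F) ≠ 0) (i2 : Fin m) :
    ↥(Cfsg.isometryGroup F ⇑(oddForm m F)) :=
  eichlerElt (oddForm m F) (odd_nondeg m h2) (eO F m i2) (ogorho3_w F m)
      (oddForm_single_inl m F i2) (by rw [polar_oddForm_inl]; simp)
    * eichlerElt (oddForm m F) (odd_nondeg m h2) (fO F m i2) (-ogorho3_w F m)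
      (oddForm_single_inr m F i2) (by rw [polar_oddForm_inr]; simp)

theorem ogorho3_act (m : ℕ) (h2 : (2 : F) ≠ 0) (i2 : Fin m)
    (x : Unit ⊕ (Fin m ⊕ Fin m) → F) :
    act (oddForm m F) (ogorho3_rho F m h2 i2) x
      = x + (x (Sum.inr (Sum.inr i2)) + 2 * x (Sum.inl ()) - 2 * x (Sum.inr (Sum.inl i2)))
            • ogorho3_w F m
          + (2 * x (Sum.inl ()) - x (Sum.inr (Sum.inl i2))) • fO F m i2
          - (x (Sum.inr (Sum.inr i2)) + 2 * (2 * x (Sum.inl ()))
              - 3 * x (Sum.inr (Sum.inl i2))) • eO F m i2 := by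
  unfold ogorho3_rho
  rw [act_mul, act_eichlerElt, act_eichlerElt]
  simp only [polar_add_right, polar_sub_right, polar_smul_right, polar_neg_right,
    polar_neg_left, polar_oddForm_inl, polar_oddForm_inr, ogorho3_polar_w, ogorho3_Q_w,
    ogorho3_Q_neg_w, smul_eq_mul, Pi.single_apply, Pi.neg_apply]
  simp only [reduceCtorEq, if_false, if_true, Sum.inr.injEq, Sum.inl.injEq]
  module

theorem ogorho3_sq (m : ℕ) (h2 : (2 : F) ≠ 0) (h3 : (3 : F) = 0) (i2 : Fin m) :
    ogorho3_rho F m h2 i2 ^ 2 = 1 := by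
  rw [pow_two]
  apply iso_ext
  intro x
  change act (oddForm m F) (ogorho3_rho F m h2 i2 * ogorho3_rho F m h2 i2) x
    = act (oddForm m F) 1 x
  rw [act_mul, act_one, ogorho3_act, ogorho3_act]
  simp only [Pi.add_apply, Pi.sub_apply, Pi.smul_apply, Pi.single_apply, smul_eq_mul,
    reduceCtorEq, if_false, if_true, mul_zero, mul_one, add_zero, sub_zero,
    Sum.inr.injEq, Sum.inl.injEq]
  rw [← sub_eq_zero]
  have key : ∀ (a b c : F) (w f e : Unit ⊕ (Fin m ⊕ Fin m) → F),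
      x + (a + 2 * c - 2 * b) • w + (2 * c - b) • f - (a + 2 * (2 * c) - 3 * b) • e
        + ((a + (2 * c - b)) + 2 * (c + (a + 2 * c - 2 * b))
            - 2 * (b - (a + 2 * (2 * c) - 3 * b))) • w
        + (2 * (c + (a + 2 * c - 2 * b)) - (b - (a + 2 * (2 * c) - 3 * b))) • f
        - ((a + (2 * c - b)) + 2 * (2 * (c + (a + 2 * c - 2 * b)))
            - 3 * (b - (a + 2 * (2 * c) - 3 * b))) • e - x
      = (3 : F) • ((2 * a + 3 * (2 * c) - 5 * b) • w + (a + 2 * (2 * c) - 3 * b) • f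
          + (-(3 * a) - 5 * (2 * c) + 8 * b) • e) := by
    intro a b c w f e
    module
  rw [key (x (Sum.inr (Sum.inr i2))) (x (Sum.inr (Sum.inl i2))) (x (Sum.inl ())), h3, zero_smul]

theorem exists_rho_odd_three [Fintype F] (hF : Fintype.card F = 3) (m : ℕ)
    (hm : 3 ≤ m) (i2 : Fin m) :
    ∃ ρ : ↥(Cfsg.isometryGroup F ⇑(oddForm m F)),
      ρ ∈ commutator ↥(Cfsg.isometryGroup F ⇑(oddForm m F)) ∧ ρ ^ 2 = 1 ∧
      (∀ i, i ≠ i2 → act (oddForm m F) ρ (eO F m i) = eO F m i ∧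
        act (oddForm m F) ρ (fO F m i) = fO F m i) ∧
      Wpart (oddForm m F) (eO F m) (fO F m) (act (oddForm m F) ρ (fO F m i2)) ≠ 0 ∧
      Wpart (oddForm m F) (eO F m) (fO F m) (act (oddForm m F) ρ (eO F m i2)) ≠ 0 := by
  have h3 : (3 : F) = 0 := by
    have h := Nat.cast_card_eq_zero F
    rw [hF] at h
    exact_mod_cast h
  have h2 : (2 : F) ≠ 0 := two_ne_zero_of_odd (by rw [hF]; decide)
  have hn : finrank F (Unit ⊕ (Fin m ⊕ Fin m) → F) = 2 * m + 1 := odd_finrank m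
  refine ⟨ogorho3_rho F m h2 i2, ?_, ogorho3_sq F m h2 h3 i2, ?_, ?_, ?_⟩
  · unfold ogorho3_rho
    apply Subgroup.mul_mem
    · exact Cfsg.Agent.Lib.Helper8.eichlerElt_mem_omega _ _ (by rw [hn]; omega)
        (fun h => absurd h h2) _ _ _ _
    · exact Cfsg.Agent.Lib.Helper8.eichlerElt_mem_omega _ _ (by rw [hn]; omega)
        (fun h => absurd h h2) _ _ _ _
  · intro i hi
    have hi' : i2 ≠ i := fun h => hi h.symm
    constructor
    · rw [ogorho3_act]
      simp [Pi.single_apply, hi, hi']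
    · rw [ogorho3_act]
      simp [Pi.single_apply, hi, hi']
  · intro h
    have h' := congrFun h (Sum.inl ())
    rw [ogorho3_wpart_inl, ogorho3_act] at h'
    simp [Pi.single_apply] at h'
  · intro h
    have h' := congrFun h (Sum.inl ())
    rw [ogorho3_wpart_inl, ogorho3_act] at h'
    simp [Pi.single_apply, h2] at h'

end concrete

end Cfsg.Agent.Lib.Helper67.Og
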