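import Mathlib

set_option autoImplicit false

namespace Cfsg.Agent.Lib.Helper3

open IntermediateField

/-- An average of roots of unity that is an algebraic integer is `0` or has absolute value `1`. -/
theorem sum_roots_of_unity_eq_zero_or_norm_eq {n m : ℕ} (hn : 0 < n) (hm : 0 < m)
    (μ : Fin n → ℂ) (hμ : ∀ i, μ i ^ m = 1)
    (hint : IsIntegral ℤ ((∑ i, μ i) / (n : ℂ))) :
    (∑ i, μ i) = 0 ∨ ‖∑ i, μ i‖ = (n : ℝ) := by
  classical
  have hmne : NeZero m := ⟨hm.ne'⟩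
  set ζ : ℂ := Complex.exp (2 * Real.pi * Complex.I / m) with hζdef
  have hζ : IsPrimitiveRoot ζ m := Complex.isPrimitiveRoot_exp m hm.ne'
  choose k hk1 hk2 using fun i => hζ.eq_pow_of_pow_eq_one (hμ i)
  have hζint : IsIntegral ℚ ζ := by
    apply IsIntegral.of_pow hm
    rw [hζ.pow_eq_one]
    exact isIntegral_one
  let K := ℚ⟮ζ⟯
  have hfd : FiniteDimensional ℚ K := IntermediateField.adjoin.finiteDimensional hζint
  let gen : K := AdjoinSimple.gen ℚ ζ
  have hgen : (gen : ℂ) = ζ := AdjoinSimple.coe_gen ℚ ζ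
  have hnC : (n : ℂ) ≠ 0 := by exact_mod_cast hn.ne'
  have hnK : (n : K) ≠ 0 := by exact_mod_cast hn.ne'
  let x : K := (∑ i, gen ^ k i) / (n : K)
  have hx : ((x : K) : ℂ) = (∑ i, μ i) / (n : ℂ) := by
    simp only [x]
    push_cast
    rw [hgen]
    congr 1
    apply Finset.sum_congr rfl
    intro i _
    exact hk2 i
  have hxint : IsIntegral ℤ x := by
    have hinj : Function.Injective (algebraMap K ℂ) := (algebraMap K ℂ).injective
    refine (isIntegral_algebraMap_iff hinj).mp ?_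
    have : algebraMap K ℂ x = (∑ i, μ i) / (n : ℂ) := hx
    rw [this]
    exact hint
  have hNint : IsIntegral ℤ (Algebra.norm ℚ x) := Algebra.isIntegral_norm ℚ hxint
  obtain ⟨z, hz⟩ := IsIntegrallyClosed.isIntegral_iff.mp hNint
  have hprod := Algebra.norm_eq_prod_embeddings ℚ ℂ x
  have hgenpow : gen ^ m = 1 := by
    apply Subtype.ext
    push_cast
    rw [hgen, hζ.pow_eq_one]
  have hσle : ∀ σ : K →ₐ[ℚ] ℂ, ‖σ x‖ ≤ 1 := by
    intro σ
    have h1 : ‖σ gen‖ = 1 := by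
      apply Complex.norm_eq_one_of_pow_eq_one (n := m) _ hm.ne'
      rw [← map_pow, hgenpow, map_one]
    simp only [x, map_div₀, map_sum, map_pow, map_natCast, norm_div, Complex.norm_natCast]
    rw [div_le_one (by exact_mod_cast hn)]
    calc ‖∑ i, σ gen ^ k i‖ ≤ ∑ i, ‖σ gen ^ k i‖ := norm_sum_le _ _
      _ = ∑ _i : Fin n, (1 : ℝ) := by
          apply Finset.sum_congr rfl
          intro i _
          rw [norm_pow, h1, one_pow]
      _ = n := by simp
  let ι : K →ₐ[ℚ] ℂ := K.val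
  have hιx : ι x = (∑ i, μ i) / (n : ℂ) := hx
  have hNle : ‖(algebraMap ℚ ℂ (Algebra.norm ℚ x))‖ ≤ ‖(∑ i, μ i) / (n : ℂ)‖ := by
    rw [hprod, norm_prod, ← Finset.mul_prod_erase Finset.univ _ (Finset.mem_univ ι), hιx]
    have h2 : ∏ σ ∈ Finset.univ.erase ι, ‖σ x‖ ≤ 1 := by
      apply Finset.prod_le_one
      · intro σ _
        exact norm_nonneg _
      · intro σ _
        exact hσle σ
    calc ‖(∑ i, μ i) / (n : ℂ)‖ * ∏ σ ∈ Finset.univ.erase ι, ‖σ x‖
        ≤ ‖(∑ i, μ i) / (n : ℂ)‖ * 1 := by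
          apply mul_le_mul_of_nonneg_left h2 (norm_nonneg _)
      _ = ‖(∑ i, μ i) / (n : ℂ)‖ := mul_one _
  have hαle : ‖(∑ i, μ i) / (n : ℂ)‖ ≤ 1 := by
    rw [← hιx]
    exact hσle ι
  by_cases hlt : ‖(∑ i, μ i) / (n : ℂ)‖ < 1
  · left
    have h1 : ‖(algebraMap ℚ ℂ (Algebra.norm ℚ x))‖ < 1 := lt_of_le_of_lt hNle hlt
    rw [← hz] at h1
    have h2 : |(z : ℝ)| < 1 := by
      have : (algebraMap ℚ ℂ (algebraMap ℤ ℚ z)) = ((z : ℝ) : ℂ) := by
        simp
      rw [this, Complex.norm_real] at h1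
      exact h1
    have h3 : z = 0 := by
      have : |z| < 1 := by exact_mod_cast h2
      exact Int.abs_lt_one_iff.mp this
    rw [h3, map_zero] at hz
    have h4 : x = 0 := Algebra.norm_eq_zero_iff.mp hz.symm
    have h5 : (∑ i, μ i) / (n : ℂ) = 0 := by
      rw [← hx, h4]
      rfl
    rcases div_eq_zero_iff.mp h5 with h6 | h6
    · exact h6
    · exact absurd h6 hnC
  · right
    have h1 : ‖(∑ i, μ i) / (n : ℂ)‖ = 1 := le_antisymm hαle (not_lt.mp hlt)
    rw [norm_div, Complex.norm_natCast, div_eq_one_iff_eq (by exact_mod_cast hn.ne')] at h1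
    exact h1

end Cfsg.Agent.Lib.Helper3
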