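import Cfsg.Agent.Lib.Helper66.S3Defs
import Cfsg.Agent.Lib.Helper66.S3.D1p
import Cfsg.Agent.Lib.Helper32.S3C1Bbase

/-! # S3 hive (S4305), leaf C1B, sub-leaf G6c `c1b_fixset` (helper3)

For `a : A3`, the set of `h : H` such that `a` fixes the component `h C` is empty or a coset of a
subgroup `M ≥ F`. -/

set_option autoImplicit false

namespace Cfsg.Agent.Lib.Helper66.S3

universe u

section c1bg6c

variable {H V : Type u} [Group H] [CommGroup V] [MulDistribMulAction A3 H]
  [MulDistribMulAction A3 V] [MulDistribMulAction H V] {p r : ℕ} {F : Subgroup H}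

/-- the stabilizer of `C` in `H` for `mapH` -/
def c1bg6c_stab (C : Subgroup H) : Subgroup H where
  carrier := {k | mapH k C = C}
  one_mem' := c1b_mapH_one C
  mul_mem' := by
    intro x y hx hy
    have hx' : mapH x C = C := hx
    have hy' : mapH y C = C := hy
    show mapH (x * y) C = C
    rw [c1b_mapH_mul, hy', hx']
  inv_mem' := by
    intro x hx
    have hx' : mapH x C = C := hx
    show mapH x⁻¹ C = C
    calc mapH x⁻¹ C = mapH x⁻¹ (mapH x C) := by rw [hx']
      _ = mapH (x⁻¹ * x) C := (c1b_mapH_mul _ _ _).symm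
      _ = C := by rw [inv_mul_cancel, c1b_mapH_one]

theorem c1bg6c_mem_stab (C : Subgroup H) (k : H) : k ∈ c1bg6c_stab C ↔ mapH k C = C := Iff.rfl

theorem c1bg6c_eq_iff (x h : H) (C : Subgroup H) :
    mapH x C = mapH h C ↔ mapH (h⁻¹ * x) C = C := by
  constructor
  · intro hx
    calc mapH (h⁻¹ * x) C = mapH h⁻¹ (mapH x C) := c1b_mapH_mul _ _ _
      _ = mapH h⁻¹ (mapH h C) := by rw [hx]
      _ = mapH (h⁻¹ * h) C := (c1b_mapH_mul _ _ _).symm
      _ = C := by rw [inv_mul_cancel, c1b_mapH_one]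
  · intro hx
    calc mapH x C = mapH (h * (h⁻¹ * x)) C := by rw [mul_inv_cancel_left]
      _ = mapH h (mapH (h⁻¹ * x) C) := c1b_mapH_mul _ _ _
      _ = mapH h C := by rw [hx]

theorem c1bg6c_stab_normal (C : Subgroup H) (hF : ∀ f ∈ F, mapH f C = C)
    (hcomm : commutator H ≤ F) : (c1bg6c_stab C).Normal := by
  constructor
  intro n hn g
  have h1 : g * n * g⁻¹ * n⁻¹ ∈ commutator H := by
    rw [commutator_def]
    have := Subgroup.commutator_mem_commutator (Subgroup.mem_top g) (Subgroup.mem_top n)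
    rwa [commutatorElement_def] at this
  have h2 : g * n * g⁻¹ * n⁻¹ ∈ c1bg6c_stab C := hF _ (hcomm h1)
  have e : g * n * g⁻¹ = (g * n * g⁻¹ * n⁻¹) * n := by group
  rw [e]
  exact (c1bg6c_stab C).mul_mem h2 hn

/-- `F` stabilizes every component (private copy of G3 `c1b_F_le_stab`). -/
theorem c1bg6c_F_le_stab (cfg : Config H V p r F) (C : Subgroup H) (hC : comp (V := V) F C ≠ ⊥) :
    ∀ f ∈ F, mapH f C = C := by
  intro f hf
  have hCF : C ≤ F := comp_le (V := V) C hC
  ext x
  rw [c1b_mem_mapH]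
  constructor
  · intro hx
    have hxF : f⁻¹ * x * f ∈ F := hCF hx
    have hxF' : x ∈ F := by
      have := F.mul_mem (F.mul_mem hf hxF) (F.inv_mem hf)
      have e : f * (f⁻¹ * x * f) * f⁻¹ = x := by group
      rwa [e] at this
    have e : f⁻¹ * x * f = x := by
      have := cfg.Fcomm x hxF' f hf
      calc f⁻¹ * x * f = f⁻¹ * (x * f) := by group
        _ = f⁻¹ * (f * x) := by rw [this]
        _ = x := by group
    rwa [e] at hx
  · intro hx
    have hxF : x ∈ F := hCF hx
    have e : f⁻¹ * x * f = x := by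
      have := cfg.Fcomm x hxF f hf
      calc f⁻¹ * x * f = f⁻¹ * (x * f) := by group
        _ = f⁻¹ * (f * x) := by rw [this]
        _ = x := by group
    rwa [e]

/-- core of G6c, with `F ≤ Stab_H(C)` as a hypothesis. -/
theorem c1b_fixset_core (cfg : Config H V p r F) (C : Subgroup H)
    (hF : ∀ f ∈ F, mapH f C = C) (a : A3) :
    ∃ M : Subgroup H, F ≤ M ∧ (M = ⊤ → ∀ h : H, mapA a (mapH h C) = mapH h C) ∧
      Set.ncard {h : H | mapA a (mapH h C) = mapH h C} ≤ Nat.card M := by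
  haveI := cfg.hyp.finH
  by_cases hne : {h : H | mapA a (mapH h C) = mapH h C} = ∅
  · refine ⟨F, le_refl F, fun h => absurd h cfg.Fne, ?_⟩
    rw [hne, Set.ncard_empty]; exact Nat.zero_le _
  · obtain ⟨h0, hh0⟩ := Set.nonempty_iff_ne_empty.mpr hne
    have hh0' : mapA a (mapH h0 C) = mapH h0 C := hh0
    have hNn : (c1bg6c_stab C).Normal := c1bg6c_stab_normal C hF cfg.quot_comm
    -- `mapA a C` in terms of `C`
    have hC' : mapA a C = mapH ((a • h0)⁻¹ * h0) C := by
      rw [c1b_mapA_mapH] at hh0'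
      calc mapA a C = mapH ((a • h0)⁻¹ * (a • h0)) (mapA a C) := by
            rw [inv_mul_cancel, c1b_mapH_one]
        _ = mapH (a • h0)⁻¹ (mapH (a • h0) (mapA a C)) := c1b_mapH_mul _ _ _
        _ = mapH (a • h0)⁻¹ (mapH h0 C) := by rw [hh0']
        _ = mapH ((a • h0)⁻¹ * h0) C := (c1b_mapH_mul _ _ _).symm
    -- characterization of the set
    have key : ∀ h : H, mapA a (mapH h C) = mapH h C ↔
        (h⁻¹ * a • h) * (h0⁻¹ * a • h0)⁻¹ ∈ c1bg6c_stab C := by
      intro h
      rw [c1b_mapA_mapH, hC', ← c1b_mapH_mul, c1bg6c_eq_iff, c1bg6c_mem_stab]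
      have e : h⁻¹ * (a • h * ((a • h0)⁻¹ * h0)) = (h⁻¹ * a • h) * (h0⁻¹ * a • h0)⁻¹ := by group
      rw [e]
    let M : Subgroup H :=
      { carrier := {k | k⁻¹ * a • k ∈ c1bg6c_stab C}
        one_mem' := by
          show (1 : H)⁻¹ * a • (1 : H) ∈ c1bg6c_stab C
          rw [smul_one, inv_one, one_mul]
          exact (c1bg6c_stab C).one_mem
        mul_mem' := by
          intro x y hx hy
          have hx' : x⁻¹ * a • x ∈ c1bg6c_stab C := hx
          have hy' : y⁻¹ * a • y ∈ c1bg6c_stab C := hy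
          have e : (x * y)⁻¹ * a • (x * y) = (y⁻¹ * (x⁻¹ * a • x) * y⁻¹⁻¹) * (y⁻¹ * a • y) := by
            rw [smul_mul']; group
          show (x * y)⁻¹ * a • (x * y) ∈ c1bg6c_stab C
          rw [e]
          exact (c1bg6c_stab C).mul_mem (hNn.conj_mem _ hx' y⁻¹) hy'
        inv_mem' := by
          intro x hx
          have hx' : x⁻¹ * a • x ∈ c1bg6c_stab C := hx
          have e : x⁻¹⁻¹ * a • x⁻¹ = x * (x⁻¹ * a • x)⁻¹ * x⁻¹ := by
            rw [smul_inv']; group
          show x⁻¹⁻¹ * a • x⁻¹ ∈ c1bg6c_stab C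
          rw [e]
          exact hNn.conj_mem _ ((c1bg6c_stab C).inv_mem hx') x }
    have hmemM : ∀ k : H, k ∈ M ↔ k⁻¹ * a • k ∈ c1bg6c_stab C := fun _ => Iff.rfl
    refine ⟨M, ?_, ?_, ?_⟩
    · intro f hf
      rw [hmemM]
      exact hF _ (F.mul_mem (F.inv_mem hf) (cfg.FA a f hf))
    · intro hM h
      rw [key]
      have h1 : h ∈ M := hM ▸ Subgroup.mem_top h
      have h2 : h0 ∈ M := hM ▸ Subgroup.mem_top h0
      exact (c1bg6c_stab C).mul_mem ((hmemM h).mp h1) ((c1bg6c_stab C).inv_mem ((hmemM h0).mp h2))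
    · have hle : Set.ncard {h : H | mapA a (mapH h C) = mapH h C} ≤ (M : Set H).ncard := by
        apply Set.ncard_le_ncard_of_injOn (fun h => h * h0⁻¹)
        · intro h hh
          have hh' : (h⁻¹ * a • h) * (h0⁻¹ * a • h0)⁻¹ ∈ c1bg6c_stab C := (key h).mp hh
          show h * h0⁻¹ ∈ M
          rw [hmemM]
          have e : (h * h0⁻¹)⁻¹ * a • (h * h0⁻¹) =
              h0 * ((h⁻¹ * a • h) * (h0⁻¹ * a • h0)⁻¹) * h0⁻¹ := by
            rw [smul_mul', smul_inv']; group
          rw [e]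
          exact hNn.conj_mem _ hh' h0
        · intro x _ y _ hxy
          exact mul_right_cancel hxy
      have hcard : (M : Set H).ncard = Nat.card M := (Nat.card_coe_set_eq (M : Set H)).symm
      rw [← hcard]
      exact hle

/-- C1B-G6c: the fix-set of `a` on the `H`-orbit of `C` is contained in a coset of a subgroup `M ≥ F`. -/
theorem c1b_fixset (cfg : Config H V p r F) (C : Subgroup H) (hC : comp (V := V) F C ≠ ⊥) (a : A3) :
    ∃ M : Subgroup H, F ≤ M ∧ (M = ⊤ → ∀ h : H, mapA a (mapH h C) = mapH h C) ∧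
      Set.ncard {h : H | mapA a (mapH h C) = mapH h C} ≤ Nat.card M :=
  c1b_fixset_core cfg C (c1bg6c_F_le_stab cfg C hC) a

end c1bg6c

end Cfsg.Agent.Lib.Helper66.S3
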