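import Mathlib
import Cfsg.Agent.Lib.Helper3.SzB0
import Cfsg.Agent.Lib.Helper3.CharOps
import Cfsg.Agent.Lib.Helper3.Complete
import Cfsg.Agent.Lib.Helper3.OddOrder

set_option autoImplicit false
set_option linter.style.haveILetI false
set_option linter.unusedSectionVars false

/-! # Part B, core: general lemmas on multiplicities. -/

namespace Cfsg.Agent.Lib.Helper3.Sz

open Cfsg Cfsg.Agent.Lib.Helper3
open scoped ComplexConjugate

variable {G : Type*} [Group G] [Fintype G] [Fintype (IrrCharacter G)]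

theorem classInner_mults {F F' : G → ℂ} (M M' : IrrCharacter G → ℕ)
    (hF : F = ∑ ψ : IrrCharacter G, (M ψ : ℂ) • (ψ : G → ℂ))
    (hF' : F' = ∑ ψ : IrrCharacter G, (M' ψ : ℂ) • (ψ : G → ℂ)) :
    classInner F F' = ((∑ ψ : IrrCharacter G, M ψ * M' ψ : ℕ) : ℂ) := by
  rw [hF, hF', classInner_sum_sum]
  push_cast
  apply Finset.sum_congr rfl
  intro ψ _
  rw [Complex.conj_natCast]

theorem fsSum_mults {F : G → ℂ} (M : IrrCharacter G → ℕ)
    (hF : F = ∑ ψ : IrrCharacter G, (M ψ : ℂ) • (ψ : G → ℂ)) :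
    fsSum F = ∑ ψ : IrrCharacter G, (M ψ : ℂ) * fsSum (ψ : G → ℂ) := by
  unfold fsSum
  rw [hF]
  simp only [Finset.sum_apply, Pi.smul_apply, smul_eq_mul]
  rw [Finset.sum_comm]
  apply Finset.sum_congr rfl
  intro ψ _
  rw [Finset.mul_sum]

/-- sums of `0/1`-modified vectors -/
theorem sum_ite_ne_mul {α : Type*} [Fintype α] [DecidableEq α] (x : α) (f g : α → ℕ) :
    ∑ y, (if y = x then 0 else f y) * (if y = x then 0 else g y) + f x * g x = ∑ y, f y * g y := by
  rw [← Finset.sum_erase_add (s := Finset.univ) (fun y => f y * g y) (Finset.mem_univ x)]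
  rw [← Finset.sum_erase_add (s := Finset.univ)
    (fun y => (if y = x then 0 else f y) * (if y = x then 0 else g y)) (Finset.mem_univ x)]
  simp only [if_true, mul_zero, add_zero]
  congr 1
  apply Finset.sum_congr rfl
  intro y hy
  rw [if_neg (Finset.ne_of_mem_erase hy), if_neg (Finset.ne_of_mem_erase hy)]

theorem sum_irr_eq_zero {θ : G → ℂ} (hθ : IsIrrCharacter G θ) (h1 : θ ≠ fun _ => 1) :
    ∑ g : G, θ g = 0 := by
  have h := classInner_irr hθ (isIrrCharacter_one (G := G))
  rw [if_neg h1, classInner] at h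
  have hc : (Nat.card G : ℂ) ≠ 0 := by exact_mod_cast Nat.card_pos.ne'
  have h2 : ∑ g : G, θ g * conj ((fun _ : G => (1 : ℂ)) g) = 0 := by
    rcases mul_eq_zero.mp h with h | h
    · exact absurd (inv_eq_zero.mp h) hc
    · exact h
  simpa using h2

end Cfsg.Agent.Lib.Helper3.Sz
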