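import Mathlib
import Cfsg.Agent.Lib.Helper1.SzB1b
import Cfsg.Agent.Lib.Helper80.SzBB2
import Cfsg.Agent.Lib.Helper25.SzBB3e
import Cfsg.Agent.Lib.Helper92.SzBB3c
import Cfsg.Agent.Lib.Helper92.SzBB3d
import Cfsg.Agent.Lib.Helper3.SzB5a
import Cfsg.Agent.Lib.Helper3.Induced
import Cfsg.Agent.Lib.Helper25.Ind

set_option autoImplicit false
set_option linter.style.haveILetI false
set_option linter.unusedSectionVars false

/-! # Part B, core: multiplicities of the induced characters. -/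

namespace Cfsg.Agent.Lib.Helper3.Sz

open Cfsg MulAction Cfsg.Agent.Lib.Helper3
open Cfsg.Agent.Lib.Helper97.Zass
open Cfsg.Agent.Lib.Helper3.ZassOdd
open Cfsg.Agent.Lib.Helper3.ZassFeit
open scoped ComplexConjugate

section mults

variable {G : Type*} [Group G] [Fintype G]

open Classical in
/-- the multiplicities of the irreducible characters in a character. -/
noncomputable def mults (F : G → ℂ) : IrrCharacter G → ℕ :=
  fun ψ => if h : ∃ n : ℕ, classInner F (ψ : G → ℂ) = n then Classical.choose h else 0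

theorem mults_spec {F : G → ℂ} (hF : IsCharacter G F) (ψ : IrrCharacter G) :
    classInner F (ψ : G → ℂ) = (mults F ψ : ℂ) := by
  classical
  have h := IsCharacter.classInner_irr_nat hF ψ.2
  rw [mults, dif_pos h]
  exact Classical.choose_spec h

theorem eq_sum_mults [Fintype (IrrCharacter G)] {F : G → ℂ} (hF : IsCharacter G F) :
    F = ∑ ψ : IrrCharacter G, (mults F ψ : ℂ) • (ψ : G → ℂ) := by
  have h := classFunction_eq_sum (IsCharacter.isClassFunction hF)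
  conv_lhs => rw [h]
  apply Finset.sum_congr rfl
  intro ψ _
  rw [mults_spec hF]

theorem classInner_char [Fintype (IrrCharacter G)] {F F' : G → ℂ} (hF : IsCharacter G F)
    (hF' : IsCharacter G F') :
    classInner F F' = ((∑ ψ : IrrCharacter G, mults F ψ * mults F' ψ : ℕ) : ℂ) :=
  classInner_mults _ _ (eq_sum_mults hF) (eq_sum_mults hF')

end mults

variable {G Ω : Type*} [Group G] [MulAction G Ω] [Fintype Ω] {a b : Ω} {Q : Subgroup G} {q : ℕ}
variable [Fintype G] [Fintype Q] [Fintype (twoStab G a b)] [IsSimpleGroup G]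

/-- the conjugate by `1`. -/
theorem conjQ_one (θ : Q → ℂ) : conjQ Q 1 θ = θ := by
  funext u
  have h : (1 : G) * (u : G) * (1 : G)⁻¹ ∈ Q := by simp
  rw [conjQ_apply Q 1 θ u h]
  congr 1
  apply Subtype.ext
  simp

/-- `conjQ` by `k⁻¹` undoes `conjQ` by `k`. -/
theorem conjQ_inv_conjQ (c : Ctx G a b Q q) {k : G} (hk : k ∈ twoStab G a b) (θ : Q → ℂ) :
    conjQ Q k⁻¹ (conjQ Q k θ) = θ := by
  funext u
  have hka : k • a = a := (mem_twoStab.mp hk).1
  have hka' : k⁻¹ • a = a := by rw [inv_smul_eq_iff, hka]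
  have h1 : k⁻¹ * (u : G) * k⁻¹⁻¹ ∈ Q := c.ker.conj_mem c.hy hka' u.2
  rw [conjQ_apply Q k⁻¹ _ u h1]
  have h2 : k * ((⟨k⁻¹ * (u : G) * k⁻¹⁻¹, h1⟩ : Q) : G) * k⁻¹ ∈ Q := by
    have : k * (k⁻¹ * (u : G) * k⁻¹⁻¹) * k⁻¹ = u := by group
    show k * (k⁻¹ * (u : G) * k⁻¹⁻¹) * k⁻¹ ∈ Q
    rw [this]; exact u.2
  rw [conjQ_apply Q k θ _ h2]
  congr 1
  apply Subtype.ext
  show k * (k⁻¹ * (u : G) * k⁻¹⁻¹) * k⁻¹ = u
  group

theorem conjQ_apply_one (c : Ctx G a b Q q) {k : G} (θ : Q → ℂ) : conjQ Q k θ 1 = θ 1 := by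
  have h : k * ((1 : Q) : G) * k⁻¹ ∈ Q := by simp
  rw [conjQ_apply Q k θ 1 h]
  congr 1
  apply Subtype.ext
  simp

/-- `E` fixes a nonprincipal irreducible character only through `1`. -/
theorem card_stab_eq_one (c : Ctx G a b Q q) {θ : Q → ℂ} (hθ : IsIrrCharacter Q θ)
    (hθ1 : θ ≠ fun _ => 1) : Nat.card {k : twoStab G a b // conjQ Q (k : G) θ = θ} = 1 := by
  rw [Nat.card_eq_one_iff_unique]
  refine ⟨⟨?_⟩, ⟨⟨1, conjQ_one θ⟩⟩⟩
  rintro ⟨k, hk⟩ ⟨k', hk'⟩
  have h1 := conjQ_free c hθ hθ1 k.2 hk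
  have h2 := conjQ_free c hθ hθ1 k'.2 hk'
  apply Subtype.ext
  apply Subtype.ext
  rw [h1, h2]

end Cfsg.Agent.Lib.Helper3.Sz
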