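import Mathlib
import Cfsg.Agent.Lib.Helper3.SzB5b

set_option autoImplicit false
set_option linter.style.haveILetI false
set_option linter.unusedSectionVars false

/-! # Part B, core: multiplicities of the induced characters `Θθ`. -/

namespace Cfsg.Agent.Lib.Helper3.Sz

open Cfsg MulAction Cfsg.Agent.Lib.Helper3
open Cfsg.Agent.Lib.Helper97.Zass
open Cfsg.Agent.Lib.Helper3.ZassOdd
open Cfsg.Agent.Lib.Helper3.ZassFeit
open scoped ComplexConjugate

variable {G Ω : Type*} [Group G] [MulAction G Ω] [Fintype Ω] {a b : Ω} {Q : Subgroup G} {q : ℕ}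
variable [Fintype G] [Fintype Q] [Fintype (twoStab G a b)] [IsSimpleGroup G]

/-- `χ` as an irreducible character. -/
noncomputable def chiG (c : Ctx G a b Q q) : IrrCharacter G := ⟨chi G Ω, chi_irr c⟩

/-- the principal character. -/
noncomputable def oneG (G : Type*) [Group G] : IrrCharacter G :=
  ⟨fun _ => 1, isIrrCharacter_one⟩

theorem isChar_ind {θ : Q → ℂ} (hθ : IsIrrCharacter Q θ) : IsCharacter G (indFun Q θ) :=
  isCharacter_indFun Q (IsIrrCharacter.isCharacter hθ)

theorem mults_one (c : Ctx G a b Q q) {θ : Q → ℂ} (hθ : IsIrrCharacter Q θ)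
    (h1 : θ ≠ fun _ => 1) : mults (indFun Q θ) (oneG G) = 0 := by
  have h := mults_spec (isChar_ind hθ) (oneG G)
  have h2 : classInner (indFun Q θ) ((oneG G : IrrCharacter G) : G → ℂ) = 0 := inner_one c hθ h1
  rw [h2] at h
  exact_mod_cast h.symm

theorem mults_chi (c : Ctx G a b Q q) {θ : Q → ℂ} (hθ : IsIrrCharacter Q θ) {f : ℕ}
    (hf : θ 1 = f) : mults (indFun Q θ) (chiG c) = f := by
  have h := mults_spec (isChar_ind hθ) (chiG c)
  have h2 : classInner (indFun Q θ) ((chiG c : IrrCharacter G) : G → ℂ) = θ 1 := inner_chi c θ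
  rw [h2, hf] at h
  exact_mod_cast h.symm

theorem sum_mults [Fintype (IrrCharacter G)] (c : Ctx G a b Q q) {θ θ' : Q → ℂ}
    (hθ : IsIrrCharacter Q θ) (hθ' : IsIrrCharacter Q θ') (h1 : θ ≠ fun _ => 1)
    (h1' : θ' ≠ fun _ => 1) {f f' : ℕ} (hf : θ 1 = f) (hf' : θ' 1 = f') :
    ∑ ψ : IrrCharacter G, mults (indFun Q θ) ψ * mults (indFun Q θ') ψ =
      (q - 1) * f * f' + Nat.card {k : twoStab G a b // conjQ Q (k : G) θ' = θ} := by
  have h := classInner_char (isChar_ind hθ) (isChar_ind (G := G) hθ')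
  rw [gram c hθ hθ' h1 h1', hf, hf'] at h
  have hq : 1 ≤ q := by have := c.four_le; omega
  have e : ((q : ℂ) - 1) = ((q - 1 : ℕ) : ℂ) := by
    rw [Nat.cast_sub hq]; simp
  rw [e] at h
  exact_mod_cast h.symm

end Cfsg.Agent.Lib.Helper3.Sz
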