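import Mathlib
import Cfsg.Agent.Lib.Helper3.SzB5c
import Cfsg.Agent.Lib.Helper74.FS5

set_option autoImplicit false
set_option linter.style.haveILetI false
set_option linter.unusedSectionVars false

/-! # Part B, core: auxiliary steps. -/

namespace Cfsg.Agent.Lib.Helper3.Sz

open Cfsg MulAction Cfsg.Agent.Lib.Helper3
open Cfsg.Agent.Lib.Helper97.Zass
open Cfsg.Agent.Lib.Helper3.ZassOdd
open Cfsg.Agent.Lib.Helper3.ZassFeit
open scoped ComplexConjugate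

/-- arithmetic: a power of two `f ≤ q` with `(q-1)² ≤ 2 (q-2) f` is `q`. -/
theorem pow_two_eq {q f j k : ℕ} (hq : q = 2 ^ k) (hf : f = 2 ^ j) (hle : f ≤ q) (hq4 : 4 ≤ q)
    (h : (q - 2 + 1) ^ 2 ≤ 2 * (q - 2) * f) : f = q := by
  by_contra hne
  have hlt : f < q := lt_of_le_of_ne hle hne
  have hjk : j < k := by
    rw [hq, hf] at hlt
    exact (Nat.pow_lt_pow_iff_right (by norm_num)).mp hlt
  have h2 : 2 * f ≤ q := by
    rw [hq, hf, ← pow_succ']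
    exact Nat.pow_le_pow_right (by norm_num) hjk
  obtain ⟨r, rfl⟩ : ∃ r, q = r + 2 := ⟨q - 2, by omega⟩
  simp only [Nat.add_sub_cancel] at h
  nlinarith

variable {G Ω : Type*} [Group G] [MulAction G Ω] [Fintype Ω] {a b : Ω} {Q : Subgroup G} {q : ℕ}
variable [Fintype G] [Fintype Q] [Fintype (twoStab G a b)] [IsSimpleGroup G]

/-- the Frobenius–Schur sum of an irreducible character is `|G| ν` with `ν ∈ {0, 1, -1}`. -/
theorem exists_nu {ψ : G → ℂ} (hψ : IsIrrCharacter G ψ) :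
    ∃ ν : ℤ, ν ≤ 1 ∧ fsSum ψ = (Nat.card G : ℂ) * (ν : ℂ) := by
  have hc : (Nat.card G : ℂ) ≠ 0 := by exact_mod_cast Nat.card_pos.ne'
  have key : ∀ x : ℂ, (Nat.card G : ℂ)⁻¹ * fsSum ψ = x → fsSum ψ = (Nat.card G : ℂ) * x := by
    intro x hx
    rw [← hx, ← mul_assoc, mul_inv_cancel₀ hc, one_mul]
  rcases (Cfsg.Agent.Lib.Helper74.fs_trichotomy hψ).1 with h | h | h
  · exact ⟨0, by norm_num, by rw [key 0 h]; simp⟩
  · exact ⟨1, le_refl _, by rw [key 1 h]; simp⟩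
  · exact ⟨-1, by norm_num, by rw [key (-1) h]; simp⟩

/-- if `Θθ = Θθ₀` for nonprincipal linear `θ, θ₀`, then `θ` is an `E`-conjugate of `θ₀`. -/
theorem exists_conj_of_ind_eq [Fintype (IrrCharacter G)] (c : Ctx G a b Q q) {θ θ₀ : Q → ℂ}
    (hθ : IsIrrCharacter Q θ) (hθ₀ : IsIrrCharacter Q θ₀) (h1 : θ ≠ fun _ => 1)
    (h1₀ : θ₀ ≠ fun _ => 1) (hd : θ 1 = 1) (hd₀ : θ₀ 1 = 1)
    (h : indFun Q θ = indFun Q θ₀) : ∃ k ∈ twoStab G a b, conjQ Q k θ = θ₀ := by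
  have e1 : θ 1 = ((1 : ℕ) : ℂ) := by rw [hd]; simp
  have e0 : θ₀ 1 = ((1 : ℕ) : ℂ) := by rw [hd₀]; simp
  have s1 := sum_mults c hθ₀ hθ h1₀ h1 e0 e1
  have s2 := sum_mults c hθ₀ hθ₀ h1₀ h1₀ e0 e0
  rw [h] at s1
  rw [s2, card_stab_eq_one c hθ₀ h1₀] at s1
  have h3 : Nat.card {k : twoStab G a b // conjQ Q (k : G) θ = θ₀} = 1 := by omega
  have : Nonempty {k : twoStab G a b // conjQ Q (k : G) θ = θ₀} := by
    have hpos : 0 < Nat.card {k : twoStab G a b // conjQ Q (k : G) θ = θ₀} := by omega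
    exact (Nat.card_pos_iff.mp hpos).1
  obtain ⟨⟨k, hk⟩⟩ := this
  exact ⟨k, k.2, hk⟩

end Cfsg.Agent.Lib.Helper3.Sz
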