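import Mathlib
import Cfsg.Agent.Lib.Helper3.SzB5d
import Cfsg.Agent.Lib.Helper92.SzSUN
import Cfsg.Agent.Lib.Helper60.SzPETge

set_option autoImplicit false
set_option linter.style.haveILetI false
set_option linter.unusedSectionVars false
set_option maxHeartbeats 1600000

/-! # Part B, core: `|Q| ≠ q³`. -/

namespace Cfsg.Agent.Lib.Helper3.Sz

open Cfsg MulAction Cfsg.Agent.Lib.Helper3
open Cfsg.Agent.Lib.Helper97.Zass
open Cfsg.Agent.Lib.Helper3.ZassOdd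
open Cfsg.Agent.Lib.Helper3.ZassFeit
open scoped ComplexConjugate

variable {G Ω : Type*} [Group G] [MulAction G Ω] [Fintype Ω] {a b : Ω} {Q : Subgroup G} {q : ℕ}
variable [Fintype G] [Fintype Q] [Fintype (twoStab G a b)] [IsSimpleGroup G]

/-- the nonprincipal linear characters of `Q`. -/
abbrev Lin (Q : Subgroup G) : Type _ :=
  {θ : IrrCharacter Q // (θ : Q → ℂ) 1 = 1 ∧ (θ : Q → ℂ) ≠ fun _ => 1}

/-- the data produced by the sunflower lemma. -/
structure SunData (c : Ctx G a b Q q) [Fintype (IrrCharacter G)] : Prop where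
  ex : ∃ (X₀ : IrrCharacter G) (Δ : IrrCharacter G → ℕ) (θ₀ : Lin Q),
    X₀ ≠ chiG c ∧ X₀ ≠ oneG G ∧ Δ X₀ = 0 ∧ Δ (chiG c) = 0 ∧ ∑ ψ, Δ ψ ^ 2 = q - 2 ∧
    (∀ ψ, mults (indFun Q (θ₀.1 : Q → ℂ)) ψ =
      (if ψ = chiG c then 1 else 0) + Δ ψ + (if ψ = X₀ then 1 else 0)) ∧
    (∀ θ : Lin Q, mults (indFun Q (θ.1 : Q → ℂ)) X₀ =
      if indFun Q (θ.1 : Q → ℂ) = indFun Q (θ₀.1 : Q → ℂ) then 1 else 0) ∧
    (∀ θ : IrrCharacter Q, ∀ f : ℕ, (θ : Q → ℂ) 1 = f → f ≠ 1 →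
      mults (indFun Q (θ : Q → ℂ)) X₀ = 0 ∨
        (mults (indFun Q (θ : Q → ℂ)) X₀ = 1 ∧ f = q))

theorem sunData [Fintype (IrrCharacter G)] (c : Ctx G a b Q q) (hQ : Nat.card Q = q ^ 3) :
    SunData c := by
  classical
  have hq4 := c.four_le
  have hE : Nat.card (twoStab G a b) = q - 1 := by have := c.hq; omega
  have hirr : ∀ θ : Lin Q, IsIrrCharacter Q (θ.1 : Q → ℂ) := fun θ => θ.1.2
  have hdeg : ∀ θ : Lin Q, (θ.1 : Q → ℂ) 1 = ((1 : ℕ) : ℂ) := fun θ => by rw [θ.2.1]; simp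
  have hne : ∀ θ : Lin Q, (θ.1 : Q → ℂ) ≠ fun _ => 1 := fun θ => θ.2.2
  set Θ : Lin Q → (G → ℂ) := fun θ => indFun Q (θ.1 : Q → ℂ) with hΘ
  haveI : Finite (Lin Q) := inferInstance
  haveI : Fintype (Set.range Θ) := Fintype.ofFinite _
  have hrep : ∀ i : Set.range Θ, ∃ θ : Lin Q, Θ θ = i.1 := fun i => i.2
  choose rep hrep using hrep
  set iof : Lin Q → Set.range Θ := fun θ => ⟨Θ θ, θ, rfl⟩ with hiof
  have hk : ∀ θ : Lin Q, ∃ k : twoStab G a b,
      conjQ Q (k : G) (θ.1 : Q → ℂ) = ((rep (iof θ)).1 : Q → ℂ) := by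
    intro θ
    obtain ⟨k, hk, h⟩ := exists_conj_of_ind_eq c (hirr θ) (hirr (rep (iof θ))) (hne θ) (hne _)
      θ.2.1 (rep (iof θ)).2.1 (hrep (iof θ)).symm
    exact ⟨⟨k, hk⟩, h⟩
  choose kk hkk using hk
  have hinj : Function.Injective (fun θ : Lin Q => (iof θ, kk θ)) := by
    intro θ θ' h
    simp only [Prod.mk.injEq] at h
    obtain ⟨h1, h2⟩ := h
    have e1 := hkk θ
    have e2 := hkk θ'
    rw [h1, h2] at e1
    have e3 : conjQ Q ((kk θ' : G)) (θ.1 : Q → ℂ) = conjQ Q ((kk θ' : G)) (θ'.1 : Q → ℂ) := by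
      rw [e1, e2]
    have e4 := congrArg (conjQ Q ((kk θ' : G))⁻¹) e3
    rw [conjQ_inv_conjQ c (kk θ').2, conjQ_inv_conjQ c (kk θ').2] at e4
    exact Subtype.ext (Subtype.ext e4)
  have hN : q - 2 + 3 ≤ Fintype.card (Set.range Θ) := by
    have h1 := Nat.card_le_card_of_injective _ hinj
    rw [Nat.card_prod, hE, Nat.card_eq_fintype_card (α := Set.range Θ)] at h1
    have h2 := card_linear c hQ
    have h3 : q ^ 2 - 1 = (q + 1) * (q - 1) := by
      obtain ⟨r, rfl⟩ : ∃ r, q = r + 1 := ⟨q - 1, by omega⟩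
      simp only [Nat.add_sub_cancel]
      have : (r + 1) ^ 2 = (r + 1 + 1) * r + 1 := by ring
      omega
    have h4 : (q + 1) * (q - 1) ≤ Fintype.card (Set.range Θ) * (q - 1) := by
      rw [← h3]; exact le_trans h2 h1
    have h5 := Nat.le_of_mul_le_mul_right h4 (by omega)
    omega
  -- the vectors
  set cv : Set.range Θ → IrrCharacter G → ℕ :=
    fun i ψ => if ψ = chiG c then 0 else mults i.1 ψ with hcv
  have hival : ∀ i : Set.range Θ, i.1 = indFun Q ((rep i).1 : Q → ℂ) := fun i => (hrep i).symm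
  have hmχ : ∀ i : Set.range Θ, mults i.1 (chiG c) = 1 := by
    intro i
    rw [hival i]
    exact mults_chi c (hirr (rep i)) (hdeg (rep i))
  have hcvcv : ∀ i i' : Set.range Θ, ∑ ψ, cv i ψ * cv i' ψ + 1 = ∑ ψ, mults i.1 ψ * mults i'.1 ψ := by
    intro i i'
    have := sum_ite_ne_mul (chiG c) (mults i.1) (mults i'.1)
    rw [hmχ i, hmχ i'] at this
    exact this
  have hnorm : ∀ i, ∑ ψ, cv i ψ ^ 2 = q - 2 + 1 := by
    intro i
    have h1 := hcvcv i i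
    have h2 := sum_mults c (hirr (rep i)) (hirr (rep i)) (hne _) (hne _) (hdeg _) (hdeg _)
    rw [card_stab_eq_one c (hirr (rep i)) (hne _), ← hival i] at h2
    rw [h2] at h1
    have h3 : ∑ ψ, cv i ψ ^ 2 = ∑ ψ, cv i ψ * cv i ψ :=
      Finset.sum_congr rfl (fun ψ _ => sq _)
    rw [h3]
    omega
  have hinner : ∀ i i', i ≠ i' → ∑ ψ, cv i ψ * cv i' ψ = q - 2 := by
    intro i i' hii'
    have h1 := hcvcv i i'
    have h2 := sum_mults c (hirr (rep i)) (hirr (rep i')) (hne _) (hne _) (hdeg _) (hdeg _)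
    have h0 : Nat.card {k : twoStab G a b //
        conjQ Q (k : G) ((rep i').1 : Q → ℂ) = ((rep i).1 : Q → ℂ)} = 0 := by
      rw [Nat.card_eq_zero]
      left
      refine ⟨fun ⟨k, hk⟩ => hii' ?_⟩
      have h3 := indFun_conjQ c ((rep i').1 : Q → ℂ) k.2
      rw [hk, ← hival i, ← hival i'] at h3
      exact Subtype.ext h3
    rw [h0, ← hival i, ← hival i'] at h2
    rw [h2] at h1
    omega
  obtain ⟨X, Δ, hXinj, hΔX, hc, hΔ⟩ := Cfsg.Agent.Lib.Helper3.Sz.sunflower hN cv hnorm hinner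
  have hcard_pos : 0 < Fintype.card (Set.range Θ) := by omega
  obtain ⟨i₀⟩ := Fintype.card_pos_iff.mp hcard_pos
  have hcvχ : ∀ i, cv i (chiG c) = 0 := fun i => by rw [hcv]; simp
  have hXχ : ∀ i, X i ≠ chiG c := by
    intro i h
    have h1 := hc i (chiG c)
    rw [hcvχ i, if_pos h.symm] at h1
    omega
  have hΔχ : Δ (chiG c) = 0 := by
    have h1 := hc i₀ (chiG c)
    rw [hcvχ i₀] at h1
    omega
  have hmcv : ∀ i ψ, ψ ≠ chiG c → mults i.1 ψ = Δ ψ + if ψ = X i then 1 else 0 := by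
    intro i ψ hψ
    rw [← hc i ψ, hcv]
    simp only
    rw [if_neg hψ]
  have hX₀1 : X i₀ ≠ oneG G := by
    intro h
    have h1 := hmcv i₀ (X i₀) (hXχ i₀)
    rw [if_pos rfl, hΔX i₀, h, hival i₀, mults_one c (hirr (rep i₀)) (hne _)] at h1
    omega
  refine ⟨X i₀, Δ, rep i₀, hXχ i₀, hX₀1, hΔX i₀, hΔχ, hΔ, ?_, ?_, ?_⟩
  · intro ψ
    rw [← hival i₀]
    by_cases hψ : ψ = chiG c
    · rw [hψ, hmχ i₀, hΔχ, if_pos rfl, if_neg (hXχ i₀).symm]
    · rw [hmcv i₀ ψ hψ, if_neg hψ]; omega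
  · intro θ
    have h1 := hmcv (iof θ) (X i₀) (hXχ i₀)
    rw [hΔX i₀] at h1
    have h2 : (iof θ).1 = indFun Q (θ.1 : Q → ℂ) := rfl
    rw [h2] at h1
    rw [h1, zero_add, ← hival i₀]
    by_cases h3 : indFun Q (θ.1 : Q → ℂ) = i₀.1
    · rw [if_pos h3]
      have : iof θ = i₀ := Subtype.ext h3
      rw [this, if_pos rfl]
    · rw [if_neg h3]
      have : X i₀ ≠ X (iof θ) := by
        intro h4
        exact h3 (congrArg Subtype.val (hXinj h4)).symm
      rw [if_neg this]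
  · intro θ f hf hf1
    obtain ⟨j, hj, hjq⟩ := deg_le c hQ θ.2
    have hfj : f = 2 ^ j := by
      rw [hf] at hj
      exact_mod_cast hj
    have hθ1 : (θ : Q → ℂ) ≠ fun _ => 1 := by
      intro h
      rw [h] at hf
      apply hf1
      have hf' : (1 : ℂ) = (f : ℂ) := hf
      exact_mod_cast hf'.symm
    set d : IrrCharacter G → ℕ :=
      fun ψ => if ψ = chiG c then 0 else mults (indFun Q (θ : Q → ℂ)) ψ with hd
    have hmχθ : mults (indFun Q (θ : Q → ℂ)) (chiG c) = f := mults_chi c θ.2 hf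
    have hq1 : q - 1 = q - 2 + 1 := by omega
    have hdd : ∑ ψ, d ψ ^ 2 = 1 + (q - 2) * f ^ 2 := by
      have h1 : ∑ ψ, d ψ * d ψ + mults (indFun Q (θ : Q → ℂ)) (chiG c) *
          mults (indFun Q (θ : Q → ℂ)) (chiG c) = ∑ ψ, mults (indFun Q (θ : Q → ℂ)) ψ *
          mults (indFun Q (θ : Q → ℂ)) ψ := sum_ite_ne_mul (chiG c) (mults (indFun Q (θ : Q → ℂ)))
        (mults (indFun Q (θ : Q → ℂ)))
      rw [hmχθ] at h1
      have h2 := sum_mults c θ.2 θ.2 hθ1 hθ1 hf hf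
      rw [card_stab_eq_one c θ.2 hθ1] at h2
      rw [h2] at h1
      have h3 : ∑ ψ, d ψ ^ 2 = ∑ ψ, d ψ * d ψ := Finset.sum_congr rfl (fun ψ _ => sq _)
      rw [h3]
      rw [hq1] at h1
      have h4 : (q - 2 + 1) * f * f = (q - 2) * f ^ 2 + f * f := by ring
      rw [h4] at h1
      omega
    have hdc : ∀ i, ∑ ψ, d ψ * (Δ ψ + if ψ = X i then 1 else 0) = (q - 2) * f := by
      intro i
      have h0 : ∑ ψ, d ψ * (Δ ψ + if ψ = X i then 1 else 0) = ∑ ψ, d ψ * cv i ψ :=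
        Finset.sum_congr rfl (fun ψ _ => by rw [hc i ψ])
      rw [h0]
      have h1 : ∑ ψ, d ψ * cv i ψ + mults (indFun Q (θ : Q → ℂ)) (chiG c) * mults i.1 (chiG c) =
          ∑ ψ, mults (indFun Q (θ : Q → ℂ)) ψ * mults i.1 ψ :=
        sum_ite_ne_mul (chiG c) (mults (indFun Q (θ : Q → ℂ))) (mults i.1)
      rw [hmχθ, hmχ i] at h1
      have h2 := sum_mults c θ.2 (hirr (rep i)) hθ1 (hne _) hf (hdeg _)
      have h0' : Nat.card {k : twoStab G a b //
          conjQ Q (k : G) ((rep i).1 : Q → ℂ) = (θ : Q → ℂ)} = 0 := by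
        rw [Nat.card_eq_zero]
        left
        refine ⟨fun ⟨k, hk⟩ => hf1 ?_⟩
        have h3 := congrFun hk 1
        rw [conjQ_apply_one c, (rep i).2.1, hf] at h3
        exact_mod_cast h3.symm
      rw [h0', ← hival i] at h2
      rw [h2, hq1] at h1
      have h4 : (q - 2 + 1) * f * 1 + 0 = (q - 2) * f + f * 1 := by ring
      rw [h4] at h1
      omega
    have hpet := Cfsg.Agent.Lib.Helper3.Sz.petal_bound_ge (m := q - 2) (f := f) (by omega) hN
      (by omega) X Δ hXinj hΔX hΔ d hdd hdc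
    have hdX : d (X i₀) = mults (indFun Q (θ : Q → ℂ)) (X i₀) := by
      rw [hd]; simp only; rw [if_neg (hXχ i₀)]
    rcases hpet with h | ⟨h, hbound⟩
    · left; rw [← hdX]; exact h i₀
    · right
      refine ⟨by rw [← hdX]; exact h i₀, ?_⟩
      obtain ⟨k, -, hqk⟩ := c.q_pow
      exact pow_two_eq hqk hfj (by rw [hfj]; exact hjq) hq4 hbound

end Cfsg.Agent.Lib.Helper3.Sz
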