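import Mathlib
import Cfsg.Agent.Lib.Helper3.SzB5e
import Cfsg.Agent.Lib.Helper25.Ind

set_option autoImplicit false
set_option linter.style.haveILetI false
set_option linter.unusedSectionVars false
set_option maxHeartbeats 1600000

/-! # Part B, core: the Frobenius–Schur phase and `|Q| ≠ q³`. -/

namespace Cfsg.Agent.Lib.Helper3.Sz

open Cfsg MulAction Cfsg.Agent.Lib.Helper3
open Cfsg.Agent.Lib.Helper97.Zass
open Cfsg.Agent.Lib.Helper3.ZassOdd
open Cfsg.Agent.Lib.Helper3.ZassFeit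
open scoped ComplexConjugate

variable {G Ω : Type*} [Group G] [MulAction G Ω] [Fintype Ω] {a b : Ω} {Q : Subgroup G} {q : ℕ}
variable [Fintype G] [Fintype Q] [Fintype (twoStab G a b)] [IsSimpleGroup G]

/-- Step 1: the Frobenius–Schur indicator of `X₀` is `1`. -/
theorem fsSum_X₀ [Fintype (IrrCharacter G)] (c : Ctx G a b Q q)
    {X₀ : IrrCharacter G} {Δ : IrrCharacter G → ℕ} {θ₀ : Lin Q}
    (hXχ : X₀ ≠ chiG c) (hΔsum : ∑ ψ, Δ ψ ^ 2 = q - 2)
    (hdec : ∀ ψ, mults (indFun Q (θ₀.1 : Q → ℂ)) ψ =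
      (if ψ = chiG c then 1 else 0) + Δ ψ + (if ψ = X₀ then 1 else 0)) :
    fsSum (X₀ : G → ℂ) = (Nat.card G : ℂ) := by
  classical
  have hq4 := c.four_le
  choose ν hν1 hν using fun ψ : IrrCharacter G => exists_nu ψ.2
  have h1 := fs_ind c θ₀.1.2 θ₀.2.1
  have h2 := fsSum_mults (mults (indFun Q (θ₀.1 : Q → ℂ))) (eq_sum_mults (isChar_ind θ₀.1.2))
  rw [h1] at h2
  have hc : (Nat.card G : ℂ) ≠ 0 := by exact_mod_cast Nat.card_pos.ne'
  have h3 : (q : ℂ) =
      ∑ ψ : IrrCharacter G, (mults (indFun Q (θ₀.1 : Q → ℂ)) ψ : ℂ) * (ν ψ : ℂ) := by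
    apply mul_left_cancel₀ hc
    rw [h2, Finset.mul_sum]
    apply Finset.sum_congr rfl
    intro ψ _
    rw [hν ψ]; ring
  have h4 : (q : ℤ) = ∑ ψ : IrrCharacter G, (mults (indFun Q (θ₀.1 : Q → ℂ)) ψ : ℤ) * ν ψ := by
    exact_mod_cast h3
  have h5 : ∀ ψ : IrrCharacter G, (mults (indFun Q (θ₀.1 : Q → ℂ)) ψ : ℤ) * ν ψ ≤
      (if ψ = chiG c then 1 else 0) + (Δ ψ : ℤ) ^ 2 + (if ψ = X₀ then ν X₀ else 0) := by
    intro ψ
    rw [hdec ψ]
    push_cast
    have hΔ : (Δ ψ : ℤ) * ν ψ ≤ (Δ ψ : ℤ) ^ 2 := by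
      rcases Nat.eq_zero_or_pos (Δ ψ) with h0 | h0
      · rw [h0]; simp
      · have h0' : (1 : ℤ) ≤ Δ ψ := by exact_mod_cast h0
        nlinarith [hν1 ψ]
    by_cases e1 : ψ = chiG c
    · by_cases e2 : ψ = X₀
      · exact absurd (e2.symm.trans e1) hXχ
      · simp only [if_pos e1, if_neg e2]; nlinarith [hν1 ψ]
    · by_cases e2 : ψ = X₀
      · subst e2; simp only [if_neg e1, if_true]; nlinarith
      · simp only [if_neg e1, if_neg e2]; nlinarith
  have h6 : (q : ℤ) ≤ ∑ ψ : IrrCharacter G,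
      ((if ψ = chiG c then 1 else 0) + (Δ ψ : ℤ) ^ 2 + (if ψ = X₀ then ν X₀ else 0)) := by
    rw [h4]; exact Finset.sum_le_sum (fun ψ _ => h5 ψ)
  rw [Finset.sum_add_distrib, Finset.sum_add_distrib, Finset.sum_ite_eq' Finset.univ (chiG c),
    Finset.sum_ite_eq' Finset.univ X₀] at h6
  simp only [Finset.mem_univ, if_true] at h6
  have h7 : ∑ ψ : IrrCharacter G, (Δ ψ : ℤ) ^ 2 = (q : ℤ) - 2 := by
    have : ((∑ ψ : IrrCharacter G, Δ ψ ^ 2 : ℕ) : ℤ) = ((q - 2 : ℕ) : ℤ) := by rw [hΔsum]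
    push_cast at this
    rw [this]
    omega
  rw [h7] at h6
  have h8 : ν X₀ = 1 := by have := hν1 X₀; omega
  rw [hν X₀, h8]; simp


/-- the fibre of `Θ` over `Θθ₀` in the nonprincipal linear characters has at most `e` elements. -/
theorem card_fiber_le [Fintype (IrrCharacter G)] [Fintype (Lin Q)] (c : Ctx G a b Q q)
    (θ₀ : Lin Q) [DecidablePred fun θ : Lin Q =>
      indFun Q (θ.1 : Q → ℂ) = (indFun Q (θ₀.1 : Q → ℂ) : G → ℂ)] :
    (Finset.univ.filter (fun θ : Lin Q =>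
      indFun Q (θ.1 : Q → ℂ) = (indFun Q (θ₀.1 : Q → ℂ) : G → ℂ))).card ≤ q - 1 := by
  classical
  have hE : Nat.card (twoStab G a b) = q - 1 := by have := c.hq; omega
  have hk : ∀ θ : Lin Q, indFun Q (θ.1 : Q → ℂ) = (indFun Q (θ₀.1 : Q → ℂ) : G → ℂ) →
      ∃ k : twoStab G a b, conjQ Q (k : G) (θ.1 : Q → ℂ) = (θ₀.1 : Q → ℂ) := by
    intro θ h
    obtain ⟨k, hk, h'⟩ := exists_conj_of_ind_eq c θ.1.2 θ₀.1.2 θ.2.2 θ₀.2.2 θ.2.1 θ₀.2.1 h
    exact ⟨⟨k, hk⟩, h'⟩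
  rw [← hE, Nat.card_eq_fintype_card, ← Finset.card_univ]
  let f : Lin Q → twoStab G a b := fun θ =>
    if h : indFun Q (θ.1 : Q → ℂ) = (indFun Q (θ₀.1 : Q → ℂ) : G → ℂ) then
      Classical.choose (hk θ h) else 1
  apply Finset.card_le_card_of_injOn f (fun θ _ => Finset.mem_univ _)
  intro θ hθ θ' hθ' hff
  have hθ1 := (Finset.mem_filter.mp hθ).2
  have hθ1' := (Finset.mem_filter.mp hθ').2
  have e1 : conjQ Q ((f θ : twoStab G a b) : G) (θ.1 : Q → ℂ) = (θ₀.1 : Q → ℂ) := by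
    simp only [f]; rw [dif_pos hθ1]; exact Classical.choose_spec (hk θ hθ1)
  have e2 : conjQ Q ((f θ' : twoStab G a b) : G) (θ'.1 : Q → ℂ) = (θ₀.1 : Q → ℂ) := by
    simp only [f]; rw [dif_pos hθ1']; exact Classical.choose_spec (hk θ' hθ1')
  rw [hff] at e1
  have e3 : conjQ Q ((f θ' : twoStab G a b) : G) (θ.1 : Q → ℂ) =
      conjQ Q ((f θ' : twoStab G a b) : G) (θ'.1 : Q → ℂ) := by rw [e1, e2]
  have e4 := congrArg (conjQ Q ((f θ' : twoStab G a b) : G)⁻¹) e3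
  rw [conjQ_inv_conjQ c (f θ').2, conjQ_inv_conjQ c (f θ').2] at e4
  exact Subtype.ext (Subtype.ext e4)

/-- Steps 2 and 3: the sunflower data are contradictory. -/
theorem false_of_sunData [Fintype (IrrCharacter G)] [Fintype (IrrCharacter Q)]
    (c : Ctx G a b Q q) (hQ : Nat.card Q = q ^ 3) (S : SunData c) : False := by
  classical
  obtain ⟨X₀, Δ, θ₀, hXχ, hX1, hΔX, hΔχ, hΔsum, hdec, hlin, hnon⟩ := S.ex
  have hq4 := c.four_le
  have hfs := fsSum_X₀ c hXχ hΔsum hdec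
  have hX1' : (X₀ : G → ℂ) ≠ fun _ => 1 := fun h => hX1 (Subtype.ext h)
  have hform := fs_formula c X₀.2 hX1'
  rw [hfs] at hform
  -- the restriction
  set res : Q → ℂ := fun u => (X₀ : G → ℂ) u with hres
  have hresC : IsCharacter Q res := IsCharacter.restrict (IsIrrCharacter.isCharacter X₀.2) Q
  have hdecomp := eq_sum_mults hresC
  set μ : IrrCharacter Q → ℕ := mults res with hμ
  have hμeq : ∀ θ : IrrCharacter Q, μ θ = mults (indFun Q (θ : Q → ℂ)) X₀ := by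
    intro θ
    have h1 := mults_spec hresC θ
    have h2 := Cfsg.Agent.Lib.Helper25.frobenius_reciprocity' Q (θ : Q → ℂ) (X₀ : G → ℂ)
      (IsCharacter.isClassFunction (IsIrrCharacter.isCharacter X₀.2))
    have h3 := mults_spec (isChar_ind (G := G) θ.2) X₀
    have h4 := classInner_conj_symm (X₀ : G → ℂ) (indFun Q (θ : Q → ℂ))
    rw [h3, Complex.conj_natCast] at h4
    rw [h4] at h2
    rw [← h2] at h1
    exact_mod_cast h1.symm
  have hresv : ∀ v : Q, res v = ∑ θ : IrrCharacter Q, (μ θ : ℂ) * (θ : Q → ℂ) v := by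
    intro v
    have := congrFun hdecomp v
    rw [this]
    simp only [Finset.sum_apply, Pi.smul_apply, smul_eq_mul]
  have hcardQ : (Fintype.card Q : ℂ) = (Nat.card Q : ℂ) := by rw [Nat.card_eq_fintype_card]
  -- the contributions
  set T : IrrCharacter Q → ℤ := fun θ =>
    if (θ : Q → ℂ) 1 = 1 then (if (θ : Q → ℂ) = fun _ => 1 then 0 else (μ θ : ℤ)) else -(μ θ : ℤ)
    with hT
  have hcontr : ∀ θ : IrrCharacter Q,
      (μ θ : ℂ) * (∑ u : Q, (θ : Q → ℂ) (u * u) - ∑ u : Q, (θ : Q → ℂ) u) =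
        (Nat.card Q : ℂ) * (T θ : ℂ) := by
    intro θ
    by_cases hd : (θ : Q → ℂ) 1 = 1
    · have hs2 : ∑ u : Q, (θ : Q → ℂ) (u * u) = (Nat.card Q : ℂ) := by
        rw [Finset.sum_congr rfl (fun u _ => linear_sq c θ.2 hd u)]
        simp [hcardQ]
      by_cases h1 : (θ : Q → ℂ) = fun _ => 1
      · have hs1 : ∑ u : Q, (θ : Q → ℂ) u = (Nat.card Q : ℂ) := by
          rw [h1]; simp [hcardQ]
        rw [hs2, hs1, hT]
        simp only [if_pos hd, if_pos h1]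
        simp
      · rw [hs2, sum_irr_eq_zero θ.2 h1, hT]
        simp only [if_pos hd, if_neg h1]
        push_cast; ring
    · obtain ⟨j, hj, -⟩ := deg_le c hQ θ.2
      have hf1 : 2 ^ j ≠ 1 := by
        intro h; apply hd; rw [hj, h]; simp
      have h1 : (θ : Q → ℂ) ≠ fun _ => 1 := by
        intro h; apply hd; rw [h]
      rw [sum_irr_eq_zero θ.2 h1, hT]
      simp only [if_neg hd]
      rcases hnon θ (2 ^ j) hj hf1 with h0 | ⟨h0, hfq⟩
      · rw [hμeq θ, h0]; simp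
      · have hdq : (θ : Q → ℂ) 1 = (q : ℂ) := by rw [hj, hfq]
        rw [full_ram c hQ θ.2 hdq, hμeq θ, h0]
        push_cast; ring
  have hsum : ∑ u : Q, ((X₀ : G → ℂ) ((u : G) * u) - (X₀ : G → ℂ) u) =
      (Nat.card Q : ℂ) * ((∑ θ : IrrCharacter Q, T θ : ℤ) : ℂ) := by
    have e1 : ∀ u : Q, ((X₀ : G → ℂ) ((u : G) * u) - (X₀ : G → ℂ) u) =
        ∑ θ : IrrCharacter Q, (μ θ : ℂ) * ((θ : Q → ℂ) (u * u) - (θ : Q → ℂ) u) := by
      intro u
      have h1 : (X₀ : G → ℂ) ((u : G) * u) = res (u * u) := rfl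
      have h2 : (X₀ : G → ℂ) u = res u := rfl
      rw [h1, h2, hresv, hresv, ← Finset.sum_sub_distrib]
      apply Finset.sum_congr rfl
      intro θ _
      ring
    rw [Finset.sum_congr rfl (fun u _ => e1 u), Finset.sum_comm]
    push_cast
    rw [Finset.mul_sum]
    apply Finset.sum_congr rfl
    intro θ _
    rw [← hcontr θ, ← Finset.mul_sum, Finset.sum_sub_distrib]
  rw [hsum] at hform
  -- `∑ T = q - 1`
  have hTsum : ∑ θ : IrrCharacter Q, T θ = (q : ℤ) - 1 := by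
    have h1 := c.card_G
    have h2 := c.card_Q
    have hQpos : (Nat.card Q : ℂ) ≠ 0 := by exact_mod_cast Nat.card_pos.ne'
    have hΩpos : (Fintype.card Ω : ℂ) ≠ 0 := by
      have : 0 < Fintype.card Ω := by omega
      exact_mod_cast this.ne'
    have h3 : (Nat.card G : ℂ) = (Fintype.card Ω : ℂ) * ((Nat.card Q : ℂ) * ((q : ℂ) - 1)) := by
      rw [h1, ← h2]
      have : ((q - 1 : ℕ) : ℂ) = (q : ℂ) - 1 := by
        rw [Nat.cast_sub (by omega)]; simp
      push_cast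
      rw [this]; ring
    rw [h3] at hform
    have h4 := mul_left_cancel₀ hQpos (mul_left_cancel₀ hΩpos hform)
    have h5 : ((∑ θ : IrrCharacter Q, T θ : ℤ) : ℂ) = (((q : ℤ) - 1 : ℤ) : ℂ) := by
      rw [← h4]; push_cast; ring
    exact_mod_cast h5
  -- split `T`
  set L : IrrCharacter Q → ℕ := fun θ =>
    if (θ : Q → ℂ) 1 = 1 ∧ (θ : Q → ℂ) ≠ fun _ => 1 then μ θ else 0 with hL
  set N : IrrCharacter Q → ℕ := fun θ => if (θ : Q → ℂ) 1 = 1 then 0 else μ θ with hN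
  have hTLN : ∀ θ, T θ = (L θ : ℤ) - (N θ : ℤ) := by
    intro θ
    rw [hT, hL, hN]
    by_cases hd : (θ : Q → ℂ) 1 = 1
    · by_cases h1 : (θ : Q → ℂ) = fun _ => 1
      · simp only [if_pos hd, if_pos h1]
        rw [if_neg (by push Not; intro _; exact h1)]
        simp
      · simp only [if_pos hd, if_neg h1]
        rw [if_pos ⟨hd, h1⟩]
        simp
    · simp only [if_neg hd]
      rw [if_neg (fun h => hd h.1)]
      simp
  have hLsum : ∑ θ : IrrCharacter Q, L θ ≤ q - 1 := by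
    have h1 : ∑ θ : IrrCharacter Q, L θ = ∑ θ : Lin Q, μ θ.1 := by
      rw [hL]
      rw [← Finset.sum_filter]
      exact (Finset.sum_subtype (Finset.univ.filter _) (by simp) (fun θ => μ θ)).trans rfl
    rw [h1]
    have h2 : ∀ θ : Lin Q, μ θ.1 =
        if indFun Q (θ.1 : Q → ℂ) = (indFun Q (θ₀.1 : Q → ℂ) : G → ℂ) then 1 else 0 := by
      intro θ; rw [hμeq θ.1]; exact hlin θ
    rw [Finset.sum_congr rfl (fun θ _ => h2 θ), Finset.sum_boole]
    exact_mod_cast card_fiber_le c θ₀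
  have hNsum : ∑ θ : IrrCharacter Q, N θ = 0 := by
    have h1 : ∑ θ : IrrCharacter Q, T θ =
        ((∑ θ : IrrCharacter Q, L θ : ℕ) : ℤ) - ((∑ θ : IrrCharacter Q, N θ : ℕ) : ℤ) := by
      push_cast
      rw [← Finset.sum_sub_distrib]
      exact Finset.sum_congr rfl (fun θ _ => hTLN θ)
    rw [hTsum] at h1
    omega
  have hN0 : ∀ θ : IrrCharacter Q, (θ : Q → ℂ) 1 ≠ 1 → μ θ = 0 := by
    intro θ hd
    have := (Finset.sum_eq_zero_iff.mp hNsum) θ (Finset.mem_univ θ)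
    rw [hN] at this
    simp only [if_neg hd] at this
    exact this
  -- a central involution lies in the kernel of `X₀`
  have hZ : 1 < Nat.card (Subgroup.center Q) := by rw [c.card_center]; omega
  rw [Finite.one_lt_card_iff_nontrivial] at hZ
  obtain ⟨z, hz⟩ := exists_ne (1 : Subgroup.center Q)
  have hzz : res (z : Q) = res 1 := by
    rw [hresv, hresv]
    apply Finset.sum_congr rfl
    intro θ _
    by_cases hd : (θ : Q → ℂ) 1 = 1
    · rw [linear_center c θ.2 hd (z : Q) z.2, hd]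
    · rw [hN0 θ hd]; simp
  have hz1 : (((z : Q) : G)) ≠ 1 := by
    intro h
    apply hz
    apply Subtype.ext
    apply Subtype.ext
    exact h
  have hker : (X₀ : G → ℂ) (((z : Q) : G)) = (X₀ : G → ℂ) 1 := hzz
  exact hX1' (eq_one_of_ker X₀.2 hz1 hker)


/-- **Part B**: `|Q| ≠ q³`. -/
theorem Ctx.card_ne_cube {G Ω : Type*} [Group G] [MulAction G Ω] [Fintype Ω] [Finite G]
    [IsSimpleGroup G] {a b : Ω} {Q : Subgroup G} {q : ℕ} (c : Ctx G a b Q q) :
    Nat.card Q ≠ q ^ 3 := by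
  classical
  haveI := Fintype.ofFinite G
  haveI : Fintype Q := Fintype.ofFinite _
  haveI : Fintype (twoStab G a b) := Fintype.ofFinite _
  haveI := Fintype.ofFinite (IrrCharacter G)
  haveI := Fintype.ofFinite (IrrCharacter Q)
  intro hQ
  exact false_of_sunData c hQ (sunData c hQ)

end Cfsg.Agent.Lib.Helper3.Sz
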