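import Mathlib
import Cfsg.Agent.Lib.Helper3.SzC0
import Cfsg.Agent.Lib.Helper3.ZT13

set_option autoImplicit false
set_option linter.style.haveILetI false
set_option linter.unusedSectionVars false

/-! # S0347 part C, leaves C2a–C2f: centralisers of real fixed point free elements. -/

namespace Cfsg.Agent.Lib.Helper3.Sz

open Cfsg MulAction
open Cfsg.Agent.Lib.Helper97.Zass
open Cfsg.Agent.Lib.Helper3.ZassOdd
open Cfsg.Agent.Lib.Helper3.ZassFeit

/-- An involution normalizing a finite subgroup and acting without fixed points inverts it. -/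
theorem c2_inverts_of_normalizes {G : Type*} [Group G] (D : Subgroup G) [Finite D] (z : G)
    (hzz : z * z = 1)
    (hzD : ∀ d ∈ D, z * d * z⁻¹ ∈ D) (hfpf : ∀ d ∈ D, z * d * z⁻¹ = d → d = 1) :
    ∀ d ∈ D, z * d * z⁻¹ = d⁻¹ := by
  have hzi : z⁻¹ = z := inv_eq_of_mul_eq_one_right hzz
  obtain ⟨f, hf⟩ : ∃ f : D → D, ∀ d : D, ((f d : D) : G) = (d : G)⁻¹ * (z * d * z⁻¹) :=
    ⟨fun d => ⟨(d : G)⁻¹ * (z * d * z⁻¹), D.mul_mem (D.inv_mem d.2) (hzD d d.2)⟩, fun _ => rfl⟩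
  have hinj : Function.Injective f := by
    intro b c hbc
    have h0 : (b : G)⁻¹ * (z * b * z⁻¹) = (c : G)⁻¹ * (z * c * z⁻¹) := by
      rw [← hf b, ← hf c, hbc]
    have h1 : z * ((c : G) * (b : G)⁻¹) * z⁻¹ = (c : G) * (b : G)⁻¹ := by
      have e : z * (c : G) * z⁻¹ = (c : G) * ((b : G)⁻¹ * (z * b * z⁻¹)) := by rw [h0]; group
      calc z * ((c : G) * (b : G)⁻¹) * z⁻¹ = (z * c * z⁻¹) * (z * b * z⁻¹)⁻¹ := by group
        _ = (c : G) * ((b : G)⁻¹ * (z * b * z⁻¹)) * (z * b * z⁻¹)⁻¹ := by rw [e]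
        _ = (c : G) * (b : G)⁻¹ := by group
    have h2 := hfpf _ (D.mul_mem c.2 (D.inv_mem b.2)) h1
    apply Subtype.ext
    exact (mul_inv_eq_one.mp h2).symm
  have hsurj := Finite.injective_iff_surjective.mp hinj
  intro d hd
  obtain ⟨a, ha⟩ := hsurj ⟨d, hd⟩
  have e : d = (a : G)⁻¹ * (z * a * z⁻¹) := by
    rw [← hf a, ha]
  rw [e, hzi]
  calc z * ((a : G)⁻¹ * (z * a * z)) * z = z * (a : G)⁻¹ * z * a * (z * z) := by group
    _ = z * (a : G)⁻¹ * z * a := by rw [hzz, mul_one]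
    _ = ((a : G)⁻¹ * (z * a * z))⁻¹ := by
      have : ((a : G)⁻¹ * (z * a * z))⁻¹ = z⁻¹ * (a : G)⁻¹ * z⁻¹ * a := by group
      rw [this, hzi]

variable {G Ω : Type*} [Group G] [MulAction G Ω] [Fintype Ω] {a b : Ω} {Q : Subgroup G} {q : ℕ}

/-- C2a. `h ≠ 1` commuting with a fixed point free `g` is fixed point free. -/
theorem fpf_of_commute [Finite G] [IsSimpleGroup G] (c : Ctx G a b Q q) {g h : G}
    (hg : ∀ x : Ω, g • x ≠ x) (hh : h * g = g * h) (h1 : h ≠ 1) : ∀ x : Ω, h • x ≠ x := by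
  intro x hx
  have hfix : ∀ y : Ω, h • y = y → h • (g • y) = g • y := by
    intro y hy
    rw [← mul_smul, hh, mul_smul, hy]
  set y := g • x with hy
  set z := g • y with hz
  have hxy : x ≠ y := fun h' => hg x h'.symm
  have hyz : y ≠ z := fun h' => hg y h'.symm
  have hhy : h • y = y := hfix x hx
  have hhz : h • z = z := hfix y hhy
  by_cases hxz : x = z
  · -- `g` interchanges `x` and `y`
    have hgg : g * g = 1 :=
      swap_mul_self c.zass hxy (c.hodd' hxy) hy.symm (by rw [hxz])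
    have hg1 : g ≠ 1 := by
      intro h'
      exact hg x (by rw [h', one_smul])
    obtain ⟨p, hp, -⟩ := c.exists_unique_fix hg1 hgg
    exact hg p hp
  · exact h1 (c.hy.h3 h x y z hxy hyz hxz hx hhy hhz)

/-- C2b. an involution inverting `g` inverts `cen g`. -/
theorem inverts_cen [Finite G] [IsSimpleGroup G] (c : Ctx G a b Q q) {g s : G}
    (hg : ∀ x : Ω, g • x ≠ x) (hs1 : s ≠ 1) (hs2 : s * s = 1) (hsg : s * g * s⁻¹ = g⁻¹) :
    ∀ h ∈ cen g, s * h * s⁻¹ = h⁻¹ := by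
  have hsi : s⁻¹ = s := inv_eq_of_mul_eq_one_right hs2
  have hg' : g = s * g⁻¹ * s⁻¹ := by
    rw [← hsg, hsi]
    calc g = (s * s) * g * (s * s) := by rw [hs2]; group
      _ = s * (s * g * s) * s := by group
  apply c2_inverts_of_normalizes (cen g) s hs2
  · intro h hh
    rw [mem_cen] at hh ⊢
    have hh' : h * g⁻¹ = g⁻¹ * h := by
      calc h * g⁻¹ = g⁻¹ * (g * h) * g⁻¹ := by group
        _ = g⁻¹ * (h * g) * g⁻¹ := by rw [hh]
        _ = g⁻¹ * h := by group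
    calc s * h * s⁻¹ * g = s * h * s⁻¹ * (s * g⁻¹ * s⁻¹) := by rw [← hg']
      _ = s * (h * g⁻¹) * s⁻¹ := by group
      _ = s * (g⁻¹ * h) * s⁻¹ := by rw [hh']
      _ = (s * g⁻¹ * s⁻¹) * (s * h * s⁻¹) := by group
      _ = g * (s * h * s⁻¹) := by rw [← hg']
  · intro h hh hfix
    by_contra h1
    rw [mem_cen] at hh
    have hfpf := fpf_of_commute c hg hh h1
    obtain ⟨p, hp, hpu⟩ := c.exists_unique_fix hs1 hs2
    have hsh : s * h = h * s := by
      calc s * h = (s * h * s⁻¹) * s := by group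
        _ = h * s := by rw [hfix]
    have : s • (h • p) = h • p := by
      rw [← mul_smul, hsh, mul_smul, hp]
    exact hfpf p (hpu _ this)

/-- C2c. -/
theorem IsRealFpf.comm [Finite G] [IsSimpleGroup G] (c : Ctx G a b Q q) {g : G}
    (hg : IsRealFpf G Ω g) : ∀ x ∈ cen g, ∀ y ∈ cen g, x * y = y * x := by
  obtain ⟨hfpf, s, hs1, hs2, hsg⟩ := hg
  have hsi : s⁻¹ = s := inv_eq_of_mul_eq_one_right hs2
  have hinv := inverts_cen c hfpf hs1 hs2 hsg
  apply Cfsg.Agent.Lib.Helper3.ZT.comm_of_inverted s hs2 (cen g)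
  intro x hx
  have := hinv x hx
  rwa [hsi] at this

/-- C2d. -/
theorem IsRealFpf.of_mem_cen [Finite G] [IsSimpleGroup G] (c : Ctx G a b Q q) {g h : G}
    (hg : IsRealFpf G Ω g) (hh : h ∈ cen g) (h1 : h ≠ 1) : IsRealFpf G Ω h := by
  obtain ⟨hfpf, s, hs1, hs2, hsg⟩ := hg
  exact ⟨fpf_of_commute c hfpf (mem_cen.mp hh) h1, s, hs1, hs2,
    inverts_cen c hfpf hs1 hs2 hsg h hh⟩

/-- C2e. -/
theorem IsRealFpf.cen_eq [Finite G] [IsSimpleGroup G] (c : Ctx G a b Q q) {g h : G}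
    (hg : IsRealFpf G Ω g) (hh : h ∈ cen g) (h1 : h ≠ 1) : cen h = cen g := by
  have hh' := hg.of_mem_cen c hh h1
  have hgh : g ∈ cen h := by
    rw [mem_cen]; exact (mem_cen.mp hh).symm
  apply le_antisymm
  · intro x hx
    rw [mem_cen]
    exact hh'.comm c x hx g hgh
  · intro x hx
    rw [mem_cen]
    exact hg.comm c x hx h hh

/-- C2f. -/
theorem IsRealFpf.ti [Finite G] [IsSimpleGroup G] (c : Ctx G a b Q q) {g : G}
    (hg : IsRealFpf G Ω g) : Cfsg.IsTISubset ((cen g : Subgroup G) : Set G) := by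
  intro x hx h hh hxh
  by_contra h1
  apply hx
  have hh' : h ∈ cen g := hh
  have hxh' : x * h * x⁻¹ ∈ cen g := hxh
  have hne : x * h * x⁻¹ ≠ 1 := by
    intro h'
    apply h1
    have := congrArg (fun w => x⁻¹ * w * x) h'
    simpa [mul_assoc] using this
  have e1 := hg.cen_eq c hh' h1
  have e2 := hg.cen_eq c hxh' hne
  rw [Subgroup.mem_set_normalizer_iff]
  intro y
  show y ∈ cen g ↔ x * y * x⁻¹ ∈ cen g
  have e3 : y ∈ cen g ↔ y ∈ cen h := by rw [e1]
  have e4 : x * y * x⁻¹ ∈ cen g ↔ x * y * x⁻¹ ∈ cen (x * h * x⁻¹) := by rw [e2]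
  rw [e3, e4, mem_cen, mem_cen]
  constructor
  · intro hy
    calc x * y * x⁻¹ * (x * h * x⁻¹) = x * (y * h) * x⁻¹ := by group
      _ = x * (h * y) * x⁻¹ := by rw [hy]
      _ = x * h * x⁻¹ * (x * y * x⁻¹) := by group
  · intro hy
    calc y * h = x⁻¹ * (x * y * x⁻¹ * (x * h * x⁻¹)) * x := by group
      _ = x⁻¹ * (x * h * x⁻¹ * (x * y * x⁻¹)) * x := by rw [hy]
      _ = h * y := by group

end Cfsg.Agent.Lib.Helper3.Sz
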