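import Mathlib
import Cfsg.Agent.Lib.Helper3.SzC2a

set_option autoImplicit false
set_option linter.style.haveILetI false
set_option linter.unusedSectionVars false

/-! # S0347 part C, leaf C2i: the number of pairs of involutions with product `g`. -/

namespace Cfsg.Agent.Lib.Helper3.Sz

open Cfsg MulAction
open Cfsg.Agent.Lib.Helper97.Zass
open Cfsg.Agent.Lib.Helper3.ZassOdd
open Cfsg.Agent.Lib.Helper3.ZassFeit

variable {G Ω : Type*} [Group G] [MulAction G Ω] [Fintype Ω] {a b : Ω} {Q : Subgroup G} {q : ℕ}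

/-- C2i. -/
theorem IsRealFpf.card_fiber [Fintype G] [DecidableEq G] [DecidableEq Ω] [IsSimpleGroup G]
    (c : Ctx G a b Q q) {g : G} (hg : IsRealFpf G Ω g) :
    ((fpfPairs G Ω).filter (fun p => p.1 * p.2 = g)).card = Nat.card (cen g) := by
  obtain ⟨hfpf, s, hs1, hs2, hsg⟩ := hg
  have hsi : s⁻¹ = s := inv_eq_of_mul_eq_one_right hs2
  have hinv := inverts_cen c hfpf hs1 hs2 hsg
  -- involutions have fixed points
  have hfixinv : ∀ t : G, t ≠ 1 → t * t = 1 → ∃ p : Ω, t • p = p := by
    intro t ht1 ht2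
    obtain ⟨p, hp, -⟩ := c.exists_unique_fix ht1 ht2
    exact ⟨p, hp⟩
  have hg1 : g ≠ 1 := by
    intro h
    exact hfpf a (by rw [h, one_smul])
  have hgg : g * g ≠ 1 := by
    intro h
    obtain ⟨p, hp⟩ := hfixinv g hg1 h
    exact hfpf p hp
  -- `s m` is an involution inverting `g`
  have hsm2 : ∀ m ∈ cen g, s * m * (s * m) = 1 := by
    intro m hm
    have := hinv m hm
    rw [hsi] at this
    calc s * m * (s * m) = (s * m * s) * m := by group
      _ = m⁻¹ * m := by rw [this]
      _ = 1 := by group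
  have hsm1 : ∀ m ∈ cen g, s * m ≠ 1 := by
    intro m hm h
    have hs_eq : s = m⁻¹ := eq_inv_of_mul_eq_one_left h
    have hscen : s ∈ cen g := by rw [hs_eq]; exact (cen g).inv_mem hm
    have := fpf_of_commute c hfpf (mem_cen.mp hscen) hs1
    obtain ⟨p, hp⟩ := hfixinv s hs1 hs2
    exact this p hp
  have hsmg : ∀ m ∈ cen g, (s * m) * g * (s * m) = g⁻¹ := by
    intro m hm
    have hmg := mem_cen.mp hm
    rw [hsi] at hsg
    calc s * m * g * (s * m) = s * (m * g) * (s * m) := by group
      _ = s * (g * m) * (s * m) := by rw [hmg]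
      _ = (s * g * s) * (s * m * (s * m)) := by
        have : s * (g * m) * (s * m) = s * g * (s * s) * m * (s * m) := by rw [hs2]; group
        rw [this]; group
      _ = g⁻¹ := by rw [hsg, hsm2 m hm, mul_one]
  haveI : Fintype (cen g) := Fintype.ofFinite _
  rw [Nat.card_eq_fintype_card, ← Finset.card_univ]
  symm
  apply Finset.card_bij (fun (m : cen g) _ => ((s * (m : G), (s * (m : G)) * g) : G × G))
  · intro m _
    rw [Finset.mem_filter, fpfPairs, Finset.mem_filter, Finset.mem_product, mem_invs, mem_invs]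
    have e : s * (m : G) * (s * (m : G) * g) = g := by
      calc s * (m : G) * (s * (m : G) * g) = (s * m * (s * m)) * g := by group
        _ = g := by rw [hsm2 m m.2, one_mul]
    refine ⟨⟨⟨⟨hsm1 m m.2, hsm2 m m.2⟩, ?_, ?_⟩, ?_⟩, e⟩
    · intro h
      apply hgg
      have hg_eq : g = (s * (m : G))⁻¹ := eq_inv_of_mul_eq_one_right h
      have h2 : (s * (m : G))⁻¹ = s * m := inv_eq_of_mul_eq_one_right (hsm2 m m.2)
      rw [hg_eq, h2]
      exact hsm2 m m.2
    · calc s * (m : G) * g * (s * (m : G) * g) = (s * m * g * (s * m)) * g := by group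
        _ = g⁻¹ * g := by rw [hsmg m m.2]
        _ = 1 := by group
    · intro x
      show (s * (m : G) * (s * (m : G) * g)) • x ≠ x
      rw [e]
      exact hfpf x
  · intro m _ m' _ h
    have h1 := congrArg Prod.fst h
    simp only [mul_right_inj] at h1
    exact Subtype.ext h1
  · intro p hp
    rw [Finset.mem_filter, fpfPairs, Finset.mem_filter, Finset.mem_product, mem_invs, mem_invs] at hp
    obtain ⟨⟨⟨⟨hp1, hp2⟩, hq1, hq2⟩, -⟩, hprod⟩ := hp
    have hpi : p.1⁻¹ = p.1 := inv_eq_of_mul_eq_one_right hp2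
    have hqi : p.2⁻¹ = p.2 := inv_eq_of_mul_eq_one_right hq2
    have hginv : g⁻¹ = p.2 * p.1 := by
      rw [← hprod, mul_inv_rev, hpi, hqi]
    -- `p.1` inverts `g`
    have hpg : p.1 * g * p.1 = g⁻¹ := by
      rw [hginv, ← hprod]
      calc p.1 * (p.1 * p.2) * p.1 = (p.1 * p.1) * p.2 * p.1 := by group
        _ = p.2 * p.1 := by rw [hp2, one_mul]
    have hm : s * p.1 ∈ cen g := by
      rw [mem_cen]
      rw [hsi] at hsg
      have h1 : p.1 * g = g⁻¹ * p.1 := by
        calc p.1 * g = (p.1 * g * p.1) * p.1⁻¹ := by group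
          _ = g⁻¹ * p.1 := by rw [hpg, hpi]
      have h2 : s * g⁻¹ = g * s := by
        have : s * g⁻¹ * s = g := by
          calc s * g⁻¹ * s = s * (s * g * s) * s := by rw [hsg]
            _ = (s * s) * g * (s * s) := by group
            _ = g := by rw [hs2]; group
        calc s * g⁻¹ = (s * g⁻¹ * s) * s⁻¹ := by group
          _ = g * s := by rw [this, hsi]
      calc s * p.1 * g = s * (p.1 * g) := by group
        _ = s * (g⁻¹ * p.1) := by rw [h1]
        _ = (s * g⁻¹) * p.1 := by group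
        _ = g * s * p.1 := by rw [h2]
        _ = g * (s * p.1) := by group
    refine ⟨⟨s * p.1, hm⟩, Finset.mem_univ _, ?_⟩
    have e1 : s * (s * p.1) = p.1 := by
      calc s * (s * p.1) = (s * s) * p.1 := by group
        _ = p.1 := by rw [hs2, one_mul]
    apply Prod.ext
    · exact e1
    · show s * (s * p.1) * g = p.2
      rw [e1, ← hprod]
      calc p.1 * (p.1 * p.2) = (p.1 * p.1) * p.2 := by group
        _ = p.2 := by rw [hp2, one_mul]

end Cfsg.Agent.Lib.Helper3.Sz
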