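import Mathlib
import Cfsg.Agent.Lib.Helper3.SzC0
import Cfsg.Agent.Lib.Helper6.TI
import Cfsg.Agent.S0880
import Cfsg.Agent.Lib.Helper24.SzCC1
import Cfsg.Agent.Lib.Helper55.SzCC3
import Cfsg.Agent.Lib.Helper55.SzCC4
import Cfsg.Agent.Lib.Helper55.SzCC2gh
import Cfsg.Agent.Lib.Helper55.SzCC2j
import Cfsg.Agent.Lib.Helper3.SzC2a
import Cfsg.Agent.Lib.Helper3.SzC2i
import Cfsg.Agent.Lib.Helper41.SzC3c
import Cfsg.Agent.Lib.Helper3.ExcCount
import Cfsg.Agent.Lib.Helper92.SzNT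

set_option autoImplicit false
set_option linter.style.haveILetI false
set_option linter.unusedSectionVars false

/-! # Part C, assembly: when `|Q| = q²`, `q` is an odd power of `2`. -/

namespace Cfsg.Agent.Lib.Helper3.Sz

open Cfsg MulAction
open Cfsg.Agent.Lib.Helper97.Zass
open Cfsg.Agent.Lib.Helper3.ZassOdd
open Cfsg.Agent.Lib.Helper3.ZassFeit
open Cfsg.Agent.Lib.Helper6.TI

variable {G Ω : Type*} [Group G] [MulAction G Ω] [Fintype Ω] {a b : Ω} {Q : Subgroup G} {q : ℕ}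

theorem mem_cen_conj {G : Type*} [Group G] (y m z : G) :
    z ∈ cen (y * m * y⁻¹) ↔ y⁻¹ * z * y ∈ cen m := by
  rw [mem_cen, mem_cen]
  constructor
  · intro h
    calc y⁻¹ * z * y * m = y⁻¹ * (z * (y * m * y⁻¹)) * y := by group
      _ = y⁻¹ * ((y * m * y⁻¹) * z) * y := by rw [h]
      _ = m * (y⁻¹ * z * y) := by group
  · intro h
    calc z * (y * m * y⁻¹) = y * ((y⁻¹ * z * y) * m) * y⁻¹ := by group
      _ = y * (m * (y⁻¹ * z * y)) * y⁻¹ := by rw [h]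
      _ = y * m * y⁻¹ * z := by group

theorem IsRealFpf.conj {g : G} (hg : IsRealFpf G Ω g) (x : G) : IsRealFpf G Ω (x * g * x⁻¹) := by
  obtain ⟨hfpf, s, hs1, hs2, hsg⟩ := hg
  refine ⟨?_, x * s * x⁻¹, ?_, ?_, ?_⟩
  · intro c hc
    apply hfpf (x⁻¹ • c)
    rw [mul_smul, mul_smul] at hc
    rw [eq_inv_smul_iff]
    exact hc
  · intro h
    apply hs1
    have := congrArg (fun w => x⁻¹ * w * x) h
    simpa [mul_assoc] using this
  · calc x * s * x⁻¹ * (x * s * x⁻¹) = x * (s * s) * x⁻¹ := by group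
      _ = 1 := by rw [hs2]; group
  · calc x * s * x⁻¹ * (x * g * x⁻¹) * (x * s * x⁻¹)⁻¹ = x * (s * g * s⁻¹) * x⁻¹ := by group
      _ = (x * g * x⁻¹)⁻¹ := by rw [hsg]; group

theorem IsRealFpf.ne_one {g : G} (hg : IsRealFpf G Ω g) [Nonempty Ω] : g ≠ 1 := by
  intro h
  obtain ⟨c⟩ := ‹Nonempty Ω›
  exact hg.1 c (by rw [h, one_smul])

theorem class_large {Γ u t i : ℕ} (h5 : 5 ≤ u) (ht : t = 2 ∨ t = 4) (hN : i * (t * u) = Γ) :
    Γ ≤ 5 * (i * (u - 1)) := by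
  obtain ⟨v, rfl⟩ : ∃ v, u = v + 1 := ⟨u - 1, by omega⟩
  simp only [Nat.add_sub_cancel]
  rw [← hN]
  have ht4 : t ≤ 4 := by omega
  have h1 : t * (v + 1) ≤ 5 * v := by
    calc t * (v + 1) ≤ 4 * (v + 1) := Nat.mul_le_mul_right _ ht4
      _ ≤ 5 * v := by omega
  calc i * (t * (v + 1)) ≤ i * (5 * v) := Nat.mul_le_mul_left _ h1
    _ = 5 * (i * v) := by ring

section main

variable [Fintype G] [DecidableEq G] [DecidableEq Ω] [IsSimpleGroup G]

open Classical in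
/-- the class of `g`: the non-identity elements conjugate into `cen g`. -/
noncomputable def cls (g : G) : Finset G := Finset.univ.filter (fun h => h ∈ conjSet (cen g))

theorem mem_cls {g h : G} : h ∈ cls g ↔ h ≠ 1 ∧ ∃ x : G, x * h * x⁻¹ ∈ cen g := by
  classical
  rw [cls, Finset.mem_filter]
  simp [conjSet]

theorem self_mem_cls {g : G} (hg : g ≠ 1) : g ∈ cls g := by
  rw [mem_cls]
  refine ⟨hg, 1, ?_⟩
  rw [mem_cen]; group

/-- elements of the class of `g` are real fixed point free with centraliser of the same order. -/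
theorem cls_facts (c : Ctx G a b Q q) {g h : G} (hg : IsRealFpf G Ω g) (hh : h ∈ cls g) :
    IsRealFpf G Ω h ∧ Nat.card (cen h) = Nat.card (cen g) := by
  rw [mem_cls] at hh
  obtain ⟨hh1, x, hx⟩ := hh
  have hm1 : x * h * x⁻¹ ≠ 1 := by
    intro h'
    apply hh1
    have := congrArg (fun w => x⁻¹ * w * x) h'
    simpa [mul_assoc] using this
  have hm := hg.of_mem_cen c hx hm1
  have hce := hg.cen_eq c hx hm1
  constructor
  · have := hm.conj x⁻¹
    have e : x⁻¹ * (x * h * x⁻¹) * x⁻¹⁻¹ = h := by group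
    rwa [e] at this
  · rw [← hce]
    exact (Cfsg.Agent.Lib.Helper3.ExcGen.card_centralizer_conj h x).symm

/-- two classes are disjoint unless the second representative lies in the first class. -/
theorem cls_disjoint (c : Ctx G a b Q q) {g₁ g₂ : G} (hg₁ : IsRealFpf G Ω g₁)
    (hg₂ : IsRealFpf G Ω g₂) (hne : g₂ ∉ cls g₁) : Disjoint (cls g₁) (cls g₂) := by
  haveI : Nonempty Ω := ⟨a⟩
  rw [Finset.disjoint_left]
  intro h h1 h2
  apply hne
  rw [mem_cls] at h1 h2 ⊢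
  obtain ⟨hh1, x₁, hx₁⟩ := h1
  obtain ⟨-, x₂, hx₂⟩ := h2
  have hm1 : ∀ x : G, x * h * x⁻¹ ≠ 1 := by
    intro x h'
    apply hh1
    have := congrArg (fun w => x⁻¹ * w * x) h'
    simpa [mul_assoc] using this
  have hce₁ := hg₁.cen_eq c hx₁ (hm1 x₁)
  have hce₂ := hg₂.cen_eq c hx₂ (hm1 x₂)
  refine ⟨hg₂.ne_one, x₁ * x₂⁻¹, ?_⟩
  -- `g₂ ∈ cen g₂ = cen (x₂ h x₂⁻¹)`
  have h3 : g₂ ∈ cen (x₂ * h * x₂⁻¹) := by
    rw [hce₂, mem_cen]
  have e : x₂ * h * x₂⁻¹ = (x₂ * x₁⁻¹) * (x₁ * h * x₁⁻¹) * (x₂ * x₁⁻¹)⁻¹ := by group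
  rw [e, mem_cen_conj, hce₁] at h3
  have e2 : (x₂ * x₁⁻¹)⁻¹ * g₂ * (x₂ * x₁⁻¹) = x₁ * x₂⁻¹ * g₂ * (x₁ * x₂⁻¹)⁻¹ := by group
  rwa [e2] at h3

/-- the numerical data of a class. -/
theorem cls_data (c : Ctx G a b Q q) (hQ : Nat.card Q = q ^ 2) {g : G} (hg : IsRealFpf G Ω g) :
    ∃ u t idx : ℕ, u = Nat.card (cen g) ∧ 5 ≤ u ∧ u ∣ q ^ 2 + 1 ∧ (t = 2 ∨ t = 4) ∧
      idx * (t * u) = (q - 1) * q ^ 2 * (q ^ 2 + 1) ∧ (cls g).card = idx * (u - 1) ∧
      ∑ h ∈ cls g, Nat.card (cen h) = idx * (u - 1) * u := by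
  classical
  obtain ⟨t, ht, hN, -⟩ := hg.card_normalizer c hQ
  obtain ⟨hodd, h3⟩ := hg.odd_card c
  have hdvd := hg.card_dvd c
  have hΩ : Fintype.card Ω = q ^ 2 + 1 := by rw [← c.card_Q, hQ]
  rw [hΩ] at hdvd
  have hG : Nat.card G = (q - 1) * q ^ 2 * (q ^ 2 + 1) := by rw [c.card_G, hQ]
  set u := Nat.card (cen g) with hu
  have h5 : 5 ≤ u := by
    obtain ⟨r, hr⟩ := hodd
    by_contra hlt
    push Not at hlt
    have hu3 : u = 3 := by omega
    rw [hu3] at hdvd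
    -- `3 ∤ q² + 1`
    have : (q ^ 2 + 1) % 3 = 0 := Nat.mod_eq_zero_of_dvd hdvd
    have hq3 : q % 3 = 0 ∨ q % 3 = 1 ∨ q % 3 = 2 := by omega
    rcases hq3 with h | h | h <;> simp [Nat.add_mod, Nat.pow_mod, h] at this
  refine ⟨u, t, (Subgroup.normalizer ((cen g : Subgroup G) : Set G)).index, rfl, h5, hdvd, ht,
    ?_, ?_, ?_⟩
  · rw [← hN, mul_comm, Subgroup.card_mul_index, hG]
  · have := card_conjSet (cen g) (hg.ti c)
    rw [← this, cls, Nat.card_eq_fintype_card, Fintype.card_subtype]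
  · have h1 : ∀ h ∈ cls g, Nat.card (cen h) = u := fun h hh => (cls_facts c hg hh).2
    rw [Finset.sum_congr rfl h1, Finset.sum_const, smul_eq_mul]
    have := card_conjSet (cen g) (hg.ti c)
    have h2 : (cls g).card = (Subgroup.normalizer ((cen g : Subgroup G) : Set G)).index * (u - 1) := by
      rw [← this, cls, Nat.card_eq_fintype_card, Fintype.card_subtype]
    rw [h2]

open Classical in
/-- **Part C**: if `|Q| = q²` then `q = 2^(2m+1)` with `m ≥ 1`. -/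
theorem Ctx.odd_pow_aux (c : Ctx G a b Q q) (hQ : Nat.card Q = q ^ 2) :
    ∃ m : ℕ, 1 ≤ m ∧ q = 2 ^ (2 * m + 1) := by
  haveI : Nonempty Ω := ⟨a⟩
  have hq4 := c.four_le
  have hΩ : Fintype.card Ω = q ^ 2 + 1 := by rw [← c.card_Q, hQ]
  have hG : Nat.card G = (q - 1) * q ^ 2 * (q ^ 2 + 1) := by rw [c.card_G, hQ]
  set Γ := (q - 1) * q ^ 2 * (q ^ 2 + 1) with hΓ
  have hΓpos : 0 < Γ := by
    have h1 : 0 < q - 1 := by omega
    have h2 : 0 < q ^ 2 := by positivity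
    positivity
  -- the set of real fixed point free elements
  set R : Finset G := Finset.univ.filter (fun g => IsRealFpf G Ω g) with hR
  have hmemR : ∀ g, g ∈ R ↔ IsRealFpf G Ω g := by
    intro g; rw [hR, Finset.mem_filter]; simp
  -- the pair count
  have hP := card_fpfPairs c
  rw [hG] at hP
  have hsumR : ∑ g ∈ R, Nat.card (cen g) = (fpfPairs G Ω).card := by
    have hmap : ∀ p ∈ fpfPairs G Ω, p.1 * p.2 ∈ R := by
      intro p hp
      rw [hmemR, isRealFpf_iff c]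
      exact ⟨p, hp, rfl⟩
    rw [Finset.card_eq_sum_card_fiberwise hmap]
    apply Finset.sum_congr rfl
    intro g hg
    exact (((hmemR g).mp hg).card_fiber c).symm
  -- the number of fixed point free elements
  obtain ⟨m0, hm0⟩ : ∃ m0, Fintype.card Ω = m0 + 3 := ⟨Fintype.card Ω - 3, by
    have := three_le_card c.hy; omega⟩
  obtain ⟨hcount, -⟩ := Cfsg.Agent.S0880.count c.hy c.hab m0 hm0
  rw [← Nat.card_eq_fintype_card, hG] at hcount
  set Φ := (Finset.univ.filter (fun g : G => ∀ x : Ω, g • x ≠ x)).card with hΦ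
  have hm0q : (m0 + 2) * (m0 + 1) = q ^ 2 * (q ^ 2 - 1) := by
    have h1 : m0 + 2 = q ^ 2 := by omega
    have h2 : m0 + 1 = q ^ 2 - 1 := by omega
    rw [h1, h2]
  rw [hm0q] at hcount
  have hRΦ : R.card ≤ Φ := by
    apply Finset.card_le_card
    intro g hg
    rw [Finset.mem_filter]
    exact ⟨Finset.mem_univ _, ((hmemR g).mp hg).1⟩
  -- `R` is nonempty
  have hRne : R.Nonempty := by
    by_contra hemp
    rw [Finset.not_nonempty_iff_eq_empty] at hemp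
    rw [hemp, Finset.sum_empty] at hsumR
    rw [← hsumR] at hP
    have : 0 < Γ * q := Nat.mul_pos hΓpos (by omega)
    omega
  obtain ⟨g₁, hg₁R⟩ := hRne
  have hg₁ := (hmemR g₁).mp hg₁R
  obtain ⟨u₁, t₁, i₁, hu₁, h5₁, hd₁, ht₁, hN₁, hc₁, hs₁⟩ := cls_data c hQ hg₁
  have hsub₁ : cls g₁ ⊆ R := fun h hh => (hmemR h).mpr (cls_facts c hg₁ hh).1
  by_cases hA : R ⊆ cls g₁
  · -- one class
    exfalso
    have hRe : R = cls g₁ := Finset.Subset.antisymm hA hsub₁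
    rw [hRe, hs₁] at hsumR
    rw [← hsumR] at hP
    exact one_class_false hq4 (by omega) ht₁ hN₁ hP hd₁
  · rw [Finset.not_subset] at hA
    obtain ⟨g₂, hg₂R, hg₂n⟩ := hA
    have hg₂ := (hmemR g₂).mp hg₂R
    obtain ⟨u₂, t₂, i₂, hu₂, h5₂, hd₂, ht₂, hN₂, hc₂, hs₂⟩ := cls_data c hQ hg₂
    have hsub₂ : cls g₂ ⊆ R := fun h hh => (hmemR h).mpr (cls_facts c hg₂ hh).1
    have hdis₁₂ := cls_disjoint c hg₁ hg₂ hg₂n
    by_cases hB : R ⊆ cls g₁ ∪ cls g₂
    · -- two classes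
      have hRe : R = cls g₁ ∪ cls g₂ :=
        Finset.Subset.antisymm hB (Finset.union_subset hsub₁ hsub₂)
      have hsum2 : 2 * (i₁ * (u₁ - 1) * u₁ + i₂ * (u₂ - 1) * u₂) = Γ * q := by
        rw [← hP, ← hsumR, hRe, Finset.sum_union hdis₁₂, hs₁, hs₂]
      have hle : 2 * (i₁ * (u₁ - 1) + i₂ * (u₂ - 1)) + q ^ 2 * (q ^ 2 - 1) ≤ Γ := by
        have : R.card = i₁ * (u₁ - 1) + i₂ * (u₂ - 1) := by
          rw [hRe, Finset.card_union_of_disjoint hdis₁₂, hc₁, hc₂]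
        rw [← this]
        omega
      have hsum := two_class_sum hq4 h5₁ h5₂ ht₁ ht₂ hN₁ hN₂ hsum2 hle
      obtain ⟨j, hj2, hqj⟩ := c.q_pow
      obtain ⟨m, hm⟩ := odd_pow_of_two_tori (by omega) hqj (by omega) (by omega) hsum hd₁ hd₂
      refine ⟨m, by omega, ?_⟩
      rw [hqj, hm]
    · -- three classes
      exfalso
      rw [Finset.not_subset] at hB
      obtain ⟨g₃, hg₃R, hg₃n⟩ := hB
      rw [Finset.mem_union, not_or] at hg₃n
      have hg₃ := (hmemR g₃).mp hg₃R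
      obtain ⟨u₃, t₃, i₃, hu₃, h5₃, hd₃, ht₃, hN₃, hc₃, hs₃⟩ := cls_data c hQ hg₃
      have hsub₃ : cls g₃ ⊆ R := fun h hh => (hmemR h).mpr (cls_facts c hg₃ hh).1
      have hdis₁₃ := cls_disjoint c hg₁ hg₃ hg₃n.1
      have hdis₂₃ := cls_disjoint c hg₂ hg₃ hg₃n.2
      have hl₁ := class_large h5₁ ht₁ hN₁
      have hl₂ := class_large h5₂ ht₂ hN₂
      have hl₃ := class_large h5₃ ht₃ hN₃
      have hcard3 : (cls g₁).card + (cls g₂).card + (cls g₃).card ≤ R.card := by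
        have hd : Disjoint (cls g₁ ∪ cls g₂) (cls g₃) := by
          rw [Finset.disjoint_union_left]; exact ⟨hdis₁₃, hdis₂₃⟩
        rw [← Finset.card_union_of_disjoint hdis₁₂, ← Finset.card_union_of_disjoint hd]
        apply Finset.card_le_card
        exact Finset.union_subset (Finset.union_subset hsub₁ hsub₂) hsub₃
      rw [hc₁, hc₂, hc₃] at hcard3
      omega

end main

end Cfsg.Agent.Lib.Helper3.Sz
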