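import Mathlib
import Cfsg.Agent.Lib.Helper3.SzC5
import Cfsg.Agent.Lib.Helper3.SzB5f
import Cfsg.Agent.Lib.Helper3.ZT12
import Cfsg.Agent.S0738
import Cfsg.Agent.S0741

set_option autoImplicit false
set_option linter.style.haveILetI false
set_option linter.unusedSectionVars false

/-! # Suzuki's theorem on Zassenhaus groups with a nonabelian regular normal `2`-subgroup: assembly. -/

namespace Cfsg.Agent.Lib.Helper3.Sz

open Cfsg MulAction
open Cfsg.Agent.Lib.Helper97.Zass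
open Cfsg.Agent.Lib.Helper3.ZassOdd
open Cfsg.Agent.Lib.Helper3.ZassFeit

/-- the main theorem: the context exists with `q = 2^(2m+1)`, `m ≥ 1`, and `|Q| = q²`. -/
theorem main {G Ω : Type*} [Group G] [Finite G] [MulAction G Ω] [Fintype Ω]
    (hZ : Cfsg.IsZassenhausGroup G Ω) [IsSimpleGroup G] {a b : Ω} (hab : a ≠ b)
    {Q : Subgroup G} (hQle : Q ≤ stabilizer G a)
    (hQn : (Q.subgroupOf (stabilizer G a)).Normal) (hQ2 : IsPGroup 2 Q)
    (hna : ∃ u v : Q, u * v ≠ v * u)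
    (hreg : ∀ y z : Ω, y ≠ a → z ≠ a → ∃! u : Q, (u : G) • y = z) :
    ∃ m : ℕ, 1 ≤ m ∧ Ctx G a b Q (2 ^ (2 * m + 1)) ∧ Nat.card Q = (2 ^ (2 * m + 1)) ^ 2 := by
  classical
  haveI := Fintype.ofFinite G
  have k : Ker G a Q := ⟨hQle, Cfsg.Agent.Lib.Helper3.ZT.card_of_reg hab hQle hreg,
    Cfsg.Agent.Lib.Helper3.ZT.fix_of_reg hreg⟩
  have hnc : ¬ IsMulCommutative Q := by
    intro h
    obtain ⟨u, v, huv⟩ := hna
    exact huv (h.is_comm.comm u v)
  have hbig : ¬ (Fintype.card Ω - 2 ≤ 2 * Nat.card (twoStab G a b)) := by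
    intro hd
    exact hnc (Cfsg.Agent.S0738.result hZ hab hd Q hQle hQn hreg).1
  have hodd : Odd (Nat.card (twoStab G a b)) := by
    by_contra h
    rw [Nat.not_odd_iff_even] at h
    exact hbig (Cfsg.Agent.S0741.result hZ hab h)
  have hlt : 2 * Nat.card (twoStab G a b) + 2 < Fintype.card Ω := by omega
  have c := ctx_of_ker hZ hab hodd hlt k hQ2 hna
  rcases c.card_cases with h2 | h3
  · obtain ⟨m, hm, hq⟩ := c.odd_pow_aux h2
    refine ⟨m, hm, ?_, ?_⟩
    · rw [← hq]; exact c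
    · rw [← hq]; exact h2
  · exact absurd h3 c.card_ne_cube

end Cfsg.Agent.Lib.Helper3.Sz
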