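import Mathlib
import Cfsg.Agent.S0727

set_option autoImplicit false
set_option linter.style.haveILetI false
set_option linter.unusedSectionVars false

/-! # Sharply triply transitive groups of degree `2^f + 1`, abstract actions. -/

namespace Cfsg.Agent.Lib.Helper3.Sz

open MulAction

/-- a group with a sharply triply transitive action of degree `2^f + 1` is `PSL₂(2^f)`. -/
theorem psl_of_sharp {G Ω : Type*} [Group G] [MulAction G Ω] [Fintype Ω] [DecidableEq Ω] {f : ℕ}
    (hf : 1 ≤ f) (hΩ : Fintype.card Ω = 2 ^ f + 1)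
    (h3 : MulAction.IsMultiplyPretransitive G Ω 3)
    (hsharp : ∀ x : Fin 3 ↪ Ω, MulAction.stabilizer G x = ⊥) :
    ∃ (F : Type) (_ : Field F) (_ : Fintype F),
      Nonempty (G ≃* Matrix.ProjectiveSpecialLinearGroup (Fin 2) F) := by
  set ρ : G →* Equiv.Perm Ω := MulAction.toPermHom G Ω with hρ
  set G' : Subgroup (Equiv.Perm Ω) := ρ.range with hG'
  have hact : ∀ (g : G) (x : Ω), (ρ.rangeRestrict g : G') • x = g • x := fun g x => rfl
  have hsurj : Function.Surjective ρ.rangeRestrict := ρ.rangeRestrict_surjective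
  have h3' : MulAction.IsMultiplyPretransitive G' Ω 3 := by
    rw [MulAction.isMultiplyPretransitive_iff] at h3 ⊢
    intro x y
    obtain ⟨g, hg⟩ := h3 x y
    refine ⟨ρ.rangeRestrict g, ?_⟩
    ext i
    have := congrArg (fun f : Fin 3 ↪ Ω => f i) hg
    simp only [Function.Embedding.smul_apply] at this
    rw [Function.Embedding.smul_apply, hact]
    exact this
  have hsharp' : ∀ x : Fin 3 ↪ Ω, MulAction.stabilizer G' x = ⊥ := by
    intro x
    rw [eq_bot_iff]
    intro g' hg'
    obtain ⟨g, rfl⟩ := hsurj g'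
    rw [mem_stabilizer_iff] at hg'
    have hg : g ∈ MulAction.stabilizer G x := by
      rw [mem_stabilizer_iff]
      ext i
      have := congrArg (fun f : Fin 3 ↪ Ω => f i) hg'
      rw [Function.Embedding.smul_apply, ← hact]
      exact this
    rw [hsharp x, Subgroup.mem_bot] at hg
    rw [hg, map_one]
    exact Subgroup.one_mem _
  obtain ⟨F, fF, ftF, hFc, ⟨e⟩⟩ := Cfsg.Agent.S0727.result hf hΩ G' h3' hsharp'
  obtain ⟨e2⟩ := Cfsg.Agent.S0727.psl_equiv_pgl hf hFc
  have h3c : Fintype.card (Fin 3) ≤ Fintype.card Ω := by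
    rw [Fintype.card_fin, hΩ]
    have : 2 ^ 1 ≤ 2 ^ f := Nat.pow_le_pow_right (by norm_num) hf
    omega
  obtain ⟨t⟩ := Function.Embedding.nonempty_of_card_le h3c
  have hinj : Function.Injective ρ := by
    rw [← MonoidHom.ker_eq_bot_iff, eq_bot_iff]
    intro g hg
    rw [MonoidHom.mem_ker] at hg
    have hgx : ∀ x : Ω, g • x = x := by
      intro x
      have := congrArg (fun σ : Equiv.Perm Ω => σ x) hg
      simpa [hρ] using this
    have : g ∈ MulAction.stabilizer G t := by
      rw [mem_stabilizer_iff]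
      ext i
      rw [Function.Embedding.smul_apply, hgx]
    rwa [hsharp t] at this
  exact ⟨F, fF, ftF, ⟨(MonoidHom.ofInjective hinj).trans (e.trans e2.symm)⟩⟩

end Cfsg.Agent.Lib.Helper3.Sz
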