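import Cfsg.Agent.Lib.Helper48.TrDefs
import Cfsg.Agent.Lib.Helper21.TrPSL

/-! # TR-PSL leaf of the two-rank hive S1788 (helper48): wrapper on helper21's core -/

set_option autoImplicit false

namespace Cfsg.Agent.Lib.Helper48.Tr

open Cfsg

theorem tr_psl (F : Type) [Field F] [Fintype F] [CharP F 2] (n : ℕ) (hn : 2 ≤ n)
    (h8 : 8 ≤ Fintype.card F ^ (n - 1)) :
    PRankAtLeast 2 3 (Matrix.ProjectiveSpecialLinearGroup (Fin n) F) := by
  obtain ⟨A, hc, he, hcard⟩ :=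
    Cfsg.Agent.Lib.Helper21.TrPSL.exists_elemAb (F := F) (n := n) (by omega)
  exact ⟨A, hc, he, by rw [hcard]; simpa using h8⟩

end Cfsg.Agent.Lib.Helper48.Tr
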