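import Mathlib
import Cfsg.Agent.Lib.Helper3.ZassInv

set_option autoImplicit false
set_option linter.style.haveILetI false
set_option linter.unusedSectionVars false

/-!
# Transitive groups of degree `p + 1` and order `(p + 1) p d`, `d < p`: basic structure
-/

namespace Cfsg.Agent.Lib.Helper3.ZP

open MulAction
open Cfsg.Agent.Lib.Helper3.ZassOdd

variable {G α : Type*} [Group G] [MulAction G α]

/-- a subgroup of prime order `p` fixing a point of a set with `p + 1` elements, in a faithful
action, is regular on the other points -/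
theorem reg_of_card_prime [Finite G] [FaithfulSMul G α] [Fintype α] {p : ℕ} (hp : p.Prime)
    (hα : Fintype.card α = p + 1) {a : α} {P : Subgroup G} (hPa : P ≤ stabilizer G a)
    (hPc : Nat.card P = p) :
    ∀ y z : α, y ≠ a → z ≠ a → ∃! u : P, (u : G) • y = z := by
  classical
  haveI : Fact p.Prime := ⟨hp⟩
  have hPG : IsPGroup p P := IsPGroup.of_card (n := 1) (by rw [hPc, pow_one])
  -- `P` acts freely outside `a`
  have hfree : ∀ y : α, y ≠ a → ∀ u : P, (u : G) • y = y → u = 1 := by
    intro y hy u hu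
    by_contra hu1
    -- all of `P` fixes `y`
    have hall : ∀ v : P, (v : G) • y = y := by
      intro v
      have hv : v ∈ Subgroup.zpowers u := by
        have h1 := zpowers_eq_top_of_prime_card (G := P) (p := p) hPc hu1
        rw [h1]
        exact Subgroup.mem_top v
      obtain ⟨k, rfl⟩ := Subgroup.mem_zpowers_iff.mp hv
      have hmem : (u : G) ∈ stabilizer G y := hu
      have h2 : ((u ^ k : P) : G) = (u : G) ^ k := by simp
      rw [h2]
      exact (stabilizer G y).zpow_mem hmem k
    have hya : y ∈ fixedPoints P α := fun v => hall v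
    have haa : a ∈ fixedPoints P α := fun v => hPa v.2
    have hmod := hPG.card_modEq_card_fixedPoints α
    rw [Nat.card_eq_fintype_card, hα] at hmod
    have h2le : 2 ≤ Nat.card (fixedPoints P α) := by
      have : (1 : ℕ) < Nat.card (fixedPoints P α) := by
        rw [Finite.one_lt_card_iff_nontrivial]
        exact ⟨⟨y, hya⟩, ⟨a, haa⟩, fun h => hy (congrArg Subtype.val h)⟩
      omega
    have hle : Nat.card (fixedPoints P α) ≤ p + 1 := by
      rw [← hα, ← Nat.card_eq_fintype_card]
      exact Nat.card_le_card_of_injective _ Subtype.val_injective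
    have hall' : Nat.card (fixedPoints P α) = p + 1 := by
      have h1 : Nat.card (fixedPoints P α) % p = 1 % p := by
        have := hmod.symm
        unfold Nat.ModEq at this
        rw [this, Nat.add_mod_left]
      have hp2 := hp.two_le
      rw [Nat.mod_eq_of_lt (by omega : 1 < p)] at h1
      by_contra hne
      have hlt : Nat.card (fixedPoints P α) ≤ p := by omega
      rcases Nat.lt_or_ge (Nat.card (fixedPoints P α)) p with h | h
      · rw [Nat.mod_eq_of_lt h] at h1
        omega
      · have : Nat.card (fixedPoints P α) = p := by omega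
        rw [this, Nat.mod_self] at h1
        omega
    -- so `P` fixes every point
    have hfix : ∀ w : α, w ∈ fixedPoints P α := by
      intro w
      have hinj : Function.Injective (Subtype.val : fixedPoints P α → α) :=
        Subtype.val_injective
      have hbij := hinj.bijective_of_nat_card_le (by
        rw [hall', Nat.card_eq_fintype_card, hα])
      obtain ⟨⟨w', hw'⟩, rfl⟩ := hbij.2 w
      exact hw'
    apply hu1
    have : (u : G) = 1 := by
      apply FaithfulSMul.eq_of_smul_eq_smul (α := α)
      intro w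
      rw [one_smul]
      exact hfix w u
    exact Subtype.ext this
  intro y z hy hz
  -- the orbit map
  have hmaps : ∀ u : P, (u : G) • y ≠ a := by
    intro u h
    have h1 : (u : G) • a = a := hPa u.2
    rw [← h1] at h
    exact hy (smul_left_cancel _ h)
  let f : P → {w : α // w ≠ a} := fun u => ⟨(u : G) • y, hmaps u⟩
  have hf : Function.Injective f := by
    intro u v huv
    have h1 : (u : G) • y = (v : G) • y := congrArg Subtype.val huv
    have h2 : ((v⁻¹ * u : P) : G) • y = y := by
      rw [Subgroup.coe_mul, mul_smul, h1, Subgroup.coe_inv, inv_smul_smul]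
    have h3 := hfree y hy _ h2
    calc u = v * (v⁻¹ * u) := by group
      _ = v := by rw [h3, mul_one]
  haveI : Fintype P := Fintype.ofFinite P
  have hcard : Fintype.card P = Fintype.card {w : α // w ≠ a} := by
    rw [← Nat.card_eq_fintype_card, hPc, Fintype.card_subtype_compl, hα, Fintype.card_subtype_eq]
    omega
  have hbij : Function.Bijective f := (Fintype.bijective_iff_injective_and_card f).mpr ⟨hf, hcard⟩
  obtain ⟨u, hu⟩ := hbij.2 ⟨z, hz⟩
  refine ⟨u, congrArg Subtype.val hu, fun v hv => ?_⟩
  apply hf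
  rw [hu]
  exact Subtype.ext hv

/-- the order of a point stabilizer -/
theorem card_stab [Finite G] [Fintype α] [IsPretransitive G α] {p d : ℕ}
    (hα : Fintype.card α = p + 1) (hG : Nat.card G = (p + 1) * p * d) (a : α) :
    Nat.card (stabilizer G a) = p * d := by
  have h1 := Subgroup.card_mul_index (stabilizer G a)
  rw [MulAction.index_stabilizer_of_transitive, Nat.card_eq_fintype_card (α := α), hα, hG] at h1
  have h2 : Nat.card (stabilizer G a) * (p + 1) = (p * d) * (p + 1) := by
    rw [h1]; ring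
  exact Nat.eq_of_mul_eq_mul_right (by omega) h2

/-- a fixed point of an element of order `p`, and the normal Sylow subgroup of its stabilizer -/
theorem exists_point_sylow [Finite G] [FaithfulSMul G α] [Fintype α] [IsPretransitive G α]
    {p d : ℕ} (hp : p.Prime) (hα : Fintype.card α = p + 1)
    (hG : Nat.card G = (p + 1) * p * d) (hd : d < p) :
    ∃ (a : α) (P : Subgroup G), P ≤ stabilizer G a ∧ (P.subgroupOf (stabilizer G a)).Normal ∧
      Nat.card P = p := by
  classical
  haveI : Fact p.Prime := ⟨hp⟩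
  have hd0 : 0 < d := by
    rcases Nat.eq_zero_or_pos d with h | h
    · rw [h, mul_zero] at hG
      have : 0 < Nat.card G := Nat.card_pos
      omega
    · exact h
  have hpdvd : p ∣ Nat.card G := by
    rw [hG]
    exact dvd_mul_of_dvd_left (dvd_mul_left p (p + 1)) d
  obtain ⟨x, hx⟩ := exists_prime_orderOf_dvd_card' (G := G) p hpdvd
  have hP₀ : IsPGroup p (Subgroup.zpowers x) :=
    IsPGroup.of_card (n := 1) (by rw [Nat.card_zpowers, hx, pow_one])
  have hnd : ¬ p ∣ Nat.card α := by
    rw [Nat.card_eq_fintype_card, hα]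
    intro h
    have h1 : p ∣ 1 := (Nat.dvd_add_right (dvd_refl p)).mp h
    exact hp.one_lt.ne' (Nat.dvd_one.mp h1)
  obtain ⟨a, ha⟩ := hP₀.nonempty_fixed_point_of_prime_not_dvd_card α hnd
  have hca := card_stab hα hG a
  -- the Sylow subgroup of the stabilizer
  obtain ⟨Q⟩ : Nonempty (Sylow p (stabilizer G a)) := Sylow.nonempty
  have hpd : ¬ p ∣ d := Nat.not_dvd_of_pos_of_lt hd0 hd
  have hfac : (Nat.card (stabilizer G a)).factorization p = 1 := by
    rw [hca, Nat.factorization_mul hp.ne_zero hd0.ne', Finsupp.add_apply,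
      hp.factorization_self, Nat.factorization_eq_zero_of_not_dvd hpd]
  have hQc : Nat.card Q = p := by
    rw [Sylow.card_eq_multiplicity, hfac, pow_one]
  have hidx : (Q : Subgroup (stabilizer G a)).index = d := by
    have h1 := Subgroup.card_mul_index (Q : Subgroup (stabilizer G a))
    rw [hQc, hca] at h1
    exact Nat.eq_of_mul_eq_mul_left hp.pos h1
  have hn1 : Nat.card (Sylow p (stabilizer G a)) = 1 := by
    have h1 : Nat.card (Sylow p (stabilizer G a)) ∣ d := by
      rw [← hidx]
      exact Q.card_dvd_index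
    have h2 : Nat.card (Sylow p (stabilizer G a)) ≡ 1 [MOD p] := card_sylow_modEq_one p _
    have h3 : Nat.card (Sylow p (stabilizer G a)) ≤ d := Nat.le_of_dvd hd0 h1
    unfold Nat.ModEq at h2
    rw [Nat.mod_eq_of_lt (by omega), Nat.mod_eq_of_lt hp.one_lt] at h2
    exact h2
  haveI : Subsingleton (Sylow p (stabilizer G a)) :=
    (Nat.card_eq_one_iff_unique.mp hn1).1
  have hQn : (Q : Subgroup (stabilizer G a)).Normal := Sylow.normal_of_subsingleton Q
  refine ⟨a, (Q : Subgroup (stabilizer G a)).map (stabilizer G a).subtype, ?_, ?_, ?_⟩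
  · exact Subgroup.map_subtype_le _
  · have h1 : ((Q : Subgroup (stabilizer G a)).map (stabilizer G a).subtype).subgroupOf
        (stabilizer G a) = (Q : Subgroup (stabilizer G a)) :=
      Subgroup.comap_map_eq_self_of_injective (Subgroup.subtype_injective _) _
    rw [h1]
    exact hQn
  · rw [Subgroup.card_map_of_injective (Subgroup.subtype_injective _)]
    exact hQc

section
variable {a : α} {P : Subgroup G}

/-- an element of the point stabilizer fixing two more points is trivial -/
theorem fix3_stab [FaithfulSMul G α] {p : ℕ} (hp : p.Prime) (hPa : P ≤ stabilizer G a)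
    (hPn : (P.subgroupOf (stabilizer G a)).Normal) (hPc : Nat.card P = p)
    (hreg : ∀ y z : α, y ≠ a → z ≠ a → ∃! u : P, (u : G) • y = z)
    {g : G} (hga : g • a = a) {y z : α} (hy : y ≠ a) (hz : z ≠ a) (hyz : y ≠ z)
    (hgy : g • y = y) (hgz : g • z = z) : g = 1 := by
  haveI : Fact p.Prime := ⟨hp⟩
  have hconj : ∀ u ∈ P, g * u * g⁻¹ ∈ P := by
    intro u hu
    have h3 := hPn.conj_mem ⟨u, hPa hu⟩ (Subgroup.mem_subgroupOf.mpr hu) ⟨g, hga⟩
    exact Subgroup.mem_subgroupOf.mp h3
  obtain ⟨u₀, hu₀, -⟩ := hreg y z hy hz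
  have hu₀1 : u₀ ≠ 1 := by
    rintro rfl
    rw [Subgroup.coe_one, one_smul] at hu₀
    exact hyz hu₀
  -- `g` centralizes `u₀`
  have hc₀ : g * (u₀ : G) * g⁻¹ = (u₀ : G) := by
    have h1 : (g * (u₀ : G) * g⁻¹) • y = z := by
      rw [mul_smul, mul_smul, inv_smul_eq_iff.mpr hgy.symm, hu₀, hgz]
    have h2 := (hreg y z hy hz).unique (y₁ := ⟨g * (u₀ : G) * g⁻¹, hconj _ u₀.2⟩) (y₂ := u₀)
      h1 hu₀
    exact congrArg Subtype.val h2
  -- hence all of `P`
  have hc : ∀ u : P, g * (u : G) * g⁻¹ = (u : G) := by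
    intro u
    have hv : u ∈ Subgroup.zpowers u₀ := by
      have h1 := zpowers_eq_top_of_prime_card (G := P) (p := p) hPc hu₀1
      rw [h1]
      exact Subgroup.mem_top u
    obtain ⟨k, rfl⟩ := Subgroup.mem_zpowers_iff.mp hv
    have h2 : ((u₀ ^ k : P) : G) = (u₀ : G) ^ k := by simp
    rw [h2]
    have h3 : g * (u₀ : G) ^ k * g⁻¹ = (g * (u₀ : G) * g⁻¹) ^ k := by
      rw [conj_zpow]
    rw [h3, hc₀]
  apply FaithfulSMul.eq_of_smul_eq_smul (α := α)
  intro w
  rw [one_smul]
  by_cases hw : w = a
  · rw [hw, hga]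
  · obtain ⟨u, hu, -⟩ := hreg y w hy hw
    have h1 : g * (u : G) = (u : G) * g := by
      have := hc u
      calc g * (u : G) = (g * (u : G) * g⁻¹) * g := by group
        _ = (u : G) * g := by rw [this]
    rw [← hu, ← mul_smul, h1, mul_smul, hgy]

/-- no non-identity element fixes three points -/
theorem fix3 [FaithfulSMul G α] [IsPretransitive G α] {p : ℕ} (hp : p.Prime)
    (hPa : P ≤ stabilizer G a)
    (hPn : (P.subgroupOf (stabilizer G a)).Normal) (hPc : Nat.card P = p)
    (hreg : ∀ y z : α, y ≠ a → z ≠ a → ∃! u : P, (u : G) • y = z) :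
    ∀ g : G, ∀ x y z : α, x ≠ y → y ≠ z → x ≠ z → g • x = x → g • y = y → g • z = z →
      g = 1 := by
  intro g x y z hxy hyz hxz hgx hgy hgz
  obtain ⟨k, hk⟩ := exists_smul_eq G x a
  have h1 : k * g * k⁻¹ = 1 := by
    refine fix3_stab hp hPa hPn hPc hreg (g := k * g * k⁻¹) (y := k • y) (z := k • z)
      ?_ ?_ ?_ ?_ ?_ ?_
    · rw [mul_smul, mul_smul, ← hk, inv_smul_smul, hgx]
    · rw [← hk]
      exact fun h => hxy (smul_left_cancel k h).symm
    · rw [← hk]
      exact fun h => hxz (smul_left_cancel k h).symm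
    · exact fun h => hyz (smul_left_cancel k h)
    · rw [mul_smul, mul_smul, inv_smul_smul, hgy]
    · rw [mul_smul, mul_smul, inv_smul_smul, hgz]
  calc g = k⁻¹ * (k * g * k⁻¹) * k := by group
    _ = 1 := by rw [h1]; group

/-- double transitivity -/
theorem two_trans [IsPretransitive G α] (hPa : P ≤ stabilizer G a)
    (hreg : ∀ y z : α, y ≠ a → z ≠ a → ∃! u : P, (u : G) • y = z) :
    ∀ {x y z w : α}, x ≠ y → z ≠ w → ∃ g : G, g • x = z ∧ g • y = w := by
  intro x y z w hxy hzw
  obtain ⟨k₁, hk₁⟩ := exists_smul_eq G x a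
  obtain ⟨k₂, hk₂⟩ := exists_smul_eq G z a
  have h1 : k₁ • y ≠ a := by
    rw [← hk₁]
    exact fun h => hxy (smul_left_cancel k₁ h).symm
  have h2 : k₂ • w ≠ a := by
    rw [← hk₂]
    exact fun h => hzw (smul_left_cancel k₂ h).symm
  obtain ⟨u, hu, -⟩ := hreg _ _ h1 h2
  have hua : (u : G) • a = a := hPa u.2
  refine ⟨k₂⁻¹ * (u : G) * k₁, ?_, ?_⟩
  · rw [mul_smul, mul_smul, hk₁, hua, ← hk₂, inv_smul_smul]
  · rw [mul_smul, mul_smul, hu, inv_smul_smul]

/-- the order of a two point stabilizer -/
theorem card_twoStab [Finite G] [Fintype α] [IsPretransitive G α] {p d : ℕ} (hp : p.Prime)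
    (hα : Fintype.card α = p + 1) (hG : Nat.card G = (p + 1) * p * d)
    (hPa : P ≤ stabilizer G a)
    (hreg : ∀ y z : α, y ≠ a → z ≠ a → ∃! u : P, (u : G) • y = z) {b : α} (hab : a ≠ b) :
    Nat.card ↥(stabilizer G a ⊓ stabilizer G b) = d := by
  classical
  have hca := card_stab hα hG a
  have horb : orbit (stabilizer G a) b = {a}ᶜ := by
    ext z
    rw [Set.mem_compl_iff, Set.mem_singleton_iff]
    constructor
    · rintro ⟨⟨g, hg⟩, rfl⟩ h
      have h1 : g • b = a := h
      rw [← hg] at h1
      exact hab (smul_left_cancel g h1).symm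
    · intro hz
      obtain ⟨u, hu, -⟩ := hreg b z hab.symm hz
      exact ⟨⟨(u : G), hPa u.2⟩, hu⟩
  have hidx : (stabilizer (stabilizer G a) b).index = p := by
    rw [MulAction.index_stabilizer, horb, Set.ncard_compl, Set.ncard_singleton,
      Nat.card_eq_fintype_card, hα]
    omega
  have h1 := Subgroup.card_mul_index (stabilizer (stabilizer G a) b)
  rw [hidx, hca, mul_comm] at h1
  have h2 : Nat.card (stabilizer (stabilizer G a) b) = d := Nat.eq_of_mul_eq_mul_left hp.pos h1
  rw [← h2]
  exact Nat.card_congr (twoStabEquiv (G := G) a b).toEquiv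

end

end Cfsg.Agent.Lib.Helper3.ZP
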