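import Mathlib
import Cfsg.Agent.Lib.Helper3.ZT3

set_option autoImplicit false
set_option linter.style.haveILetI false
set_option linter.unusedSectionVars false

/-!
# The model on `OnePoint V` without the hypothesis on the order of the two point stabilizer

(a copy of the relevant part of the theory of `Mod0`)
-/

namespace Cfsg.Agent.Lib.Helper3.ZT

open OnePoint

variable {V : Type*} [AddCommGroup V] {Γ : Subgroup (Equiv.Perm (OnePoint V))}
  {t : Equiv.Perm (OnePoint V)}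

/-- The hypotheses of the model, without the cardinality. -/
structure ModS (Γ : Subgroup (Equiv.Perm (OnePoint V))) (t : Equiv.Perm (OnePoint V)) :
    Prop where
  trans_mem : ∀ v : V, trans v ∈ Γ
  fix3 : ∀ γ ∈ Γ, ∀ p₁ p₂ p₃ : OnePoint V, p₁ ≠ p₂ → p₂ ≠ p₃ → p₁ ≠ p₃ → γ p₁ = p₁ →
    γ p₂ = p₂ → γ p₃ = p₃ → γ = 1
  add : ∀ γ ∈ Γ, γ ∞ = ∞ → γ ((0 : V) : OnePoint V) = ((0 : V) : OnePoint V) → ∀ x y : V,
    val (γ ((x + y : V) : OnePoint V)) = val (γ (x : OnePoint V)) + val (γ (y : OnePoint V))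
  t_mem : t ∈ Γ
  t_sq : t * t = 1
  t_zero : t ((0 : V) : OnePoint V) = ∞

theorem ModS.t_inv (m : ModS Γ t) : t⁻¹ = t := inv_eq_of_mul_eq_one_left m.t_sq

theorem ModS.t_t (m : ModS Γ t) (p : OnePoint V) : t (t p) = p := by
  have := congrArg (fun f => f p) m.t_sq
  simpa using this

theorem ModS.t_infty (m : ModS Γ t) : t ∞ = ((0 : V) : OnePoint V) := by
  rw [← m.t_zero, m.t_t]

theorem ModS.lin_add (m : ModS Γ t) {h : Equiv.Perm (OnePoint V)} (hh : h ∈ Estab Γ) (x y : V) :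
    lin h (x + y) = lin h x + lin h y := m.add h hh.1 hh.2.1 hh.2.2 x y

theorem ModS.lin_neg (m : ModS Γ t) {h : Equiv.Perm (OnePoint V)} (hh : h ∈ Estab Γ) (x : V) :
    lin h (-x) = -lin h x := by
  have h1 := m.lin_add hh x (-x)
  rw [add_neg_cancel, lin_zero hh] at h1
  exact (neg_eq_of_add_eq_zero_right h1.symm).symm

theorem ModS.semireg (m : ModS Γ t) {h : Equiv.Perm (OnePoint V)} (hh : h ∈ Estab Γ) {x : V}
    (hx : x ≠ 0) (hfix : lin h x = x) : h = 1 := by
  refine m.fix3 h hh.1 ∞ ((0 : V) : OnePoint V) (x : OnePoint V) (infty_ne_coe 0) ?_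
    (infty_ne_coe x) hh.2.1 hh.2.2 ?_
  · intro h0
    exact hx (coe_inj' h0).symm
  · rw [lin_spec hh.2.1, hfix]

theorem ModS.t_coe_eq_infty_iff (m : ModS Γ t) {x : V} : t (x : OnePoint V) = ∞ ↔ x = 0 := by
  constructor
  · intro h
    rw [← m.t_zero] at h
    exact coe_inj' (t.injective h)
  · rintro rfl
    exact m.t_zero

theorem ModS.t_coe (m : ModS Γ t) {x : V} (hx : x ≠ 0) :
    t (x : OnePoint V) = ((lin t x : V) : OnePoint V) := by
  refine (coe_val ?_).symm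
  intro h
  exact hx (m.t_coe_eq_infty_iff.mp h)

theorem ModS.tau_ne_zero (m : ModS Γ t) {x : V} (hx : x ≠ 0) : lin t x ≠ 0 := by
  intro h
  have h1 := m.t_coe hx
  rw [h, ← m.t_infty] at h1
  exact coe_ne_infty x (t.injective h1)

theorem ModS.tau_tau (m : ModS Γ t) {x : V} (hx : x ≠ 0) : lin t (lin t x) = x := by
  show val (t ((lin t x : V) : OnePoint V)) = x
  rw [← m.t_coe hx, m.t_t]
  rfl

theorem ModS.tau_injective (m : ModS Γ t) {x y : V} (hx : x ≠ 0) (hy : y ≠ 0)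
    (h : lin t x = lin t y) : x = y := by
  rw [← m.tau_tau hx, ← m.tau_tau hy, h]

theorem ModS.tht_mem (m : ModS Γ t) {h : Equiv.Perm (OnePoint V)} (hh : h ∈ Estab Γ) :
    t * h * t ∈ Estab Γ := by
  refine ⟨Γ.mul_mem (Γ.mul_mem m.t_mem hh.1) m.t_mem, ?_, ?_⟩
  · rw [Equiv.Perm.mul_apply, Equiv.Perm.mul_apply, m.t_infty, hh.2.2, m.t_zero]
  · rw [Equiv.Perm.mul_apply, Equiv.Perm.mul_apply, m.t_zero, hh.2.1, m.t_infty]

theorem ModS.tau_lin (m : ModS Γ t) {h : Equiv.Perm (OnePoint V)} (hh : h ∈ Estab Γ) {x : V}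
    (hx : x ≠ 0) : lin t (lin h x) = lin (t * h * t) (lin t x) := by
  show val (t ((lin h x : V) : OnePoint V)) = val ((t * h * t) ((lin t x : V) : OnePoint V))
  rw [← lin_spec hh.2.1, ← m.t_coe hx, Equiv.Perm.mul_apply, Equiv.Perm.mul_apply, m.t_t]

theorem ModS.decomp (m : ModS Γ t) {γ : Equiv.Perm (OnePoint V)} (hγ : γ ∈ Γ) (hinf : γ ∞ = ∞) :
    trans (-(lin γ 0)) * γ ∈ Estab Γ := by
  refine ⟨Γ.mul_mem (m.trans_mem _) hγ, ?_, ?_⟩
  · rw [Equiv.Perm.mul_apply, hinf, trans_infty]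
  · rw [Equiv.Perm.mul_apply, lin_spec hinf, trans_coe, neg_add_cancel]

theorem ModS.mu_mem (m : ModS Γ t) (u : V) : mu t u ∈ Γ :=
  Γ.mul_mem (Γ.mul_mem (Γ.mul_mem (Γ.mul_mem (m.trans_mem _) m.t_mem) (m.trans_mem _)) m.t_mem)
    (m.trans_mem _)

theorem ModS.mu_infty (m : ModS Γ t) {u : V} (hu : u ≠ 0) :
    mu t u ∞ = ((0 : V) : OnePoint V) := by
  unfold mu
  simp only [Equiv.Perm.mul_apply]
  rw [trans_infty, m.t_infty, trans_coe, add_zero, m.t_coe hu, trans_coe, neg_add_cancel]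

theorem ModS.mu_zero (m : ModS Γ t) (hsp : ∀ x : V, x ≠ 0 → lin t (-x) = -lin t x) {u : V}
    (hu : u ≠ 0) : mu t u ((0 : V) : OnePoint V) = ∞ := by
  unfold mu
  simp only [Equiv.Perm.mul_apply]
  have h1 : lin t u ≠ 0 := m.tau_ne_zero hu
  have h2 : -lin t u ≠ 0 := neg_ne_zero.mpr h1
  rw [trans_coe, add_zero, m.t_coe h2, hsp _ h1, m.tau_tau hu, trans_coe, add_neg_cancel,
    m.t_zero, trans_infty]

theorem ModS.t_mu (m : ModS Γ t) (u : V) : t * hh t u = mu t u := by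
  unfold hh
  rw [← mul_assoc, m.t_sq, one_mul]

theorem ModS.hh_mem (m : ModS Γ t) (hsp : ∀ x : V, x ≠ 0 → lin t (-x) = -lin t x) {u : V}
    (hu : u ≠ 0) : hh t u ∈ Estab Γ := by
  refine ⟨Γ.mul_mem m.t_mem (m.mu_mem u), ?_, ?_⟩
  · unfold hh
    rw [Equiv.Perm.mul_apply, m.mu_infty hu, m.t_zero]
  · unfold hh
    rw [Equiv.Perm.mul_apply, m.mu_zero hsp hu, m.t_infty]

theorem ModS.struct_eq (m : ModS Γ t) (u : V) :
    t * trans u * t = trans (lin t u) * t * hh t u * trans (lin t u) := by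
  have h := struct_aux t (trans (lin t u)) (trans u) m.t_sq
  rw [← trans_neg] at h
  rw [h]
  simp only [hh, mu, mul_assoc]

/-- the key formula -/
theorem ModS.key_formula (m : ModS Γ t) (hsp : ∀ x : V, x ≠ 0 → lin t (-x) = -lin t x) {u : V}
    (hu : u ≠ 0) (hinv : t * hh t u * t = (hh t u)⁻¹) {x : V} (hx : x ≠ 0)
    (hAx : lin t u + x ≠ 0) :
    lin t (u + lin t x) = lin t u + lin (hh t u)⁻¹ (lin t (lin t u + x)) := by
  have hE := m.hh_mem hsp hu
  have h1 := congrArg (fun f : Equiv.Perm (OnePoint V) => f (x : OnePoint V)) (m.struct_eq u)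
  simp only [Equiv.Perm.mul_apply] at h1
  have h3 : lin (hh t u) (lin t u + x) ≠ 0 := by
    intro h0
    exact hAx ((lin_eq_zero_iff hE).mp h0)
  rw [m.t_coe hx, trans_coe, trans_coe, lin_spec hE.2.1, m.t_coe h3, trans_coe] at h1
  have h4 := congrArg val h1
  rw [val_coe] at h4
  have h5 : val (t ((u + lin t x : V) : OnePoint V)) = lin t (u + lin t x) := rfl
  rw [h5] at h4
  rw [h4, m.tau_lin hE hAx, hinv]

/-- the key formula, second form -/
theorem ModS.key_formula' (m : ModS Γ t) (hsp : ∀ x : V, x ≠ 0 → lin t (-x) = -lin t x) {u : V}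
    (hu : u ≠ 0) (hinv : t * hh t u * t = (hh t u)⁻¹) {v : V} (hv : v ≠ 0)
    (huv : u + v ≠ 0) :
    lin t (u + v) = lin t u + lin (hh t u)⁻¹ (lin t (lin t u + lin t v)) := by
  have h1 : lin t u + lin t v ≠ 0 := by
    intro h0
    have h2 : lin t v = lin t (-u) := by
      rw [hsp u hu]
      exact eq_neg_of_add_eq_zero_right h0
    have h3 := m.tau_injective hv (neg_ne_zero.mpr hu) h2
    apply huv
    rw [h3, add_neg_cancel]
  have h2 := m.key_formula hsp hu hinv (m.tau_ne_zero hv) h1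
  rw [m.tau_tau hv] at h2
  exact h2

/-- `u ↦ hh t u` is injective up to sign -/
theorem ModS.hh_inj (m : ModS Γ t) (hsp : ∀ x : V, x ≠ 0 → lin t (-x) = -lin t x)
    (hinv : ∀ u : V, u ≠ 0 → t * hh t u * t = (hh t u)⁻¹) {u v : V} (hu : u ≠ 0) (hv : v ≠ 0)
    (h : hh t u = hh t v) : u = v ∨ u = -v := by
  by_cases huv : u + v = 0
  · right
    exact eq_neg_of_add_eq_zero_left huv
  · left
    have h1 := m.key_formula' hsp hu (hinv u hu) hv huv
    have hvu : v + u ≠ 0 := by rwa [add_comm]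
    have h2 := m.key_formula' hsp hv (hinv v hv) hu hvu
    rw [add_comm v u, add_comm (lin t v) (lin t u), ← h, h1] at h2
    exact m.tau_injective hu hv (add_right_cancel h2)

theorem ModS.lin_inj_left (m : ModS Γ t) {h k : Equiv.Perm (OnePoint V)} (hh : h ∈ Estab Γ)
    (hk : k ∈ Estab Γ) {x : V} (hx : x ≠ 0) (he : lin h x = lin k x) : h = k := by
  have h1 : lin (k⁻¹ * h) x = x := by
    rw [lin_mul hh, he, lin_inv_lin hk]
  have h2 := m.semireg ((Estab Γ).mul_mem ((Estab Γ).inv_mem hk) hh) hx h1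
  calc h = k * (k⁻¹ * h) := by group
    _ = k := by rw [h2, mul_one]

theorem ModS.inv_lin (m : ModS Γ t) {j : Equiv.Perm (OnePoint V)} (hj : j ∈ Estab Γ) (hj1 : j ≠ 1)
    (hjj : j * j = 1) (x : V) : lin j x = -x := by
  by_contra hne
  have h1 : x + lin j x ≠ 0 := fun h0 => hne (eq_neg_of_add_eq_zero_right h0)
  have h2 : lin j (x + lin j x) = x + lin j x := by
    rw [m.lin_add hj, ← lin_mul hj, hjj, lin_one, add_comm]
  exact hj1 (m.semireg hj h1 h2)

theorem ModS.j_comm (m : ModS Γ t) {j : Equiv.Perm (OnePoint V)} (hj : j ∈ Estab Γ)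
    (hjx : ∀ x, lin j x = -x) {h : Equiv.Perm (OnePoint V)} (hh : h ∈ Estab Γ) :
    j * h = h * j := by
  apply E_ext ((Estab Γ).mul_mem hj hh) ((Estab Γ).mul_mem hh hj)
  intro x
  rw [lin_mul hh, lin_mul hj, hjx, hjx, m.lin_neg hh]

theorem ModS.tjt (m : ModS Γ t) {j : Equiv.Perm (OnePoint V)} (hj : j ∈ Estab Γ) (hj1 : j ≠ 1)
    (hjj : j * j = 1) : t * j * t = j := by
  have h1 := m.tht_mem hj
  apply E_ext h1 hj
  intro x
  have h2 : t * j * t ≠ 1 := by
    intro h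
    apply hj1
    calc j = (t * t) * j * (t * t) := by rw [m.t_sq, one_mul, mul_one]
      _ = t * (t * j * t) * t := by simp only [mul_assoc]
      _ = 1 := by rw [h, mul_one, m.t_sq]
  have h3 : (t * j * t) * (t * j * t) = 1 := by
    calc (t * j * t) * (t * j * t) = t * j * (t * t) * j * t := by simp only [mul_assoc]
      _ = t * (j * j) * t := by rw [m.t_sq, mul_one, mul_assoc t j j]
      _ = 1 := by rw [hjj, mul_one, m.t_sq]
  rw [m.inv_lin h1 h2 h3 x, m.inv_lin hj hj1 hjj x]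

/-- The case of a two point stabilizer of even order. -/
theorem ModS.even_case [Finite V] (m : ModS Γ t) (he : Even (Nat.card (Estab Γ))) :
    (∀ x : V, x ≠ 0 → lin t (-x) = -lin t x) ∧
      ∀ u : V, u ≠ 0 → t * hh t u * t = (hh t u)⁻¹ := by
  haveI : Fact (Nat.Prime 2) := ⟨Nat.prime_two⟩
  obtain ⟨j₀, hj₀⟩ := exists_prime_orderOf_dvd_card' (G := Estab Γ) 2 he.two_dvd
  set j : Equiv.Perm (OnePoint V) := (j₀ : Equiv.Perm (OnePoint V)) with hjdef
  have hj : j ∈ Estab Γ := j₀.2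
  have hj1 : j ≠ 1 := by
    intro h
    have : j₀ = 1 := Subtype.ext h
    rw [this, orderOf_one] at hj₀
    omega
  have hjj : j * j = 1 := by
    have h1 := pow_orderOf_eq_one j₀
    rw [hj₀, pow_two] at h1
    exact congrArg Subtype.val h1
  have hjx := m.inv_lin hj hj1 hjj
  have htjt := m.tjt hj hj1 hjj
  have hsp : ∀ x : V, x ≠ 0 → lin t (-x) = -lin t x := by
    intro x hx
    rw [← hjx x, m.tau_lin hj hx, htjt, hjx]
  refine ⟨hsp, ?_⟩
  intro u hu
  have hjt : j * t = t * j := by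
    calc j * t = (t * j * t) * t := by rw [htjt]
      _ = t * j * (t * t) := by simp only [mul_assoc]
      _ = t * j := by rw [m.t_sq, mul_one]
  have h1 : j * mu t u * j = (mu t u)⁻¹ :=
    conj_aux j t (trans (-(lin t u))) (trans u) hjj m.t_sq hjt (j_trans hj hjx _)
      (j_trans hj hjx _)
  have hE := m.hh_mem hsp hu
  have h2 : j * mu t u * j = mu t u := by
    rw [← m.t_mu u]
    calc j * (t * hh t u) * j = (j * t) * (hh t u * j) := by simp only [mul_assoc]
      _ = (t * j) * (j * hh t u) := by rw [hjt, m.j_comm hj hjx hE]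
      _ = t * (j * j) * hh t u := by simp only [mul_assoc]
      _ = t * hh t u := by rw [hjj, mul_one]
  have h3 : mu t u * mu t u = 1 := by
    have : (mu t u)⁻¹ = mu t u := by rw [← h1, h2]
    calc mu t u * mu t u = (mu t u)⁻¹ * mu t u := by rw [this]
      _ = 1 := inv_mul_cancel _
  rw [← m.t_mu u] at h3
  apply eq_inv_of_mul_eq_one_left
  calc t * hh t u * t * hh t u = (t * hh t u) * (t * hh t u) := by simp only [mul_assoc]
    _ = 1 := h3

end Cfsg.Agent.Lib.Helper3.ZT
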