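import Mathlib
import Cfsg.Agent.Lib.Helper3.ZS1
import Cfsg.Agent.Lib.Helper5.GLCard
import Cfsg.Agent.Lib.Helper38.SLCard

set_option autoImplicit false
set_option linter.style.haveILetI false
set_option linter.unusedSectionVars false

/-!
# The sharply triply transitive model over a field: Moebius transformations and `PGL(2,K)`
-/

namespace Cfsg.Agent.Lib.Helper3.ZT

open OnePoint Matrix

/-- The functional equation `τ (u + v) = τ u + s_u * τ (τ u + τ v)` (general form) forces `τ w = - c / w`. -/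
theorem tau_formula_gen {K : Type*} [Field K] (h2 : (2 : K) ≠ 0) (τ : K → K)
    (hτ0 : ∀ x : K, x ≠ 0 → τ x ≠ 0) (hττ : ∀ x : K, x ≠ 0 → τ (τ x) = x)
    (hsp : ∀ x : K, x ≠ 0 → τ (-x) = -τ x)
    (hkey : ∀ u : K, u ≠ 0 → ∃ s : K, s ≠ 0 ∧ ∀ v : K, v ≠ 0 → u + v ≠ 0 →
      τ (u + v) = τ u + s * τ (τ u + τ v)) :
    ∃ c : K, c ≠ 0 ∧ ∀ w : K, w ≠ 0 → τ w = -c / w := by
  choose! s hs0 hs using hkey
  have hinj : ∀ x y : K, x ≠ 0 → y ≠ 0 → τ x = τ y → x = y := by
    intro x y hx hy h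
    rw [← hττ x hx, ← hττ y hy, h]
  have hdbl : ∀ x : K, x ≠ 0 → x + x ≠ 0 := by
    intro x hx h
    rw [← two_mul] at h
    rcases mul_eq_zero.mp h with h | h
    · exact h2 h
    · exact hx h
  -- `a u = a (-u)`
  have hneg : ∀ u : K, u ≠ 0 → s (-u) = s u := by
    intro u hu
    have hu' : -u ≠ 0 := neg_ne_zero.mpr hu
    have h1 := hs u hu u hu (hdbl u hu)
    have h3 := hs (-u) hu' (-u) hu' (hdbl _ hu')
    have hz : τ (τ u + τ u) ≠ 0 := hτ0 _ (hdbl _ (hτ0 u hu))
    rw [← neg_add, hsp _ (hdbl u hu), hsp u hu, ← neg_add, hsp _ (hdbl _ (hτ0 u hu))] at h3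
    have h4 : s (-u) * τ (τ u + τ u) = s u * τ (τ u + τ u) := by
      linear_combination h1 + h3
    exact mul_right_cancel₀ hz h4
  -- the symmetric identity
  have hD : ∀ x y : K, x ≠ 0 → y ≠ 0 → x + y ≠ 0 →
      (s (τ x) - s (τ y)) * τ (x + y) = y - x := by
    intro x y hx hy hxy
    have hsum : τ x + τ y ≠ 0 := by
      intro h0
      have h1 : τ y = τ (-x) := by
        rw [hsp x hx]
        exact eq_neg_of_add_eq_zero_right h0
      have h3 := hinj y (-x) hy (neg_ne_zero.mpr hx) h1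
      apply hxy
      rw [h3, add_neg_cancel]
    have h1 := hs (τ x) (hτ0 x hx) (τ y) (hτ0 y hy) hsum
    have hsum' : τ y + τ x ≠ 0 := by rwa [add_comm]
    have h3 := hs (τ y) (hτ0 y hy) (τ x) (hτ0 x hx) hsum'
    rw [hττ x hx, hττ y hy] at h1 h3
    rw [add_comm (τ y) (τ x), add_comm y x, h1] at h3
    linear_combination h3
  -- `w * τ w` is constant
  have hP : ∀ x y : K, x ≠ 0 → y ≠ 0 → x + y ≠ 0 → x - y ≠ 0 →
      (x + y) * τ (x + y) = (x - y) * τ (x - y) := by
    intro x y hx hy hxy hxy'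
    have hy' : -y ≠ 0 := neg_ne_zero.mpr hy
    have h1 := hD x y hx hy hxy
    have h3 := hD x (-y) hx hy' (by rwa [← sub_eq_add_neg])
    rw [hsp y hy, hneg _ (hτ0 y hy), ← sub_eq_add_neg] at h3
    set d := s (τ x) - s (τ y) with hd
    have hd0 : d ≠ 0 := by
      intro h0
      rw [h0, zero_mul] at h1
      apply hxy'
      linear_combination h1
    have h4 : d * ((x + y) * τ (x + y)) = d * ((x - y) * τ (x - y)) := by
      linear_combination (x + y) * h1 - (x - y) * h3
    exact mul_left_cancel₀ hd0 h4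
  have hconst : ∀ w : K, w ≠ 0 → w * τ w = τ 1 := by
    intro w hw
    by_cases hw1 : w = 1
    · rw [hw1, one_mul]
    by_cases hw2 : w = -1
    · rw [hw2, hsp 1 one_ne_zero]
      ring
    have hx : (w + 1) / 2 ≠ 0 := by
      intro h0
      apply hw2
      have := (div_eq_zero_iff.mp h0).resolve_right h2
      exact eq_neg_of_add_eq_zero_left this
    have hy : (w - 1) / 2 ≠ 0 := by
      intro h0
      apply hw1
      have := (div_eq_zero_iff.mp h0).resolve_right h2
      exact sub_eq_zero.mp this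
    have e1 : (w + 1) / 2 + (w - 1) / 2 = w := by field_simp; ring
    have e2 : (w + 1) / 2 - (w - 1) / 2 = 1 := by field_simp; ring
    have h1 := hP ((w + 1) / 2) ((w - 1) / 2) hx hy (by rw [e1]; exact hw)
      (by rw [e2]; exact one_ne_zero)
    rw [e1, e2, one_mul] at h1
    exact h1
  have hτ1 : τ 1 ≠ 0 := hτ0 1 one_ne_zero
  have hτw : ∀ w : K, w ≠ 0 → τ w = τ 1 / w := by
    intro w hw
    rw [eq_div_iff hw, mul_comm]
    exact hconst w hw
  refine ⟨s 1, hs0 1 one_ne_zero, ?_⟩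
  have h1 := hs 1 one_ne_zero 1 one_ne_zero (hdbl 1 one_ne_zero)
  have h11 : (1 : K) + 1 ≠ 0 := hdbl 1 one_ne_zero
  have h3 : τ 1 + τ 1 ≠ 0 := hdbl _ hτ1
  rw [hτw _ h11, hτw _ h3] at h1
  have h4 : s 1 = -τ 1 := by
    have h5 : (1 : K) + 1 = 2 := by norm_num
    have h6 : τ 1 + τ 1 = 2 * τ 1 := by ring
    rw [h5, h6] at h1
    field_simp at h1
    linear_combination -h1
  intro w hw
  rw [hτw w hw, h4, neg_neg]


variable {K : Type*} [Field K] [DecidableEq K] {Γ : Subgroup (Equiv.Perm (OnePoint K))}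
  {t : Equiv.Perm (OnePoint K)}

/-- a permutation of the projective line induced by an element of `GL(2,K)` -/
def IsGMob (γ : Equiv.Perm (OnePoint K)) : Prop :=
  ∃ A : GL (Fin 2) K, ∀ p, γ p = A • p

theorem isGMob_mul {γ δ : Equiv.Perm (OnePoint K)} (h1 : IsGMob γ) (h2 : IsGMob δ) :
    IsGMob (γ * δ) := by
  obtain ⟨A, hA⟩ := h1
  obtain ⟨B, hB⟩ := h2
  refine ⟨A * B, fun p => ?_⟩
  rw [Equiv.Perm.mul_apply, hB, hA, mul_smul]

/-- the element of `GL(2,K)` with given entries -/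
noncomputable def glMk (a b c d : K) (h : a * d - b * c ≠ 0) : GL (Fin 2) K :=
  Matrix.GeneralLinearGroup.mkOfDetNeZero !![a, b; c, d] (by rw [det_fin_two_of]; exact h)

theorem glMk_00 (a b c d : K) (h : a * d - b * c ≠ 0) : glMk a b c d h 0 0 = a := rfl
theorem glMk_01 (a b c d : K) (h : a * d - b * c ≠ 0) : glMk a b c d h 0 1 = b := rfl
theorem glMk_10 (a b c d : K) (h : a * d - b * c ≠ 0) : glMk a b c d h 1 0 = c := rfl
theorem glMk_11 (a b c d : K) (h : a * d - b * c ≠ 0) : glMk a b c d h 1 1 = d := rfl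

theorem glMk_smul_infty (a b c d : K) (h : a * d - b * c ≠ 0) :
    glMk a b c d h • (∞ : OnePoint K) = if c = 0 then ∞ else ((a / c : K) : OnePoint K) := by
  rw [OnePoint.smul_infty_eq_ite, glMk_00, glMk_10]

theorem glMk_smul_coe (a b c d : K) (h : a * d - b * c ≠ 0) (k : K) :
    glMk a b c d h • (k : OnePoint K) =
      if c * k + d = 0 then ∞ else (((a * k + b) / (c * k + d) : K) : OnePoint K) := by
  rw [OnePoint.smul_some_eq_ite, glMk_00, glMk_10, glMk_01, glMk_11]

theorem isGMob_trans (v : K) : IsGMob (trans v) := by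
  have hdet : (1 : K) * 1 - v * 0 ≠ 0 := by simp
  refine ⟨glMk 1 v 0 1 hdet, fun p => ?_⟩
  induction p using OnePoint.rec with
  | infty =>
    rw [glMk_smul_infty, if_pos rfl, trans_infty]
  | coe k =>
    rw [glMk_smul_coe, trans_coe]
    have h1 : (0 : K) * k + 1 ≠ 0 := by simp
    rw [if_neg h1]
    congr 1
    rw [zero_mul, zero_add, div_one, one_mul, add_comm]

theorem isGMob_diag {γ : Equiv.Perm (OnePoint K)} (hinf : γ ∞ = ∞) (c : K) (hc : c ≠ 0)
    (h : ∀ x, lin γ x = c * x) : IsGMob γ := by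
  have hdet : c * 1 - 0 * 0 ≠ 0 := by simpa using hc
  refine ⟨glMk c 0 0 1 hdet, fun p => ?_⟩
  induction p using OnePoint.rec with
  | infty =>
    rw [glMk_smul_infty, if_pos rfl, hinf]
  | coe k =>
    rw [glMk_smul_coe, lin_spec hinf, h]
    have h1 : (0 : K) * k + 1 ≠ 0 := by simp
    rw [if_neg h1]
    congr 1
    rw [zero_mul, zero_add, add_zero, div_one]

theorem ModS.isGMob_t (m : ModS Γ t) (c : K) (hc : c ≠ 0)
    (hτ : ∀ w : K, w ≠ 0 → lin t w = -c / w) : IsGMob t := by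
  have hdet : (0 : K) * 0 - (-c) * 1 ≠ 0 := by simpa using hc
  refine ⟨glMk 0 (-c) 1 0 hdet, fun p => ?_⟩
  induction p using OnePoint.rec with
  | infty =>
    rw [glMk_smul_infty, if_neg one_ne_zero, m.t_infty, zero_div]
  | coe k =>
    rw [glMk_smul_coe]
    by_cases hk : k = 0
    · have h1 : (1 : K) * k + 0 = 0 := by rw [hk, mul_zero, add_zero]
      rw [if_pos h1, hk, m.t_zero]
    · have h1 : (1 : K) * k + 0 ≠ 0 := by
        rw [add_zero, one_mul]
        exact hk
      rw [if_neg h1, m.t_coe hk, hτ k hk]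
      congr 1
      rw [zero_mul, zero_add, add_zero, one_mul]

/-- All elements of the sharp model over a field, in which the two point stabilizer acts by
multiplications, are Moebius transformations. -/
theorem ModS.all_gmob [Finite K] (m : ModS Γ t) (h2 : (2 : K) ≠ 0)
    (he : Even (Nat.card (Estab Γ)))
    (hlin : ∀ h ∈ Estab Γ, ∃ c : K, c ≠ 0 ∧ ∀ x : K, lin h x = c * x) :
    ∀ γ ∈ Γ, IsGMob γ := by
  obtain ⟨hsp, hinv⟩ := m.even_case he
  have hkey' : ∀ u : K, u ≠ 0 → ∃ s : K, s ≠ 0 ∧ ∀ v : K, v ≠ 0 → u + v ≠ 0 →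
      lin t (u + v) = lin t u + s * lin t (lin t u + lin t v) := by
    intro u hu
    have hE := (Estab Γ).inv_mem (m.hh_mem hsp hu)
    obtain ⟨s, hs0, hs⟩ := hlin _ hE
    refine ⟨s, hs0, fun v hv huv => ?_⟩
    rw [m.key_formula' hsp hu (hinv u hu) hv huv, hs]
  obtain ⟨c, hc0, hτ⟩ := tau_formula_gen h2 (lin t) (fun x hx => m.tau_ne_zero hx)
    (fun x hx => m.tau_tau hx) hsp hkey'
  have ht := m.isGMob_t c hc0 hτ
  have hfix : ∀ γ ∈ Γ, γ ∞ = ∞ → IsGMob γ := by
    intro γ hγ hinf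
    have hE := m.decomp hγ hinf
    obtain ⟨s, hs0, hs⟩ := hlin _ hE
    rw [decomp_eq γ]
    exact isGMob_mul (isGMob_trans _) (isGMob_diag hE.2.1 s hs0 hs)
  intro γ hγ
  by_cases hinf : γ ∞ = ∞
  · exact hfix γ hγ hinf
  · set w := val (γ ∞) with hw
    have hγw : γ ∞ = ((w : K) : OnePoint K) := (coe_val hinf).symm
    set γ' := t * trans (-w) * γ with hγ'
    have h1 : γ' ∈ Γ := Γ.mul_mem (Γ.mul_mem m.t_mem (m.trans_mem _)) hγ
    have h3 : γ' ∞ = ∞ := by
      rw [hγ', Equiv.Perm.mul_apply, Equiv.Perm.mul_apply, hγw, trans_coe, neg_add_cancel,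
        m.t_zero]
    have h4 : γ = trans w * t * γ' := by
      rw [hγ', trans_neg]
      calc γ = trans w * (t * t) * (trans w)⁻¹ * γ := by
            rw [m.t_sq, mul_one, mul_inv_cancel, one_mul]
        _ = trans w * t * (t * (trans w)⁻¹ * γ) := by simp only [mul_assoc]
    rw [h4]
    exact isGMob_mul (isGMob_mul (isGMob_trans _) ht) (hfix γ' h1 h3)

/-- the Moebius action of `GL(2,K)` as a homomorphism -/
noncomputable def glPerm : GL (Fin 2) K →* Equiv.Perm (OnePoint K) :=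
  MulAction.toPermHom (GL (Fin 2) K) (OnePoint K)

theorem glPerm_apply (A : GL (Fin 2) K) (p : OnePoint K) : glPerm A p = A • p := rfl

theorem ker_glPerm : (glPerm : GL (Fin 2) K →* _).ker = Subgroup.center _ := by
  ext A
  rw [MonoidHom.mem_ker, Matrix.GeneralLinearGroup.center_eq_range_scalar, MonoidHom.mem_range]
  constructor
  · intro hA
    have hinf : A • (∞ : OnePoint K) = ∞ := by rw [← glPerm_apply, hA]; rfl
    have h0 : A • ((0 : K) : OnePoint K) = ((0 : K) : OnePoint K) := by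
      rw [← glPerm_apply, hA]; rfl
    have h1 : A • ((1 : K) : OnePoint K) = ((1 : K) : OnePoint K) := by
      rw [← glPerm_apply, hA]; rfl
    have h10 : A 1 0 = 0 := OnePoint.smul_infty_eq_self_iff.mp hinf
    rw [OnePoint.smul_some_eq_ite, h10] at h0 h1
    simp only [zero_add, mul_zero, mul_one] at h0 h1
    have h11 : A 1 1 ≠ 0 := by
      intro h
      rw [if_pos h] at h0
      exact infty_ne_coe _ h0
    rw [if_neg h11] at h0 h1
    rw [coe_eq_coe] at h0 h1
    have h01 : A 0 1 = 0 := by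
      rcases div_eq_zero_iff.1 h0 with h | h
      · exact h
      · exact absurd h h11
    rw [h01, add_zero, div_eq_one_iff_eq h11] at h1
    refine ⟨Units.mk0 (A 1 1) h11, ?_⟩
    apply Units.ext
    ext i j
    rw [Matrix.GeneralLinearGroup.coe_scalar]
    fin_cases i <;> fin_cases j
    · simpa using h1.symm
    · simpa using h01.symm
    · simpa using h10.symm
    · simp
  · rintro ⟨r, rfl⟩
    ext p
    rw [glPerm_apply, Equiv.Perm.one_apply]
    have hr0 : (r : K) ≠ 0 := r.ne_zero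
    have e00 : (Matrix.GeneralLinearGroup.scalar (Fin 2) r) 0 0 = (r : K) := by
      simp [Matrix.GeneralLinearGroup.coe_scalar]
    have e01 : (Matrix.GeneralLinearGroup.scalar (Fin 2) r) 0 1 = (0 : K) := by
      simp [Matrix.GeneralLinearGroup.coe_scalar]
    have e10 : (Matrix.GeneralLinearGroup.scalar (Fin 2) r) 1 0 = (0 : K) := by
      simp [Matrix.GeneralLinearGroup.coe_scalar]
    have e11 : (Matrix.GeneralLinearGroup.scalar (Fin 2) r) 1 1 = (r : K) := by
      simp [Matrix.GeneralLinearGroup.coe_scalar]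
    induction p using OnePoint.rec with
    | infty =>
      rw [OnePoint.smul_infty_eq_ite, e10, if_pos rfl]
    | coe k =>
      rw [OnePoint.smul_some_eq_ite, e00, e01, e10, e11, zero_mul, zero_add, add_zero, if_neg hr0,
        mul_div_assoc, mul_comm, div_mul_cancel₀ _ hr0]

/-- Recognition of `PGL(2,K)`. -/
theorem pgl2_of_perm [Fintype K] {G : Type*} [Group G] [Finite G]
    (Φ : G →* Equiv.Perm (OnePoint K)) (hΦ : Function.Injective Φ)
    (hrep : ∀ g : G, IsGMob (Φ g))
    (hcard : Nat.card G = Fintype.card K * (Fintype.card K ^ 2 - 1)) :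
    Nonempty (G ≃* Matrix.ProjGenLinGroup (Fin 2) K) := by
  have hle : Φ.range ≤ (glPerm : GL (Fin 2) K →* _).range := by
    rintro γ ⟨g, rfl⟩
    obtain ⟨A, hA⟩ := hrep g
    refine ⟨A, ?_⟩
    ext p
    rw [glPerm_apply, hA]
  let e1 : G ≃* Φ.range := MonoidHom.ofInjective hΦ
  let e2 : Matrix.ProjGenLinGroup (Fin 2) K ≃* (glPerm : GL (Fin 2) K →* _).range :=
    (QuotientGroup.quotientMulEquivOfEq ker_glPerm.symm).trans
      (QuotientGroup.quotientKerEquivRange glPerm)
  have hc1 : Nat.card Φ.range = Nat.card G := Nat.card_congr e1.symm.toEquiv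
  have hc2 : Nat.card (glPerm : GL (Fin 2) K →* _).range =
      Nat.card (Matrix.ProjGenLinGroup (Fin 2) K) := Nat.card_congr e2.symm.toEquiv
  have hc3 : Nat.card (Matrix.ProjGenLinGroup (Fin 2) K) =
      Fintype.card K * (Fintype.card K ^ 2 - 1) := by
    rw [Cfsg.Agent.Lib.Helper5.card_PGL_eq_card_SL, Cfsg.Agent.Lib.Helper38.card_SL2]
  have heq : Φ.range = (glPerm : GL (Fin 2) K →* _).range := by
    apply Subgroup.eq_of_le_of_card_ge hle
    rw [hc1, hc2, hc3, hcard]
  exact ⟨e1.trans ((MulEquiv.subgroupCongr heq).trans e2.symm)⟩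

end Cfsg.Agent.Lib.Helper3.ZT
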