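import Mathlib
import Cfsg.Agent.Lib.Helper3.ZT17
import Cfsg.Agent.Lib.Helper3.ZS2
import Cfsg.Agent.Lib.Helper3.ZS3
import Cfsg.Agent.Lib.Helper3.ZP1
import Cfsg.Agent.Lib.Helper49.PSLCongr

set_option autoImplicit false
set_option linter.style.haveILetI false
set_option linter.unusedSectionVars false

/-!
# Transitive groups of degree `p + 1` and order `(p + 1) p d`, `d < p`: the Zassenhaus case
-/

namespace Cfsg.Agent.Lib.Helper3.ZP

open MulAction OnePoint
open Cfsg.Agent.Lib.Helper3.ZassOdd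
open Cfsg.Agent.Lib.Helper3.ZT

/-- an additive map of `ZMod n` is a multiplication -/
theorem zmod_add_map {n : ℕ} (f : ZMod n → ZMod n) (hf : ∀ x y, f (x + y) = f x + f y)
    (x : ZMod n) : f x = f 1 * x := by
  let F : ZMod n →+ ZMod n := AddMonoidHom.mk' f hf
  obtain ⟨k, rfl⟩ := ZMod.intCast_surjective x
  have h1 : ((k : ℤ) : ZMod n) = k • (1 : ZMod n) := by simp
  have h2 : F (k • (1 : ZMod n)) = k • F 1 := map_zsmul F k 1
  show F ((k : ℤ) : ZMod n) = F 1 * ((k : ℤ) : ZMod n)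
  rw [h1, h2]
  simp [mul_comm]

/-- The sharply triply transitive case over a prime field. -/
theorem pgl_case_zmod {G Ω : Type*} [Group G] [Finite G] [MulAction G Ω] [Fintype Ω] {p : ℕ}
    [Fact p.Prime] (hp2 : p ≠ 2)
    (hfix3 : ∀ g : G, ∀ x y z : Ω, x ≠ y → y ≠ z → x ≠ z → g • x = x → g • y = y → g • z = z →
      g = 1)
    {a b : Ω} (hab : a ≠ b) {F : Subgroup G}
    (hFle : F ≤ stabilizer G a) (hFn : (F.subgroupOf (stabilizer G a)).Normal)
    (hreg : ∀ y z : Ω, y ≠ a → z ≠ a → ∃! u : F, (u : G) • y = z)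
    (j : Multiplicative (ZMod p) ≃* F) {t : G} (htt : t * t = 1) (htb : t • b = a)
    (heven : Even (Nat.card ↥(stabilizer G a ⊓ stabilizer G b)))
    (hcard : Nat.card G = p * (p ^ 2 - 1)) :
    Nonempty (G ≃* Matrix.ProjGenLinGroup (Fin 2) (ZMod p)) := by
  classical
  obtain ⟨Ψ, dd⟩ := exists_trS hab hfix3 hFle hFn hreg j ⟨1, one_ne_zero⟩
  have m := dd.modS htb htt
  have hE := dd.Estab_eq
  have hlin : ∀ h ∈ Estab (Phi Ψ : G →* _).range,
      ∃ c : ZMod p, c ≠ 0 ∧ ∀ x : ZMod p, lin h x = c * x := by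
    intro h hh
    refine ⟨lin h 1, ?_, fun x => zmod_add_map (lin h) (m.lin_add hh) x⟩
    intro h0
    exact one_ne_zero ((lin_eq_zero_iff hh).mp h0)
  have he : Even (Nat.card (Estab (Phi Ψ : G →* _).range)) := by
    rw [hE, Subgroup.card_map_of_injective dd.Phi_injective]
    exact heven
  have h2 : (2 : ZMod p) ≠ 0 := by
    intro h
    have h1 : ((2 : ℕ) : ZMod p) = 0 := by exact_mod_cast h
    rw [ZMod.natCast_eq_zero_iff] at h1
    have hp := (Fact.out : p.Prime)
    have := (Nat.prime_dvd_prime_iff_eq hp Nat.prime_two).mp h1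
    exact hp2 this
  have hmob := m.all_gmob h2 he hlin
  exact pgl2_of_perm (Phi Ψ) dd.Phi_injective (fun g => hmob _ ⟨g, rfl⟩)
    (by rw [hcard, ZMod.card])

/-- The case of a Zassenhaus group. -/
theorem zass_case {G α : Type*} [Group G] [Finite G] [MulAction G α] [FaithfulSMul G α]
    [Fintype α] [IsPretransitive G α] {p d : ℕ} (hp : p.Prime)
    (hα : Fintype.card α = p + 1) (hG : Nat.card G = (p + 1) * p * d) (hd : d < p)
    (hd1 : 1 < d)
    (hnoreg : ∀ N : Subgroup G, N.Normal → MulAction.IsPretransitive N α →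
      ∃ x : α, MulAction.stabilizer N x ≠ ⊥) :
    (d = p - 1 ∧ Nonempty (G ≃* Matrix.ProjGenLinGroup (Fin 2) (ZMod p))) ∨
      (2 * d = p - 1 ∧
        Nonempty (G ≃* Matrix.ProjectiveSpecialLinearGroup (Fin 2) (ZMod p))) := by
  classical
  haveI : Fact p.Prime := ⟨hp⟩
  obtain ⟨a, P, hPa, hPn, hPc⟩ := exists_point_sylow hp hα hG hd
  have hreg := reg_of_card_prime hp hα hPa hPc
  have hfix3 := fix3 hp hPa hPn hPc hreg
  obtain ⟨b, hb⟩ : ∃ b : α, b ≠ a := by
    haveI : Nontrivial α := by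
      rw [← Fintype.one_lt_card_iff_nontrivial, hα]
      have := hp.two_le
      omega
    exact exists_ne a
  have hab : a ≠ b := hb.symm
  have hcE := card_twoStab hp hα hG hPa hreg hab
  have hZ : Cfsg.IsZassenhausGroup G α := by
    refine ⟨inferInstance, ?_, hfix3, ?_, hnoreg⟩
    · rw [MulAction.is_two_pretransitive_iff]
      intro x y z w hxy hzw
      exact two_trans hPa hreg hxy hzw
    · have h1 : 1 < Nat.card ↥(stabilizer G a ⊓ stabilizer G b) := by rw [hcE]; exact hd1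
      rw [Finite.one_lt_card_iff_nontrivial] at h1
      obtain ⟨g, hg⟩ := exists_ne (1 : ↥(stabilizer G a ⊓ stabilizer G b))
      have hg2 := g.2
      rw [Subgroup.mem_inf, mem_stabilizer_iff, mem_stabilizer_iff] at hg2
      refine ⟨(g : G), fun h => hg (Subtype.ext h), a, b, hab, hg2.1, hg2.2⟩
  have hcomm : ∀ x ∈ P, ∀ y ∈ P, x * y = y * x := by
    haveI : IsCyclic P := isCyclic_of_prime_card hPc
    letI := IsCyclic.commGroup (α := P)
    intro x hx y hy
    exact congrArg Subtype.val (mul_comm (⟨x, hx⟩ : P) ⟨y, hy⟩)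
  have hE : Nat.card (twoStab G a b) = d := hcE
  rcases zassenhaus_abelian_full hZ hab hPa hPn hcomm hreg with
    ⟨h1e, -, -⟩ | ⟨h2e, -, -, K, fK, ftK, -, hcK, ⟨hiso⟩⟩
  · left
    rw [hE, hα] at h1e
    refine ⟨by omega, ?_⟩
    have hp2 : p ≠ 2 := by omega
    obtain ⟨⟨t, hto, hta, htb⟩, -, -⟩ := Cfsg.Agent.S0740.result hZ hab
    have htt : t * t = 1 := by rw [← pow_two, ← hto, pow_orderOf_eq_one]
    haveI : IsCyclic P := isCyclic_of_prime_card hPc
    let j : Multiplicative (ZMod p) ≃* P :=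
      (AddEquiv.toMultiplicative (ZMod.ringEquivCongr hPc.symm).toAddEquiv).trans
        (zmodCyclicMulEquiv (G := P) inferInstance)
    have heven : Even (Nat.card ↥(stabilizer G a ⊓ stabilizer G b)) := by
      rw [hcE]
      have hodd : Odd p := hp.odd_of_ne_two hp2
      obtain ⟨r, hr⟩ := hodd
      exact ⟨r, by omega⟩
    have hcard : Nat.card G = p * (p ^ 2 - 1) := by
      rw [hG]
      have hd' : d = p - 1 := by omega
      rw [hd']
      have h1 : p ^ 2 - 1 = (p + 1) * (p - 1) := by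
        have := hp.two_le
        obtain ⟨k, rfl⟩ : ∃ k, p = k + 1 := ⟨p - 1, by omega⟩
        simp only [Nat.add_sub_cancel]
        apply Nat.sub_eq_of_eq_add
        ring
      rw [h1]
      ring
    exact pgl_case_zmod hp2 hfix3 hab hPa hPn hreg j htt htb heven hcard
  · right
    rw [hE, hα] at h2e
    refine ⟨by omega, ?_⟩
    letI := fK
    letI := ftK
    rw [hα] at hcK
    have hK : Fintype.card K = p := by omega
    let φ : ZMod p ≃+* K := ZMod.ringEquivOfPrime K hp hK
    exact ⟨hiso.trans (Cfsg.Agent.Lib.Helper49.PSLCongr.pslCongr φ.symm)⟩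

end Cfsg.Agent.Lib.Helper3.ZP
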