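import Mathlib

set_option autoImplicit false
set_option linter.style.haveILetI false
set_option linter.unusedSectionVars false

/-!
# The field of a commuting group of automorphisms regular on the nonzero elements
-/

namespace Cfsg.Agent.Lib.Helper3.ZP

/-- an irreducibility criterion by counting -/
theorem irr_of_reg {V : Type*} [AddCommGroup V] [Finite V] {E : Type*} [Group E] [Finite E]
    (ρ : E →* AddMonoid.End V)
    (hsemi : ∀ h : E, ∀ x : V, x ≠ 0 → ρ h x = x → h = 1)
    (hcard : Nat.card E + 1 = Nat.card V) (W : AddSubgroup V)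
    (hW : ∀ h : E, ∀ w ∈ W, ρ h w ∈ W) : W = ⊥ ∨ W = ⊤ := by
  by_cases hbot : W = ⊥
  · exact Or.inl hbot
  right
  have hinv : ∀ h : E, ∀ x : V, ρ h⁻¹ (ρ h x) = x := by
    intro h x
    have : ρ h⁻¹ * ρ h = 1 := by rw [← map_mul, inv_mul_cancel, map_one]
    exact congrArg (fun f : AddMonoid.End V => f x) this
  obtain ⟨w, hw, hw0⟩ : ∃ w ∈ W, w ≠ 0 := by
    by_contra hcon
    push Not at hcon
    exact hbot ((AddSubgroup.eq_bot_iff_forall W).mpr hcon)
  let f : Option E → W := fun o => o.elim 0 (fun h => ⟨ρ h w, hW h w hw⟩)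
  have hf : Function.Injective f := by
    intro o₁ o₂ h12
    have hne : ∀ h : E, ρ h w ≠ 0 := by
      intro h h0
      apply hw0
      rw [← hinv h w, h0, map_zero]
    rcases o₁ with _ | h₁ <;> rcases o₂ with _ | h₂
    · rfl
    · exfalso
      have := congrArg Subtype.val h12
      exact hne h₂ this.symm
    · exfalso
      have := congrArg Subtype.val h12
      exact hne h₁ this
    · have h3 : ρ h₁ w = ρ h₂ w := congrArg Subtype.val h12
      have h4 : ρ (h₂⁻¹ * h₁) w = w := by
        rw [map_mul]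
        show ρ h₂⁻¹ (ρ h₁ w) = w
        rw [h3, hinv]
      have h5 := hsemi _ w hw0 h4
      have : h₁ = h₂ := by
        calc h₁ = h₂ * (h₂⁻¹ * h₁) := by group
          _ = h₂ := by rw [h5, mul_one]
      rw [this]
  have h1 : Nat.card E + 1 ≤ Nat.card W := by
    rw [← Finite.card_option]
    exact Nat.card_le_card_of_injective f hf
  have h2 : Nat.card W ≤ Nat.card V := Nat.card_le_card_of_injective _ Subtype.val_injective
  exact AddSubgroup.eq_top_of_card_eq W (by omega)

/-- The field. -/
theorem exists_field_reg {V : Type*} [AddCommGroup V] [Finite V] {E : Type*} [Group E]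
    [Finite E] (ρ : E →* AddMonoid.End V)
    (hcomm : ∀ h k : E, ρ h * ρ k = ρ k * ρ h)
    (hsemi : ∀ h : E, ∀ x : V, x ≠ 0 → ρ h x = x → h = 1)
    (hcard : Nat.card E + 1 = Nat.card V) {v₀ : V} (hv₀ : v₀ ≠ 0) :
    ∃ (K : Type) (_ : Field K) (_ : Fintype K) (ι : K ≃+ V), ι 1 = v₀ ∧
      ∀ h : E, ∃ c : K, c ≠ 0 ∧ ∀ x : K, ρ h (ι x) = ι (c * x) := by
  classical
  have hirr := irr_of_reg ρ hsemi hcard
  -- the ring
  set S : Subring (AddMonoid.End V) := Subring.closure (Set.range ρ) with hS
  have hcomm' : ∀ x ∈ Set.range ρ, ∀ y ∈ Set.range ρ, x * y = y * x := by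
    rintro x ⟨h, rfl⟩ y ⟨k, rfl⟩
    exact hcomm h k
  have hmc : IsMulCommutative S := Subring.isMulCommutative_closure hcomm'
  letI : CommRing S := { (inferInstance : Ring S) with mul_comm := fun a b => hmc.is_comm.comm a b }
  haveI : Finite (AddMonoid.End V) := Finite.of_injective (fun f : AddMonoid.End V => (f : V → V))
    DFunLike.coe_injective
  haveI : Fintype S := Fintype.ofFinite S
  have hρS : ∀ h : E, ρ h ∈ S := fun h => Subring.subset_closure ⟨h, rfl⟩
  let σ : E →* S := ρ.codRestrict S.toSubmonoid hρS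
  have hσ : ∀ h : E, ((σ h : S) : AddMonoid.End V) = ρ h := fun h => rfl
  -- nonzero elements are injective
  have hinj : ∀ r : S, r ≠ 0 → Function.Injective (r : AddMonoid.End V) := by
    intro r hr
    have hker : ∀ h : E, ∀ w ∈ AddMonoidHom.ker (r : V →+ V), ρ h w ∈ AddMonoidHom.ker (r : V →+ V) := by
      intro h w hw
      rw [AddMonoidHom.mem_ker] at hw ⊢
      have h1 : r * σ h = σ h * r := mul_comm _ _
      have h2 := congrArg (fun s : S => (s : AddMonoid.End V) w) h1
      simp only [Subring.coe_mul, hσ] at h2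
      show (r : AddMonoid.End V) (ρ h w) = 0
      have h3 : ((r : AddMonoid.End V) * ρ h) w = (r : AddMonoid.End V) (ρ h w) := rfl
      have h4 : (ρ h * (r : AddMonoid.End V)) w = ρ h ((r : AddMonoid.End V) w) := rfl
      rw [← h3, h2, h4]
      have h5 : (r : AddMonoid.End V) w = 0 := hw
      rw [h5, map_zero]
    rcases hirr _ hker with h1 | h1
    · exact (AddMonoidHom.ker_eq_bot_iff (r : V →+ V)).mp h1
    · exfalso
      apply hr
      apply Subtype.ext
      apply AddMonoidHom.ext
      intro v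
      have : v ∈ AddMonoidHom.ker (r : V →+ V) := by rw [h1]; exact AddSubgroup.mem_top v
      exact this
  haveI : Nontrivial S := by
    refine ⟨⟨1, 0, ?_⟩⟩
    intro h10
    have := congrArg (fun s : S => (s : AddMonoid.End V) v₀) h10
    exact hv₀ this
  haveI : NoZeroDivisors S := by
    refine ⟨?_⟩
    intro r s hrs
    by_cases hr : r = 0
    · exact Or.inl hr
    right
    apply Subtype.ext
    apply AddMonoidHom.ext
    intro v
    have h1 := congrArg (fun s : S => (s : AddMonoid.End V) v) hrs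
    have h2 : (r : AddMonoid.End V) ((s : AddMonoid.End V) v) = (r : AddMonoid.End V) 0 := by
      rw [map_zero]
      exact h1
    exact hinj r hr h2
  haveI : IsDomain S := NoZeroDivisors.to_isDomain S
  letI : Field S := Fintype.fieldOfDomain S
  -- the evaluation map
  let ι₀ : S →+ V :=
    { toFun := fun r => (r : AddMonoid.End V) v₀
      map_zero' := rfl
      map_add' := fun _ _ => rfl }
  have hι₀inj : Function.Injective ι₀ := by
    rw [injective_iff_map_eq_zero]
    intro r hr
    by_contra hr0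
    have h1 : (r : AddMonoid.End V) v₀ = (r : AddMonoid.End V) 0 := by
      rw [map_zero]
      exact hr
    exact hv₀ (hinj r hr0 h1)
  have hι₀mul : ∀ (h : E) (r : S), ρ h (ι₀ r) = ι₀ (σ h * r) := fun h r => rfl
  have hι₀surj : Function.Surjective ι₀ := by
    rw [← AddMonoidHom.range_eq_top]
    have hinv : ∀ h : E, ∀ w ∈ ι₀.range, ρ h w ∈ ι₀.range := by
      rintro h w ⟨r, rfl⟩
      exact ⟨σ h * r, (hι₀mul h r).symm⟩
    rcases hirr _ hinv with h1 | h1
    · exfalso
      have h2 : v₀ ∈ ι₀.range := ⟨1, rfl⟩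
      rw [h1, AddSubgroup.mem_bot] at h2
      exact hv₀ h2
    · exact h1
  let ι₁ : S ≃+ V := AddEquiv.ofBijective ι₀ ⟨hι₀inj, hι₀surj⟩
  have hunit : ∀ h : E, σ h ≠ 0 := by
    intro h h0
    have h1 : σ h * σ h⁻¹ = 1 := by rw [← map_mul, mul_inv_cancel, map_one]
    rw [h0, zero_mul] at h1
    exact zero_ne_one h1
  -- the field in the lowest universe
  obtain ⟨p, hp⟩ := CharP.exists S
  obtain ⟨n, hpp, hn⟩ := FiniteField.card S p
  haveI : Fact p.Prime := ⟨hpp⟩
  letI : Fintype (GaloisField p n) := Fintype.ofFinite _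
  have hcK : Fintype.card (GaloisField p n) = Fintype.card S := by
    rw [hn, ← Nat.card_eq_fintype_card]
    exact GaloisField.card p n n.ne_zero
  let φ : GaloisField p n ≃+* S := FiniteField.ringEquivOfCardEq hcK
  refine ⟨GaloisField p n, inferInstance, Fintype.ofFinite _, φ.toAddEquiv.trans ι₁, ?_, ?_⟩
  · show ι₀ (φ 1) = v₀
    rw [map_one]
    rfl
  intro h
  refine ⟨φ.symm (σ h), ?_, ?_⟩
  · intro hs
    have h1 := congrArg φ hs
    rw [RingEquiv.apply_symm_apply, map_zero] at h1
    exact hunit h h1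
  · intro x
    show ρ h (ι₀ (φ x)) = ι₀ (φ (φ.symm (σ h) * x))
    rw [hι₀mul, map_mul φ, RingEquiv.apply_symm_apply]

end Cfsg.Agent.Lib.Helper3.ZP
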