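import Mathlib
import Cfsg.Agent.Lib.Helper3.ZP3

set_option autoImplicit false
set_option linter.style.haveILetI false
set_option linter.unusedSectionVars false

/-!
# Semiaffine groups: a group with an abelian regular normal subgroup `N` and an abelian normal
subgroup `P` of a point stabilizer, regular on the other points
-/

namespace Cfsg.Agent.Lib.Helper3.ZP

open MulAction

/-- an additive bijection `ψ` of a field with `ψ (c x) = c' ψ x` is `x ↦ ψ 1 * σ x` for a field
automorphism `σ` -/
theorem semilinear_of_scaling {K : Type*} [Field K] [Finite K] (ψ : K →+ K)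
    (hinj : Function.Injective ψ)
    (hsc : ∀ c : K, c ≠ 0 → ∃ c' : K, ∀ x : K, ψ (c * x) = c' * ψ x) :
    ψ 1 ≠ 0 ∧ ∃ σ : K ≃+* K, ∀ x : K, ψ x = ψ 1 * σ x := by
  have hw : ψ 1 ≠ 0 := by
    intro h0
    have : ψ 1 = ψ 0 := by rw [h0, map_zero]
    exact one_ne_zero (hinj this)
  set w := ψ 1 with hwdef
  have hmul : ∀ c x : K, ψ (c * x) / w = (ψ c / w) * (ψ x / w) := by
    intro c x
    by_cases hc : c = 0
    · rw [hc, zero_mul, map_zero, zero_div, zero_mul]
    · obtain ⟨c', hc'⟩ := hsc c hc
      have h1 := hc' 1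
      rw [mul_one, ← hwdef] at h1
      rw [hc' x, h1]
      field_simp
  let σ₀ : K →+* K :=
    { toFun := fun x => ψ x / w
      map_one' := div_self hw
      map_mul' := fun c x => hmul c x
      map_zero' := by rw [map_zero, zero_div]
      map_add' := fun x y => by rw [map_add, add_div] }
  have hσinj : Function.Injective σ₀ := σ₀.injective
  have hσbij : Function.Bijective σ₀ := Finite.injective_iff_bijective.mp hσinj
  refine ⟨hw, RingEquiv.ofBijective σ₀ hσbij, fun x => ?_⟩
  show ψ x = w * (ψ x / w)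
  field_simp

/-- A group with an abelian regular normal subgroup `N`, such that a point stabilizer has an
abelian normal subgroup `P` regular on the other points, is a group of semiaffine maps of a
field. -/
theorem semiaffine_of_regular_normal {G α : Type*} [Group G] [Finite G] [MulAction G α]
    [Fintype α] {a b : α} (hab : a ≠ b) {N P : Subgroup G} (hNn : N.Normal)
    (hNreg : ∀ y z : α, ∃! n : N, (n : G) • y = z)
    (hNcomm : ∀ x ∈ N, ∀ y ∈ N, x * y = y * x)
    (hPa : P ≤ stabilizer G a) (hPn : (P.subgroupOf (stabilizer G a)).Normal)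
    (hPcomm : ∀ x ∈ P, ∀ y ∈ P, x * y = y * x)
    (hPreg : ∀ y z : α, y ≠ a → z ≠ a → ∃! u : P, (u : G) • y = z) :
    ∃ (K : Type) (_ : Field K) (_ : Fintype K) (e : α ≃ K), e a = 0 ∧ e b = 1 ∧
      ∀ g : G, ∃ (c t : K) (σ : K ≃+* K), c ≠ 0 ∧ ∀ y : α, e (g • y) = c * σ (e y) + t := by
  classical
  letI : CommGroup N :=
    { (inferInstance : Group N) with
      mul_comm := fun x y => Subtype.ext (hNcomm x x.2 y y.2) }
  haveI : Finite (Additive N) := inferInstanceAs (Finite N)
  -- the element of `N` mapping `a` to a point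
  choose ν hν' hνu' using fun y => hNreg a y
  have hν : ∀ y, (ν y : G) • a = y := hν'
  have hνu : ∀ y (n : N), (n : G) • a = y → n = ν y := hνu'
  have hν_smul : ∀ n : N, ν ((n : G) • a) = n := fun n => (hνu _ n rfl).symm
  have hνa : ν a = 1 := (hνu a 1 (by rw [Subgroup.coe_one, one_smul])).symm
  have hν_mul : ∀ (m : N) (y : α), ν ((m : G) • y) = m * ν y := by
    intro m y
    symm
    apply hνu
    rw [Subgroup.coe_mul, mul_smul, hν]
  have hν_inj : Function.Injective ν := by
    intro y z hyz
    rw [← hν y, ← hν z, hyz]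
  -- conjugation
  let cj : G → N → N := fun g n => ⟨g * n * g⁻¹, hNn.conj_mem n n.2 g⟩
  have hcj_mul : ∀ g (n m : N), cj g (n * m) = cj g n * cj g m := by
    intro g n m
    apply Subtype.ext
    show g * ((n : G) * (m : G)) * g⁻¹ = (g * (n : G) * g⁻¹) * (g * (m : G) * g⁻¹)
    group
  have hcj_one : ∀ n : N, cj 1 n = n := by
    intro n
    apply Subtype.ext
    show (1 : G) * (n : G) * (1 : G)⁻¹ = n
    group
  have hcj_comp : ∀ g h (n : N), cj (g * h) n = cj g (cj h n) := by
    intro g h n
    apply Subtype.ext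
    show (g * h) * (n : G) * (g * h)⁻¹ = g * (h * (n : G) * h⁻¹) * g⁻¹
    group
  have hν_conj : ∀ g : G, g • a = a → ∀ y, ν (g • y) = cj g (ν y) := by
    intro g hg y
    symm
    apply hνu
    show (g * (ν y : G) * g⁻¹) • a = g • y
    rw [mul_smul, mul_smul, inv_smul_eq_iff.mpr hg.symm, hν]
  let κ : G →* AddMonoid.End (Additive N) :=
    { toFun := fun g => AddMonoidHom.mk' (fun v => Additive.ofMul (cj g v.toMul))
        (fun v w => by
          show Additive.ofMul (cj g (v.toMul * w.toMul)) = _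
          rw [hcj_mul]
          rfl)
      map_one' := by
        apply AddMonoidHom.ext
        intro v
        show Additive.ofMul (cj 1 v.toMul) = v
        rw [hcj_one]
        rfl
      map_mul' := fun g h => by
        apply AddMonoidHom.ext
        intro v
        show Additive.ofMul (cj (g * h) v.toMul) = Additive.ofMul (cj g (cj h v.toMul))
        rw [hcj_comp] }
  have hκ : ∀ g (v : Additive N), κ g v = Additive.ofMul (cj g v.toMul) := fun g v => rfl
  let ρ : P →* AddMonoid.End (Additive N) := κ.comp P.subtype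
  have hρ : ∀ (u : P) (v : Additive N), ρ u v = κ (u : G) v := fun u v => rfl
  have hρcomm : ∀ h k : P, ρ h * ρ k = ρ k * ρ h := by
    intro h k
    rw [← map_mul, ← map_mul]
    congr 1
    exact Subtype.ext (hPcomm h h.2 k k.2)
  -- points and elements of `N`
  have hne_of : ∀ n : N, n ≠ 1 → (n : G) • a ≠ a := by
    intro n hn h
    apply hn
    rw [← hν_smul n, h, hνa]
  have hρsemi : ∀ u : P, ∀ x : Additive N, x ≠ 0 → ρ u x = x → u = 1 := by
    intro u x hx hfix
    have hn1 : x.toMul ≠ 1 := fun h => hx (by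
      have : Additive.ofMul x.toMul = Additive.ofMul 1 := by rw [h]
      simpa using this)
    have hcjn : cj (u : G) x.toMul = x.toMul := by
      have h1 : Additive.ofMul (cj (u : G) x.toMul) = x := hfix
      have h2 := congrArg Additive.toMul h1
      simpa using h2
    have hua : (u : G) • a = a := hPa u.2
    have hy : (x.toMul : G) • a ≠ a := hne_of _ hn1
    have huy : (u : G) • ((x.toMul : G) • a) = (x.toMul : G) • a := by
      have h1 : ((cj (u : G) x.toMul : N) : G) • a = (u : G) • ((x.toMul : G) • a) := by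
        show ((u : G) * (x.toMul : G) * (u : G)⁻¹) • a = _
        rw [mul_smul, mul_smul, inv_smul_eq_iff.mpr hua.symm]
      rw [← h1, hcjn]
    exact (hPreg _ _ hy hy).unique (y₁ := u) (y₂ := 1) huy (by rw [Subgroup.coe_one, one_smul])
  -- cardinalities
  have hcN : Nat.card (Additive N) = Fintype.card α := by
    have h1 : Nat.card (Additive N) = Nat.card N := rfl
    rw [h1, ← Nat.card_eq_fintype_card]
    apply Nat.card_eq_of_bijective (fun n : N => (n : G) • a)
    constructor
    · intro n m hnm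
      have h2 : (n : G) • a = (m : G) • a := hnm
      rw [← hν_smul n, h2, hν_smul]
    · intro y
      exact ⟨ν y, hν y⟩
  have hcP : Nat.card P + 1 = Fintype.card α := by
    have hmaps : ∀ u : P, (u : G) • b ≠ a := by
      intro u h
      have h1 : (u : G) • a = a := hPa u.2
      rw [← h1] at h
      exact hab (smul_left_cancel _ h).symm
    have h1 : Nat.card P = Nat.card {z : α // z ≠ a} := by
      apply Nat.card_eq_of_bijective (fun u : P => (⟨(u : G) • b, hmaps u⟩ : {z : α // z ≠ a}))
      constructor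
      · intro u v huv
        have h2 : (u : G) • b = (v : G) • b := congrArg Subtype.val huv
        exact (hPreg b _ hab.symm (hmaps v)).unique h2 rfl
      · rintro ⟨z, hz⟩
        obtain ⟨u, hu, -⟩ := hPreg b z hab.symm hz
        exact ⟨u, Subtype.ext hu⟩
    rw [h1, Nat.card_eq_fintype_card, Fintype.card_subtype_compl, Fintype.card_subtype_eq]
    have : 0 < Fintype.card α := Fintype.card_pos_iff.mpr ⟨a⟩
    omega
  have hv₀ : Additive.ofMul (ν b) ≠ (0 : Additive N) := by
    intro h
    have h1 : ν b = 1 := by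
      have := congrArg Additive.toMul h
      simpa using this
    have h2 := hν b
    rw [h1, Subgroup.coe_one, one_smul] at h2
    exact hab h2
  obtain ⟨K, fK, ftK, ι, hι1, hιρ⟩ := exists_field_reg ρ hρcomm hρsemi (by rw [hcP, hcN]) hv₀
  letI := fK
  letI := ftK
  -- every nonzero scalar comes from `P`
  have hsurj : ∀ c : K, c ≠ 0 → ∃ u : P, ∀ x : K, ρ u (ι x) = ι (c * x) := by
    intro c hc
    set n : N := (ι c).toMul with hn
    have hn1 : n ≠ 1 := by
      intro h
      apply hc
      have h1 : ι c = 0 := by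
        have : Additive.ofMul n = Additive.ofMul 1 := by rw [h]
        simpa [hn] using this
      exact (AddEquiv.map_eq_zero_iff ι).mp h1
    obtain ⟨u, hu, -⟩ := hPreg b ((n : G) • a) hab.symm (hne_of n hn1)
    obtain ⟨c', -, hc'⟩ := hιρ u
    refine ⟨u, ?_⟩
    have h1 : ρ u (ι 1) = ι c := by
      rw [hι1, hρ, hκ]
      have h2 : cj (u : G) (ν b) = n := by
        rw [← hν_conj (u : G) (hPa u.2) b, hu, hν_smul]
      show Additive.ofMul (cj (u : G) (ν b)) = ι c
      rw [h2, hn]
      rfl
    have h3 := hc' 1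
    rw [mul_one, h1] at h3
    have h4 : c = c' := ι.injective h3
    intro x
    rw [h4]
    exact hc' x
  -- the coordinate
  let e : α ≃ K :=
    { toFun := fun y => ι.symm (Additive.ofMul (ν y))
      invFun := fun x => ((ι x).toMul : G) • a
      left_inv := fun y => by
        show (((ι (ι.symm (Additive.ofMul (ν y)))).toMul : N) : G) • a = y
        rw [AddEquiv.apply_symm_apply]
        exact hν y
      right_inv := fun x => by
        show ι.symm (Additive.ofMul (ν (((ι x).toMul : G) • a))) = x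
        rw [hν_smul]
        exact ι.symm_apply_apply x }
  have he : ∀ y, e y = ι.symm (Additive.ofMul (ν y)) := fun y => rfl
  have hιe : ∀ y, ι (e y) = Additive.ofMul (ν y) := fun y => by rw [he, AddEquiv.apply_symm_apply]
  refine ⟨K, fK, ftK, e, ?_, ?_, ?_⟩
  · rw [he, hνa]
    exact (AddEquiv.map_eq_zero_iff ι.symm).mpr rfl
  · rw [he, ← hι1, AddEquiv.symm_apply_apply]
  intro g
  -- decomposition of `g`
  set m : N := ν (g • a) with hm
  set g₀ : G := (m : G)⁻¹ * g with hg₀
  have hg₀a : g₀ • a = a := by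
    rw [hg₀, mul_smul, inv_smul_eq_iff, hν]
  have hg : g = (m : G) * g₀ := by rw [hg₀]; group
  have hg₀inv : g₀⁻¹ • a = a := by rw [inv_smul_eq_iff, hg₀a]
  -- the additive map
  let ψ : K →+ K := (ι.symm.toAddMonoidHom.comp (κ g₀)).comp ι.toAddMonoidHom
  have hψ : ∀ x, ψ x = ι.symm (κ g₀ (ι x)) := fun x => rfl
  have hψinj : Function.Injective ψ := by
    intro x y hxy
    rw [hψ, hψ] at hxy
    have h1 := ι.symm.injective hxy
    have h2 : κ g₀⁻¹ (κ g₀ (ι x)) = κ g₀⁻¹ (κ g₀ (ι y)) := by rw [h1]
    have h3 : ∀ v, κ g₀⁻¹ (κ g₀ v) = v := by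
      intro v
      have : κ g₀⁻¹ * κ g₀ = 1 := by rw [← map_mul, inv_mul_cancel, map_one]
      exact congrArg (fun f : AddMonoid.End (Additive N) => f v) this
    rw [h3, h3] at h2
    exact ι.injective h2
  have hψsc : ∀ c : K, c ≠ 0 → ∃ c' : K, ∀ x : K, ψ (c * x) = c' * ψ x := by
    intro c hc
    obtain ⟨u, hu⟩ := hsurj c hc
    have hconj : g₀ * (u : G) * g₀⁻¹ ∈ P := by
      have h3 := hPn.conj_mem ⟨(u : G), hPa u.2⟩ (Subgroup.mem_subgroupOf.mpr u.2) ⟨g₀, hg₀a⟩
      exact Subgroup.mem_subgroupOf.mp h3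
    obtain ⟨c', -, hc'⟩ := hιρ ⟨g₀ * (u : G) * g₀⁻¹, hconj⟩
    refine ⟨c', fun x => ?_⟩
    rw [hψ, ← hu x, hρ]
    have h1 : κ g₀ (κ (u : G) (ι x)) = κ (g₀ * (u : G) * g₀⁻¹) (κ g₀ (ι x)) := by
      have : κ g₀ * κ (u : G) = κ (g₀ * (u : G) * g₀⁻¹) * κ g₀ := by
        rw [← map_mul, ← map_mul]
        congr 1
        group
      exact congrArg (fun f : AddMonoid.End (Additive N) => f (ι x)) this
    rw [h1]
    have h2 := hc' (ψ x)
    rw [hρ] at h2
    have h3 : ι (ψ x) = κ g₀ (ι x) := by rw [hψ, AddEquiv.apply_symm_apply]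
    rw [h3] at h2
    show ι.symm (κ (g₀ * (u : G) * g₀⁻¹) (κ g₀ (ι x))) = c' * ψ x
    rw [h2, AddEquiv.symm_apply_apply]
  obtain ⟨hw, σ, hσ⟩ := semilinear_of_scaling ψ hψinj hψsc
  refine ⟨ψ 1, ι.symm (Additive.ofMul m), σ, hw, fun y => ?_⟩
  rw [← hσ, he]
  have h1 : ν (g • y) = m * cj g₀ (ν y) := by
    rw [hg, mul_smul, hν_mul, hν_conj g₀ hg₀a]
  rw [h1]
  have h2 : Additive.ofMul (m * cj g₀ (ν y)) =
      Additive.ofMul m + κ g₀ (Additive.ofMul (ν y)) := rfl
  rw [h2, map_add, hψ, hιe, add_comm]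

end Cfsg.Agent.Lib.Helper3.ZP
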