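import Mathlib
import Cfsg.Agent.Lib.Helper3.ZP1
import Cfsg.Agent.Lib.Helper3.ZP4
import Cfsg.Agent.Lib.Helper12.Sharp2

set_option autoImplicit false
set_option linter.style.haveILetI false
set_option linter.unusedSectionVars false

/-!
# Transitive groups of degree `p + 1` and order `(p + 1) p d`, `d < p`: the case of a regular
normal subgroup
-/

namespace Cfsg.Agent.Lib.Helper3.ZP

open MulAction

variable {G α : Type*} [Group G] [MulAction G α]

/-- a transitive subgroup with trivial point stabilizers is regular -/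
theorem reg_of_trans_free {N : Subgroup G} (hNt : IsPretransitive N α)
    (hNs : ∀ x : α, stabilizer N x = ⊥) : ∀ y z : α, ∃! n : N, (n : G) • y = z := by
  intro y z
  obtain ⟨n, hn⟩ := exists_smul_eq N y z
  refine ⟨n, hn, fun m hm => ?_⟩
  have h1 : m⁻¹ * n ∈ stabilizer N y := by
    rw [mem_stabilizer_iff, mul_smul, hn, inv_smul_eq_iff]
    exact hm.symm
  rw [hNs y, Subgroup.mem_bot] at h1
  exact inv_mul_eq_one.mp h1

/-- the order of a regular subgroup -/
theorem card_of_regular [Fintype α] {N : Subgroup G}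
    (hNreg : ∀ y z : α, ∃! n : N, (n : G) • y = z) (a : α) : Nat.card N = Fintype.card α := by
  rw [← Nat.card_eq_fintype_card]
  apply Nat.card_eq_of_bijective (fun n : N => (n : G) • a)
  constructor
  · intro n m hnm
    exact (hNreg a ((m : G) • a)).unique hnm rfl
  · intro y
    obtain ⟨n, hn, -⟩ := hNreg a y
    exact ⟨n, hn⟩

/-- a regular normal subgroup of even order is an elementary abelian `2`-group -/
theorem sq_eq_one_of_regular_normal [Finite G] [Fintype α] {a : α} {N P : Subgroup G}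
    (hNn : N.Normal) (hNreg : ∀ y z : α, ∃! n : N, (n : G) • y = z)
    (hPa : P ≤ stabilizer G a)
    (hPreg : ∀ y z : α, y ≠ a → z ≠ a → ∃! u : P, (u : G) • y = z)
    (heven : Even (Fintype.card α)) : ∀ n ∈ N, n * n = 1 := by
  haveI : Fact (Nat.Prime 2) := ⟨Nat.prime_two⟩
  have hcN := card_of_regular hNreg a
  obtain ⟨i, hi⟩ := exists_prime_orderOf_dvd_card' (G := N) 2 (by rw [hcN]; exact heven.two_dvd)
  have hi1 : i ≠ 1 := by
    intro h
    rw [h, orderOf_one] at hi
    omega
  have hii : (i : G) * (i : G) = 1 := by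
    have h1 := pow_orderOf_eq_one i
    rw [hi, pow_two] at h1
    exact congrArg Subtype.val h1
  have hne : ∀ n : N, n ≠ 1 → (n : G) • a ≠ a := by
    intro n hn h
    apply hn
    exact (hNreg a a).unique h (by rw [Subgroup.coe_one, one_smul])
  intro n hn
  by_cases hn1 : (⟨n, hn⟩ : N) = 1
  · have : n = 1 := congrArg Subtype.val hn1
    rw [this, one_mul]
  · obtain ⟨u, hu, -⟩ := hPreg _ _ (hne i hi1) (hne ⟨n, hn⟩ hn1)
    have hua : (u : G)⁻¹ • a = a := by
      rw [inv_smul_eq_iff]
      exact (hPa u.2).symm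
    have h1 : ((u : G) * (i : G) * (u : G)⁻¹) • a = n • a := by
      rw [mul_smul, mul_smul, hua]
      exact hu
    have h2 := (hNreg a (n • a)).unique
      (y₁ := ⟨(u : G) * (i : G) * (u : G)⁻¹, hNn.conj_mem _ i.2 _⟩) (y₂ := ⟨n, hn⟩) h1 rfl
    have h3 : n = (u : G) * (i : G) * (u : G)⁻¹ := (congrArg Subtype.val h2).symm
    rw [h3]
    calc (u : G) * (i : G) * (u : G)⁻¹ * ((u : G) * (i : G) * (u : G)⁻¹)
        = (u : G) * ((i : G) * (i : G)) * (u : G)⁻¹ := by group
      _ = 1 := by rw [hii]; group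

/-- a group of exponent two is commutative -/
theorem comm_of_sq_eq_one {N : Subgroup G} (h : ∀ n ∈ N, n * n = 1) :
    ∀ x ∈ N, ∀ y ∈ N, x * y = y * x := by
  intro x hx y hy
  have hxi : x⁻¹ = x := inv_eq_of_mul_eq_one_left (h x hx)
  have hyi : y⁻¹ = y := inv_eq_of_mul_eq_one_left (h y hy)
  have hxyi : (x * y)⁻¹ = x * y := inv_eq_of_mul_eq_one_left (h _ (N.mul_mem hx hy))
  calc x * y = (x * y)⁻¹ := hxyi.symm
    _ = y⁻¹ * x⁻¹ := mul_inv_rev x y
    _ = y * x := by rw [hxi, hyi]

/-- the order of a group of exponent two is a power of two -/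
theorem card_of_sq_eq_one [Finite G] {N : Subgroup G} (h : ∀ n ∈ N, n * n = 1) :
    ∃ k : ℕ, Nat.card N = 2 ^ k := by
  haveI : Fact (Nat.Prime 2) := ⟨Nat.prime_two⟩
  have hp : IsPGroup 2 N := by
    intro n
    refine ⟨1, ?_⟩
    rw [pow_one, pow_two]
    exact Subtype.ext (h n n.2)
  exact IsPGroup.iff_card.mp hp

/-- a sharply doubly transitive group of degree `p + 1` has a regular normal subgroup -/
theorem regular_normal_of_sharp [Finite G] [FaithfulSMul G α] [Fintype α] [IsPretransitive G α]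
    {p : ℕ} (hp : p.Prime) (hα : Fintype.card α = p + 1)
    (hG : Nat.card G = (p + 1) * p * 1) :
    ∃ N : Subgroup G, N.Normal ∧ IsPretransitive N α ∧ ∀ x : α, stabilizer N x = ⊥ := by
  classical
  obtain ⟨a, P, hPa, hPn, hPc⟩ := exists_point_sylow hp hα hG hp.one_lt
  have hreg := reg_of_card_prime hp hα hPa hPc
  have hsharp : Cfsg.Agent.Lib.Helper12.Sharp2.IsSharp2 G α := by
    refine ⟨inferInstance, ?_, ?_, ?_⟩
    · intro g x y hxy hgx hgy
      obtain ⟨k, hk⟩ := exists_smul_eq G x a
      have hne : a ≠ k • y := by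
        rw [← hk]
        exact fun h => hxy (smul_left_cancel k h)
      have hc := card_twoStab hp hα hG hPa hreg hne
      have hbot : stabilizer G a ⊓ stabilizer G (k • y) = ⊥ := Subgroup.card_eq_one.mp hc
      have hmem : k * g * k⁻¹ ∈ stabilizer G a ⊓ stabilizer G (k • y) := by
        rw [Subgroup.mem_inf, mem_stabilizer_iff, mem_stabilizer_iff]
        constructor
        · rw [mul_smul, mul_smul, ← hk, inv_smul_smul, hgx]
        · rw [mul_smul, mul_smul, inv_smul_smul, hgy]
      rw [hbot, Subgroup.mem_bot] at hmem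
      calc g = k⁻¹ * (k * g * k⁻¹) * k := by group
        _ = 1 := by rw [hmem]; group
    · rw [hG, hα]
      simp
    · rw [hα]
      have := hp.two_le
      omega
  exact ⟨Cfsg.Agent.Lib.Helper12.Sharp2.kernel hsharp,
    Cfsg.Agent.Lib.Helper12.Sharp2.kernel_normal hsharp,
    Cfsg.Agent.Lib.Helper12.Sharp2.kernel_trans hsharp,
    Cfsg.Agent.Lib.Helper12.Sharp2.kernel_semiregular hsharp⟩

/-- The case of a regular normal subgroup. -/
theorem semiaffine_case [Finite G] [FaithfulSMul G α] [Fintype α] [IsPretransitive G α]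
    {p d : ℕ} (hp : p.Prime) (hp2 : p ≠ 2) (hα : Fintype.card α = p + 1)
    (hG : Nat.card G = (p + 1) * p * d) (hd : d < p) {N : Subgroup G} (hNn : N.Normal)
    (hNt : IsPretransitive N α) (hNs : ∀ x : α, stabilizer N x = ⊥) :
    ∃ q : ℕ, q.Prime ∧ p + 1 = 2 ^ q ∧ (d = 1 ∨ d = q) ∧ ∃ e : α ≃ GaloisField 2 q,
      ∀ g : G, ∃ (c : (GaloisField 2 q)ˣ) (t : GaloisField 2 q)
        (σ : GaloisField 2 q ≃+* GaloisField 2 q),
        ∀ y : α, e (g • y) = (c : GaloisField 2 q) * σ (e y) + t := by
  classical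
  haveI : Fact p.Prime := ⟨hp⟩
  obtain ⟨a, P, hPa, hPn, hPc⟩ := exists_point_sylow hp hα hG hd
  have hPreg := reg_of_card_prime hp hα hPa hPc
  have hPcomm : ∀ x ∈ P, ∀ y ∈ P, x * y = y * x := by
    haveI : IsCyclic P := isCyclic_of_prime_card hPc
    letI := IsCyclic.commGroup (α := P)
    intro x hx y hy
    exact congrArg Subtype.val (mul_comm (⟨x, hx⟩ : P) ⟨y, hy⟩)
  have hNreg := reg_of_trans_free hNt hNs
  have hodd : Odd p := hp.odd_of_ne_two hp2
  have heven : Even (Fintype.card α) := by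
    rw [hα]
    exact hodd.add_one
  have hsq := sq_eq_one_of_regular_normal hNn hNreg hPa hPreg heven
  have hNcomm := comm_of_sq_eq_one hsq
  obtain ⟨k, hk⟩ := card_of_sq_eq_one hsq
  rw [card_of_regular hNreg a, hα] at hk
  -- `k` is a prime
  have hk1 : k ≠ 1 := by
    intro h
    rw [h, pow_one] at hk
    have := hp.two_le
    omega
  have hkp : k.Prime := by
    have h1 : (2 ^ k - 1).Prime := by
      rw [← hk]
      simpa using hp
    exact (Nat.prime_of_pow_sub_one_prime hk1 h1).2
  -- the field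
  obtain ⟨b, hb⟩ : ∃ b : α, b ≠ a := by
    haveI : Nontrivial α := by
      rw [← Fintype.one_lt_card_iff_nontrivial, hα]
      have := hp.two_le
      omega
    exact exists_ne a
  have hab : a ≠ b := hb.symm
  obtain ⟨K, fK, ftK, e, hea, heb, hrep⟩ :=
    semiaffine_of_regular_normal hab hNn hNreg hNcomm hPa hPn hPcomm hPreg
  letI := fK
  letI := ftK
  have hcK : Fintype.card K = 2 ^ k := by
    rw [← Fintype.card_congr e, hα, hk]
  -- the two point stabilizer acts by field automorphisms
  have hcD := card_twoStab hp hα hG hPa hPreg hab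
  have hauto : ∀ g : ↥(stabilizer G a ⊓ stabilizer G b), ∃ σ : K ≃+* K,
      ∀ y : α, e ((g : G) • y) = σ (e y) := by
    intro g
    have hg := g.2
    rw [Subgroup.mem_inf, mem_stabilizer_iff, mem_stabilizer_iff] at hg
    obtain ⟨c, t, σ, -, h⟩ := hrep (g : G)
    have h1 := h a
    rw [hg.1, hea, map_zero, mul_zero, zero_add] at h1
    have h2 := h b
    rw [hg.2, heb, map_one, mul_one, ← h1, add_zero] at h2
    refine ⟨σ, fun y => ?_⟩
    rw [h y, ← h1, ← h2, one_mul, add_zero]
  have hdk : d = 1 ∨ d = k := by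
    letI act : MulAction ↥(stabilizer G a ⊓ stabilizer G b) K :=
      e.symm.mulAction ↥(stabilizer G a ⊓ stabilizer G b)
    have hact : ∀ (g : ↥(stabilizer G a ⊓ stabilizer G b)) (x : K),
        g • x = e ((g : G) • e.symm x) := fun g x => rfl
    have hσ : ∀ g : ↥(stabilizer G a ⊓ stabilizer G b), ∃ σ : K ≃+* K,
        ∀ x : K, g • x = σ x := by
      intro g
      obtain ⟨σ, h⟩ := hauto g
      refine ⟨σ, fun x => ?_⟩
      rw [hact, h, Equiv.apply_symm_apply]
    letI : MulSemiringAction ↥(stabilizer G a ⊓ stabilizer G b) K :=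
      { act with
        smul_zero := fun g => by
          obtain ⟨σ, h⟩ := hσ g
          rw [h, map_zero]
        smul_add := fun g x y => by
          obtain ⟨σ, h⟩ := hσ g
          rw [h, h, h, map_add]
        smul_one := fun g => by
          obtain ⟨σ, h⟩ := hσ g
          rw [h, map_one]
        smul_mul := fun g x y => by
          obtain ⟨σ, h⟩ := hσ g
          rw [h, h, h, map_mul] }
    haveI : FaithfulSMul ↥(stabilizer G a ⊓ stabilizer G b) K := by
      refine ⟨fun {g₁ g₂} h => ?_⟩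
      apply Subtype.ext
      apply FaithfulSMul.eq_of_smul_eq_smul (α := α)
      intro y
      have h1 := h (e y)
      rw [hact, hact, Equiv.symm_apply_apply] at h1
      exact e.injective h1
    haveI : Fintype ↥(stabilizer G a ⊓ stabilizer G b) := Fintype.ofFinite _
    have h1 := FixedPoints.finrank_eq_card ↥(stabilizer G a ⊓ stabilizer G b) K
    rw [← Nat.card_eq_fintype_card, hcD] at h1
    haveI : Fintype (FixedPoints.subfield ↥(stabilizer G a ⊓ stabilizer G b) K) :=
      Fintype.ofFinite _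
    have h2 := Module.card_eq_pow_finrank
      (K := FixedPoints.subfield ↥(stabilizer G a ⊓ stabilizer G b) K) (V := K)
    rw [h1, hcK] at h2
    set r := Fintype.card (FixedPoints.subfield ↥(stabilizer G a ⊓ stabilizer G b) K) with hr
    have hd0 : d ≠ 0 := by
      intro h0
      rw [h0, pow_zero] at h2
      have : 2 ≤ 2 ^ k := by
        calc 2 = 2 ^ 1 := by norm_num
          _ ≤ 2 ^ k := Nat.pow_le_pow_right (by norm_num) hkp.pos
      omega
    have hrd : r ∣ 2 ^ k := by
      rw [h2]
      exact dvd_pow_self r hd0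
    obtain ⟨m, -, hm⟩ := (Nat.dvd_prime_pow Nat.prime_two).mp hrd
    rw [hm, ← pow_mul] at h2
    have h3 : k = m * d := Nat.pow_right_injective (le_refl 2) h2
    have h4 : d ∣ k := ⟨m, by rw [h3, mul_comm]⟩
    exact (Nat.dvd_prime hkp).mp h4
  -- transport to the Galois field
  letI : Fintype (GaloisField 2 k) := Fintype.ofFinite _
  have hcGF : Fintype.card (GaloisField 2 k) = Fintype.card K := by
    rw [hcK, ← Nat.card_eq_fintype_card]
    exact GaloisField.card 2 k hkp.ne_zero
  let φ : GaloisField 2 k ≃+* K := FiniteField.ringEquivOfCardEq hcGF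
  refine ⟨k, hkp, hk, hdk, e.trans φ.symm.toEquiv, fun g => ?_⟩
  obtain ⟨c, t, σ, hc, h⟩ := hrep g
  have hc' : φ.symm c ≠ 0 := by
    intro h0
    apply hc
    have := congrArg φ h0
    rwa [RingEquiv.apply_symm_apply, map_zero] at this
  refine ⟨Units.mk0 (φ.symm c) hc', φ.symm t, φ.trans (σ.trans φ.symm), fun y => ?_⟩
  show φ.symm (e (g • y)) = φ.symm c * φ.symm (σ (φ (φ.symm (e y)))) + φ.symm t
  rw [h y, map_add, map_mul, RingEquiv.apply_symm_apply]

end Cfsg.Agent.Lib.Helper3.ZP
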