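import Mathlib
import Cfsg.Agent.Lib.Helper3.ZT16
import Cfsg.Agent.Lib.Helper3.ZassInv
import Cfsg.Agent.S0727

set_option autoImplicit false
set_option linter.style.haveILetI false
set_option linter.unusedSectionVars false

/-!
# Sharply triply transitive groups of degree `p ^ f + 1`, `p` and `f` odd: preparations
-/

namespace Cfsg.Agent.Lib.Helper3.ZT

open MulAction

/-- A sharply triply transitive permutation group of even degree at least four has a homomorphism
onto a group of order two, nontrivial on a given two point stabilizer, provided the conclusion of the statement `S0729` holds for it. -/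
theorem sharp_hom_at {α : Type*} [Fintype α] [DecidableEq α] (G : Subgroup (Equiv.Perm α))
    (h4 : 4 ≤ Fintype.card α)
    (h3 : MulAction.IsMultiplyPretransitive G α 3)
    (hsharp : ∀ x : Fin 3 ↪ α, MulAction.stabilizer G x = ⊥)
    (h729 : 6 ≤ Fintype.card α → ∀ {a b c : α}, a ≠ b → a ≠ c → b ≠ c → ∀ s : G, s • a = b →
      s • b = a → s • c = c → ∃ N : Subgroup G,
        N ≤ MulAction.stabilizer G a ⊓ MulAction.stabilizer G b ∧
        (N.subgroupOf (MulAction.stabilizer G a ⊓ MulAction.stabilizer G b)).Normal ∧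
        N.relIndex (MulAction.stabilizer G a ⊓ MulAction.stabilizer G b) = 2 ∧
        ∀ n ∈ N, s * n * s⁻¹ ∈ N)
    (h5 : Fintype.card α ≠ 5) {a b c : α} (hab : a ≠ b) (hac : a ≠ c) (hbc : b ≠ c) :
    ∃ ψ : G →* ℤˣ, ∃ h₀ : G, h₀ • a = a ∧ h₀ • b = b ∧ ψ h₀ ≠ 1 := by
  have hfix3 := fix3_of_sharp hsharp
  obtain ⟨s, hsa, hsb, hsc⟩ := trans3_of_pretransitive h3 hab hac hbc hab.symm hbc hac
  have htr : ∀ c' : α, c' ≠ a → c' ≠ b → ∃ g : G, g • a = a ∧ g • b = b ∧ g • c = c' :=
    fun c' h1 h2 => trans3_of_pretransitive h3 hab hac hbc hab h1.symm h2.symm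
  by_cases h6 : 6 ≤ Fintype.card α
  · obtain ⟨N, hNE, -, hidx, hs⟩ := h729 h6 hab hac hbc s hsa hsb hsc
    set E := MulAction.stabilizer G a ⊓ MulAction.stabilizer G b with hE
    have hmemE : ∀ x : G, x ∈ E ↔ x • a = a ∧ x • b = b := by
      intro x
      rw [hE, Subgroup.mem_inf, mem_stabilizer_iff, mem_stabilizer_iff]
    have hNE' : ∀ n ∈ N, n • a = a ∧ n • b = b := fun n hn => (hmemE n).mp (hNE hn)
    have hidx' : ∀ x y : G, x • a = a → x • b = b → y • a = a → y • b = b →
        (x * y ∈ N ↔ (x ∈ N ↔ y ∈ N)) := by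
      intro x y h1 h2 h3' h4'
      have hx : x ∈ E := (hmemE x).mpr ⟨h1, h2⟩
      have hy : y ∈ E := (hmemE y).mpr ⟨h3', h4'⟩
      have := Subgroup.mul_mem_iff_of_index_two (H := N.subgroupOf E) hidx
        (a := ⟨x, hx⟩) (b := ⟨y, hy⟩)
      simpa [Subgroup.mem_subgroupOf] using this
    obtain ⟨h₀, hh₀E, hh₀N⟩ : ∃ h₀ ∈ E, h₀ ∉ N := by
      by_contra hcon
      push Not at hcon
      have : N.relIndex E = 1 := Subgroup.relIndex_eq_one.mpr hcon
      omega
    have hh₀ := (hmemE h₀).mp hh₀E
    obtain ⟨ψ, hψ⟩ := exists_hom_of_sharp hab hac.symm hbc.symm hfix3 htr hsa hsb hsc N hNE'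
      hidx' hh₀.1 hh₀.2 hh₀N hs
    exact ⟨ψ, h₀, hh₀.1, hh₀.2, hψ⟩
  · -- degree four
    have hcard : Fintype.card α = 4 := by omega
    obtain ⟨d, hda, hdb, hdc⟩ : ∃ d : α, d ≠ a ∧ d ≠ b ∧ d ≠ c := by
      by_contra hcon
      push Not at hcon
      have hsub : (Finset.univ : Finset α) ⊆ {a, b, c} := by
        intro x _
        by_cases h1 : x = a
        · simp [h1]
        by_cases h2 : x = b
        · simp [h2]
        have := hcon x h1 h2
        simp [this]
      have := Finset.card_le_card hsub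
      rw [Finset.card_univ, hcard] at this
      have h2 : ({a, b, c} : Finset α).card ≤ 3 := Finset.card_le_three
      omega
    have hall : ∀ x : α, x = a ∨ x = b ∨ x = c ∨ x = d := by
      have hc4 : ({a, b, c, d} : Finset α).card = 4 := by
        rw [Finset.card_insert_of_notMem, Finset.card_insert_of_notMem,
          Finset.card_insert_of_notMem, Finset.card_singleton]
        · simp [hdc.symm]
        · simp [hbc, hdb.symm]
        · simp [hab, hac, hda.symm]
      have heq : ({a, b, c, d} : Finset α) = Finset.univ := by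
        apply Finset.eq_univ_of_card
        rw [hc4, hcard]
      intro x
      have : x ∈ ({a, b, c, d} : Finset α) := by rw [heq]; exact Finset.mem_univ x
      simpa using this
    obtain ⟨h₀, h₀a, h₀b, h₀c⟩ := htr d hda hdb
    have h₀1 : h₀ ≠ 1 := by
      intro h
      rw [h, one_smul] at h₀c
      exact hdc h₀c.symm
    have hEelts : ∀ x : G, x • a = a → x • b = b → x = 1 ∨ x = h₀ := by
      intro x h1 h2
      have hxc : x • c = c ∨ x • c = d := by
        rcases hall (x • c) with h | h | h | h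
        · exfalso
          rw [← h1] at h
          exact hac (smul_left_cancel x h).symm
        · exfalso
          rw [← h2] at h
          exact hbc (smul_left_cancel x h).symm
        · exact Or.inl h
        · exact Or.inr h
      rcases hxc with h | h
      · exact Or.inl (hfix3 x a b c hab hbc hac h1 h2 h)
      · right
        have h5 : h₀⁻¹ * x = 1 := by
          refine hfix3 _ a b c hab hbc hac ?_ ?_ ?_
          · rw [mul_smul, h1, inv_smul_eq_iff, h₀a]
          · rw [mul_smul, h2, inv_smul_eq_iff, h₀b]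
          · rw [mul_smul, h, inv_smul_eq_iff, h₀c]
        calc x = h₀ * (h₀⁻¹ * x) := by group
          _ = h₀ := by rw [h5, mul_one]
    have h₀sq : h₀ * h₀ = 1 := by
      rcases hEelts (h₀ * h₀) (by rw [mul_smul, h₀a, h₀a]) (by rw [mul_smul, h₀b, h₀b]) with h | h
      · exact h
      · exfalso
        apply h₀1
        calc h₀ = h₀⁻¹ * (h₀ * h₀) := by group
          _ = 1 := by rw [h, inv_mul_cancel]
    have hidx' : ∀ x y : G, x • a = a → x • b = b → y • a = a → y • b = b →
        (x * y ∈ (⊥ : Subgroup G) ↔ (x ∈ (⊥ : Subgroup G) ↔ y ∈ (⊥ : Subgroup G))) := by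
      intro x y h1 h2 h3' h4'
      simp only [Subgroup.mem_bot]
      rcases hEelts x h1 h2 with rfl | rfl <;> rcases hEelts y h3' h4' with rfl | rfl
      · simp
      · simp
      · simp
      · simp [h₀sq, h₀1]
    obtain ⟨ψ, hψ⟩ := exists_hom_of_sharp hab hac.symm hbc.symm hfix3 htr hsa hsb hsc ⊥
      (fun n hn => by rw [Subgroup.mem_bot.mp hn]; exact ⟨one_smul _ _, one_smul _ _⟩)
      hidx' h₀a h₀b (fun h => h₀1 (Subgroup.mem_bot.mp h))
      (fun n hn => by rw [Subgroup.mem_bot.mp hn]; simp)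
    exact ⟨ψ, h₀, h₀a, h₀b, hψ⟩


/-- the order of a two point stabilizer of a doubly transitive group -/
theorem card_twoStab_gen {G α : Type*} [Group G] [MulAction G α] [Finite G] [Fintype α]
    [IsPretransitive G α] {a : α} {F : Subgroup G} (hFle : F ≤ stabilizer G a)
    (hreg : ∀ y z : α, y ≠ a → z ≠ a → ∃! u : F, (u : G) • y = z) {b : α} (hab : a ≠ b)
    {d : ℕ} (hG : Nat.card G = Fintype.card α * (Fintype.card α - 1) * d) :
    Nat.card ↥(stabilizer G a ⊓ stabilizer G b) = d := by
  classical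
  have hn2 : 2 ≤ Fintype.card α := by
    have : 1 < Fintype.card α := Fintype.one_lt_card_iff.mpr ⟨a, b, hab⟩
    omega
  have hca : Nat.card (stabilizer G a) = (Fintype.card α - 1) * d := by
    have h1 := Subgroup.card_mul_index (stabilizer G a)
    rw [MulAction.index_stabilizer_of_transitive, Nat.card_eq_fintype_card (α := α), hG] at h1
    have h2 : Nat.card (stabilizer G a) * Fintype.card α =
        ((Fintype.card α - 1) * d) * Fintype.card α := by
      rw [h1]; ring
    exact Nat.eq_of_mul_eq_mul_right (by omega) h2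
  have horb : orbit (stabilizer G a) b = {a}ᶜ := by
    ext z
    rw [Set.mem_compl_iff, Set.mem_singleton_iff]
    constructor
    · rintro ⟨⟨g, hg⟩, rfl⟩ h
      have h1 : g • b = a := h
      rw [← hg] at h1
      exact hab (smul_left_cancel g h1).symm
    · intro hz
      obtain ⟨u, hu, -⟩ := hreg b z hab.symm hz
      exact ⟨⟨(u : G), hFle u.2⟩, hu⟩
  have hidx : (stabilizer (stabilizer G a) b).index = Fintype.card α - 1 := by
    rw [MulAction.index_stabilizer, horb, Set.ncard_compl, Set.ncard_singleton,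
      Nat.card_eq_fintype_card]
  have h1 := Subgroup.card_mul_index (stabilizer (stabilizer G a) b)
  rw [hidx, hca, mul_comm] at h1
  have h2 : Nat.card (stabilizer (stabilizer G a) b) = d :=
    Nat.eq_of_mul_eq_mul_left (by omega) h1
  rw [← h2]
  exact Nat.card_congr (Cfsg.Agent.Lib.Helper3.ZassOdd.twoStabEquiv (G := G) a b).toEquiv

/-- the Frobenius kernel of a point stabilizer of a sharply triply transitive group -/
theorem kernel_of_sharp3 {α : Type*} [Fintype α] [DecidableEq α] (G : Subgroup (Equiv.Perm α))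
    (h3 : MulAction.IsMultiplyPretransitive G α 3)
    (hsharp : ∀ x : Fin 3 ↪ α, MulAction.stabilizer G x = ⊥)
    (h3α : 3 ≤ Fintype.card α) (a : α) :
    ∃ F : Subgroup G, F ≤ stabilizer G a ∧ (F.subgroupOf (stabilizer G a)).Normal ∧
      (∀ x ∈ F, ∀ y ∈ F, x * y = y * x) ∧
      ∀ y z : α, y ≠ a → z ≠ a → ∃! u : F, (u : G) • y = z := by
  classical
  have hs := Cfsg.Agent.S0727.sharp3_of hsharp
  have ht := Cfsg.Agent.S0727.trans3_of h3
  have hcard := Cfsg.Agent.S0727.card_G h3 hsharp h3α
  have hsh := Cfsg.Agent.S0727.stab_sharp2 hs ht hcard h3α a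
  set K₀ := Cfsg.Agent.Lib.Helper12.Sharp2.kernel hsh with hK₀
  have hKn : K₀.Normal := Cfsg.Agent.Lib.Helper12.Sharp2.kernel_normal hsh
  refine ⟨K₀.map (stabilizer G a).subtype, Subgroup.map_subtype_le _, ?_, ?_, ?_⟩
  · have h1 : (K₀.map (stabilizer G a).subtype).subgroupOf (stabilizer G a) = K₀ :=
      Subgroup.comap_map_eq_self_of_injective (Subgroup.subtype_injective _) _
    rw [h1]
    exact hKn
  · rintro x ⟨k, hk, rfl⟩ y ⟨l, hl, rfl⟩
    have := Cfsg.Agent.Lib.Helper12.Sharp2.kernel_comm hsh hk hl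
    exact congrArg Subtype.val this
  · intro y z hy hz
    let y' : SubMulAction.ofStabilizer G a :=
      ⟨y, by rw [SubMulAction.mem_ofStabilizer_iff]; exact hy⟩
    let z' : SubMulAction.ofStabilizer G a :=
      ⟨z, by rw [SubMulAction.mem_ofStabilizer_iff]; exact hz⟩
    haveI := Cfsg.Agent.Lib.Helper12.Sharp2.kernel_trans hsh
    obtain ⟨k, hk⟩ := exists_smul_eq K₀ y' z'
    have hk' : (((k : stabilizer G a) : G)) • y = z := congrArg Subtype.val hk
    refine ⟨⟨((k : stabilizer G a) : G), Subgroup.mem_map.mpr ⟨k, k.2, rfl⟩⟩, hk', ?_⟩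
    rintro ⟨v, hv⟩ hvz
    obtain ⟨l, hl, rfl⟩ := Subgroup.mem_map.mp hv
    have hvz' : ((l : G)) • y = z := hvz
    have hmem : (⟨l, hl⟩ : K₀)⁻¹ * k ∈ stabilizer K₀ y' := by
      rw [mem_stabilizer_iff]
      apply Subtype.ext
      show ((l : G)⁻¹ * ((k : stabilizer G a) : G)) • y = y
      rw [mul_smul, hk', ← hvz', inv_smul_smul]
    rw [Cfsg.Agent.Lib.Helper12.Sharp2.kernel_semiregular hsh y', Subgroup.mem_bot] at hmem
    have h2 : (⟨l, hl⟩ : K₀) = k := inv_mul_eq_one.mp hmem
    apply Subtype.ext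
    show (l : G) = ((k : stabilizer G a) : G)
    rw [← h2]

end Cfsg.Agent.Lib.Helper3.ZT
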