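import Mathlib
import Cfsg.Agent.Lib.Helper3.ZT13
import Cfsg.Agent.Lib.Helper3.ZS2
import Cfsg.Agent.Lib.Helper3.ZS3
import Cfsg.Agent.Lib.Helper78.SemiLin

set_option autoImplicit false
set_option linter.style.haveILetI false
set_option linter.unusedSectionVars false

/-!
# Sharply triply transitive groups of degree `p ^ f + 1`, `p` and `f` odd: the model
-/

namespace Cfsg.Agent.Lib.Helper3.ZT

open Cfsg MulAction OnePoint

/-- the order of the kernel of a homomorphism onto a group of order two, inside a subgroup -/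
theorem card_ker_inf {G : Type*} [Group G] [Finite G] (ψ : G →* ℤˣ) (E : Subgroup G) {h₀ : G}
    (h₀E : h₀ ∈ E) (hψ : ψ h₀ ≠ 1) : 2 * Nat.card ↥(ψ.ker ⊓ E) = Nat.card E := by
  have h1 := Subgroup.card_mul_index (ψ.ker.subgroupOf E)
  have h2 : (ψ.ker.subgroupOf E).index = 2 := by
    have h3 : (ψ.ker.subgroupOf E).index = ψ.ker.relIndex E := rfl
    rw [h3, Subgroup.relIndex_ker]
    have htop : E.map ψ = ⊤ := by
      rw [eq_top_iff]
      intro u _
      rcases Int.units_eq_one_or u with h | h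
      · rw [h]
        exact Subgroup.one_mem _
      · rw [h]
        refine ⟨h₀, h₀E, ?_⟩
        rcases Int.units_eq_one_or (ψ h₀) with h' | h'
        · exact absurd h' hψ
        · exact h'
    rw [htop, Subgroup.card_top, Nat.card_eq_fintype_card, Fintype.card_units_int]
  have h4 : Nat.card ↥(ψ.ker ⊓ E) = Nat.card (ψ.ker.subgroupOf E) := by
    rw [← Subgroup.inf_subgroupOf_right]
    exact (Nat.card_congr (Subgroup.subgroupOfEquivOfLe (inf_le_right : ψ.ker ⊓ E ≤ E)).toEquiv).symm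
  rw [h4, ← h1, h2, mul_comm]

/-- elements of odd order are in the kernel of a homomorphism to `ℤˣ` -/
theorem hom_eq_one_of_odd {G : Type*} [Group G] (ψ : G →* ℤˣ) {u : G} {n : ℕ} (hn : Odd n)
    (hu : u ^ n = 1) : ψ u = 1 := by
  obtain ⟨r, hr⟩ := hn
  have h1 : ψ u ^ n = 1 := by rw [← map_pow, hu, map_one]
  have h2 : ψ u * ψ u = 1 := Int.units_mul_self _
  rw [hr, pow_succ, pow_mul, pow_two, h2, one_pow, one_mul] at h1
  exact h1

/-- The main lemma: a group acting sharply triply transitively on `p ^ f + 1` points, `p` and `f`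
odd, with a homomorphism onto a group of order two nontrivial on a two point stabilizer, is
`PGL(2, p ^ f)`. -/
theorem pgl_of_sharp3_odd {G Ω : Type*} [Group G] [Finite G] [MulAction G Ω] [Fintype Ω]
    {p f : ℕ} [Fact p.Prime] (hp2 : p ≠ 2) (hf : Odd f)
    (hΩ : Fintype.card Ω = p ^ f + 1)
    (hfix3 : ∀ g : G, ∀ x y z : Ω, x ≠ y → y ≠ z → x ≠ z → g • x = x → g • y = y → g • z = z →
      g = 1)
    {a b : Ω} (hab : a ≠ b) {F : Subgroup G}
    (hFle : F ≤ stabilizer G a) (hFn : (F.subgroupOf (stabilizer G a)).Normal)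
    (hcomm : ∀ x ∈ F, ∀ y ∈ F, x * y = y * x)
    (hreg : ∀ y z : Ω, y ≠ a → z ≠ a → ∃! u : F, (u : G) • y = z)
    (hEcard : Nat.card ↥(stabilizer G a ⊓ stabilizer G b) = p ^ f - 1)
    (ψ : G →* ℤˣ) {h₀ : G} (h₀a : h₀ • a = a) (h₀b : h₀ • b = b) (hψ : ψ h₀ ≠ 1)
    {t : G} (htt : t * t = 1) (htb : t • b = a) (hψt : ψ t = 1)
    (hcard : Nat.card G = p ^ f * ((p ^ f) ^ 2 - 1)) :
    ∃ (K : Type) (_ : Field K) (_ : Fintype K), Fintype.card K = p ^ f ∧
      Nonempty (G ≃* Matrix.ProjGenLinGroup (Fin 2) K) := by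
  classical
  have hp := (Fact.out : p.Prime)
  have hqodd : Odd (p ^ f) := (hp.odd_of_ne_two hp2).pow
  have hq3 : 3 ≤ p ^ f := by
    have h1 : p ≤ p ^ f := by
      obtain ⟨r, hr⟩ := hf
      calc p = p ^ 1 := (pow_one p).symm
        _ ≤ p ^ f := Nat.pow_le_pow_right hp.pos (by omega)
    have h2 := hp.two_le
    omega
  have hFcard := card_of_reg hab hFle hreg
  rw [hΩ] at hFcard
  have hFq : Nat.card F = p ^ f := by omega
  set E := stabilizer G a ⊓ stabilizer G b with hEdef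
  have hmemE : ∀ g : G, g ∈ E ↔ g • a = a ∧ g • b = b := by
    intro g
    rw [hEdef, Subgroup.mem_inf, mem_stabilizer_iff, mem_stabilizer_iff]
  have h₀E : h₀ ∈ E := (hmemE h₀).mpr ⟨h₀a, h₀b⟩
  have hcEL := card_ker_inf ψ E h₀E hψ
  rw [hEcard] at hcEL
  -- `F` lies in the kernel of `ψ`
  have hFL : ∀ u ∈ F, ψ u = 1 := by
    intro u hu
    apply hom_eq_one_of_odd ψ hqodd
    have h1 : (⟨u, hu⟩ : F) ^ Nat.card F = 1 := pow_card_eq_one'
    rw [hFq] at h1
    exact congrArg Subtype.val h1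
  -- the commutative group structure on `F`
  letI : CommGroup F :=
    { (inferInstance : Group F) with
      mul_comm := fun x y => Subtype.ext (hcomm x x.2 y y.2) }
  haveI : Finite (Additive F) := inferInstanceAs (Finite F)
  have hcV : Nat.card (Additive F) = p ^ f := hFq
  -- the first model
  let jA : Multiplicative (Additive F) ≃* F := MulEquiv.multiplicativeAdditive F
  have hneA : ∃ w : Additive F, w ≠ 0 := by
    haveI : Nontrivial (Additive F) := by
      rw [← Finite.one_lt_card_iff_nontrivial, hcV]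
      omega
    exact exists_ne 0
  obtain ⟨ΨA, dA⟩ := exists_trS hab hfix3 hFle hFn hreg jA hneA
  have mA := dA.modS htb htt
  have hEA := dA.Estab_eq
  have heA : Even (Nat.card (Estab (Phi ΨA : G →* _).range)) := by
    rw [hEA, Subgroup.card_map_of_injective dA.Phi_injective, hEcard]
    obtain ⟨r, hr⟩ := hqodd
    exact ⟨r, by omega⟩
  obtain ⟨hsp, hinv⟩ := mA.even_case heA
  -- the subgroup of index two
  set ΓL : Subgroup (Equiv.Perm (OnePoint (Additive F))) := ψ.ker.map (Phi ΨA) with hΓL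
  have hΓLle : ΓL ≤ (Phi ΨA : G →* _).range := by
    rintro γ ⟨g, -, rfl⟩
    exact ⟨g, rfl⟩
  have hELA : Estab ΓL = (ψ.ker ⊓ E).map (Phi ΨA) := by
    ext γ
    rw [mem_Estab, Subgroup.mem_map]
    constructor
    · rintro ⟨⟨g, hg, rfl⟩, h1, h2⟩
      exact ⟨g, ⟨hg, (hmemE g).mpr ⟨(dA.Phi_infty_iff g).mp h1, (dA.Phi_zero_iff g).mp h2⟩⟩, rfl⟩
    · rintro ⟨g, ⟨hg, hgE⟩, rfl⟩
      have h := (hmemE g).mp hgE
      exact ⟨⟨g, hg, rfl⟩, (dA.Phi_infty_iff g).mpr h.1, (dA.Phi_zero_iff g).mpr h.2⟩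
  have m0 : Mod0 ΓL (Phi ΨA t) :=
    { trans_mem := fun v => by
        refine ⟨((jA (Multiplicative.ofAdd v) : F) : G), ?_, dA.Phi_j v⟩
        exact MonoidHom.mem_ker.mpr (hFL _ (jA (Multiplicative.ofAdd v)).2)
      fix3 := fun γ hγ => mA.fix3 γ (hΓLle hγ)
      add := fun γ hγ => mA.add γ (hΓLle hγ)
      t_mem := ⟨t, MonoidHom.mem_ker.mpr hψt, rfl⟩
      t_sq := mA.t_sq
      t_zero := mA.t_zero
      card := by
        rw [hELA, Subgroup.card_map_of_injective dA.Phi_injective, hcEL, hcV]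
        omega }
  have hIA := m0.inv_all hsp hinv
  have hEcomm := comm_of_inverted (Phi ΨA t) mA.t_sq _ hIA
  -- the field
  let ρ : ↥(Estab ΓL) →* AddMonoid.End (Additive F) :=
    { toFun := fun h => AddMonoidHom.mk' (lin (h : Equiv.Perm (OnePoint (Additive F))))
        (m0.lin_add h.2)
      map_one' := by
        apply AddMonoidHom.ext
        intro x
        exact lin_one x
      map_mul' := fun h k => by
        apply AddMonoidHom.ext
        intro x
        exact lin_mul k.2 x }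
  have hρ : ∀ (h : ↥(Estab ΓL)) (x : Additive F),
      ρ h x = lin (h : Equiv.Perm (OnePoint (Additive F))) x := fun h x => rfl
  have hρcomm : ∀ h k : ↥(Estab ΓL), ρ h * ρ k = ρ k * ρ h := by
    intro h k
    rw [← map_mul, ← map_mul]
    congr 1
    exact Subtype.ext (hEcomm h h.2 k k.2)
  have hρsemi : ∀ h : ↥(Estab ΓL), ∀ x : Additive F, x ≠ 0 → ρ h x = x →
      h = 1 := fun h x hx hfix => Subtype.ext (m0.semireg h.2 hx hfix)
  obtain ⟨K, fK, ftK, ι, hι⟩ := exists_field ρ hρcomm hρsemi m0.card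
  letI := fK
  letI := ftK
  have hcK : Fintype.card K = p ^ f := by
    rw [← Nat.card_eq_fintype_card, Nat.card_congr ι.toEquiv]
    exact hcV
  refine ⟨K, fK, ftK, hcK, ?_⟩
  -- the second model
  let jB : Multiplicative K ≃* F := (AddEquiv.toMultiplicative ι).trans jA
  have hjB : ∀ y : K, jB (Multiplicative.ofAdd y) = jA (Multiplicative.ofAdd (ι y)) :=
    fun y => rfl
  obtain ⟨ΨB, dB⟩ := exists_trS hab hfix3 hFle hFn hreg jB ⟨1, one_ne_zero⟩
  have mB := dB.modS htb htt
  have hEB := dB.Estab_eq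
  have heB : Even (Nat.card (Estab (Phi ΨB : G →* _).range)) := by
    rw [hEB, Subgroup.card_map_of_injective dB.Phi_injective, hEcard]
    obtain ⟨r, hr⟩ := hqodd
    exact ⟨r, by omega⟩
  have hmemB : ∀ g ∈ E, Phi ΨB g ∈ Estab (Phi ΨB : G →* _).range := by
    intro g hg
    rw [hEB]
    exact ⟨g, hg, rfl⟩
  -- the elements of `E ∩ ker ψ` act by multiplication by nonzero squares
  have hsqB : ∀ g ∈ ψ.ker ⊓ E, ∃ s : K, s ≠ 0 ∧ ∀ x : K, lin (Phi ΨB g) x = s * s * x := by
    intro g hg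
    have hg' := (hmemE g).mp hg.2
    have hgA : Phi ΨA g ∈ Estab ΓL := by
      rw [hELA]
      exact ⟨g, hg, rfl⟩
    obtain ⟨s, hs0, hs⟩ := hι ⟨Phi ΨA g, hgA⟩
    refine ⟨s, hs0, fun x => ?_⟩
    have h1 := dB.lin_Phi hg'.1 hg'.2 x
    have h2 := dA.lin_Phi hg'.1 hg'.2 (ι x)
    have h3 : lin (Phi ΨA g) (ι x) = ι (s * s * x) := hs x
    rw [hjB, hjB, ← h2, h3, ← hjB] at h1
    exact Multiplicative.ofAdd.injective (jB.injective (Subtype.ext h1))
  have hchar : ringChar K ≠ 2 := by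
    intro h2
    rw [FiniteField.even_card_iff_char_two, hcK] at h2
    rcases hqodd with ⟨r, hr⟩
    omega
  have h2K : (2 : K) ≠ 0 := Ring.two_ne_zero hchar
  -- all nonzero squares arise
  have hallsq : ∀ s : K, s ≠ 0 → ∃ g ∈ ψ.ker ⊓ E, ∀ x : K, lin (Phi ΨB g) x = s * s * x := by
    haveI : Fintype ↥(ψ.ker ⊓ E) := Fintype.ofFinite _
    obtain ⟨n, hn⟩ : ∃ n, p ^ f - 1 = 2 * n := by
      obtain ⟨r, hr⟩ := hqodd
      exact ⟨r, by omega⟩
    have hn0 : 0 < n := by omega
    have hcEL' : Fintype.card ↥(ψ.ker ⊓ E) = n := by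
      rw [← Nat.card_eq_fintype_card]
      omega
    let cfun : ↥(ψ.ker ⊓ E) → K := fun g => lin (Phi ΨB (g : G)) 1
    have hcinj : Function.Injective cfun := by
      intro g₁ g₂ h12
      have h1 := mB.lin_inj_left (hmemB _ g₁.2.2) (hmemB _ g₂.2.2) one_ne_zero h12
      exact Subtype.ext (dB.Phi_injective h1)
    set C : Finset K := Finset.univ.image cfun with hC
    have hCcard : C.card = n := by
      rw [hC, Finset.card_image_of_injective _ hcinj, Finset.card_univ, hcEL']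
    set T : Finset K := (Polynomial.nthRoots n (1 : K)).toFinset with hT
    have hTcard : T.card ≤ n :=
      (Multiset.toFinset_card_le _).trans (Polynomial.card_nthRoots n 1)
    have hpow : ∀ s : K, s ≠ 0 → (s * s) ^ n = 1 := by
      intro s hs
      have h1 := FiniteField.pow_card_sub_one_eq_one s hs
      rw [hcK, hn] at h1
      rw [← pow_two, ← pow_mul]
      exact h1
    have hCT : C ⊆ T := by
      intro c hc
      obtain ⟨g, -, rfl⟩ := Finset.mem_image.mp hc
      obtain ⟨s, hs0, hs⟩ := hsqB _ g.2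
      rw [hT, Multiset.mem_toFinset, Polynomial.mem_nthRoots hn0]
      show (lin (Phi ΨB (g : G)) 1) ^ n = 1
      rw [hs 1, mul_one]
      exact hpow s hs0
    have hCeq : C = T := Finset.eq_of_subset_of_card_le hCT (by rw [hCcard]; exact hTcard)
    intro s hs
    have hmem : s * s ∈ C := by
      rw [hCeq, hT, Multiset.mem_toFinset, Polynomial.mem_nthRoots hn0]
      exact hpow s hs
    obtain ⟨g, -, hg⟩ := Finset.mem_image.mp hmem
    refine ⟨(g : G), g.2, fun x => ?_⟩
    obtain ⟨s', -, hs'⟩ := hsqB _ g.2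
    have h1 : s' * s' = s * s := by
      have := hs' 1
      rw [mul_one] at this
      rw [← this]
      exact hg
    rw [hs' x, h1]
  -- the two point stabilizer acts by multiplications
  have hlin : ∀ h ∈ Estab (Phi ΨB : G →* _).range,
      ∃ c : K, c ≠ 0 ∧ ∀ x : K, lin h x = c * x := by
    intro h hh
    have hh' := hh
    rw [hEB] at hh'
    obtain ⟨g, hgE, rfl⟩ := hh'
    let Lh : K →+ K := AddMonoidHom.mk' (lin (Phi ΨB g)) (mB.lin_add hh)
    have hm0 : lin (Phi ΨB g) 1 ≠ 0 := fun h0 => one_ne_zero ((lin_eq_zero_iff hh).mp h0)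
    refine ⟨lin (Phi ΨB g) 1, hm0, ?_⟩
    refine Cfsg.Agent.Lib.Helper78.SemiLin.scalar_of_semilinear hcK hf h2K Lh _ rfl hm0 ?_ ?_
    · intro s
      by_cases hs : s = 0
      · refine ⟨0, fun x => ?_⟩
        rw [hs, zero_mul, zero_mul, zero_mul, map_zero]
      · obtain ⟨k, hk, hkx⟩ := hallsq s hs
        have hconj : g * k * g⁻¹ ∈ ψ.ker ⊓ E := by
          refine Subgroup.mem_inf.mpr ⟨?_, E.mul_mem (E.mul_mem hgE hk.2) (E.inv_mem hgE)⟩
          rw [MonoidHom.mem_ker, map_mul, map_mul, map_inv, MonoidHom.mem_ker.mp hk.1, mul_one,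
            mul_inv_cancel]
        obtain ⟨s', -, hs'⟩ := hsqB _ hconj
        refine ⟨s' * s', fun x => ?_⟩
        show lin (Phi ΨB g) (s * s * x) = s' * s' * lin (Phi ΨB g) x
        have h1 : g * k = (g * k * g⁻¹) * g := by group
        rw [← hkx x, ← lin_mul (hmemB k hk.2), ← map_mul, h1, map_mul, lin_mul hh, hs']
    · have hgg : g * g ∈ ψ.ker ⊓ E := by
        refine Subgroup.mem_inf.mpr ⟨?_, E.mul_mem hgE hgE⟩
        rw [MonoidHom.mem_ker, map_mul, Int.units_mul_self]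
      obtain ⟨s', -, hs'⟩ := hsqB _ hgg
      refine ⟨s' * s', fun x => ?_⟩
      show lin (Phi ΨB g) (lin (Phi ΨB g) x) = s' * s' * x
      rw [← lin_mul hh, ← map_mul, hs']
  have hmob := mB.all_gmob h2K heB hlin
  refine pgl2_of_perm (Phi ΨB) dB.Phi_injective (fun g => hmob _ ⟨g, rfl⟩) ?_
  rw [hcK]
  exact hcard

end Cfsg.Agent.Lib.Helper3.ZT
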